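import Cfsg.Agent.Lib.Lie.J2Unique.Defs

/-!
The table is correct and has no blocks through the first point.
-/

set_option autoImplicit false
set_option maxRecDepth 100000

namespace Cfsg.Agent.Lie.J2Unique

open Cfsg.Agent.Lead.JankoOne.Coset

theorem log_ok : log.ok = true := by decide +kernel

theorem table_ok : ((List.range 4200).all edgeCheck && Nat.beq (live.get 0) 0) = true := by decide +kernel

theorem toward_ok : ((List.range 839).all fun j => towardCheck (j + 1)) = true := by decide +kernel

theorem merges_ok : merges.all mergeCheck = true := by decide +kernel

end Cfsg.Agent.Lie.J2Unique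

namespace Cfsg.Agent.Lie.J2Unique

/-- each column of the table is undone by a power of itself -/
theorem columns_ok : ((List.range 840).all fun i =>
    Nat.beq (img (img i 0) 0) i && (Nat.beq (img (img i 1) 1) i && (Nat.beq (img (img (img i 2) 2) 2) i &&
      (Nat.beq (img (img (img (img (img i 3) 3) 3) 3) 3) i && Nat.beq (img (img (img i 4) 4) 4) i)))) = true := by
  decide +kernel

/-- the letters used in the tree -/
theorem par_letters : ((List.range 2048).all fun n =>
    [0, 1, 2, 3, 4, 5, 8, 9, 12].contains (par.get n).2) = true := by decide +kernel

end Cfsg.Agent.Lie.J2Unique
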