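import Mathlib
import Cfsg.Agent.Lib.Lie.HJType.ThreeNormalizer

/-!
Groups of Hall–Janko type: the centraliser of an element of order three acts on six points.
-/

set_option autoImplicit false
set_option linter.style.haveILetI false
set_option linter.unusedSectionVars false

namespace Cfsg.Agent.Lie.J2Unique

open Equiv HJType

universe u

local notation "A5" => alternatingGroup (Fin 5)

variable {G : Type u} [Group G] [Finite G] {z : G} {Q : Subgroup G}

/-- few elements commute with both of two such elements of orders three and five -/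
theorem inter_bound (h : Hyp z Q) {a0 d : G} (hd : DType z d) (ho : orderOf a0 = 3) (hc : Commute a0 d) :
    Nat.card (Subgroup.centralizer ({a0} : Set G) ⊓ Subgroup.centralizer ({d} : Set G) : Subgroup G) ≤ 15 := by
  classical
  obtain ⟨ha3, ha1⟩ := three_ne ho
  set D := Subgroup.centralizer ({d} : Set G) with hD
  obtain ⟨-, ρ, -, hker, -⟩ := five_big h hd
  set M : Subgroup D := (Subgroup.centralizer ({a0} : Set G) ⊓ D).subgroupOf D with hM
  set a : D := ⟨a0, mem_cent.2 hc⟩ with ha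
  have h3 : ρ a ^ 3 = 1 := by
    rw [← map_pow, show a ^ 3 = 1 from Subtype.ext ha3, map_one]
  have hne : ρ a ≠ 1 := fun e => by
    have h5 := Subgroup.orderOf_dvd_natCard _ ((hker a).1 e)
    rw [Nat.card_zpowers, show orderOf d = 5 from hd.1, ho] at h5
    norm_num at h5
  have hcen : ∀ m : M, ∃ k : Fin 3, ρ a ^ (k : ℕ) = ρ (m : D) := fun m => by
    refine a5_three_cent _ h3 hne _ ?_
    rw [← map_mul, ← map_mul]
    exact congrArg ρ (Subtype.ext (mem_cent.1 m.2.1).eq)
  let φ : M →* A5 := ρ.comp M.subtype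
  have hr : Nat.card φ.range ≤ 3 := by
    refine le_of_le_of_eq (Nat.card_le_card_of_surjective (α := Fin 3)
      (fun k => (⟨ρ a ^ (k : ℕ), ?_⟩ : φ.range)) ?_) (Nat.card_fin 3)
    · refine ⟨⟨a ^ (k : ℕ), ?_⟩, map_pow ρ a k⟩
      rw [hM, Subgroup.mem_subgroupOf]
      exact ⟨mem_cent.2 (show Commute ((a : G) ^ (k : ℕ)) a0 from (Commute.refl a0).pow_left k), (a ^ (k : ℕ)).2⟩
    · rintro ⟨_, m, rfl⟩
      obtain ⟨k, hk⟩ := hcen m
      exact ⟨k, Subtype.ext hk⟩
  have hk : Nat.card φ.ker ≤ 5 := by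
    have h5 : Nat.card (Subgroup.zpowers d) = 5 := by rw [Nat.card_zpowers]; exact hd.1
    refine le_of_le_of_eq ?_ h5
    refine Nat.card_le_card_of_injective (fun m => (⟨((m : M) : D), (hker _).1 m.2⟩ : Subgroup.zpowers d))
      fun m m' e => ?_
    exact Subtype.ext (Subtype.ext (Subtype.ext (congrArg Subtype.val e :)))
  have hcard := φ.ker.card_mul_index
  rw [Subgroup.index_ker] at hcard
  rw [← Nat.card_congr (Subgroup.subgroupOfEquivOfLe
    (inf_le_right : Subgroup.centralizer ({a0} : Set G) ⊓ D ≤ D)).toEquiv, ← hM, ← hcard]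
  exact Nat.mul_le_mul hk hr

theorem a5c {L : Subgroup G} (e : ↥L ≃* A5) (x : L) (hx : ∀ l : L, x * l = l * x) : x = 1 := by
  refine (MulEquiv.map_eq_one_iff e).1 (HJType.a5_center _ fun y => ?_)
  rw [← e.apply_symm_apply y, ← map_mul, ← map_mul, hx]

/-- the action of the centraliser on the six cosets of `⟨a0⟩ × L` -/
theorem exists_cover (h : Hyp z Q) {a0 : G} (hX : XType z a0) {L : Subgroup G} (e : ↥L ≃* A5)
    (hLc : ∀ l ∈ L, Commute l a0) (hD : ∀ d ∈ L, orderOf d = 5 → DType z d) :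
    ∃ π : Subgroup.centralizer ({a0} : Set G) →* Perm (Fin 6),
      (∀ c, π c = 1 ↔ (c : G) ∈ Subgroup.zpowers a0) ∧
      (∀ σ ∈ alternatingGroup (Fin 6), ∃ c, π c = σ) ∧
      (∀ σ ∈ alternatingGroup (Fin 6), σ 5 = 5 →
        ∃ l : Subgroup.centralizer ({a0} : Set G), (l : G) ∈ L ∧ π l = σ) ∧
      (∀ l : Subgroup.centralizer ({a0} : Set G), (l : G) ∈ L → π l 5 = 5) := by
  classical
  haveI : Fact (Nat.Prime 5) := ⟨by norm_num⟩
  obtain ⟨ha3, ha1⟩ := three_ne hX.1
  set C := Subgroup.centralizer ({a0} : Set G) with hC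
  have hC1080 : Nat.card C = 1080 := x_card h hX
  have hL60 : Nat.card L = 60 := by
    rw [Nat.card_congr e.toEquiv, nat_card_alternatingGroup, Nat.card_fin]; rfl
  haveI : IsSimpleGroup A5 := alternatingGroup.isSimpleGroup (by rw [Nat.card_fin])
  haveI : IsSimpleGroup L := e.isSimpleGroup
  set Z := Subgroup.zpowers a0 with hZ
  have hZ3 : Nat.card Z = 3 := by rw [Nat.card_zpowers]; exact hX.1
  have hZc : ∀ {p x : G}, p ∈ Z → Commute x a0 → Commute p x := fun hp hx => by
    obtain ⟨k, rfl⟩ := Subgroup.mem_zpowers_iff.1 hp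
    exact hx.symm.zpow_left k
  have hcop : ∀ {p : G}, p ∈ Z → p ∈ L → p = 1 := fun {p} hp hpL => by
    refine congrArg Subtype.val (a5c e (Subtype.mk p hpL) fun l => ?_)
    exact Subtype.ext (hZc hp (hLc l l.2)).eq
  let f : Z × L →* C :=
    { toFun := fun p => ⟨(p.1 : G) * p.2, mem_cent.2 ((hZc p.1.2 (Commute.refl a0)).mul_left (hLc _ p.2.2))⟩
      map_one' := Subtype.ext (mul_one 1)
      map_mul' := fun p q => Subtype.ext
        ((hZc q.1.2 (hLc _ p.2.2)).mul_mul_mul_comm (p.1 : G) (q.2 : G)) }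
  have hf : Function.Injective f := by
    refine (injective_iff_map_eq_one f).2 fun p hp => ?_
    have hp' : (p.1 : G) * p.2 = 1 := congrArg Subtype.val hp
    have h1 : (p.1 : G) = 1 := hcop p.1.2 (by rw [mul_eq_one_iff_eq_inv.1 hp']; exact L.inv_mem p.2.2)
    rw [h1, one_mul] at hp'
    exact Prod.ext (Subtype.ext h1) (Subtype.ext hp')
  set S := f.range with hS
  have hS180 : Nat.card S = 180 := by
    rw [hS, ← Nat.card_congr (MonoidHom.ofInjective hf).toEquiv, Nat.card_prod, hZ3, hL60]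
  have hS6 : S.index = 6 := by
    have := S.card_mul_index
    rw [hS180, hC1080] at this
    omega
  have hLS : ∀ l : C, (l : G) ∈ L → l ∈ S := fun l hl => ⟨(1, ⟨l, hl⟩), Subtype.ext (one_mul _)⟩
  set K := S.normalCore with hK
  have hKn : K.Normal := S.normalCore_normal
  have hZK : ∀ c : C, (c : G) ∈ Z → c ∈ K := fun c hc x => by
    have e1 : x * c * x⁻¹ = c := by
      rw [mul_inv_eq_iff_eq_mul]
      exact Subtype.ext (hZc hc (mem_cent.1 x.2)).symm.eq
    rw [e1]
    exact ⟨(⟨c, hc⟩, 1), Subtype.ext (mul_one _)⟩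
  have hKZ : ∀ c ∈ K, (c : G) ∈ Z := by
    let L' := (K.map C.subtype).subgroupOf L
    have hL' : L'.Normal := ⟨fun x hx l => by
      obtain ⟨k, hk, e1⟩ := hx
      refine ⟨⟨l, mem_cent.2 (hLc l l.2)⟩ * k * ⟨l, mem_cent.2 (hLc l l.2)⟩⁻¹, hKn.conj_mem k hk _, ?_⟩
      show (l : G) * (k : G) * (l : G)⁻¹ = ((l * x * l⁻¹ : L) : G)
      rw [show (k : G) = (x : G) from e1]; rfl⟩
    rcases hL'.eq_bot_or_eq_top with hb | ht
    · intro c hc
      obtain ⟨⟨p, l⟩, rfl⟩ := S.normalCore_le hc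
      have h1 : f (p, 1) ∈ K := hZK _ (by show (p : G) * 1 ∈ Z; rw [mul_one]; exact p.2)
      have h2 : f (1, l) ∈ K := by
        have : (f (p, 1))⁻¹ * f (p, l) ∈ K := K.mul_mem (K.inv_mem h1) hc
        rwa [← map_inv, ← map_mul, show ((p, (1 : L)))⁻¹ * (p, l) = (1, l) from by simp] at this
      have h3 : l ∈ L' := ⟨f (1, l), h2, one_mul _⟩
      rw [hb, Subgroup.mem_bot] at h3
      subst h3
      show (p : G) * 1 ∈ Z
      rw [mul_one]; exact p.2
    exfalso
    obtain ⟨d, hd5⟩ := exists_prime_orderOf_dvd_card' (G := L) 5 (by rw [hL60]; norm_num)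
    have hdo : orderOf (d : G) = 5 := (Subgroup.orderOf_coe d).trans hd5
    have hLK : ∀ l : C, (l : G) ∈ L → l ∈ K := fun l hl => by
      obtain ⟨k, hk, e1⟩ := ht.ge (Subgroup.mem_top (⟨l, hl⟩ : L))
      rwa [show k = l from Subtype.ext e1] at hk
    set d' : C := ⟨d, mem_cent.2 (hLc d d.2)⟩
    have hconj : ∀ x : C, ((x * d' * x⁻¹ : C) : G) ∈ L := fun x => by
      obtain ⟨⟨p, l⟩, hpl⟩ := S.normalCore_le (hKn.conj_mem d' (hLK d' d.2) x)
      have h5 : (x * d' * x⁻¹) ^ 5 = 1 := by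
        rw [conj_pow, show d' ^ 5 = 1 from Subtype.ext (hdo ▸ pow_orderOf_eq_one (d : G)), mul_one,
          mul_inv_cancel]
      rw [← hpl, ← map_pow, map_eq_one_iff f hf] at h5
      have hp5 : p ^ 5 = 1 := congrArg Prod.fst h5
      have hp1 : p = 1 := orderOf_eq_one_iff.1 (Nat.eq_one_of_dvd_coprimes (a := 3) (b := 5) (by norm_num)
        (hZ3 ▸ orderOf_dvd_natCard p) (orderOf_dvd_of_pow_eq_one hp5))
      rw [← hpl, hp1]
      show (1 : G) * l ∈ L
      rw [one_mul]; exact l.2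
    have horb : Nat.card (MulAction.orbit (ConjAct C) d') ≤ 60 := by
      rw [← hL60]
      refine Nat.card_le_card_of_injective (fun y => (⟨((y : C) : G), ?_⟩ : L)) fun y y' e1 => ?_
      · obtain ⟨x, hx⟩ := MulAction.mem_orbit_iff.1 y.2
        rw [← hx, ConjAct.smul_def]
        exact hconj _
      · exact Subtype.ext (Subtype.ext (congrArg Subtype.val e1 :))
    have hstab : Nat.card (MulAction.stabilizer (ConjAct C) d') ≤ 15 := by
      refine le_trans ?_ (inter_bound h (hD d d.2 hdo) hX.1 (hLc d d.2).symm)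
      refine Nat.card_le_card_of_injective (fun x => (⟨((ConjAct.ofConjAct (x : ConjAct C) : C) : G),
        (ConjAct.ofConjAct (x : ConjAct C)).2, ?_⟩ :
          (Subgroup.centralizer ({a0} : Set G) ⊓ Subgroup.centralizer ({(d : G)} : Set G) : Subgroup G)))
        fun x x' e1 => ?_
      · have := MulAction.mem_stabilizer_iff.1 x.2
        rw [ConjAct.smul_def, mul_inv_eq_iff_eq_mul] at this
        exact mem_cent.2 (congrArg Subtype.val this :)
      · exact Subtype.ext (ConjAct.ofConjAct.injective (Subtype.ext (congrArg Subtype.val e1 :)))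
    have hos := Nat.card_congr (MulAction.orbitProdStabilizerEquivGroup (ConjAct C) d')
    rw [Nat.card_prod, Nat.card_congr (ConjAct.ofConjAct (G := C)).toEquiv, hC1080] at hos
    nlinarith [Nat.mul_le_mul horb hstab]
  let q6 : C ⧸ S ≃ Fin 6 := Finite.equivFinOfCardEq (by rw [← Subgroup.index_eq_card, hS6])
  let q : C ⧸ S ≃ Fin 6 := q6.trans (Equiv.swap (q6 ((1 : C) : C ⧸ S)) 5)
  have hq : q ((1 : C) : C ⧸ S) = 5 := Equiv.swap_apply_left _ _
  let π : C →* Perm (Fin 6) := q.permCongrHom.toMonoidHom.comp (MulAction.toPermHom C (C ⧸ S))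
  have hπ : ∀ c i, π c i = q (c • q.symm i) := fun _ _ => rfl
  have hker : ∀ c, π c = 1 ↔ (c : G) ∈ Z := fun c => by
    have e1 : π.ker = K := by
      rw [hK, Subgroup.normalCore_eq_ker, MonoidHom.ker_comp_of_injective]
      exact q.permCongrHom.injective
    rw [← MonoidHom.mem_ker, e1]
    exact ⟨hKZ c, hZK c⟩
  have hfix : ∀ c, π c 5 = 5 ↔ c ∈ S := fun c => by
    rw [hπ, ← hq, Equiv.symm_apply_apply, q.injective.eq_iff, MulAction.Quotient.smul_coe, smul_eq_mul, mul_one,
      QuotientGroup.eq, mul_one, S.inv_mem_iff]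
  have hrange : π.range = alternatingGroup (Fin 6) := by
    refine Equiv.Perm.eq_alternatingGroup_of_index_eq_two ?_
    have h3 : Nat.card π.ker = 3 := by
      rw [← hZ3]
      exact Nat.card_congr
        { toFun := fun c => ⟨((c : C) : G), (hker _).1 c.2⟩
          invFun := fun p => ⟨⟨p, mem_cent.2 (hZc p.2 (Commute.refl a0))⟩, (hker _).2 p.2⟩
          left_inv := fun c => rfl
          right_inv := fun p => rfl }
    have e1 := π.ker.card_mul_index
    rw [Subgroup.index_ker, h3, hC1080] at e1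
    have e2 := π.range.card_mul_index
    rw [Nat.card_perm, Nat.card_fin, show Nat.factorial 6 = 720 from rfl,
      show Nat.card π.range = 360 by omega] at e2
    omega
  have hsurj : ∀ σ ∈ alternatingGroup (Fin 6), ∃ c, π c = σ := fun σ hσ => MonoidHom.mem_range.1 (hrange ▸ hσ)
  refine ⟨π, hker, hsurj, fun σ hσ h5 => ?_, fun l hl => (hfix l).2 (hLS l hl)⟩
  obtain ⟨c, rfl⟩ := hsurj σ hσ
  obtain ⟨⟨p, l⟩, rfl⟩ := (hfix c).1 h5
  refine ⟨f (1, l), by show (1 : G) * l ∈ L; rw [one_mul]; exact l.2, ?_⟩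
  rw [show f (p, l) = f (p, 1) * f (1, l) by rw [← map_mul]; simp, map_mul,
    (hker (f (p, 1))).2 (by show (p : G) * 1 ∈ Z; rw [mul_one]; exact p.2), one_mul]

end Cfsg.Agent.Lie.J2Unique
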