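import Mathlib

/-!
The permutations of six points used for the generators.
-/

set_option autoImplicit false
set_option maxRecDepth 20000

namespace Cfsg.Agent.Lie.J2Unique

open Equiv

def qp : Perm (Fin 6) := ⟨![1, 2, 0, 3, 4, 5], ![2, 0, 1, 3, 4, 5], by decide, by decide⟩

def rp : Perm (Fin 6) := ⟨![2, 3, 4, 0, 1, 5], ![3, 4, 0, 1, 2, 5], by decide, by decide⟩

def wp : Perm (Fin 6) := ⟨![1, 0, 2, 3, 5, 4], ![1, 0, 2, 3, 5, 4], by decide, by decide⟩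

def alp : Perm (Fin 6) := ⟨![1, 0, 3, 2, 4, 5], ![1, 0, 3, 2, 4, 5], by decide, by decide⟩

def bep : Perm (Fin 6) := ⟨![2, 3, 0, 1, 4, 5], ![2, 3, 0, 1, 4, 5], by decide, by decide⟩

/-- the permutations of the letters -/
def pg (x : ℕ) : Perm (Fin 6) := [wp, 1, qp, qp⁻¹, rp, rp⁻¹].getD x 1

theorem even_perms : qp ∈ alternatingGroup (Fin 6) ∧ rp ∈ alternatingGroup (Fin 6) ∧
    wp ∈ alternatingGroup (Fin 6) ∧ bep ∈ alternatingGroup (Fin 6) ∧ alp ∈ alternatingGroup (Fin 6) := by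
  simp only [Equiv.Perm.mem_alternatingGroup]
  decide +kernel

theorem perm_facts : qp 5 = 5 ∧ rp 5 = 5 ∧ bep 5 = 5 ∧ alp 5 = 5 ∧ wp 5 ≠ 5 ∧ (wp * rp * wp) 5 ≠ 5 ∧
    qp ≠ 1 ∧ qp * qp * qp = 1 ∧ rp ≠ 1 ∧ rp ^ 5 = 1 ∧ qp * rp ≠ 1 ∧ (qp * rp) ^ 2 = 1 ∧ wp * wp = 1 ∧
    wp * qp * wp * qp = 1 ∧ alp * alp = 1 ∧ bep * bep = 1 ∧ alp ≠ 1 ∧ bep ≠ 1 ∧ alp ≠ bep ∧
    wp * alp * wp = alp ∧ wp * bep * wp = alp * bep ∧ alp * bep = bep * alp ∧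
    ([5, 2, 5, 5, 3].map pg).prod = alp := by
  decide +kernel

theorem centraliser_trivial : ∀ σ : Perm (Fin 6), σ * qp = qp * σ → σ * rp = rp * σ → σ = 1 := by decide +kernel

theorem stab_commutes : ∀ i : Fin 5, ∀ g : alternatingGroup (Fin 5), g * g = 1 → (g : Perm (Fin 5)) i = i →
    ∀ h : alternatingGroup (Fin 5), h * h = 1 → (h : Perm (Fin 5)) i = i → g * h * g * h = 1 := by decide +kernel

end Cfsg.Agent.Lie.J2Unique
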