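import Mathlib
import Cfsg.Agent.Lib.Lie.J2Unique.Cover
import Cfsg.Agent.Lib.Lie.J2Unique.Perms
import Cfsg.Agent.Lib.Lie.HJType.ThreeClasses

/-!
Groups of Hall–Janko type: the subgroup `A₄ × A₅` and the action of the centraliser of its element of order three.
-/

set_option autoImplicit false
set_option linter.style.haveILetI false
set_option linter.unusedSectionVars false

namespace Cfsg.Agent.Lie.J2Unique

open Equiv HJType

universe u

local notation "A5" => alternatingGroup (Fin 5)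

/-- the four-group, the two factors of its normaliser, and the action on six points -/
structure Setup {G : Type u} [Group G] [Finite G] (z t : G) where
  a0 : G
  V : Subgroup G
  L : Subgroup G
  K0 : Subgroup G
  e : ↥L ≃* A5
  xa : XType z a0
  aK : a0 ∈ K0
  t_ne : t ≠ 1
  tt : t * t = 1
  tz : ¬ IsConj z t
  internal : Cfsg.IsInternalDirectProduct V L (Subgroup.centralizer ({t} : Set G))
  tV : t ∈ V
  zL : z ∈ L
  hV4 : Nat.card V = 4
  hV2 : ∀ v ∈ V, v * v = 1
  hall : ∀ v ∈ V, v ≠ 1 → Subgroup.centralizer ({v} : Set G) = Subgroup.centralizer ({t} : Set G)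
  VK : V ≤ K0
  K12 : Nat.card K0 = 12
  K0L : ∀ k ∈ K0, ∀ l ∈ L, Commute k l
  K0N : K0 ≤ Subgroup.normalizer (V : Set G)
  LN : L ≤ Subgroup.normalizer (V : Set G)
  decomp : ∀ x ∈ Subgroup.normalizer (V : Set G), ∃ k ∈ K0, ∃ l ∈ L, k * l = x
  K_index : Nat.card (Subgroup.normalizer (V : Set G)) = 720
  sqV : ∀ k ∈ K0, k * k = 1 → k ∈ V
  KL : ∀ k ∈ K0, k ∈ L → k = 1
  π : Subgroup.centralizer ({a0} : Set G) →* Perm (Fin 6)
  ker : ∀ c, π c = 1 ↔ (c : G) ∈ Subgroup.zpowers a0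
  surj : ∀ σ ∈ alternatingGroup (Fin 6), ∃ c, π c = σ
  stab : ∀ σ ∈ alternatingGroup (Fin 6), σ 5 = 5 →
    ∃ l : Subgroup.centralizer ({a0} : Set G), (l : G) ∈ L ∧ π l = σ
  fix : ∀ l : Subgroup.centralizer ({a0} : Set G), (l : G) ∈ L → π l 5 = 5

variable {G : Type u} [Group G] [Finite G] {z : G} {Q : Subgroup G}

theorem exists_setup (h : Hyp z Q) : ∃ t : G, Nonempty (Setup z t) := by
  classical
  haveI : Fact (Nat.Prime 3) := ⟨Nat.prime_three⟩
  obtain ⟨t, htz, htt, htQ⟩ := exists_outer h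
  obtain ⟨V, L, K0, hVL, hV4, hV2, htV, ⟨e⟩, hzL, hall, hVK, hK12, hK0L, h720, -, ⟨eN⟩, hK0N⟩ :=
    four_normalizer h htz htt htQ
  have hLN : L ≤ Subgroup.normalizer (V : Set G) := fun l hl => Subgroup.mem_normalizer_iff.2 fun v =>
    ⟨fun hv => by rwa [← hVL.2.2.1 v hv l hl, mul_inv_cancel_right],
      fun hv => by
        have e1 : l * v * l⁻¹ * l = l * (l * v * l⁻¹) := hVL.2.2.1 _ hv l hl
        rw [inv_mul_cancel_right, mul_left_cancel_iff] at e1
        exact e1 ▸ hv⟩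
  have hKL : ∀ k ∈ K0, k ∈ L → k = 1 := fun k hk hkL =>
    eq_one_of_central hVL e hkL fun l hl => hK0L k hk l hl
  have h60 : Nat.card L = 60 := by
    rw [Nat.card_congr e.toEquiv, nat_card_alternatingGroup, Nat.card_fin]; rfl
  set N := Subgroup.normalizer (V : Set G) with hN
  let f : K0 × L → N := fun p => ⟨(p.1 : G) * p.2, N.mul_mem (hK0N p.1.2) (hLN p.2.2)⟩
  have hf : Function.Bijective f := by
    refine (Nat.bijective_iff_injective_and_card f).2 ⟨fun p q e1 => ?_, by rw [Nat.card_prod, hK12, h60, h720]⟩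
    have e2 : (p.1 : G) * p.2 = q.1 * q.2 := congrArg Subtype.val e1
    have e3 : (q.1 : G)⁻¹ * p.1 = 1 := hKL _ (K0.mul_mem (K0.inv_mem q.1.2) p.1.2) (by
      rw [show (q.1 : G)⁻¹ * p.1 = q.2 * (p.2 : G)⁻¹ by
        rw [eq_mul_inv_iff_mul_eq, mul_assoc, e2, inv_mul_cancel_left]]
      exact L.mul_mem q.2.2 (L.inv_mem p.2.2))
    rw [inv_mul_eq_one] at e3
    rw [← e3] at e2
    exact Prod.ext (Subtype.ext e3.symm) (Subtype.ext (mul_left_cancel e2))
  have hdec : ∀ x ∈ N, ∃ k ∈ K0, ∃ l ∈ L, k * l = x := fun x hx => by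
    obtain ⟨⟨k, l⟩, hkl⟩ := hf.2 ⟨x, hx⟩
    exact ⟨k, k.2, l, l.2, congrArg Subtype.val hkl⟩
  set VK := V.subgroupOf K0 with hVKdef
  haveI : VK.Normal := ⟨fun v hv k => (Subgroup.mem_normalizer_iff.1 (hK0N k.2) _).1 hv⟩
  have hidx : VK.index = 3 := by
    have e1 := VK.card_mul_index
    rw [show Nat.card VK = 4 from (Nat.card_congr (Subgroup.subgroupOfEquivOfLe hVK).toEquiv).trans hV4, hK12] at e1
    omega
  have hsqV : ∀ k ∈ K0, k * k = 1 → k ∈ V := fun k hk hkk => by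
    have h3 : (⟨k, hk⟩ : K0) ^ 3 ∈ VK := hidx ▸ VK.pow_index_mem ⟨k, hk⟩
    rw [pow_succ, sq, show (⟨k, hk⟩ : K0) * ⟨k, hk⟩ = 1 from Subtype.ext hkk, one_mul] at h3
    exact h3
  obtain ⟨a, ha⟩ := exists_prime_orderOf_dvd_card' (G := K0) 3 (by rw [hK12]; norm_num)
  have ha' : orderOf (a : G) = 3 := (Subgroup.orderOf_coe a).trans ha
  have hX : XType z (a : G) := ⟨ha', z, IsConj.refl z, hK0L a a.2 z hzL⟩
  have ht1 : t ≠ 1 := fun e1 => htQ (e1 ▸ Q.one_mem)
  have hnc := outer_not_conj h htz htt htQ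
  obtain ⟨π, hker, hsurj, hstab, hfix⟩ := exists_cover h hX e (fun l hl => (hK0L a a.2 l hl).symm) fun d hd hd5 =>
    ⟨hd5, t, HallJankoPairs.ord_of htt ht1, fun e1 => hnc e1.symm, (hVL.2.2.1 t htV d hd).symm⟩
  exact ⟨t, ⟨{
    a0 := a, V := V, L := L, K0 := K0, e := e, xa := hX, aK := a.2, t_ne := ht1, tt := htt, tz := hnc,
    internal := hVL, tV := htV, zL := hzL, hV4 := hV4, hV2 := fun v hv => by rw [← sq]; exact hV2 v hv,
    hall := fun v hv hv1 => (hall v hv hv1).2, VK := hVK, K12 := hK12, K0L := hK0L, K0N := hK0N, LN := hLN,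
    decomp := hdec, K_index := h720, sqV := hsqV, KL := hKL, π := π, ker := hker, surj := hsurj,
    stab := hstab, fix := hfix }⟩⟩

variable {t : G} (S : Setup z t)

/-- the centraliser of the element of order three -/
abbrev Setup.C : Subgroup G := Subgroup.centralizer ({S.a0} : Set G)

theorem Setup.Lc {l : G} (hl : l ∈ S.L) : Commute l S.a0 := (S.K0L _ S.aK l hl).symm

theorem Setup.a3 : S.a0 ^ 3 = 1 ∧ S.a0 ≠ 1 := three_ne S.xa.1

theorem Setup.zp_central {p x : G} (hp : p ∈ Subgroup.zpowers S.a0) (hx : Commute x S.a0) : Commute p x := by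
  obtain ⟨k, rfl⟩ := Subgroup.mem_zpowers_iff.1 hp
  exact hx.symm.zpow_left k

theorem Setup.cube {p : G} (hp : p ∈ Subgroup.zpowers S.a0) : p ^ 3 = 1 := by
  obtain ⟨k, rfl⟩ := Subgroup.mem_zpowers_iff.1 hp
  rw [← zpow_natCast, ← zpow_mul, mul_comm, zpow_mul, zpow_natCast, S.a3.1, one_zpow]

theorem Setup.L_one {l : S.C} (hl : (l : G) ∈ S.L) (hπ : S.π l = 1) : l = 1 := by
  have hp := (S.ker l).1 hπ
  exact Subtype.ext (eq_one_of_central S.internal S.e hl fun x hx => S.zp_central hp (S.Lc hx))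

theorem Setup.L_eq {l l' : S.C} (hl : (l : G) ∈ S.L) (hl' : (l' : G) ∈ S.L) (hπ : S.π l = S.π l') : l = l' :=
  inv_mul_eq_one.1 (S.L_one (S.L.mul_mem (S.L.inv_mem hl) hl') (by rw [map_mul, map_inv, hπ, inv_mul_cancel]))

/-- elements with the same image and with tenth power one are equal -/
theorem Setup.same {x y : S.C} (hπ : S.π x = S.π y) (hx : x ^ 10 = 1) (hy : y ^ 10 = 1) : x = y := by
  have hd := (S.ker (x * y⁻¹)).1 (by rw [map_mul, map_inv, hπ, mul_inv_cancel])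
  have hc : Commute (x * y⁻¹) y := Subtype.ext (S.zp_central hd (mem_cent.1 y.2)).eq
  have e1 := hc.mul_pow 10
  rw [inv_mul_cancel_right, hx, hy, mul_one] at e1
  have e3 : (x * y⁻¹) ^ 3 = 1 := Subtype.ext (S.cube hd)
  rw [show 10 = 3 * 3 + 1 from rfl, pow_succ, pow_mul, e3, one_pow, one_mul] at e1
  exact mul_inv_eq_one.1 e1.symm

theorem Setup.same_sq {x y : S.C} (hπ : S.π x = S.π y) (hx : x * x = 1) (hy : y * y = 1) : x = y :=
  S.same hπ (by rw [show 10 = 2 * 5 from rfl, pow_mul, sq, hx, one_pow])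
    (by rw [show 10 = 2 * 5 from rfl, pow_mul, sq, hy, one_pow])

theorem Setup.V_comm {v l : G} (hv : v ∈ S.V) (hl : l ∈ S.L) : Commute v l := S.internal.2.2.1 v hv l hl

theorem Setup.cent_V {v x : G} (hv : v ∈ S.V) (hv1 : v ≠ 1) (hx : Commute x v) :
    x ∈ Subgroup.centralizer ({t} : Set G) := S.hall v hv hv1 ▸ mem_cent.2 hx

/-- the element of order three commutes with no involution of the four-group -/
theorem Setup.a_move {v : G} (hv : v ∈ S.V) (hv1 : v ≠ 1) : ¬ Commute S.a0 v := fun hc => by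
  have hV := cent_factor S.internal S.e (S.cent_V hv hv1 hc) fun l hl => (S.Lc hl).symm
  have h2 : orderOf S.a0 ∣ 2 := orderOf_dvd_of_pow_eq_one (by rw [sq]; exact S.hV2 _ hV)
  rw [show orderOf S.a0 = 3 from S.xa.1] at h2
  norm_num at h2

theorem Setup.conj_mem_V {k v : G} (hk : k ∈ Subgroup.normalizer (S.V : Set G)) (hv : v ∈ S.V) :
    k * v * k⁻¹ ∈ S.V := (Subgroup.mem_normalizer_iff.1 hk v).1 hv

/-- the four-group has no other elements -/
theorem Setup.klein {x y w : G} (hx : x ∈ S.V) (hy : y ∈ S.V) (hw : w ∈ S.V) (hx1 : x ≠ 1) (hy1 : y ≠ 1)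
    (hw1 : w ≠ 1) (hxy : x ≠ y) (hxw : x ≠ w) (hyw : y ≠ w) : x * y = w ∧ ∀ v ∈ S.V, v = 1 ∨ v = x ∨ v = y ∨ v = w := by
  classical
  haveI : Fintype S.V := Fintype.ofFinite _
  have hall : ∀ v ∈ S.V, v = 1 ∨ v = x ∨ v = y ∨ v = w := fun v hv => by
    by_contra! hne
    have h5 : ({1, x, y, w, v} : Finset G).card = 5 := by
      rw [Finset.card_insert_of_notMem, Finset.card_insert_of_notMem, Finset.card_insert_of_notMem,
        Finset.card_pair hne.2.2.2.symm] <;>
        simp [hxy, hxw, hyw, hne.1.symm, hne.2.1.symm, hne.2.2.1.symm, hx1.symm, hy1.symm, hw1.symm]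
    have hle : Nat.card ({1, x, y, w, v} : Finset G) ≤ Nat.card S.V := by
      refine Nat.card_le_card_of_injective (fun p => (⟨p.1, ?_⟩ : S.V))
        fun p q e => Subtype.ext (congrArg Subtype.val e :)
      have hp := p.2
      simp only [Finset.mem_insert, Finset.mem_singleton] at hp
      rcases hp with h | h | h | h | h <;> rw [h]
      exacts [S.V.one_mem, hx, hy, hw, hv]
    rw [Nat.card_eq_finsetCard, h5, S.hV4] at hle
    omega
  refine ⟨?_, hall⟩
  rcases hall _ (S.V.mul_mem hx hy) with h | h | h | h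
  · exact absurd ((mul_eq_one_iff_eq_inv.1 h).trans (inv_eq_of_mul_eq_one_right (S.hV2 y hy))) hxy
  · exact absurd (mul_eq_left.1 h) hy1
  · exact absurd (mul_eq_right.1 h) hx1
  · exact h

/-- in `A₄` only the powers of the element of order three centralise it -/
theorem Setup.K_cent {k : G} (hk : k ∈ S.K0) (hc : Commute k S.a0) : k ∈ Subgroup.zpowers S.a0 := by
  obtain ⟨q, hq, hπq⟩ := S.stab qp even_perms.1 perm_facts.1
  obtain ⟨r, hr, hπr⟩ := S.stab rp even_perms.2.1 perm_facts.2.1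
  let c : S.C := ⟨k, mem_cent.2 hc⟩
  refine (S.ker c).1 (centraliser_trivial _ ?_ ?_)
  · rw [← hπq, ← map_mul, ← map_mul]
    exact congrArg S.π (Subtype.ext (S.K0L k hk _ hq).eq)
  · rw [← hπr, ← map_mul, ← map_mul]
    exact congrArg S.π (Subtype.ext (S.K0L k hk _ hr).eq)

/-- an element commuting with the element of order three and normalising the four-group fixes the base point -/
theorem Setup.norm_fix {c : S.C} (hc : (c : G) ∈ Subgroup.normalizer (S.V : Set G)) : S.π c 5 = 5 := by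
  obtain ⟨k, hk, l, hl, hkl⟩ := S.decomp _ hc
  have hkc : Commute k S.a0 := by
    have : k = (c : G) * l⁻¹ := eq_mul_inv_of_mul_eq hkl
    rw [this]
    exact Commute.mul_left (mem_cent.1 c.2) (S.Lc hl).inv_left
  have hc' : c = ⟨k, mem_cent.2 hkc⟩ * ⟨l, mem_cent.2 (S.Lc hl)⟩ := Subtype.ext hkl.symm
  rw [hc', map_mul, (S.ker ⟨k, mem_cent.2 hkc⟩).2 (S.K_cent hk hkc), one_mul]
  exact S.fix _ hl

end Cfsg.Agent.Lie.J2Unique
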