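import Mathlib
import Cfsg.Agent.Lib.Lie.J2Unique.Setup

/-!
Groups of Hall–Janko type: the generators and their relations.
-/

set_option autoImplicit false
set_option linter.style.haveILetI false
set_option linter.unusedSectionVars false

namespace Cfsg.Agent.Lie.J2Unique

open Equiv HJType

universe u

local notation "A5" => alternatingGroup (Fin 5)

/-- lifts of the permutations -/
structure Letters {G : Type u} [Group G] [Finite G] {z t : G} (S : Setup z t) where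
  q : S.C
  r : S.C
  w : S.C
  qL : (q : G) ∈ S.L
  rL : (r : G) ∈ S.L
  πq : S.π q = qp
  πr : S.π r = rp
  πw : S.π w = wp
  ww : w * w = 1

variable {G : Type u} [Group G] [Finite G] {z t : G} {Q : Subgroup G}

theorem exists_letters (S : Setup z t) : Nonempty (Letters S) := by
  obtain ⟨q, hq, hπq⟩ := S.stab qp even_perms.1 perm_facts.1
  obtain ⟨r, hr, hπr⟩ := S.stab rp even_perms.2.1 perm_facts.2.1
  obtain ⟨c, hc⟩ := S.surj wp even_perms.2.2.1
  have hwp : wp * wp = 1 := perm_facts.2.2.2.2.2.2.2.2.2.2.2.2.1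
  have hd : S.π (c * c) = 1 := by rw [map_mul, hc, hwp]
  have h3 : (c * c) ^ 3 = 1 := Subtype.ext (S.cube ((S.ker _).1 hd))
  refine ⟨⟨q, r, c ^ 3, hq, hr, hπq, hπr, ?_, ?_⟩⟩
  · rw [map_pow, hc, pow_succ, sq, hwp, one_mul]
  · rw [← (Commute.refl c).mul_pow, h3]

variable {S : Setup z t} (L : Letters S)

/-- the element `a = wqwq` -/
def Letters.a : S.C := L.w * L.q * L.w * L.q

theorem Letters.w_inv : L.w⁻¹ = L.w := inv_eq_of_mul_eq_one_right L.ww

theorem Letters.w_out : (L.w : G) ∉ Subgroup.normalizer (S.V : Set G) := fun hm =>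
  perm_facts.2.2.2.2.1 (L.πw ▸ S.norm_fix hm)

theorem Letters.q3 : L.q ^ 3 = 1 ∧ L.q ≠ 1 := by
  refine ⟨S.L_one (S.L.pow_mem L.qL 3) ?_, fun e => perm_facts.2.2.2.2.2.2.1 (by rw [← L.πq, e, map_one])⟩
  rw [map_pow, L.πq, pow_succ, sq, perm_facts.2.2.2.2.2.2.2.1]

theorem Letters.a_mem : (L.a : G) ∈ Subgroup.zpowers S.a0 := by
  refine (S.ker L.a).1 ?_
  simp only [Letters.a, map_mul, L.πq, L.πw]
  exact perm_facts.2.2.2.2.2.2.2.2.2.2.2.2.2.1

theorem Letters.a3 : L.a ^ 3 = 1 := Subtype.ext (S.cube L.a_mem)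

theorem Letters.a_comm (c : S.C) : Commute L.a c := Subtype.ext (S.zp_central L.a_mem (mem_cent.1 c.2)).eq

/-- an element mapping the four-group into itself normalises it -/
theorem mem_normalizer_of_le {V : Subgroup G} {x : G} (h : ∀ v ∈ V, x * v * x⁻¹ ∈ V) :
    x ∈ Subgroup.normalizer (V : Set G) := by
  refine Subgroup.mem_normalizer_iff.2 fun v => ⟨h v, fun hv => ?_⟩
  let f : V → V := fun p => ⟨x * p * x⁻¹, h p p.2⟩
  have hf : Function.Surjective f :=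
    Finite.surjective_of_injective fun p p' e => Subtype.ext (conj_injective (congrArg Subtype.val e))
  obtain ⟨p, hp⟩ := hf ⟨_, hv⟩
  exact conj_injective (congrArg Subtype.val hp) ▸ p.2
where
  conj_injective {x p p' : G} (e : x * p * x⁻¹ = x * p' * x⁻¹) : p = p' :=
    mul_left_cancel (mul_right_cancel e)

theorem Letters.a_ne (h : Hyp z Q) : L.a ≠ 1 := by
  intro e
  obtain ⟨hq3, hq1⟩ := L.q3
  have hqG : (L.q : G) ≠ 1 := fun e => hq1 (Subtype.ext e)
  have hqo : orderOf (L.q : G) = 3 := by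
    haveI : Fact (Nat.Prime 3) := ⟨Nat.prime_three⟩
    exact orderOf_eq_prime (congrArg Subtype.val hq3) hqG
  have hY : YType z (L.q : G) :=
    ⟨hqo, t, HallJankoPairs.ord_of S.tt S.t_ne, fun e => S.tz e.symm, (S.V_comm S.tV L.qL).symm⟩
  have hwqw : (L.w : G) * L.q * L.w = (L.q : G)⁻¹ :=
    eq_inv_of_mul_eq_one_left (congrArg Subtype.val e)
  -- the centraliser of `q` is the product of `⟨q⟩` and `K0`
  set Y := Subgroup.zpowers (L.q : G) with hY'
  have hYc : ∀ y ∈ Y, ∀ k ∈ S.K0, Commute y k := fun y hy k hk => by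
    obtain ⟨i, rfl⟩ := Subgroup.mem_zpowers_iff.1 hy
    exact ((S.K0L k hk _ L.qL).symm).zpow_left i
  have hYL : ∀ y ∈ Y, y ∈ S.L := fun y hy => Subgroup.zpowers_le.2 L.qL hy
  let f : Y × S.K0 → Subgroup.centralizer ({(L.q : G)} : Set G) := fun p =>
    ⟨(p.1 : G) * p.2, mem_cent.2 (Commute.mul_left (by
      obtain ⟨i, hi⟩ := Subgroup.mem_zpowers_iff.1 p.1.2
      rw [← hi]
      exact (Commute.refl _).zpow_left i) (S.K0L _ p.2.2 _ L.qL))⟩
  have hf : Function.Bijective f := by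
    refine (Nat.bijective_iff_injective_and_card f).2 ⟨fun p p' e1 => ?_, ?_⟩
    · have e2 : (p.1 : G) * p.2 = p'.1 * p'.2 := congrArg Subtype.val e1
      have e3 : (p'.2 : G) * (p.2 : G)⁻¹ = 1 := S.KL _ (S.K0.mul_mem p'.2.2 (S.K0.inv_mem p.2.2)) (by
        rw [show (p'.2 : G) * (p.2 : G)⁻¹ = (p'.1 : G)⁻¹ * p.1 by
          rw [eq_inv_mul_iff_mul_eq, ← mul_assoc, ← e2, mul_inv_cancel_right]]
        exact S.L.mul_mem (S.L.inv_mem (hYL _ p'.1.2)) (hYL _ p.1.2))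
      rw [mul_inv_eq_one] at e3
      rw [← e3] at e2
      exact Prod.ext (Subtype.ext (mul_right_cancel e2)) (Subtype.ext e3.symm)
    · rw [Nat.card_prod, S.K12, Nat.card_zpowers, hqo, y_card h hY]
  refine L.w_out (mem_normalizer_of_le fun v hv => ?_)
  rw [show (L.w : G)⁻¹ = L.w from congrArg Subtype.val L.w_inv]
  have hww : (L.w : G) * L.w = 1 := congrArg Subtype.val L.ww
  have hwi : (L.w : G)⁻¹ = L.w := inv_eq_of_mul_eq_one_right hww
  have hqv : Commute (L.q : G) v := (S.V_comm hv L.qL).symm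
  have h1 : (L.w : G) * (L.q : G)⁻¹ * L.w = L.q := by
    have := congrArg (fun x => x⁻¹) hwqw
    simp only [mul_inv_rev, hwi, inv_inv] at this
    rw [← mul_assoc] at this
    exact this
  have hx : (L.w : G) * v * L.w ∈ Subgroup.centralizer ({(L.q : G)} : Set G) := by
    refine mem_cent.2 ?_
    have e1 : (L.w : G) * L.q = (L.q : G)⁻¹ * L.w := by rw [← hwqw, mul_assoc _ (L.w : G), hww, mul_one]
    have e2 : (L.w : G) * (L.q : G)⁻¹ = L.q * L.w := by
      calc (L.w : G) * (L.q : G)⁻¹ = L.w * (L.q : G)⁻¹ * (L.w * L.w) := by rw [hww, mul_one]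
        _ = L.q * L.w := by rw [← mul_assoc, h1]
    show (L.w : G) * v * L.w * L.q = L.q * (L.w * v * L.w)
    calc (L.w : G) * v * L.w * L.q = L.w * v * ((L.q : G)⁻¹ * L.w) := by rw [mul_assoc _ (L.w : G), e1]
      _ = L.w * (v * (L.q : G)⁻¹) * L.w := by group
      _ = L.w * ((L.q : G)⁻¹ * v) * L.w := by rw [hqv.inv_left.eq]
      _ = (L.w * (L.q : G)⁻¹) * v * L.w := by group
      _ = L.q * (L.w * v * L.w) := by rw [e2]; group
  obtain ⟨⟨y, k⟩, hyk⟩ := hf.2 ⟨_, hx⟩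
  have hyk' : (y : G) * k = L.w * v * L.w := congrArg Subtype.val hyk
  have hsq : (y : G) * y * (k * k) = 1 := by
    rw [← (hYc _ y.2 _ k.2).symm.mul_mul_mul_comm, hyk']
    calc (L.w : G) * v * L.w * (L.w * v * L.w) = L.w * v * (L.w * L.w) * v * L.w := by group
      _ = L.w * (v * v) * L.w := by rw [hww]; group
      _ = 1 := by rw [S.hV2 v hv, mul_one, hww]
  have hkk : (k : G) * k = 1 := by
    refine S.KL _ (S.K0.mul_mem k.2 k.2) ?_
    rw [← inv_eq_of_mul_eq_one_right hsq]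
    exact S.L.inv_mem (S.L.mul_mem (hYL _ y.2) (hYL _ y.2))
  rw [hkk, mul_one] at hsq
  have hy1 : (y : G) = 1 := by
    obtain ⟨i, hi⟩ := Subgroup.mem_zpowers_iff.1 y.2
    have h3 : (y : G) ^ 3 = 1 := by
      rw [← hi, ← zpow_natCast, ← zpow_mul, mul_comm, zpow_mul, zpow_natCast,
        show (L.q : G) ^ 3 = 1 from congrArg Subtype.val hq3, one_zpow]
    rwa [pow_succ, sq, hsq, one_mul] at h3
  rw [hy1, one_mul] at hyk'
  exact hyk' ▸ S.sqV _ k.2 hkk

theorem Letters.a_gen (h : Hyp z Q) : Subgroup.zpowers (L.a : G) = Subgroup.zpowers S.a0 := by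
  haveI : Fact (Nat.Prime 3) := ⟨Nat.prime_three⟩
  refine Subgroup.eq_of_le_of_card_ge (Subgroup.zpowers_le.2 L.a_mem) ?_
  rw [Nat.card_zpowers, Nat.card_zpowers,
    orderOf_eq_prime (congrArg Subtype.val L.a3) (fun e => L.a_ne h (Subtype.ext e))]
  exact le_of_eq S.xa.1

theorem Letters.a_K : (L.a : G) ∈ S.K0 := Subgroup.zpowers_le.2 S.aK L.a_mem

/-- the other involutions of the four-group -/
theorem Letters.triangle (h : Hyp z Q) {v : G} (hv : v ∈ S.V) (hv1 : v ≠ 1) :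
    (L.a : G) * v * (L.a : G)⁻¹ ∈ S.V ∧
      v * ((L.a : G) * v * (L.a : G)⁻¹) = (L.a : G) * ((L.a : G) * v * (L.a : G)⁻¹) * (L.a : G)⁻¹ ∧
      ∀ x ∈ S.V, x = 1 ∨ x = v ∨ x = (L.a : G) * v * (L.a : G)⁻¹ ∨
        x = (L.a : G) * ((L.a : G) * v * (L.a : G)⁻¹) * (L.a : G)⁻¹ := by
  have haN := S.K0N L.a_K
  have hv2 : (L.a : G) * v * (L.a : G)⁻¹ ∈ S.V := S.conj_mem_V haN hv
  have hv3 := S.conj_mem_V haN hv2
  have hne : ∀ {y : G}, y ∈ S.V → y ≠ 1 → ¬ Commute (L.a : G) y := fun hy hy1 hc => by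
    refine S.a_move hy hy1 ?_
    obtain ⟨k, hk⟩ := Subgroup.mem_zpowers_iff.1 ((L.a_gen h).symm ▸ Subgroup.mem_zpowers S.a0 :
      S.a0 ∈ Subgroup.zpowers (L.a : G))
    rw [← hk]
    exact hc.zpow_left k
  have h21 : (L.a : G) * v * (L.a : G)⁻¹ ≠ 1 := fun e => hv1 (conj_eq_one_iff.1 e)
  have h31 : (L.a : G) * ((L.a : G) * v * (L.a : G)⁻¹) * (L.a : G)⁻¹ ≠ 1 := fun e => h21 (conj_eq_one_iff.1 e)
  have ha3 : (L.a : G) * L.a * L.a = 1 := by
    have := congrArg Subtype.val L.a3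
    simpa [pow_succ] using this
  have h13 : v ≠ (L.a : G) * ((L.a : G) * v * (L.a : G)⁻¹) * (L.a : G)⁻¹ := fun e => by
    refine hne hv hv1 ?_
    have e2 : (L.a : G)⁻¹ = L.a * L.a := inv_eq_of_mul_eq_one_left ha3
    have e' : Commute ((L.a : G) * L.a) v := by
      show _ = _
      calc (L.a : G) * L.a * v = (L.a : G) * ((L.a : G) * v * (L.a : G)⁻¹) * (L.a : G)⁻¹ * (L.a * L.a) := by group
        _ = v * (L.a * L.a) := by rw [← e]
    rw [← e2] at e'
    exact Commute.inv_left_iff.1 e'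
  obtain ⟨h1, h2⟩ := S.klein hv hv2 hv3 hv1 h21 h31 (fun e => hne hv hv1 (mul_inv_eq_iff_eq_mul.1 e.symm))
    h13 fun e => hne hv2 h21 (mul_inv_eq_iff_eq_mul.1 e.symm)
  exact ⟨hv2, h1, h2⟩

theorem Letters.va_cube (h : Hyp z Q) {v : G} (hv : v ∈ S.V) (hv1 : v ≠ 1) :
    v * L.a * (v * L.a) * (v * L.a) = 1 := by
  obtain ⟨h2, h3, -⟩ := L.triangle h hv hv1
  have ha3 : (L.a : G) * L.a * L.a = 1 := by
    have := congrArg Subtype.val L.a3
    simpa [pow_succ] using this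
  have h33 := S.hV2 _ (S.conj_mem_V (S.K0N L.a_K) h2)
  calc v * L.a * (v * L.a) * (v * L.a) = v * ((L.a : G) * v * (L.a : G)⁻¹) *
        ((L.a : G) * ((L.a : G) * v * (L.a : G)⁻¹) * (L.a : G)⁻¹) * (L.a * L.a * L.a) := by group
    _ = 1 := by rw [h3, h33, ha3, mul_one]

end Cfsg.Agent.Lie.J2Unique
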