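import Mathlib
import Cfsg.Agent.Lib.Lie.J2Unique.Letters

/-!
Groups of Hall–Janko type: the commutator of an involution of the four-group with its conjugate.
-/

set_option autoImplicit false
set_option linter.style.haveILetI false
set_option linter.unusedSectionVars false

namespace Cfsg.Agent.Lie.J2Unique

open Equiv HJType

universe u

local notation "A5" => alternatingGroup (Fin 5)

theorem a5_three_invol : ∀ g : A5, g ^ 3 = 1 → g ≠ 1 → ∀ s : A5, s * s = 1 → s * g = g * s → s = 1 := by
  decide +kernel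

variable {G : Type u} [Group G] [Finite G] {z t : G} {Q : Subgroup G}

/-- the core of the centraliser of `α` seen from a second involution commuting with it -/
theorem core_pair {α : G} {R : Subgroup G} (h : Hyp α R) {a β v x : G} (ha : Commute a α) (hao : orderOf a = 3)
    (hab : Commute a β) (hβ : Commute β α) (hββ : β * β = 1) (hβ1 : β ≠ 1) (hβα : β ≠ α)
    (hv : Commute v α) (hx : Commute x α) (hvβ : Commute v β) (hxβ : Commute x β) (hvv : v * v = 1)
    (hxx : x * x = 1) :
    v * x * v * x ∈ R ∧ ∀ c ∈ R, c * c = 1 → Commute c β → c = 1 ∨ c = α ∨ c = β ∨ c = β * α := by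
  haveI : Fact (Nat.Prime 3) := ⟨Nat.prime_three⟩
  obtain ⟨F⟩ := exists_frame h
  obtain ⟨ha3, -⟩ := three_ne hao
  have hga : F.π (cen α ha) ^ 3 = 1 := by
    rw [← map_pow, show cen α ha ^ 3 = 1 from Subtype.ext ha3, map_one]
  have hga1 : F.π (cen α ha) ≠ 1 := fun e => by
    have hR := (F.ker _).1 e
    obtain ⟨n, hn⟩ := h.S.two.exists_card_eq
    have h3 := Subgroup.orderOf_dvd_natCard R hR
    rw [hn] at h3
    change orderOf a ∣ 2 ^ n at h3
    rw [hao] at h3
    exact absurd (Nat.prime_three.dvd_of_dvd_pow h3) (by norm_num)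
  have hβR : β ∈ R := by
    refine (F.ker (cen α hβ)).1 (a5_three_invol _ hga hga1 _ ?_ ?_)
    · rw [← map_mul, show cen α hβ * cen α hβ = 1 from Subtype.ext hββ, map_one]
    · rw [← map_mul, ← map_mul]
      exact congrArg F.π (Subtype.ext hab.symm.eq)
  obtain ⟨i, hi⟩ := ((F.all β hβR hββ).resolve_left hβ1).resolve_left hβα
  have hcu : ∀ {y : G}, Commute y α → Commute y β → Commute y (F.u i) := fun {y} hy hyb => by
    rcases hi with e | e
    · exact e ▸ hyb
    · have h2 := hyb.mul_right hy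
      rwa [e, mul_assoc, F.S.xt.sq, mul_one] at h2
  refine ⟨?_, fun c hc hcc hcb => ?_⟩
  · have e1 : ∀ {y : G} (hy : Commute y α), y * y = 1 → F.π (cen α hy) * F.π (cen α hy) = 1 := fun {y} hy hyy => by
      rw [← map_mul, show cen α hy * cen α hy = 1 from Subtype.ext hyy, map_one]
    have h1 := stab_commutes i _ (e1 hv hvv) (F.fix_of_commute (hcu hv hvβ)) _ (e1 hx hxx)
      (F.fix_of_commute (hcu hx hxβ))
    rw [← map_mul, ← map_mul, ← map_mul] at h1
    exact (F.ker _).1 h1
  · rcases F.all c hc hcc with e | e | ⟨j, hj⟩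
    · exact Or.inl e
    · exact Or.inr (Or.inl e)
    · have hcz : Commute c α := (F.S.xt.cen c hc).symm
      have hju : Commute (F.u i) (F.u j) := by
        rcases hj with e | e
        · exact e ▸ (hcu hcz hcb).symm
        · have h2 := (hcu hcz hcb).symm.mul_right ((F.S.xt.cen _ (F.mem i)).symm)
          rwa [e, mul_assoc, F.S.xt.sq, mul_one] at h2
      have hij := F.nc _ _ hju
      subst hij
      refine Or.inr (Or.inr ?_)
      rcases hi with e | e <;> rcases hj with e' | e'
      · exact Or.inl (e'.trans e.symm)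
      · exact Or.inr (by rw [e', e])
      · exact Or.inr (by rw [e', e, mul_assoc, F.S.xt.sq, mul_one])
      · exact Or.inl (e'.trans e.symm)

variable {S : Setup z t} (L : Letters S)

/-- an involution of the complement -/
def Letters.alpha : S.C := L.r⁻¹ * L.q * L.r⁻¹ * L.r⁻¹ * L.q⁻¹

theorem Letters.alpha_mem : (L.alpha : G) ∈ S.L :=
  S.L.mul_mem (S.L.mul_mem (S.L.mul_mem (S.L.mul_mem (S.L.inv_mem L.rL) L.qL) (S.L.inv_mem L.rL)) (S.L.inv_mem L.rL))
    (S.L.inv_mem L.qL)

theorem Letters.alpha_pi : S.π L.alpha = alp := by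
  simp only [Letters.alpha, map_mul, map_inv, L.πq, L.πr]
  have := perm_facts.2.2.2.2.2.2.2.2.2.2.2.2.2.2.2.2.2.2.2.2.2.2
  simpa [pg, mul_assoc] using this

theorem Letters.commutator_eq (h : Hyp z Q) :
    t * ((L.w : G) * t * L.w) * t * ((L.w : G) * t * L.w) = (L.alpha : G) := by
  classical
  obtain ⟨hβ5, -, -, -, -, -, -, -, -, -, hwp, -, hA2, hB2, hA1, hB1, hAB, hwA, hwB, hABc, -⟩ := perm_facts.2.2
  obtain ⟨b, hbL, hπb⟩ := S.stab bep even_perms.2.2.2.1 hβ5
  set al := L.alpha with hal
  have haL : (al : G) ∈ S.L := L.alpha_mem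
  have hπa : S.π al = alp := L.alpha_pi
  have hAA : al * al = 1 := S.L_one (S.L.mul_mem haL haL) (by rw [map_mul, hπa, hA2])
  have hBB : b * b = 1 := S.L_one (S.L.mul_mem hbL hbL) (by rw [map_mul, hπb, hB2])
  have hcomm : al * b = b * al :=
    S.L_eq (S.L.mul_mem haL hbL) (S.L.mul_mem hbL haL) (by rw [map_mul, map_mul, hπa, hπb, hABc])
  have hABsq : al * b * (al * b) = 1 := by
    rw [← (show Commute al b from hcomm).mul_mul_mul_comm, hAA, hBB, one_mul]
  have hwinv : L.w⁻¹ = L.w := L.w_inv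
  have hconj : ∀ {y : S.C}, y * y = 1 → L.w * y * L.w * (L.w * y * L.w) = 1 := fun {y} hy => by
    calc L.w * y * L.w * (L.w * y * L.w) = L.w * (y * (L.w * L.w) * y) * L.w := by group
      _ = 1 := by rw [L.ww, mul_one, hy, mul_one, L.ww]
  have hwa : L.w * al * L.w = al :=
    S.same_sq (by simp only [map_mul, L.πw, hπa, hwA]) (hconj hAA) hAA
  have hwb : L.w * b * L.w = al * b :=
    S.same_sq (by simp only [map_mul, L.πw, hπa, hπb, hwB]) (hconj hBB) hABsq
  have hne1 : ∀ {y : S.C} {σ : Perm (Fin 6)}, S.π y = σ → σ ≠ 1 → (y : G) ≠ 1 := fun {y σ} hy hσ e => by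
    rw [show y = 1 from Subtype.ext e, map_one] at hy
    exact hσ hy.symm
  have hA1' := hne1 hπa hA1
  have hB1' := hne1 hπb hB1
  have hAB' : (al : G) ≠ b := fun e => hAB (by rw [← hπa, ← hπb, Subtype.ext e])
  set w : G := (L.w : G) with hw
  have hww : w * w = 1 := congrArg Subtype.val L.ww
  have hw_inv : w⁻¹ = w := inv_eq_of_mul_eq_one_right hww
  set x := w * t * w with hx
  have hvv : t * t = 1 := S.tt
  have hxx : x * x = 1 := by
    calc x * x = w * (t * (w * w) * t) * w := by rw [hx]; group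
      _ = 1 := by rw [hww, mul_one, hvv, mul_one, hww]
  have hwaG : w * al * w = (al : G) := congrArg Subtype.val hwa
  have hwbG : w * b * w = (al : G) * b := congrArg Subtype.val hwb
  have hvA : Commute t al := S.V_comm S.tV haL
  have hvB : Commute t b := S.V_comm S.tV hbL
  have hxA : Commute x al := by
    have := ((Commute.conj_iff w).2 hvA)
    rwa [hw_inv, hwaG] at this
  have hxB : Commute x b := by
    have h1 := ((Commute.conj_iff w).2 hvB)
    rw [hw_inv, hwbG] at h1
    have h2 := hxA.inv_right.mul_right h1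
    rwa [inv_mul_cancel_left] at h2
  have hinv : ∀ {y : G}, y ∈ S.L → y * y = 1 → y ≠ 1 → IsConj z y := fun {y} hy hyy hy1 => by
    obtain ⟨g, hg⟩ := a5_inv_conj (S.e ⟨z, S.zL⟩)
      (by rw [← map_mul, show (⟨z, S.zL⟩ : S.L) * ⟨z, S.zL⟩ = 1 from Subtype.ext h.S.xt.sq, map_one])
      (fun e => h.S.xt.ne (congrArg Subtype.val ((MulEquiv.map_eq_one_iff S.e).1 e)))
      (S.e ⟨y, hy⟩) (by rw [← map_mul, show (⟨y, hy⟩ : S.L) * ⟨y, hy⟩ = 1 from Subtype.ext hyy, map_one])
      (fun e => hy1 (congrArg Subtype.val ((MulEquiv.map_eq_one_iff S.e).1 e)))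
    refine isConj_iff.2 ⟨(S.e.symm g : G), ?_⟩
    have := congrArg S.e.symm hg
    rw [map_mul, map_mul, map_inv, S.e.symm_apply_apply, S.e.symm_apply_apply] at this
    exact congrArg Subtype.val this
  have hAAG : (al : G) * al = 1 := congrArg Subtype.val hAA
  have hBBG : (b : G) * b = 1 := congrArg Subtype.val hBB
  obtain ⟨R, hR⟩ := hyp_at h (hinv haL hAAG hA1')
  obtain ⟨R', hR'⟩ := hyp_at h (hinv hbL hBBG hB1')
  have hab : Commute (al : G) b := congrArg Subtype.val hcomm
  have ha0A := (S.Lc haL).symm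
  have ha0B := (S.Lc hbL).symm
  obtain ⟨hcR, hlist⟩ := core_pair hR ha0A S.xa.1 ha0B hab.symm hBBG hB1' hAB'.symm hvA hxA hvB hxB hvv hxx
  obtain ⟨hcR', -⟩ := core_pair hR' ha0B S.xa.1 ha0A hab hAAG hA1' hAB' hvB hxB hvA hxA hvv hxx
  set c := t * x * t * x with hc
  have hcc : c * c = 1 := by
    rcases hR.S.sq c hcR with e | e
    · exact e
    rcases hR'.S.sq c hcR' with e' | e'
    · exact e'
    exact absurd (e.symm.trans e') hAB'
  have hcB : Commute c b := ((hvB.mul_left hxB).mul_left hvB).mul_left hxB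
  have hfix : w * c * w = c := by
    have h1 : c⁻¹ = c := inv_eq_of_mul_eq_one_right hcc
    calc w * c * w = x * t * x * t := by
          rw [hc, hx]
          calc w * (t * (w * t * w) * t * (w * t * w)) * w = w * t * w * t * (w * t * w) * t * (w * w) := by group
            _ = w * t * w * t * (w * t * w) * t := by rw [hww, mul_one]
      _ = c⁻¹ := by
          refine eq_inv_of_mul_eq_one_left ?_
          calc x * t * x * t * c = x * (t * (x * (t * t) * x) * t) * x := by rw [hc]; group
            _ = 1 := by rw [S.tt, mul_one, hxx, mul_one, S.tt, mul_one, hxx]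
      _ = c := h1
  rcases hlist c hcR hcc hcB with e | e | e | e
  · exfalso
    -- commuting conjugates force `w` into the normaliser
    have hxv : Commute x t := by
      show x * t = t * x
      calc x * t = (t * x * t * x) * (x * t) := by rw [show t * x * t * x = 1 from e, one_mul]
        _ = t * x * (t * (x * x) * t) := by group
        _ = t * x := by rw [hxx, mul_one, hvv, mul_one]
    obtain ⟨v', hv', l, hl, hvl⟩ := internal_decomp S.internal x (mem_cent.2 hxv)
    obtain ⟨hv2, h123, hall⟩ := L.triangle h S.tV S.t_ne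
    obtain hv'' := S.conj_mem_V (S.K0N L.a_K) hv'
    have hv''' := S.conj_mem_V (S.K0N L.a_K) hv''
    set a : G := (L.a : G) with ha
    have haw : Commute a w := congrArg Subtype.val (L.a_comm L.w).eq
    have hal' : a * l * a⁻¹ = l := by
      rw [mul_inv_eq_iff_eq_mul]; exact (S.K0L _ L.a_K _ hl).eq
    have haw' : a * w * a⁻¹ = w := by rw [mul_inv_eq_iff_eq_mul]; exact haw.eq
    have hstep : ∀ {u p : G}, w * u * w = p * l → w * (a * u * a⁻¹) * w = (a * p * a⁻¹) * l := fun {u p} hu => by
      calc w * (a * u * a⁻¹) * w = (a * w * a⁻¹) * (a * u * a⁻¹) * (a * w * a⁻¹) := by rw [haw']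
        _ = a * (w * u * w) * a⁻¹ := by group
        _ = (a * p * a⁻¹) * (a * l * a⁻¹) := by rw [hu]; group
        _ = (a * p * a⁻¹) * l := by rw [hal']
    have e1 : w * t * w = v' * l := hvl.symm
    have e2 := hstep e1
    have e3 := hstep e2
    have hl1 : l = 1 := by
      have h4 : w * t * w * (w * (a * t * a⁻¹) * w) = w * (a * (a * t * a⁻¹) * a⁻¹) * w := by
        rw [← h123]
        calc w * t * w * (w * (a * t * a⁻¹) * w) = w * t * (w * w) * (a * t * a⁻¹) * w := by group
          _ = w * (t * (a * t * a⁻¹)) * w := by rw [hww, mul_one]; group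
      rw [e1, e2, e3, (S.V_comm hv'' hl).symm.mul_mul_mul_comm] at h4
      have hm : (a * (a * v' * a⁻¹) * a⁻¹)⁻¹ * (v' * (a * v' * a⁻¹)) = l⁻¹ := by
        rw [inv_mul_eq_iff_eq_mul]
        calc v' * (a * v' * a⁻¹) = v' * (a * v' * a⁻¹) * (l * l) * (l * l)⁻¹ := by group
          _ = a * (a * v' * a⁻¹) * a⁻¹ * l⁻¹ := by rw [h4]; group
      have hmem : l⁻¹ ∈ S.V := hm ▸ S.V.mul_mem (S.V.inv_mem hv''') (S.V.mul_mem hv' hv'')
      have : l ∈ S.V ⊓ S.L := ⟨inv_inv l ▸ S.V.inv_mem hmem, hl⟩
      rwa [S.internal.2.2.2.1, Subgroup.mem_bot] at this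
    rw [hl1, mul_one] at e1 e2 e3
    refine L.w_out (mem_normalizer_of_le fun u hu => ?_)
    show w * u * w⁻¹ ∈ S.V
    rw [hw_inv]
    rcases hall u hu with rfl | rfl | rfl | rfl
    · rw [mul_one, hww]; exact S.V.one_mem
    · exact e1 ▸ hv'
    · exact e2 ▸ hv''
    · exact e3 ▸ hv'''
  · exact e
  · exfalso
    rw [e, hwbG] at hfix
    exact hA1' (mul_eq_right.1 hfix)
  · exfalso
    rw [e] at hfix
    have h1 : w * ((b : G) * al) * w = (b : G) := by
      calc w * ((b : G) * al) * w = w * b * (w * w) * al * w := by rw [hww]; group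
        _ = (w * b * w) * (w * al * w) := by group
        _ = (al : G) * b * al := by rw [hwbG, hwaG]
        _ = b := by rw [hab.eq, mul_assoc, hAAG, mul_one]
    exact hA1' (mul_eq_left.1 (hfix.symm.trans h1))

end Cfsg.Agent.Lie.J2Unique
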