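import Cfsg.Agent.Lib.Lie.J2Unique.Checks
import Mathlib.GroupTheory.Coset.Card
import Mathlib.GroupTheory.GroupAction.Quotient

/-!
A group with generators satisfying the relators, and a subgroup of index 840, is given by the table.
-/

set_option autoImplicit false
set_option maxRecDepth 20000
set_option linter.style.haveILetI false

namespace Cfsg.Agent.Lie.J2Unique

open Cfsg.Agent.Lead.JankoOne

universe u

/-- the depth of a complete tree -/
def depth {α : Type} : Coset.Arr α → ℕ
  | .leaf _ => 0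
  | .node l r => max (depth l) (depth r) + 1

theorem tree_get_mod {α : Type} : ∀ (T : Coset.Arr α) (d : ℕ), depth T ≤ d → ∀ n, T.get n = T.get (n % 2 ^ d)
  | .leaf _, _, _, _ => rfl
  | .node l r, 0, h, _ => by simp [depth] at h
  | .node l r, d + 1, h, n => by
    have hd : max (depth l) (depth r) ≤ d := by simpa [depth] using h
    simp only [Cfsg.Agent.Lie.Janko.Tree.get]
    have e1 : n % 2 ^ (d + 1) % 2 = n % 2 :=
      Nat.mod_mod_of_dvd _ (dvd_pow_self 2 (Nat.succ_ne_zero d))
    have e2 : n % 2 ^ (d + 1) / 2 = n / 2 % 2 ^ d := by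
      rw [pow_succ', Nat.mod_mul_right_div_self]
    rw [e1, e2, tree_get_mod l d (le_trans (le_max_left _ _) hd) (n / 2),
      tree_get_mod r d (le_trans (le_max_right _ _) hd) (n / 2)]

/-- generators satisfying the relators, and the subgroup of index 840 -/
structure Amalgam {G : Type u} [Group G] (H : Subgroup G) (g : ℕ → G) : Prop where
  inv : ∀ x < 13, g (Coset.bar x) = (g x)⁻¹
  id12 : g 12 = 1
  rel : ∀ r ∈ rels, (r.map g).prod = 1
  mem : ∀ x ∈ [1, 2, 4, 8], g x ∈ H
  notMem : g 0 ∉ H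
  gen : H ≤ Subgroup.closure {x | ∃ k ∈ [1, 2, 4, 8], g k = x}
  index : H.index = 840
  core : ∀ M : Subgroup G, M.Normal → M ≤ H → M = ⊥

/-- the group generated by the columns of the table -/
def tableGroup : Subgroup (Equiv.Perm (Fin 840)) :=
  Subgroup.closure {p | ∃ k < 5, ∀ i : Fin 840, (p i).val = img i.val k}

theorem img_lt (i : Fin 840) {k : ℕ} (hk : k < 5) : img i.val k < 840 := by
  have h := List.all_eq_true.1 (Bool.and_eq_true_iff.1 table_ok).1 (5 * i.val + k) (List.mem_range.2 (by omega))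
  simp only [edgeCheck, Bool.and_eq_true, Nat.blt_eq] at h
  exact h.1

theorem letters_lt : ∀ r ∈ rels, ∀ x ∈ r, x < 13 := by decide +kernel

/-- the arrays are periodic -/
theorem get_mod (n : ℕ) : par.get n = par.get (n % 2048) := tree_get_mod par 11 (by decide +kernel) n

theorem genLetter_mem : ∀ k < 5, genLetter k = 0 ∨ genLetter k ∈ [1, 2, 4, 8] := by decide

variable {G : Type u} [Group G] {H : Subgroup G} {g : ℕ → G}

theorem fold_act (w : List ℕ) (a : G ⧸ H) :
    w.foldl (fun b x => (g x)⁻¹ • b) a = ((w.map g).prod)⁻¹ • a := by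
  induction w generalizing a with
  | nil => simp
  | cons x w ih => rw [List.foldl_cons, ih, List.map_cons, List.prod_cons, mul_inv_rev, mul_smul]

theorem par_mem (A : Amalgam H g) (n : ℕ) :
    g (par.get n).2 ∈ Subgroup.closure {x | ∃ k < 5, g (genLetter k) = x} := by
  have hget : ∀ n, ∃ m < 2048, par.get n = par.get m := fun n => ⟨n % 2048, Nat.mod_lt _ (by norm_num), get_mod n⟩
  obtain ⟨m, hm, e⟩ := hget n
  rw [e]
  have h := List.all_eq_true.1 par_letters m (List.mem_range.2 hm)
  simp only [List.contains_iff_mem, List.mem_cons, List.not_mem_nil, or_false] at h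
  have hk : ∀ k < 5, g (genLetter k) ∈ Subgroup.closure {x | ∃ k < 5, g (genLetter k) = x} :=
    fun k hk => Subgroup.subset_closure ⟨k, hk, rfl⟩
  rcases h with h | h | h | h | h | h | h | h | h <;> rw [h]
  · exact hk 0 (by norm_num)
  · exact hk 1 (by norm_num)
  · exact hk 2 (by norm_num)
  · rw [show (3 : ℕ) = Coset.bar 2 from rfl, A.inv 2 (by norm_num)]; exact Subgroup.inv_mem _ (hk 2 (by norm_num))
  · exact hk 3 (by norm_num)
  · rw [show (5 : ℕ) = Coset.bar 4 from rfl, A.inv 4 (by norm_num)]; exact Subgroup.inv_mem _ (hk 3 (by norm_num))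
  · exact hk 4 (by norm_num)
  · rw [show (9 : ℕ) = Coset.bar 8 from rfl, A.inv 8 (by norm_num)]; exact Subgroup.inv_mem _ (hk 4 (by norm_num))
  · rw [A.id12]; exact one_mem _

theorem val_word (A : Amalgam H g) (S : Coset.Sys log (G ⧸ H)) (hb : S.base = ((1 : G) : G ⧸ H))
    (hact : ∀ a x, S.act a x = (g x)⁻¹ • a) :
    ∀ n, ∃ d ∈ Subgroup.closure {x | ∃ k < 5, g (genLetter k) = x}, S.val n = d • ((1 : G) : G ⧸ H) := by
  intro n
  induction n using Nat.strong_induction_on with
  | _ n ih =>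
    by_cases h : (log.par.get n).1 < n
    · obtain ⟨d, hd, e⟩ := ih _ h
      refine ⟨(g (par.get n).2)⁻¹ * d, Subgroup.mul_mem _ (Subgroup.inv_mem _ (par_mem A n)) hd, ?_⟩
      rw [S.val_def h, e, hact, mul_smul]
      rfl
    · refine ⟨1, one_mem _, ?_⟩
      rw [Coset.Sys.val, dif_neg h, hb, one_smul]

theorem Amalgam.exists_map (A : Amalgam H g) :
    ∃ f : Fin 840 → G ⧸ H, f 0 = ((1 : G) : G ⧸ H) ∧
      (∀ i, ∃ d ∈ Subgroup.closure {x | ∃ k < 5, g (genLetter k) = x}, f i = d • ((1 : G) : G ⧸ H)) ∧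
      ∀ (i : Fin 840) (k : ℕ) (hk : k < 5), f ⟨img i.val k, img_lt i hk⟩ = (g (genLetter k))⁻¹ • f i := by
  let S : Coset.Sys log (G ⧸ H) :=
    { base := ((1 : G) : G ⧸ H)
      act := fun a x => (g x)⁻¹ • a
      ident := fun a => by simp only [A.id12, inv_one, one_smul]
      cancel := fun a x hx => by simp only [A.inv x hx, inv_inv, smul_inv_smul]
      relator := fun r hr a => by rw [fold_act, A.rel r hr, inv_one, one_smul]
      letters := letters_lt
      fixed := fun x hx => by
        show (g x)⁻¹ • ((1 : G) : G ⧸ H) = _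
        rw [MulAction.Quotient.smul_coe, smul_eq_mul, mul_one, QuotientGroup.eq, mul_one, inv_inv]
        exact A.mem x hx }
  have htab := Bool.and_eq_true_iff.1 table_ok
  refine ⟨fun i => S.val (live.get i.val), ?_, fun i => val_word A S rfl (fun _ _ => rfl) (live.get i.val), fun i k hk => ?_⟩
  · show S.val (live.get 0) = _
    rw [Nat.eq_of_beq_eq_true htab.2, S.val_zero]
  · have h := List.all_eq_true.1 htab.1 (5 * i.val + k) (List.mem_range.2 (by omega))
    simp only [edgeCheck, Bool.and_eq_true, Nat.blt_eq, Nat.beq_eq] at h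
    obtain ⟨-, hr, e1, e2, e3⟩ := h
    rw [show (5 * i.val + k) / 5 = i.val by omega] at e1
    rw [show (5 * i.val + k) % 5 = k by omega] at e2
    obtain ⟨hf, hg⟩ := S.holds log_ok _ hr
    show S.val (live.get (edge.get (5 * i.val + k)).1) = S.act (S.val (live.get i.val)) (genLetter k)
    rw [← e1, ← e2, ← e3]
    unfold Coset.Log.ends
    cases hpar : ((edge.get (5 * i.val + k)).2 % 2 == 0)
    · simp only [cond_false]
      rw [← hf, S.cancel _ _ hg]
    · simp only [cond_true]
      exact hf.symm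

theorem chain_sound {α : Type*} {f : ℕ → α} {ps : List (ℕ × ℕ)} (hps : ∀ p ∈ ps, f p.1 = f p.2) :
    ∀ (l : List ℕ) (a b : ℕ), chain ps a l = some b → f a = f b
  | [], a, b, h => by simp only [chain, Option.some.injEq] at h; rw [h]
  | e :: l, a, b, h => by
    have key : f (ps.getD e (0, 0)).1 = f (ps.getD e (0, 0)).2 := by
      by_cases he : e < ps.length
      · rw [List.getD_eq_getElem _ _ he]; exact hps _ (List.getElem_mem he)
      · rw [List.getD_eq_default _ _ (by omega)]
    simp only [chain] at h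
    cases h1 : Nat.beq (ps.getD e (0, 0)).1 a
    · simp only [h1, cond_false] at h
      cases h2 : Nat.beq (ps.getD e (0, 0)).2 a
      · simp only [h2, cond_false] at h; exact absurd h (by simp)
      · simp only [h2, cond_true] at h
        rw [← Nat.eq_of_beq_eq_true h2, ← key]
        exact chain_sound hps l _ _ h
    · simp only [h1, cond_true] at h
      rw [← Nat.eq_of_beq_eq_true h1, key]
      exact chain_sound hps l _ _ h

theorem pairsFrom_sound {P : ℕ × ℕ → Prop} (h00 : P (0, 0))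
    (step : ∀ p k, P p → k < 5 → P (img p.1 k, img p.2 k)) :
    ∀ (l acc : List (ℕ × ℕ)), (∀ p ∈ l, p.2 < 5) → (∀ p ∈ acc, P p) → ∀ p ∈ pairsFrom acc l, P p
  | [], acc, _, h => h
  | (i, k) :: l, acc, hk, h => by
    refine pairsFrom_sound h00 step l _ (fun p hp => hk p (List.mem_cons_of_mem _ hp)) fun p hp => ?_
    rcases List.mem_append.1 hp with hp | hp
    · exact h p hp
    · rw [List.mem_singleton.1 hp]
      refine step _ k ?_ (hk _ List.mem_cons_self)
      by_cases hi : i < acc.length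
      · rw [List.getD_eq_getElem _ _ hi]; exact h _ (List.getElem_mem hi)
      · rw [List.getD_eq_default _ _ (by omega)]; exact h00

theorem Amalgam.table_injective (A : Amalgam H g) {f : Fin 840 → G ⧸ H} (h0 : f 0 = ((1 : G) : G ⧸ H))
    (hf : ∀ (i : Fin 840) (k : ℕ) (hk : k < 5), f ⟨img i.val k, img_lt i hk⟩ = (g (genLetter k))⁻¹ • f i)
    :
    ∀ j : Fin 840, f j = f 0 → j = 0 := by
  classical
  -- extend to natural numbers
  let F : ℕ → G ⧸ H := fun i => f (Fin.ofNat 840 i)
  have hF : ∀ i : Fin 840, F i.val = f i := fun i => congrArg f (Fin.ext (Nat.mod_eq_of_lt i.2))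
  have himg : ∀ a k, k < 5 → a < 840 → F (img a k) = (g (genLetter k))⁻¹ • F a := fun a k hk ha => by
    rw [show F (img a k) = f ⟨img a k, img_lt ⟨a, ha⟩ hk⟩ from hF ⟨img a k, img_lt ⟨a, ha⟩ hk⟩,
      hf ⟨a, ha⟩ k hk, ← hF ⟨a, ha⟩]
  have hne : F (img 0 0) ≠ F 0 := by
    rw [himg 0 0 (by norm_num) (by norm_num), show F 0 = ((1 : G) : G ⧸ H) from (hF 0).trans h0,
      MulAction.Quotient.smul_coe, smul_eq_mul, mul_one, Ne, QuotientGroup.eq, mul_one, inv_inv]
    exact A.notMem
  have hfix : ∀ k, k < 5 → k ≠ 0 → (g (genLetter k))⁻¹ • F 0 = F 0 := fun k hk hk0 => by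
    rw [show F 0 = ((1 : G) : G ⧸ H) from (hF 0).trans h0,
      MulAction.Quotient.smul_coe, smul_eq_mul, mul_one, QuotientGroup.eq, mul_one, inv_inv]
    refine A.mem _ ?_
    interval_cases k
    · exact absurd rfl hk0
    all_goals decide
  have main : ∀ n j, j < 840 → j ≠ 0 → (toward.get j).2.2 ≤ n → F j ≠ F 0 := by
    intro n
    induction n using Nat.strong_induction_on with
    | _ n ih =>
      intro j hj hj0 hn hFj
      have ht := List.all_eq_true.1 toward_ok (j - 1) (List.mem_range.2 (by omega))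
      rw [show j - 1 + 1 = j by omega] at ht
      unfold towardCheck at ht
      cases hk0 : Nat.beq (toward.get j).1 0
      · simp only [hk0, cond_false, Bool.and_eq_true, Nat.blt_eq, Nat.beq_eq, Bool.not_eq_true'] at ht
        obtain ⟨hk, he, hlt, hne0⟩ := ht
        have hlt840 : (toward.get j).2.1 < 840 := he ▸ img_lt ⟨j, hj⟩ hk
        refine ih _ (Nat.lt_of_lt_of_le hlt hn) _ hlt840 (fun e => ?_) le_rfl ?_
        · rw [e] at hne0; exact Bool.noConfusion hne0
        · rw [← he, himg j _ hk hj, hFj, hfix _ hk fun e => ?_]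
          rw [e] at hk0; exact Bool.noConfusion hk0
      · simp only [hk0, cond_true, List.any_eq_true, Nat.beq_eq] at ht
        obtain ⟨e, he, rfl⟩ := ht
        have hm := List.all_eq_true.1 merges_ok e he
        simp only [mergeCheck, Bool.and_eq_true, List.all_eq_true, Nat.blt_eq] at hm
        obtain ⟨hks, hm⟩ := hm
        cases hc : chain (pairsFrom [(0, e.1)] e.2.1.tail) 0 e.2.2 with
        | none => simp [hc] at hm
        | some b =>
          simp only [hc, Nat.beq_eq] at hm
          subst hm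
          have key := pairsFrom_sound (P := fun p => p.1 < 840 ∧ p.2 < 840 ∧ F p.1 = F p.2)
            ⟨by norm_num, by norm_num, rfl⟩ (fun p k hp hk => ⟨img_lt ⟨p.1, hp.1⟩ hk, img_lt ⟨p.2, hp.2.1⟩ hk,
              by rw [himg _ k hk hp.1, himg _ k hk hp.2.1, hp.2.2]⟩) e.2.1.tail [(0, e.1)] hks
            (fun p hp => by rw [List.mem_singleton.1 hp]; exact ⟨by norm_num, hj, hFj.symm⟩)
          exact hne (chain_sound (f := F) (fun p hp => (key p hp).2.2) _ _ _ hc).symm
  intro j hj
  by_contra hj0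
  exact main _ j.val j.2 (fun e => hj0 (Fin.ext e)) le_rfl ((hF j).trans (hj.trans (hF 0).symm))

theorem column_inj (k : Fin 5) : Function.Injective fun i : Fin 840 => (⟨img i.val k.val, img_lt i k.2⟩ : Fin 840) := by
  intro i j h
  have e : img i.val k.val = img j.val k.val := congrArg Fin.val h
  have hi := List.all_eq_true.1 columns_ok i.val (List.mem_range.2 i.2)
  have hj := List.all_eq_true.1 columns_ok j.val (List.mem_range.2 j.2)
  simp only [Bool.and_eq_true, Nat.beq_eq] at hi hj
  refine Fin.ext ?_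
  obtain ⟨i0, i1, i2, i3, i4⟩ := hi
  obtain ⟨j0, j1, j2, j3, j4⟩ := hj
  match k, e with
  | 0, e => exact i0.symm.trans ((congrArg (img · 0) e).trans j0)
  | 1, e => exact i1.symm.trans ((congrArg (img · 1) e).trans j1)
  | 2, e => exact i2.symm.trans ((congrArg (fun x => img (img x 2) 2) e).trans j2)
  | 3, e => exact i3.symm.trans ((congrArg (fun x => img (img (img (img x 3) 3) 3) 3) e).trans j3)
  | 4, e => exact i4.symm.trans ((congrArg (fun x => img (img x 4) 4) e).trans j4)

/-- A group with such generators is given by the table. -/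
theorem Amalgam.nonempty_table [Finite G] (A : Amalgam H g) : Nonempty (G ≃* tableGroup) := by
  classical
  obtain ⟨f, h0, hword, hf⟩ := A.exists_map
  let D := Subgroup.closure {x | ∃ k < 5, g (genLetter k) = x}
  have hHD : H ≤ D := A.gen.trans (Subgroup.closure_mono (by
    rintro _ ⟨k, hk, rfl⟩
    simp only [List.mem_cons, List.not_mem_nil, or_false] at hk
    rcases hk with rfl | rfl | rfl | rfl
    exacts [⟨1, by norm_num, rfl⟩, ⟨2, by norm_num, rfl⟩, ⟨3, by norm_num, rfl⟩, ⟨4, by norm_num, rfl⟩]))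
  have hidx : Nat.card (G ⧸ H) = 840 := A.index
  let col : Fin 5 → Equiv.Perm (Fin 840) := fun k =>
    Equiv.ofBijective (fun i => ⟨img i.val k.val, img_lt i k.2⟩) (Finite.injective_iff_bijective.1 (column_inj k))
  have hperm : ∀ x ∈ D, ∃ σ : Equiv.Perm (Fin 840), ∀ j, f (σ j) = x • f j := by
    intro x hx
    induction hx using Subgroup.closure_induction with
    | mem x hx =>
      obtain ⟨k, hk, rfl⟩ := hx
      refine ⟨(col ⟨k, hk⟩)⁻¹, fun j => ?_⟩
      have e := hf ((col ⟨k, hk⟩)⁻¹ j) k hk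
      rw [show (⟨img ((col ⟨k, hk⟩)⁻¹ j).val k, img_lt _ hk⟩ : Fin 840) = col ⟨k, hk⟩ ((col ⟨k, hk⟩)⁻¹ j) from rfl,
        Equiv.Perm.coe_inv, Equiv.apply_symm_apply] at e
      rw [e, smul_inv_smul, Equiv.Perm.coe_inv]
    | one => exact ⟨1, fun j => by rw [one_smul]; rfl⟩
    | mul x y _ _ hx hy =>
      obtain ⟨σ, hσ⟩ := hx
      obtain ⟨τ, hτ⟩ := hy
      exact ⟨σ * τ, fun j => by rw [Equiv.Perm.mul_apply, hσ, hτ, mul_smul]⟩
    | inv x _ hx =>
      obtain ⟨σ, hσ⟩ := hx
      exact ⟨σ⁻¹, fun j => by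
        rw [← inv_smul_smul x (f (σ⁻¹ j)), ← hσ, Equiv.Perm.coe_inv, Equiv.apply_symm_apply]⟩
  have hinj : Function.Injective f := by
    intro i j hij
    have hfix : ∀ j, f j = f 0 → j = 0 := A.table_injective h0 hf
    obtain ⟨d, hd, hdi⟩ := hword i
    obtain ⟨σ, hσ⟩ := hperm d⁻¹ (D.inv_mem hd)
    have h1 : f (σ i) = f 0 := by rw [hσ, hdi, inv_smul_smul, h0]
    have h2 : f (σ j) = f 0 := by rw [hσ, ← hij, hdi, inv_smul_smul, h0]
    exact σ.injective ((hfix _ h1).trans (hfix _ h2).symm)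
  have hbij : Function.Bijective f := hinj.bijective_of_nat_card_le (by rw [hidx, Nat.card_fin])
  have hD : D = ⊤ := by
    refine eq_top_iff.2 fun x _ => ?_
    obtain ⟨i, hi⟩ := hbij.2 ((x : G ⧸ H))
    obtain ⟨d, hd, hdi⟩ := hword i
    rw [hi, MulAction.Quotient.smul_coe, smul_eq_mul, mul_one, QuotientGroup.eq] at hdi
    have := D.mul_mem hd (D.inv_mem (hHD hdi))
    rwa [mul_inv_rev, inv_inv, mul_inv_cancel_left] at this
  let E : Fin 840 ≃ G ⧸ H := Equiv.ofBijective f hbij
  let ψ : G →* Equiv.Perm (Fin 840) := (E.symm.permCongrHom.toMonoidHom).comp (MulAction.toPermHom G (G ⧸ H))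
  have hψ : ∀ x i, ψ x i = E.symm (x • E i) := fun x i => rfl
  have hgenψ : ∀ k, k < 5 → ∀ i, (ψ (g (genLetter k))⁻¹ i).val = img i.val k := by
    intro k hk i
    rw [hψ]
    show (E.symm ((g (genLetter k))⁻¹ • f i)).val = _
    rw [← hf i k hk, show f ⟨_, img_lt i hk⟩ = E ⟨_, img_lt i hk⟩ from rfl, Equiv.symm_apply_apply]
  have hrange : ψ.range = tableGroup := by
    refine le_antisymm ?_ ((Subgroup.closure_le _).2 ?_)
    · rw [MonoidHom.range_eq_map, ← hD]
      refine Subgroup.map_le_iff_le_comap.2 ((Subgroup.closure_le _).2 ?_)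
      rintro _ ⟨k, hk, rfl⟩
      rw [SetLike.mem_coe, Subgroup.mem_comap, ← inv_inv (g (genLetter k)), map_inv]
      exact Subgroup.inv_mem _ (Subgroup.subset_closure ⟨k, hk, hgenψ k hk⟩)
    · rintro p ⟨k, hk, hp⟩
      exact ⟨_, Equiv.ext fun i => Fin.ext ((hgenψ k hk i).trans (hp i).symm)⟩
  have hker : ψ.ker = ⊥ := by
    refine A.core _ ψ.normal_ker fun x hx => ?_
    have h1 := congrArg (fun p : Equiv.Perm (Fin 840) => E (p (E.symm ((1 : G) : G ⧸ H)))) (ψ.mem_ker.1 hx)
    simp only [hψ, Equiv.apply_symm_apply, Equiv.Perm.one_apply, MulAction.Quotient.smul_coe, smul_eq_mul,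
      mul_one] at h1
    rw [QuotientGroup.eq, mul_one] at h1
    exact H.inv_mem_iff.1 h1
  exact ⟨(MonoidHom.ofInjective ((MonoidHom.ker_eq_bot_iff ψ).1 hker)).trans (MulEquiv.subgroupCongr hrange)⟩

end Cfsg.Agent.Lie.J2Unique
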