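import Mathlib
import Cfsg.Agent.Lib.Lie.J2Unique.Commutator
import Cfsg.Agent.Lib.Lie.J2Unique.Table

/-!
Groups of Hall–Janko type: the relations of the presentation hold.
-/

set_option autoImplicit false
set_option maxRecDepth 20000
set_option linter.style.haveILetI false
set_option linter.unusedSectionVars false

namespace Cfsg.Agent.Lie.J2Unique

open Equiv HJType
open Cfsg.Agent.Lead.JankoOne

universe u

variable {G : Type u} [Group G] [Finite G] {z t : G} {Q : Subgroup G} {S : Setup z t} (L : Letters S)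

/-- the letters in the centraliser -/
def Letters.gc (x : ℕ) : S.C := [L.w, 1, L.q, L.q⁻¹, L.r, L.r⁻¹].getD x 1

/-- all the letters -/
def Letters.g (x : ℕ) : G :=
  [(L.w : G), t, L.q, (L.q : G)⁻¹, L.r, (L.r : G)⁻¹, 1, 1, L.a, (L.a : G)⁻¹, 1, 1, 1].getD x 1

theorem Letters.g_gc : ∀ x ∈ [0, 2, 3, 4, 5], L.g x = (L.gc x : G) := by
  simp [Letters.g, Letters.gc]

theorem Letters.pi_gc : ∀ x, S.π (L.gc x) = pg x
  | 0 => L.πw
  | 1 => map_one _
  | 2 => L.πq
  | 3 => by show S.π (L.q⁻¹) = qp⁻¹; rw [map_inv, L.πq]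
  | 4 => L.πr
  | 5 => by show S.π (L.r⁻¹) = rp⁻¹; rw [map_inv, L.πr]
  | _ + 6 => map_one _

theorem Letters.word_cast (w : List ℕ) (hw : ∀ x ∈ w, x ∈ [0, 2, 3, 4, 5]) :
    (w.map L.g).prod = ((w.map L.gc).prod : S.C) := by
  induction w with
  | nil => rfl
  | cons x w ih =>
    rw [List.map_cons, List.prod_cons, List.map_cons, List.prod_cons, Subgroup.coe_mul,
      ih fun y hy => hw y (List.mem_cons_of_mem _ hy), L.g_gc x (hw x List.mem_cons_self)]

theorem Letters.word_pi (w : List ℕ) : S.π (w.map L.gc).prod = (w.map pg).prod := by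
  rw [map_list_prod, List.map_map]
  exact congrArg List.prod (List.map_congr_left fun x _ => L.pi_gc x)

theorem Letters.word_L (w : List ℕ) (hw : ∀ x ∈ w, x ∈ [2, 3, 4, 5]) : ((w.map L.gc).prod : G) ∈ S.L := by
  induction w with
  | nil => exact S.L.one_mem
  | cons x w ih =>
    rw [List.map_cons, List.prod_cons]
    refine S.L.mul_mem ?_ (ih fun y hy => hw y (List.mem_cons_of_mem _ hy))
    have hx := hw x List.mem_cons_self
    simp only [List.mem_cons, List.not_mem_nil, or_false] at hx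
    rcases hx with rfl | rfl | rfl | rfl
    exacts [L.qL, S.L.inv_mem L.qL, L.rL, S.L.inv_mem L.rL]

/-- relators in the letters of the complement -/
theorem Letters.rel_L (w : List ℕ) (hw : w.all fun x => [2, 3, 4, 5].contains x) (hp : (w.map pg).prod = 1) :
    (w.map L.g).prod = 1 := by
  have hw' : ∀ x ∈ w, x ∈ [2, 3, 4, 5] := fun x hx => List.contains_iff_mem.1 (List.all_eq_true.1 hw x hx)
  rw [L.word_cast w fun x hx => List.mem_cons_of_mem _ (hw' x hx),
    S.L_one (L.word_L w hw') (by rw [L.word_pi, hp]), Subgroup.coe_one]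

/-- relators that are cubes -/
theorem Letters.rel_cube (w : List ℕ) (hw : w.all fun x => [0, 2, 3, 4, 5].contains x) (hp : (w.map pg).prod = 1) :
    ((w ++ w ++ w).map L.g).prod = 1 := by
  have hw' : ∀ x ∈ w, x ∈ [0, 2, 3, 4, 5] := fun x hx => List.contains_iff_mem.1 (List.all_eq_true.1 hw x hx)
  rw [List.map_append, List.map_append, List.prod_append, List.prod_append, L.word_cast w hw', ← sq, ← pow_succ]
  exact S.cube ((S.ker _).1 (by rw [L.word_pi, hp]))

/-- relators comparing a conjugate with an element of the complement -/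
theorem Letters.rel_conj (u u' l m : List ℕ) (hu : u.all fun x => [0, 2, 3, 4, 5].contains x)
    (hu' : u'.all fun x => [0, 2, 3, 4, 5].contains x) (hl : l.all fun x => [2, 3, 4, 5].contains x)
    (hm : m.all fun x => [2, 3, 4, 5].contains x) (hinv : (u.map L.gc).prod * (u'.map L.gc).prod = 1)
    (hp : ((u ++ l ++ u' ++ m).map pg).prod = 1) (hl10 : (l.map pg).prod ^ 10 = 1)
    (hm10 : (m.map pg).prod ^ 10 = 1) : ((u ++ l ++ u' ++ m).map L.g).prod = 1 := by
  have c5 : ∀ {w : List ℕ}, (w.all fun x => [0, 2, 3, 4, 5].contains x) → ∀ x ∈ w, x ∈ [0, 2, 3, 4, 5] :=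
    fun hw x hx => List.contains_iff_mem.1 (List.all_eq_true.1 hw x hx)
  have c4 : ∀ {w : List ℕ}, (w.all fun x => [2, 3, 4, 5].contains x) → ∀ x ∈ w, x ∈ [2, 3, 4, 5] :=
    fun hw x hx => List.contains_iff_mem.1 (List.all_eq_true.1 hw x hx)
  have hall : ∀ x ∈ u ++ l ++ u' ++ m, x ∈ [0, 2, 3, 4, 5] := fun x hx => by
    simp only [List.mem_append] at hx
    rcases hx with ((h | h) | h) | h
    exacts [c5 hu x h, List.mem_cons_of_mem _ (c4 hl x h), c5 hu' x h, List.mem_cons_of_mem _ (c4 hm x h)]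
  rw [L.word_cast _ hall]
  refine congrArg Subtype.val (?_ : ((u ++ l ++ u' ++ m).map L.gc).prod = 1)
  simp only [List.map_append, List.prod_append]
  have ten : ∀ {w : List ℕ}, (∀ x ∈ w, x ∈ [2, 3, 4, 5]) → (w.map pg).prod ^ 10 = 1 → (w.map L.gc).prod ^ 10 = 1 :=
    fun {w} hw hw10 => S.L_one (S.L.pow_mem (L.word_L w hw) 10) (by rw [map_pow, L.word_pi, hw10])
  have hinv' := inv_eq_of_mul_eq_one_right hinv
  rw [← hinv']
  refine mul_eq_one_iff_eq_inv.2 (S.same ?_ ?_ ?_)
  · have := hp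
    rw [← L.word_pi, List.map_append, List.map_append, List.map_append, List.prod_append, List.prod_append,
      List.prod_append, ← hinv', map_mul] at this
    rw [map_inv]
    exact mul_eq_one_iff_eq_inv.1 this
  · rw [conj_pow, ten (c4 hl) hl10, mul_one, mul_inv_cancel]
  · rw [inv_pow, ten (c4 hm) hm10, inv_one]

/-- expanded words in `a` and `t` -/
theorem Letters.a_facts (h : Hyp z Q) : (L.w : G)⁻¹ = L.w ∧ (L.a : G) = L.w * L.q * L.w * L.q ∧
    (L.a : G) * L.w * (L.a : G)⁻¹ * (L.w : G)⁻¹ = 1 ∧ (L.a : G) * L.q * (L.a : G)⁻¹ * (L.q : G)⁻¹ = 1 ∧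
    (L.a : G) * L.r * (L.a : G)⁻¹ * (L.r : G)⁻¹ = 1 ∧ (L.a : G) * L.a * L.a = 1 ∧
    t * L.a * (t * L.a) * (t * L.a) = 1 := by
  have hc : ∀ c : S.C, (L.a : G) * c * (L.a : G)⁻¹ * (c : G)⁻¹ = 1 := fun c => by
    rw [show (L.a : G) * c = c * L.a from congrArg Subtype.val (L.a_comm c).eq, mul_inv_cancel_right,
      mul_inv_cancel]
  refine ⟨congrArg Subtype.val L.w_inv, rfl, hc _, hc _, hc _, ?_, L.va_cube h S.tV S.t_ne⟩
  rw [← sq, ← pow_succ]
  exact congrArg Subtype.val L.a3

theorem Letters.g_inv : ∀ x < 13, L.g (Coset.bar x) = (L.g x)⁻¹ := by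
  intro x hx
  have h1 : (L.w : G)⁻¹ = L.w := congrArg Subtype.val L.w_inv
  have h2 : t⁻¹ = t := inv_eq_of_mul_eq_one_right S.tt
  interval_cases x <;> simp [Letters.g, Coset.bar, h1, h2]

theorem Letters.inv_ok : ((([0] : List ℕ).map L.gc).prod * (([0] : List ℕ).map L.gc).prod = 1) ∧
    ((([0, 4, 0] : List ℕ).map L.gc).prod * (([0, 5, 0] : List ℕ).map L.gc).prod = 1) := by
  simp only [List.map_cons, List.map_nil, List.prod_cons, List.prod_nil, mul_one]
  show (L.w * L.w = 1) ∧ (L.w * (L.r * L.w) * (L.w * (L.r⁻¹ * L.w)) = 1)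
  refine ⟨L.ww, ?_⟩
  calc L.w * (L.r * L.w) * (L.w * (L.r⁻¹ * L.w)) = L.w * L.r * (L.w * L.w) * L.r⁻¹ * L.w := by group
    _ = 1 := by rw [L.ww, mul_one, mul_inv_cancel_right, L.ww]

theorem Letters.rel_commutator (h : Hyp z Q) :
    ([1, 0, 1, 0, 1, 0, 1, 0, 5, 2, 5, 5, 3].map L.g).prod = 1 := by
  have h1 := L.commutator_eq h
  have h2 : (([5, 2, 5, 5, 3] : List ℕ).map L.g).prod = L.alpha := by
    simp [Letters.g, Letters.alpha, mul_assoc]
  have h3 : L.alpha * L.alpha = 1 := S.L_one (S.L.mul_mem L.alpha_mem L.alpha_mem) (by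
    rw [map_mul, L.alpha_pi, perm_facts.2.2.2.2.2.2.2.2.2.2.2.2.2.2.1])
  rw [show ([1, 0, 1, 0, 1, 0, 1, 0, 5, 2, 5, 5, 3] : List ℕ) = [1, 0, 1, 0, 1, 0, 1, 0] ++ [5, 2, 5, 5, 3]
    from rfl, List.map_append, List.prod_append, h2,
    show (([1, 0, 1, 0, 1, 0, 1, 0] : List ℕ).map L.g).prod = (L.alpha : G) by
      rw [← h1]; simp [Letters.g, mul_assoc]]
  exact congrArg Subtype.val h3

theorem Letters.rels_hold (h : Hyp z Q) : ∀ r ∈ rels, (r.map L.g).prod = 1 := by
  intro r hr
  obtain ⟨hwi, ha, caw, caq, car, haaa, hva⟩ := L.a_facts h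
  have hti : t⁻¹ = t := inv_eq_of_mul_eq_one_right S.tt
  have hvq := (S.V_comm S.tV L.qL).eq
  have hvr := (S.V_comm S.tV L.rL).eq
  have hww : (L.w : G) * L.w = 1 := congrArg Subtype.val L.ww
  simp only [rels, List.mem_cons, List.not_mem_nil, or_false] at hr
  rcases hr with rfl | rfl | rfl | rfl | rfl | rfl | rfl | rfl | rfl | rfl | rfl | rfl | rfl | rfl | rfl | rfl |
    rfl | rfl | rfl | rfl | rfl | rfl | rfl | rfl | rfl | rfl | rfl | rfl | rfl | rfl | rfl | rfl | rfl | rfl | rfl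
  · simpa [Letters.g] using hww
  · simpa [Letters.g] using S.tt
  · exact L.rel_L _ (by decide) (by decide +kernel)
  · exact L.rel_L _ (by decide) (by decide +kernel)
  · exact L.rel_L _ (by decide) (by decide +kernel)
  · rw [ha] at caw
    simpa [Letters.g, mul_inv_rev, mul_assoc, hwi] using caw
  · rw [ha] at caq
    simpa [Letters.g, mul_inv_rev, mul_assoc, hwi] using caq
  · rw [ha] at car
    simpa [Letters.g, mul_inv_rev, mul_assoc, hwi] using car
  · rw [ha] at haaa
    simpa [Letters.g, mul_assoc] using haaa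
  · exact L.rel_conj [0] [0] [4, 3, 5, 5] [3, 4, 4, 3, 4, 3] (by decide) (by decide) (by decide) (by decide)
      L.inv_ok.1 (by decide +kernel) (by decide +kernel) (by decide +kernel)
  · exact L.rel_conj [0] [0] [2, 4, 4, 3, 4] [5, 2, 5, 5, 3] (by decide) (by decide) (by decide) (by decide)
      L.inv_ok.1 (by decide +kernel) (by decide +kernel) (by decide +kernel)
  · exact L.rel_conj [0] [0] [2, 5, 2, 5, 5, 2] [4, 4, 2, 5] (by decide) (by decide) (by decide) (by decide)
      L.inv_ok.1 (by decide +kernel) (by decide +kernel) (by decide +kernel)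
  · exact L.rel_conj [0, 4, 0] [0, 5, 0] [3, 5] [5, 3] (by decide) (by decide) (by decide) (by decide)
      L.inv_ok.2 (by decide +kernel) (by decide +kernel) (by decide +kernel)
  · exact L.rel_conj [0, 4, 0] [0, 5, 0] [2, 4, 4, 3, 4, 4, 3] [5, 5, 2, 5, 5, 2, 5] (by decide) (by decide)
      (by decide) (by decide) L.inv_ok.2 (by decide +kernel) (by decide +kernel) (by decide +kernel)
  · exact L.rel_conj [0, 4, 0] [0, 5, 0] [4, 4, 3, 4, 4, 3, 4] [4, 3, 4, 4, 3, 4, 3] (by decide) (by decide)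
      (by decide) (by decide) L.inv_ok.2 (by decide +kernel) (by decide +kernel) (by decide +kernel)
  · exact L.rel_cube [2, 4, 0, 5, 2, 0, 4, 0] (by decide) (by decide +kernel)
  · simp [Letters.g, hti]
    rw [← mul_assoc, ← mul_assoc, hvq]
    simp [mul_assoc, S.tt]
  · simp [Letters.g, hti]
    rw [← mul_assoc, ← mul_assoc, hvr]
    simp [mul_assoc, S.tt]
  · rw [ha] at hva
    simpa [Letters.g, mul_assoc] using hva
  · exact L.rel_commutator h
  · simp [Letters.g, ha, mul_assoc, mul_inv_rev]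
  · simpa [Letters.g, mul_assoc] using haaa
  · simpa [Letters.g, mul_assoc, hwi] using caw
  · simpa [Letters.g, mul_assoc] using caq
  · simpa [Letters.g, mul_assoc] using car
  · simpa [Letters.g, mul_assoc] using hva
  · simp
  · simpa [Letters.g] using hww
  · simpa [Letters.g] using S.tt
  all_goals simp [Letters.g]

end Cfsg.Agent.Lie.J2Unique
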