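import Mathlib
import Cfsg.Agent.Lib.Lie.J2Unique.Relations
import Cfsg.Agent.Lib.Lie.HJType.ThreeClasses

/-!
Groups of Hall–Janko type are given by the table.
-/

set_option autoImplicit false
set_option linter.style.haveILetI false
set_option linter.unusedSectionVars false

namespace Cfsg.Agent.Lie.J2Unique

open Equiv HJType

universe u

local notation "A5" => alternatingGroup (Fin 5)

variable {G : Type u} [Group G] [Finite G] {z t : G} {Q : Subgroup G} {S : Setup z t} (L : Letters S)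

theorem Letters.gen (h : Hyp z Q) :
    Subgroup.normalizer (S.V : Set G) ≤ Subgroup.closure {x | ∃ k ∈ [1, 2, 4, 8], L.g k = x} := by
  classical
  haveI : Fact (Nat.Prime 3) := ⟨Nat.prime_three⟩
  haveI : Fact (Nat.Prime 5) := ⟨by norm_num⟩
  set D := Subgroup.closure {x | ∃ k ∈ [1, 2, 4, 8], L.g k = x} with hD
  have hmem : ∀ k ∈ [1, 2, 4, 8], L.g k ∈ D := fun k hk => Subgroup.subset_closure ⟨k, hk, rfl⟩
  have htD : t ∈ D := hmem 1 (by simp)
  have hqD : (L.q : G) ∈ D := hmem 2 (by simp)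
  have hrD : (L.r : G) ∈ D := hmem 4 (by simp)
  have haD : (L.a : G) ∈ D := hmem 8 (by simp)
  obtain ⟨hv2, -, hall⟩ := L.triangle h S.tV S.t_ne
  have hVD : S.V ≤ D := fun v hv => by
    have h2 := D.mul_mem (D.mul_mem haD htD) (D.inv_mem haD)
    rcases hall v hv with rfl | rfl | rfl | rfl
    exacts [D.one_mem, htD, h2, D.mul_mem (D.mul_mem haD h2) (D.inv_mem haD)]
  have ha0D : Subgroup.zpowers S.a0 ≤ D := L.a_gen h ▸ Subgroup.zpowers_le.2 haD
  have hKD : S.K0 ≤ D := by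
    intro k hk
    have h3 : 3 ∣ Nat.card (D ⊓ S.K0 : Subgroup G) := by
      have := Subgroup.card_dvd_of_le (show Subgroup.zpowers S.a0 ≤ D ⊓ S.K0 from
        le_inf ha0D (Subgroup.zpowers_le.2 S.aK))
      rwa [Nat.card_zpowers, show orderOf S.a0 = 3 from S.xa.1] at this
    have h4 : 4 ∣ Nat.card (D ⊓ S.K0 : Subgroup G) := by
      have := Subgroup.card_dvd_of_le (show S.V ≤ D ⊓ S.K0 from le_inf hVD S.VK)
      rwa [S.hV4] at this
    have h12 : 12 ∣ Nat.card (D ⊓ S.K0 : Subgroup G) := Nat.Coprime.mul_dvd_of_dvd_of_dvd (by norm_num : Nat.Coprime 3 4) h3 h4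
    have := Subgroup.eq_of_le_of_card_ge (inf_le_right : D ⊓ S.K0 ≤ S.K0)
      (by rw [S.K12]; exact Nat.le_of_dvd Nat.card_pos h12)
    exact (this.ge hk).1
  have hLD : S.L ≤ D := by
    set M := D.subgroupOf S.L with hM
    haveI : IsSimpleGroup A5 := alternatingGroup.isSimpleGroup (by rw [Nat.card_fin])
    haveI : IsSimpleGroup S.L := S.e.isSimpleGroup
    have hord : ∀ {y : S.C} {σ : Perm (Fin 6)} (p : ℕ) [Fact p.Prime] (hy : (y : G) ∈ S.L), (y : G) ∈ D →
        S.π y = σ → σ ≠ 1 → σ ^ p = 1 → p ∣ Nat.card M := by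
      intro y σ p _ hy hyD hπ hσ hσp
      have hyp : y ^ p = 1 := S.L_one (S.L.pow_mem hy p) (by rw [map_pow, hπ, hσp])
      have ho : orderOf (⟨⟨(y : G), hy⟩, hyD⟩ : M) = p := by
        refine orderOf_eq_prime (Subtype.ext (Subtype.ext (congrArg Subtype.val hyp :))) fun e => hσ ?_
        rw [← hπ, show y = 1 from Subtype.ext (congrArg (fun x : M => ((x : S.L) : G)) e :), map_one]
      exact ho ▸ orderOf_dvd_natCard _
    haveI : Fact (Nat.Prime 2) := ⟨Nat.prime_two⟩
    obtain ⟨-, -, -, -, -, -, hq1, hq3, hr1, hr5, hqr1, hqr2, -⟩ := perm_facts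
    have e3 := hord 3 L.qL hqD L.πq hq1 (by rw [pow_succ, sq, hq3])
    have e5 := hord 5 L.rL hrD L.πr hr1 hr5
    have e2 := hord (y := L.q * L.r) 2 (S.L.mul_mem L.qL L.rL) (D.mul_mem hqD hrD)
      (by rw [map_mul, L.πq, L.πr]) hqr1 hqr2
    have h30 : 30 ∣ Nat.card M := Nat.Coprime.mul_dvd_of_dvd_of_dvd (by norm_num : Nat.Coprime 6 5)
      (Nat.Coprime.mul_dvd_of_dvd_of_dvd (by norm_num : Nat.Coprime 2 3) e2 e3) e5
    have h60 : Nat.card S.L = 60 := by
      rw [Nat.card_congr S.e.toEquiv, nat_card_alternatingGroup, Nat.card_fin]; rfl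
    have e1 := M.card_mul_index
    rw [h60] at e1
    obtain ⟨k, hk⟩ := h30
    have hcases : M.index = 1 ∨ M.index = 2 := by
      rw [hk] at e1
      have h2 : k * M.index = 2 := by nlinarith
      exact (Nat.dvd_prime Nat.prime_two).1 ⟨k, by rw [mul_comm, h2]⟩
    rcases hcases with e | e
    · exact Subgroup.subgroupOf_eq_top.1 (Subgroup.index_eq_one.1 e)
    · exfalso
      rcases (Subgroup.normal_of_index_eq_two e).eq_bot_or_eq_top with hb | ht
      · rw [hb, Subgroup.index_bot, h60] at e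
        norm_num at e
      · rw [ht, Subgroup.index_top] at e
        norm_num at e
  intro x hx
  obtain ⟨k, hk, l, hl, rfl⟩ := S.decomp x hx
  exact D.mul_mem (hKD hk) (hLD hl)

include L in
theorem Letters.core (h : Hyp z Q) :
    ∀ M : Subgroup G, M.Normal → M ≤ Subgroup.normalizer (S.V : Set G) → M = ⊥ := by
  classical
  intro M hMn hMN
  haveI : IsSimpleGroup A5 := alternatingGroup.isSimpleGroup (by rw [Nat.card_fin])
  haveI : IsSimpleGroup S.L := S.e.isSimpleGroup
  have hn : (M.subgroupOf S.L).Normal := Subgroup.Normal.subgroupOf hMn _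
  rcases hn.eq_bot_or_eq_top with hb | ht
  swap
  · exfalso
    have hLM : S.L ≤ M := Subgroup.subgroupOf_eq_top.1 ht
    have hc := hMN (hMn.conj_mem _ (hLM L.rL) (L.w : G))
    rw [show (L.w : G)⁻¹ = L.w from congrArg Subtype.val L.w_inv] at hc
    have h5 := S.norm_fix (c := L.w * L.r * L.w) hc
    rw [map_mul, map_mul, L.πw, L.πr] at h5
    exact perm_facts.2.2.2.2.2.1 h5
  rw [Subgroup.eq_bot_iff_forall]
  intro m hm
  by_contra hm1
  have hML : ∀ {x : G}, x ∈ M → x ∈ S.L → x = 1 := fun {x} hx hxL => by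
    have h' : (⟨x, hxL⟩ : S.L) ∈ M.subgroupOf S.L := hx
    rw [hb, Subgroup.mem_bot] at h'
    exact congrArg Subtype.val h'
  have hMK : ∀ {x : G}, x ∈ M → x ∈ S.K0 := fun {x} hx => by
    obtain ⟨k, hk, l, hl, hkl⟩ := S.decomp x (hMN hx)
    have hl1 : l = 1 := eq_one_of_central S.internal S.e hl fun y hy => by
      have hc : x * y * x⁻¹ * y⁻¹ = 1 := by
        refine hML (by rw [mul_assoc, mul_assoc]; exact M.mul_mem hx (by
          rw [← mul_assoc]; exact hMn.conj_mem _ (M.inv_mem hx) y)) ?_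
        rw [← hkl, show k * l * y * (k * l)⁻¹ * y⁻¹ = k * (l * y * l⁻¹) * k⁻¹ * y⁻¹ by group,
          (S.K0L k hk _ (S.L.mul_mem (S.L.mul_mem hl hy) (S.L.inv_mem hl))).eq, mul_inv_cancel_right]
        exact S.L.mul_mem (S.L.mul_mem (S.L.mul_mem hl hy) (S.L.inv_mem hl)) (S.L.inv_mem hy)
      have hxy : Commute x y := mul_inv_eq_iff_eq_mul.1 (mul_inv_eq_one.1 hc)
      have hl' : l = k⁻¹ * x := by rw [← hkl, inv_mul_cancel_left]
      rw [hl']
      exact (S.K0L k hk y hy).inv_left.mul_left hxy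
    rw [hl1, mul_one] at hkl
    exact hkl ▸ hk
  obtain ⟨hv2, -, hall⟩ := L.triangle h S.tV S.t_ne
  -- some involution of the four-group lies in `M`
  obtain ⟨u, huV, hu1, huM⟩ : ∃ u ∈ S.V, u ≠ 1 ∧ u ∈ M := by
    by_cases hmV : m ∈ S.V
    · exact ⟨m, hmV, hm1, hm⟩
    refine ⟨m * t * m⁻¹ * t⁻¹, S.V.mul_mem (S.conj_mem_V (S.K0N (hMK hm)) S.tV) (S.V.inv_mem S.tV), fun e => ?_, ?_⟩
    · exact hmV (cent_factor S.internal S.e (mem_cent.2 (mul_inv_eq_iff_eq_mul.1 (mul_inv_eq_one.1 e)))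
        fun l hl => S.K0L m (hMK hm) l hl)
    · rw [mul_assoc, mul_assoc, ← mul_assoc t]
      exact M.mul_mem hm (hMn.conj_mem _ (M.inv_mem hm) t)
  have hVM : S.V ≤ M := by
    obtain ⟨-, -, hall'⟩ := L.triangle h huV hu1
    intro v hv
    have h2 := hMn.conj_mem _ huM (L.a : G)
    rcases hall' v hv with rfl | rfl | rfl | rfl
    exacts [M.one_mem, huM, h2, hMn.conj_mem _ h2 _]
  refine L.w_out (mem_normalizer_of_le fun v hv => S.sqV _ (hMK (hMn.conj_mem _ (hVM hv) _)) ?_)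
  rw [conj_mul, S.hV2 v hv, mul_one, mul_inv_cancel]

theorem exists_amalgam (h : Hyp z Q) : ∃ (H : Subgroup G) (g : ℕ → G), Amalgam H g := by
  obtain ⟨t, ⟨S⟩⟩ := exists_setup h
  obtain ⟨L⟩ := exists_letters S
  refine ⟨Subgroup.normalizer (S.V : Set G), L.g, ⟨L.g_inv, rfl, L.rels_hold h, ?_, L.w_out, L.gen h, ?_, L.core h⟩⟩
  · intro x hx
    simp only [List.mem_cons, List.not_mem_nil, or_false] at hx
    rcases hx with rfl | rfl | rfl | rfl
    · exact Subgroup.le_normalizer S.tV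
    · exact S.LN L.qL
    · exact S.LN L.rL
    · exact S.K0N L.a_K
  · have := (Subgroup.normalizer (S.V : Set G)).card_mul_index
    rw [S.K_index, order_eq h] at this
    omega

/-- every group of Hall–Janko type is given by the table -/
theorem iso_of_hyp (h : Hyp z Q) : Nonempty (G ≃* tableGroup) := by
  obtain ⟨H, g, A⟩ := exists_amalgam h
  exact A.nonempty_table

end Cfsg.Agent.Lie.J2Unique
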