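import Cfsg.Agent.Lib.Lead.JankoOne.Coset.Engine

/-!
Generated certificate: the coset table of the Hall-Janko group on the cosets of `A4 × A5`.
The log of the enumeration.
-/

set_option autoImplicit false
set_option maxRecDepth 100000
set_option maxHeartbeats 0

namespace Cfsg.Agent.Lie.J2Unique

open Cfsg.Agent.Lead.JankoOne.Coset

def fact0 : Arr (CFact) :=
  (.node (.node (.node (.node (.node (.node (.node (.node (.leaf ⟨0, 1, 0, 1, []⟩) (.leaf ⟨1053, 3, 1077, 17, [7891, 6716, 6719, 6720, 6727, 6667, 2812, 6752, 8188]⟩)) (.node (.leaf ⟨625, 8, 656, 40, [3944, 4094]⟩) (.leaf ⟨0, 12, 0, 0, []⟩))) (.node (.node (.leaf ⟨191, 4, 304, 24, [1159, 1178, 2044]⟩) (.leaf ⟨0, 12, 0, 0, []⟩)) (.node (.leaf ⟨548, 12, 845, 35, [3541, 6115, 5098]⟩) (.leaf ⟨0, 12, 0, 0, []⟩)))) (.node (.node (.node (.leaf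 ⟨140, 2, 172, 63, [827, 862, 1022]⟩) (.leaf ⟨667, 4, 978, 75, [6407, 7058]⟩)) (.node (.leaf ⟨801, 3, 848, 30, [4869, 4895, 5116]⟩) (.leaf ⟨0, 12, 0, 0, []⟩))) (.node (.node (.leaf ⟨408, 2, 465, 29, [2729, 1404, 1117, 384, 1101, 1110, 2496, 2489, 3070]⟩) (.leaf ⟨0, 12, 0, 0, []⟩)) (.node (.leaf ⟨503, 0, 989, 42, [6250, 7000, 7012, 5339, 4477, 6980, 6981, 6980, 7166]⟩) (.leaf ⟨0, 12, 0, 0, []⟩))))) (.node (.node (.node (.node (.leaf ⟨86, 1, 86, 11, [511, 507, 510]⟩) (.leaf ⟨141, 0, 135, 77, [1671, 1081]⟩)) (.node (.leaf ⟨525, 8, 753, 62, [3420, 3427, 3381, 2998, 4606]⟩) (.leaf ⟨0, 12, 0, 0, []⟩))) (.node (.node (.leaf ⟨356, 2, 379, 63, [2365, 2309, 2558]⟩) (.leaf ⟨0, 12, 0, 0, []⟩)) (.node (.leaf ⟨940, 8, 941, 0, []⟩) (.leaf ⟨0, 12, 0, 0, []⟩)))) (.node (.node (.node (.leaf ⟨255, 1, 256, 0,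 []⟩) (.leaf ⟨0, 12, 0, 0, []⟩)) (.node (.leaf ⟨621, 12, 611, 34, [5631]⟩) (.leaf ⟨0, 12, 0, 0, []⟩))) (.node (.node (.leaf ⟨537, 8, 555, 3, [3491, 3182, 3580]⟩) (.leaf ⟨0, 12, 0, 0, []⟩)) (.node (.leaf ⟨859, 1, 1033, 11, [5167, 5896, 7620, 7676]⟩) (.leaf ⟨0, 12, 0, 0, []⟩)))))) (.node (.node (.node (.node (.node (.leaf ⟨39, 4, 14, 6, [253, 249, 241]⟩) (.leaf ⟨1092, 4, 1101, 24, [8365, 8086, 8442]⟩)) (.node (.leaf ⟨700, 8, 704, 40, [4328, 4350]⟩) (.leaf ⟨0, 12, 0, 0, []⟩))) (.node (.node (.leaf ⟨346, 2, 216, 29, [2301, 825, 886, 1002, 1005, 924, 1333, 1331, 1324]⟩) (.leaf ⟨0, 12, 0, 0, []⟩)) (.node (.leaf ⟨697, 12, 695, 34, [6399]⟩) (.leaf ⟨0, 12, 0, 0, []⟩)))) (.node (.node (.node (.leaf ⟨141, 4, 209, 49, [831, 333, 425, 1279]⟩) (.leaf ⟨983, 2, 717, 38, [7117, 6284]⟩)) (.node (.leaf ⟨405,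 4, 901, 43, [5364, 5372, 5374]⟩) (.leaf ⟨0, 12, 0, 0, []⟩))) (.node (.node (.leaf ⟨509, 2, 510, 0, []⟩) (.leaf ⟨0, 12, 0, 0, []⟩)) (.node (.leaf ⟨832, 4, 1010, 9, [5015, 4738, 5262, 7310, 7309, 6904, 6907, 6626, 6786, 7322, 7420]⟩) (.leaf ⟨0, 12, 0, 0, []⟩))))) (.node (.node (.node (.node (.leaf ⟨51, 3, 131, 10, [319, 281, 142, 368, 367, 359, 163, 142, 324, 394, 766]⟩) (.leaf ⟨459, 0, 512, 77, [6243, 4333]⟩)) (.node (.leaf ⟨381, 4, 799, 43, [4848, 4860, 4862]⟩) (.leaf ⟨0, 12, 0, 0, []⟩))) (.node (.node (.leaf ⟨193, 4, 426, 43, [2806, 2812, 2814]⟩) (.leaf ⟨0, 12, 0, 0, []⟩)) (.node (.leaf ⟨959, 9, 966, 5, [6821, 4612, 6904]⟩) (.leaf ⟨0, 12, 0, 0, []⟩)))) (.node (.node (.node (.leaf ⟨98, 5, 269, 12, [601, 625, 1790]⟩) (.leaf ⟨0, 12, 0, 0, []⟩)) (.node (.leaf ⟨722, 12, 803, 38, [4700, 5887, 4879]⟩)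 (.leaf ⟨0, 12, 0, 0, []⟩))) (.node (.node (.leaf ⟨420, 1, 602, 11, [2787, 2810, 3838]⟩) (.leaf ⟨0, 12, 0, 0, []⟩)) (.node (.leaf ⟨1043, 0, 1057, 44, [7767, 6498, 6524, 6523, 6522, 6523, 3988, 3952, 7934]⟩) (.leaf ⟨0, 12, 0, 0, []⟩))))))) (.node (.node (.node (.node (.node (.node (.leaf ⟨10, 1, 22, 8, [57, 48, 126]⟩) (.leaf ⟨992, 8, 1089, 40, [7870, 8318]⟩)) (.node (.leaf ⟨324, 0, 682, 21, [4167, 4220, 4222]⟩) (.leaf ⟨0, 12, 0, 0, []⟩))) (.node (.node (.leaf ⟨289, 4, 328, 0, []⟩) (.leaf ⟨0, 12, 0, 0, []⟩)) (.node (.leaf ⟨890, 12, 340, 34, [6271]⟩) (.leaf ⟨0, 12, 0, 0, []⟩)))) (.node (.node (.node (.leaf ⟨75, 1, 190, 11, [437, 391, 1150]⟩) (.leaf ⟨775, 1, 675, 36, [4750, 5828]⟩)) (.node (.leaf ⟨873, 4, 875, 0, []⟩) (.leaf ⟨0, 12, 0, 0, []⟩))) (.node (.node (.leaf ⟨232, 0, 487, 21, [1858, 3196,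 3198]⟩) (.leaf ⟨0, 12, 0, 0, []⟩)) (.node (.leaf ⟨496, 5, 1001, 110, [6467, 6884, 6879, 5980, 4554, 6440, 6439, 3453, 7280, 7288, 7290]⟩) (.leaf ⟨0, 12, 0, 0, []⟩))))) (.node (.node (.node (.node (.leaf ⟨101, 3, 108, 17, [611, 455, 177, 51, 46, 176, 454, 610, 638]⟩) (.leaf ⟨376, 4, 486, 75, [4646, 6078]⟩)) (.node (.leaf ⟨450, 8, 772, 40, [3002, 4734]⟩) (.leaf ⟨0, 12, 0, 0, []⟩))) (.node (.node (.leaf ⟨361, 4, 403, 0, []⟩) (.leaf ⟨0, 12, 0, 0, []⟩)) (.node (.leaf ⟨956, 4, 949, 24, [6783, 6717, 6711]⟩) (.leaf ⟨0, 12, 0, 0, []⟩)))) (.node (.node (.node (.leaf ⟨82, 12, 78, 77, [489, 1659, 611]⟩) (.leaf ⟨0, 12, 0, 0, []⟩)) (.node (.leaf ⟨779, 12, 653, 34, [5759]⟩) (.leaf ⟨0, 12, 0, 0, []⟩))) (.node (.node (.leaf ⟨577, 1, 578, 0, []⟩) (.leaf ⟨0, 12, 0, 0, []⟩)) (.node (.leaf ⟨1047, 0, 1047, 69,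 [7807, 7781, 7806]⟩) (.leaf ⟨0, 12, 0, 0, []⟩)))))) (.node (.node (.node (.node (.node (.leaf ⟨63, 2, 64, 0, []⟩) (.leaf ⟨1111, 2, 1112, 13, [8565, 8529, 8572]⟩)) (.node (.leaf ⟨345, 5, 730, 12, [2738, 3129, 4478]⟩) (.leaf ⟨0, 12, 0, 0, []⟩))) (.node (.node (.leaf ⟨164, 9, 363, 39, [965, 958, 2428]⟩) (.leaf ⟨0, 12, 0, 0, []⟩)) (.node (.leaf ⟨417, 2, 926, 0, []⟩) (.leaf ⟨0, 12, 0, 0, []⟩)))) (.node (.node (.node (.leaf ⟨223, 4, 230, 0, []⟩) (.leaf ⟨0, 12, 0, 0, []⟩)) (.node (.leaf ⟨588, 0, 604, 98, [3767, 2062, 2061, 700, 1168, 2794, 3832, 5500, 4123, 4093, 4142, 5486, 5485, 5465, 5492, 5494, 3791, 2096, 2091, 2049, 2708, 2754, 3848]⟩) (.leaf ⟨0, 12, 0, 0, []⟩))) (.node (.node (.leaf ⟨518, 2, 532, 0, []⟩) (.leaf ⟨0, 12, 0, 0, []⟩)) (.node (.leaf ⟨860, 2, 1021, 23, [7549, 4413, 4411, 7550]⟩)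 (.leaf ⟨0, 12, 0, 0, []⟩))))) (.node (.node (.node (.node (.leaf ⟨152, 9, 57, 4, [895, 875, 348]⟩) (.leaf ⟨570, 4, 569, 75, [3816, 5674]⟩)) (.node (.leaf ⟨814, 4, 828, 0, []⟩) (.leaf ⟨0, 12, 0, 0, []⟩))) (.node (.node (.leaf ⟨213, 5, 446, 28, [1303, 1826, 2940]⟩) (.leaf ⟨0, 12, 0, 0, []⟩)) (.node (.leaf ⟨504, 3, 976, 30, [3305, 6397, 5366, 7038]⟩) (.leaf ⟨0, 12, 0, 0, []⟩)))) (.node (.node (.node (.leaf ⟨125, 1, 288, 11, [729, 956, 1918]⟩) (.leaf ⟨0, 12, 0, 0, []⟩)) (.node (.leaf ⟨574, 2, 812, 47, [3703, 1977, 1863, 2368, 2365, 2333, 2331, 2324, 4508, 4518, 6012]⟩) (.leaf ⟨0, 12, 0, 0, []⟩))) (.node (.node (.leaf ⟨611, 1, 632, 11, [3885, 3789, 3966]⟩) (.leaf ⟨0, 12, 0, 0, []⟩)) (.node (.leaf ⟨987, 8, 1066, 48, [7161, 7674, 8062]⟩) (.leaf ⟨0, 12, 0, 0, []⟩)))))))) (.node (.node (.node (.node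 (.node (.node (.node (.leaf ⟨3, 0, 11, 0, []⟩) (.leaf ⟨1076, 4, 1082, 0, []⟩)) (.node (.leaf ⟨665, 2, 669, 0, []⟩) (.leaf ⟨0, 12, 0, 0, []⟩))) (.node (.node (.leaf ⟨316, 1, 317, 0, []⟩) (.leaf ⟨0, 12, 0, 0, []⟩)) (.node (.leaf ⟨478, 12, 410, 35, [3151, 6207, 5427]⟩) (.leaf ⟨0, 12, 0, 0, []⟩)))) (.node (.node (.node (.leaf ⟨62, 0, 181, 21, [796, 1080, 1086]⟩) (.leaf ⟨712, 4, 888, 75, [6277, 5310]⟩)) (.node (.leaf ⟨862, 2, 393, 50, [5183, 5177]⟩) (.leaf ⟨0, 12, 0, 0, []⟩))) (.node (.node (.leaf ⟨465, 4, 476, 0, []⟩) (.leaf ⟨0, 12, 0, 0, []⟩)) (.node (.leaf ⟨535, 5, 995, 12, [3554, 6119, 7222, 7228]⟩) (.leaf ⟨0, 12, 0, 0, []⟩))))) (.node (.node (.node (.node (.leaf ⟨43, 5, 93, 28, [289, 340, 572]⟩) (.leaf ⟨306, 4, 290, 75, [3660, 5670]⟩)) (.node (.leaf ⟨725, 2, 764, 0, []⟩) (.leaf ⟨0, 12, 0,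 0, []⟩))) (.node (.node (.leaf ⟨393, 1, 394, 0, []⟩) (.leaf ⟨0, 12, 0, 0, []⟩)) (.node (.leaf ⟨950, 2, 951, 0, []⟩) (.leaf ⟨0, 12, 0, 0, []⟩)))) (.node (.node (.node (.leaf ⟨238, 12, 77, 34, [1599]⟩) (.leaf ⟨0, 12, 0, 0, []⟩)) (.node (.leaf ⟨770, 0, 704, 101, [4709, 3344, 3343, 2259, 2740, 2743, 4324, 5688, 4393, 2449, 2271, 779, 1736, 3314, 4326, 5692, 4365, 4355, 2267, 1745, 1732, 2245, 4348]⟩) (.leaf ⟨0, 12, 0, 0, []⟩))) (.node (.node (.leaf ⟨565, 8, 521, 19, [3647, 3396]⟩) (.leaf ⟨0, 12, 0, 0, []⟩)) (.node (.leaf ⟨988, 9, 1041, 5, [7732, 7725, 7740]⟩) (.leaf ⟨0, 12, 0, 0, []⟩)))))) (.node (.node (.node (.node (.node (.leaf ⟨51, 9, 50, 4, [319, 287, 316]⟩) (.leaf ⟨1105, 5, 1106, 12, [8501, 8440, 8508]⟩)) (.node (.leaf ⟨715, 4, 717, 0, []⟩) (.leaf ⟨0, 12, 0, 0, []⟩))) (.node (.node (.leaf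 ⟨280, 2, 356, 18, [1864, 1833, 2367]⟩) (.leaf ⟨0, 12, 0, 0, []⟩)) (.node (.leaf ⟨912, 5, 750, 28, [5453, 6461, 4586]⟩) (.leaf ⟨0, 12, 0, 0, []⟩)))) (.node (.node (.node (.leaf ⟨75, 5, 220, 28, [439, 1279, 1342]⟩) (.leaf ⟨0, 12, 0, 0, []⟩)) (.node (.leaf ⟨604, 1, 911, 8, [3849, 3862, 5438]⟩) (.leaf ⟨0, 12, 0, 0, []⟩))) (.node (.node (.leaf ⟨266, 3, 520, 30, [1775, 1813, 3388]⟩) (.leaf ⟨0, 12, 0, 0, []⟩)) (.node (.leaf ⟨992, 2, 1016, 0, []⟩) (.leaf ⟨0, 12, 0, 0, []⟩))))) (.node (.node (.node (.node (.leaf ⟨100, 9, 141, 4, [609, 334, 830]⟩) (.leaf ⟨512, 0, 459, 77, [4332, 6242]⟩)) (.node (.leaf ⟨384, 5, 815, 12, [2585, 4844, 4926]⟩) (.leaf ⟨0, 12, 0, 0, []⟩))) (.node (.node (.leaf ⟨204, 4, 436, 43, [2870, 2876, 2878]⟩) (.leaf ⟨0, 12, 0, 0, []⟩)) (.node (.leaf ⟨503, 8, 971, 62, [3298, 3338, 3335,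 6958, 6966]⟩) (.leaf ⟨0, 12, 0, 0, []⟩)))) (.node (.node (.node (.leaf ⟨273, 5, 279, 59, [1816, 687, 665, 308, 676, 946, 949, 349, 344, 918, 1854]⟩) (.leaf ⟨0, 12, 0, 0, []⟩)) (.node (.leaf ⟨449, 12, 399, 36, [3380, 5951, 5243]⟩) (.leaf ⟨0, 12, 0, 0, []⟩))) (.node (.node (.leaf ⟨314, 5, 614, 12, [2105, 2103, 3902]⟩) (.leaf ⟨0, 12, 0, 0, []⟩)) (.node (.leaf ⟨842, 0, 1062, 0, []⟩) (.leaf ⟨0, 12, 0, 0, []⟩))))))) (.node (.node (.node (.node (.node (.node (.leaf ⟨23, 1, 34, 11, [137, 188, 190]⟩) (.leaf ⟨1054, 0, 1094, 0, []⟩)) (.node (.leaf ⟨359, 0, 691, 0, []⟩) (.leaf ⟨0, 12, 0, 0, []⟩))) (.node (.node (.leaf ⟨335, 9, 336, 0, []⟩) (.leaf ⟨0, 12, 0, 0, []⟩)) (.node (.leaf ⟨757, 1, 644, 91, [4637, 5987, 4955, 5052, 5178, 6326, 4022]⟩) (.leaf ⟨0, 12, 0, 0, []⟩)))) (.node (.node (.node (.leaf ⟨128,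 3, 200, 30, [786, 1090, 1210]⟩) (.leaf ⟨857, 4, 859, 75, [6331, 5206]⟩)) (.node (.leaf ⟨732, 0, 888, 96, [4495, 2304, 1325, 929, 914, 2374, 2420, 4638, 5310]⟩) (.leaf ⟨0, 12, 0, 0, []⟩))) (.node (.node (.leaf ⟨257, 9, 495, 4, [1721, 1890, 3258]⟩) (.leaf ⟨0, 12, 0, 0, []⟩)) (.node (.leaf ⟨1006, 0, 1006, 44, [7359, 7047, 6397, 5366, 5371, 5371, 5371, 5367, 6396, 7046, 7358]⟩) (.leaf ⟨0, 12, 0, 0, []⟩))))) (.node (.node (.node (.node (.leaf ⟨66, 3, 120, 10, [393, 151, 124, 119, 112, 183, 181, 122, 106, 316, 702]⟩) (.leaf ⟨401, 8, 712, 76, [4642, 6276]⟩)) (.node (.leaf ⟨762, 4, 786, 0, []⟩) (.leaf ⟨0, 12, 0, 0, []⟩))) (.node (.node (.leaf ⟨309, 2, 411, 26, [2079, 2078, 2079, 713, 1168, 2074, 2073, 1173, 2750]⟩) (.leaf ⟨0, 12, 0, 0, []⟩)) (.node (.leaf ⟨898, 9, 961, 4, [6244, 6824, 6838]⟩) (.leaf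 ⟨0, 12, 0, 0, []⟩)))) (.node (.node (.node (.leaf ⟨152, 1, 258, 8, [895, 1108, 1726]⟩) (.leaf ⟨0, 12, 0, 0, []⟩)) (.node (.leaf ⟨373, 12, 683, 74, [2524, 5823, 4231]⟩) (.leaf ⟨0, 12, 0, 0, []⟩))) (.node (.node (.leaf ⟨303, 5, 590, 57, [2041, 695, 411, 412, 672, 1980, 3726, 3723, 3772]⟩) (.leaf ⟨0, 12, 0, 0, []⟩)) (.node (.leaf ⟨763, 3, 1051, 30, [7496, 7489, 7870]⟩) (.leaf ⟨0, 12, 0, 0, []⟩)))))) (.node (.node (.node (.node (.node (.leaf ⟨76, 0, 76, 45, [443, 177, 49, 39, 34, 56, 63, 60, 215, 135, 48, 176, 442]⟩) (.leaf ⟨86, 0, 178, 77, [1502, 1710]⟩)) (.node (.leaf ⟨400, 9, 743, 5, [4516, 4515, 4540]⟩) (.leaf ⟨0, 12, 0, 0, []⟩))) (.node (.node (.leaf ⟨184, 5, 370, 28, [1107, 1132, 2492]⟩) (.leaf ⟨0, 12, 0, 0, []⟩)) (.node (.leaf ⟨927, 1, 934, 11, [6535, 6531, 6586]⟩) (.leaf ⟨0, 12, 0, 0,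 []⟩)))) (.node (.node (.node (.leaf ⟨233, 4, 241, 0, []⟩) (.leaf ⟨0, 12, 0, 0, []⟩)) (.node (.leaf ⟨625, 12, 302, 34, [5567]⟩) (.leaf ⟨0, 12, 0, 0, []⟩))) (.node (.node (.leaf ⟨542, 4, 544, 0, []⟩) (.leaf ⟨0, 12, 0, 0, []⟩)) (.node (.leaf ⟨570, 8, 1027, 62, [3679, 2092, 2108, 3976, 7612]⟩) (.leaf ⟨0, 12, 0, 0, []⟩))))) (.node (.node (.node (.node (.leaf ⟨152, 0, 163, 0, []⟩) (.leaf ⟨639, 8, 391, 76, [5773, 5126]⟩)) (.node (.leaf ⟨394, 4, 838, 0, []⟩) (.leaf ⟨0, 12, 0, 0, []⟩))) (.node (.node (.leaf ⟨301, 0, 457, 92, [2029, 1205, 1062, 793, 323, 332, 1581, 545, 261, 1655, 841, 434, 1328, 3006]⟩) (.leaf ⟨0, 12, 0, 0, []⟩)) (.node (.leaf ⟨635, 1, 982, 106, [6565, 5331, 7102]⟩) (.leaf ⟨0, 12, 0, 0, []⟩)))) (.node (.node (.node (.leaf ⟨212, 4, 296, 0, []⟩) (.leaf ⟨0, 12, 0, 0, []⟩)) (.node (.leaf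 ⟨547, 12, 389, 74, [3537, 6079, 4649]⟩) (.leaf ⟨0, 12, 0, 0, []⟩))) (.node (.node (.leaf ⟨631, 4, 646, 0, []⟩) (.leaf ⟨0, 12, 0, 0, []⟩)) (.node (.leaf ⟨1002, 8, 1071, 40, [7313, 8126]⟩) (.leaf ⟨0, 12, 0, 0, []⟩)))))))))

def fact1 : Arr (CFact) :=
  (.node (.node (.node (.node (.node (.node (.node (.node (.leaf ⟨0, 2, 0, 1, []⟩) (.leaf ⟨941, 0, 1077, 124, [6661, 6499, 7612, 7611, 7613, 6498, 6660, 6690, 6697, 6742, 6760, 8188]⟩)) (.node (.leaf ⟨320, 3, 656, 30, [2133, 3899, 4094]⟩) (.leaf ⟨0, 12, 0, 0, []⟩))) (.node (.node (.leaf ⟨122, 3, 304, 10, [719, 652, 408, 694, 696, 700, 389, 384, 1101, 1160, 2048]⟩) (.leaf ⟨0, 12, 0, 0, []⟩)) (.node (.leaf ⟨845, 12, 548, 34, [6145]⟩) (.leaf ⟨0, 12, 0, 0, []⟩)))) (.node (.node (.node (.leaf ⟨172, 1, 173, 0, []⟩) (.leaf ⟨669, 4, 665, 75, [4196, 5584]⟩))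 (.node (.leaf ⟨391, 8, 849, 0, []⟩) (.leaf ⟨0, 12, 0, 0, []⟩))) (.node (.node (.leaf ⟨227, 8, 465, 3, [1397, 1388, 3070]⟩) (.leaf ⟨0, 12, 0, 0, []⟩)) (.node (.leaf ⟨589, 4, 989, 9, [3769, 2129, 727, 714, 1794, 1872, 1867, 3108, 3600, 6986, 7166]⟩) (.leaf ⟨0, 12, 0, 0, []⟩))))) (.node (.node (.node (.node (.leaf ⟨86, 4, 39, 6, [511, 505, 481]⟩) (.leaf ⟨141, 2, 129, 38, [1028, 1566]⟩)) (.node (.leaf ⟨474, 2, 754, 0, []⟩) (.leaf ⟨0, 12, 0, 0, []⟩))) (.node (.node (.leaf ⟨379, 2, 280, 50, [2561, 2369]⟩) (.leaf ⟨0, 12, 0, 0, []⟩)) (.node (.leaf ⟨941, 8, 423, 19, [6657, 6653]⟩) (.leaf ⟨0, 12, 0, 0, []⟩)))) (.node (.node (.node (.leaf ⟨88, 4, 256, 43, [1528, 1534, 1536]⟩) (.leaf ⟨0, 12, 0, 0, []⟩)) (.node (.leaf ⟨593, 12, 620, 38, [3884, 5633, 3925]⟩) (.leaf ⟨0, 12, 0, 0, []⟩))) (.node (.node (.leaf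 ⟨538, 9, 555, 39, [3497, 3180, 3580]⟩) (.leaf ⟨0, 12, 0, 0, []⟩)) (.node (.leaf ⟨774, 9, 1033, 5, [4747, 7622, 7676]⟩) (.leaf ⟨0, 12, 0, 0, []⟩)))))) (.node (.node (.node (.node (.node (.leaf ⟨14, 4, 40, 0, []⟩) (.leaf ⟨1034, 3, 1101, 10, [7689, 7627, 7676, 8246, 8312, 8338, 8329, 7885, 8194, 8356, 8448]⟩)) (.node (.leaf ⟨339, 2, 705, 0, []⟩) (.leaf ⟨0, 12, 0, 0, []⟩))) (.node (.node (.leaf ⟨271, 1, 216, 11, [1902, 2302, 2304]⟩) (.leaf ⟨0, 12, 0, 0, []⟩)) (.node (.leaf ⟨335, 12, 909, 35, [4312, 6401, 5428]⟩) (.leaf ⟨0, 12, 0, 0, []⟩)))) (.node (.node (.node (.leaf ⟨95, 0, 210, 0, []⟩) (.leaf ⟨986, 4, 485, 75, [7149, 6262]⟩)) (.node (.leaf ⟨507, 9, 901, 4, [3317, 2702, 5376]⟩) (.leaf ⟨0, 12, 0, 0, []⟩))) (.node (.node (.leaf ⟨404, 1, 510, 11, [2701, 3326, 3328]⟩) (.leaf ⟨0, 12, 0, 0, []⟩))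 (.node (.leaf ⟨760, 5, 1010, 85, [4659, 2523, 5827, 4228, 6315, 3715, 2856, 5745, 3365, 6426, 3293, 6217, 7320, 7420]⟩) (.leaf ⟨0, 12, 0, 0, []⟩))))) (.node (.node (.node (.node (.leaf ⟨127, 8, 131, 54, [745, 321, 768]⟩) (.leaf ⟨459, 4, 336, 75, [6243, 4335]⟩)) (.node (.leaf ⟨759, 0, 800, 0, []⟩) (.leaf ⟨0, 12, 0, 0, []⟩))) (.node (.node (.leaf ⟨418, 9, 426, 4, [2781, 1166, 2816]⟩) (.leaf ⟨0, 12, 0, 0, []⟩)) (.node (.leaf ⟨788, 8, 966, 40, [6824, 6912]⟩) (.leaf ⟨0, 12, 0, 0, []⟩)))) (.node (.node (.node (.leaf ⟨121, 4, 269, 43, [711, 708, 1790]⟩) (.leaf ⟨0, 12, 0, 0, []⟩)) (.node (.leaf ⟨803, 12, 722, 34, [5889]⟩) (.leaf ⟨0, 12, 0, 0, []⟩))) (.node (.node (.leaf ⟨423, 3, 602, 7, [2807, 2794, 3840]⟩) (.leaf ⟨0, 12, 0, 0, []⟩)) (.node (.leaf ⟨983, 4, 1057, 86, [7120, 6773, 6770, 6344, 5193,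 5772, 4686, 7572, 7571, 6918, 6927, 7934]⟩) (.leaf ⟨0, 12, 0, 0, []⟩))))))) (.node (.node (.node (.node (.node (.node (.leaf ⟨22, 3, 22, 7, [129, 63, 128]⟩) (.leaf ⟨1073, 3, 1089, 30, [8143, 7872, 8318]⟩)) (.node (.leaf ⟨670, 2, 683, 0, []⟩) (.leaf ⟨0, 12, 0, 0, []⟩))) (.node (.node (.leaf ⟨310, 1, 328, 8, [2081, 1932, 2176]⟩) (.leaf ⟨0, 12, 0, 0, []⟩)) (.node (.leaf ⟨718, 12, 402, 35, [4421, 6273, 5325]⟩) (.leaf ⟨0, 12, 0, 0, []⟩)))) (.node (.node (.node (.leaf ⟨121, 3, 190, 7, [711, 707, 1152]⟩) (.leaf ⟨777, 1, 636, 36, [5068, 5876]⟩)) (.node (.leaf ⟨875, 1, 876, 0, []⟩) (.leaf ⟨0, 12, 0, 0, []⟩))) (.node (.node (.leaf ⟨277, 3, 487, 41, [1847, 1852, 1855, 2392, 2383, 1295, 1014, 1424, 3200]⟩) (.leaf ⟨0, 12, 0, 0, []⟩)) (.node (.leaf ⟨969, 8, 1001, 48, [6947, 3271, 7296]⟩) (.leaf ⟨0, 12,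 0, 0, []⟩))))) (.node (.node (.node (.node (.leaf ⟨93, 2, 109, 0, []⟩) (.leaf ⟨377, 4, 299, 75, [2896, 5704]⟩)) (.node (.leaf ⟨387, 2, 773, 0, []⟩) (.leaf ⟨0, 12, 0, 0, []⟩))) (.node (.node (.leaf ⟨223, 3, 403, 10, [1371, 1137, 1139, 1741, 2246, 2253, 1311, 924, 882, 2416, 2688]⟩) (.leaf ⟨0, 12, 0, 0, []⟩)) (.node (.leaf ⟨937, 2, 957, 0, []⟩) (.leaf ⟨0, 12, 0, 0, []⟩)))) (.node (.node (.node (.leaf ⟨109, 12, 88, 38, [644, 1665, 525]⟩) (.leaf ⟨0, 12, 0, 0, []⟩)) (.node (.leaf ⟨590, 12, 818, 74, [4078, 5761, 4947]⟩) (.leaf ⟨0, 12, 0, 0, []⟩))) (.node (.node (.leaf ⟨294, 4, 578, 43, [3704, 3710, 3712]⟩) (.leaf ⟨0, 12, 0, 0, []⟩)) (.node (.leaf ⟨1043, 4, 1047, 24, [7765, 7776, 7806]⟩) (.leaf ⟨0, 12, 0, 0, []⟩)))))) (.node (.node (.node (.node (.node (.leaf ⟨43, 1, 64, 11, [283, 382, 384]⟩) (.leaf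 ⟨1106, 5, 1112, 12, [8509, 8439, 8572]⟩)) (.node (.leaf ⟨454, 4, 731, 0, []⟩) (.leaf ⟨0, 12, 0, 0, []⟩))) (.node (.node (.leaf ⟨344, 8, 364, 0, []⟩) (.leaf ⟨0, 12, 0, 0, []⟩)) (.node (.leaf ⟨912, 1, 926, 11, [5447, 2779, 6528]⟩) (.leaf ⟨0, 12, 0, 0, []⟩)))) (.node (.node (.node (.leaf ⟨230, 9, 225, 4, [1409, 1372, 1386]⟩) (.leaf ⟨0, 12, 0, 0, []⟩)) (.node (.leaf ⟨589, 12, 661, 69, [3770, 5504, 3851, 5500]⟩) (.leaf ⟨0, 12, 0, 0, []⟩))) (.node (.node (.leaf ⟨526, 0, 532, 94, [3423, 1777, 598, 603, 664, 686, 1772, 3376, 3456]⟩) (.leaf ⟨0, 12, 0, 0, []⟩)) (.node (.leaf ⟨1012, 0, 1021, 69, [7453, 4411, 7550]⟩) (.leaf ⟨0, 12, 0, 0, []⟩))))) (.node (.node (.node (.node (.leaf ⟨137, 2, 153, 0, []⟩) (.leaf ⟨572, 1, 864, 36, [5995, 5194]⟩)) (.node (.leaf ⟨828, 9, 823, 4, [4993, 4922, 4972]⟩) (.leaf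 ⟨0, 12, 0, 0, []⟩))) (.node (.node (.leaf ⟨296, 0, 447, 0, []⟩) (.leaf ⟨0, 12, 0, 0, []⟩)) (.node (.leaf ⟨695, 8, 977, 0, []⟩) (.leaf ⟨0, 12, 0, 0, []⟩)))) (.node (.node (.node (.leaf ⟨159, 9, 288, 5, [933, 958, 1918]⟩) (.leaf ⟨0, 12, 0, 0, []⟩)) (.node (.leaf ⟨458, 5, 812, 57, [3013, 2068, 2238, 4324, 5358, 5686, 4043, 3700, 6016]⟩) (.leaf ⟨0, 12, 0, 0, []⟩))) (.node (.node (.leaf ⟨315, 5, 632, 12, [2109, 3890, 3968]⟩) (.leaf ⟨0, 12, 0, 0, []⟩)) (.node (.leaf ⟨761, 9, 1067, 0, []⟩) (.leaf ⟨0, 12, 0, 0, []⟩)))))))) (.node (.node (.node (.node (.node (.node (.node (.leaf ⟨9, 4, 11, 16, [55, 18, 22, 9, 4, 8, 14, 18, 64]⟩) (.leaf ⟨946, 5, 1082, 72, [6691, 6742, 6758, 6282, 4383, 4378, 8106, 8105, 7489, 8154, 8176, 8256]⟩)) (.node (.leaf ⟨669, 9, 323, 5, [4161, 4145, 2142]⟩) (.leaf ⟨0, 12, 0,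 0, []⟩))) (.node (.node (.leaf ⟨123, 4, 317, 43, [2104, 2110, 2112]⟩) (.leaf ⟨0, 12, 0, 0, []⟩)) (.node (.leaf ⟨259, 12, 533, 76, [2746, 6209, 3466]⟩) (.leaf ⟨0, 12, 0, 0, []⟩)))) (.node (.node (.node (.leaf ⟨134, 3, 181, 30, [789, 1082, 1086]⟩) (.leaf ⟨712, 8, 402, 76, [4424, 6274]⟩)) (.node (.leaf ⟨838, 1, 863, 0, []⟩) (.leaf ⟨0, 12, 0, 0, []⟩))) (.node (.node (.leaf ⟨476, 9, 475, 4, [3137, 3075, 3134]⟩) (.leaf ⟨0, 12, 0, 0, []⟩)) (.node (.leaf ⟨493, 4, 995, 43, [7210, 7220, 7228]⟩) (.leaf ⟨0, 12, 0, 0, []⟩))))) (.node (.node (.node (.node (.leaf ⟨64, 4, 94, 0, []⟩) (.leaf ⟨308, 4, 193, 75, [2796, 5662]⟩)) (.node (.leaf ⟨764, 4, 365, 6, [4673, 4451, 2949]⟩) (.leaf ⟨0, 12, 0, 0, []⟩))) (.node (.node (.leaf ⟨164, 4, 394, 43, [2616, 2622, 2624]⟩) (.leaf ⟨0, 12, 0, 0, []⟩)) (.node (.leaf ⟨951,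 2, 425, 50, [6721, 6713]⟩) (.leaf ⟨0, 12, 0, 0, []⟩)))) (.node (.node (.node (.leaf ⟨225, 12, 240, 35, [1387, 1601, 1468]⟩) (.leaf ⟨0, 12, 0, 0, []⟩)) (.node (.leaf ⟨652, 12, 482, 102, [4063, 4082, 4712, 5696, 4349, 2243, 1072, 2218, 3156, 3166]⟩) (.leaf ⟨0, 12, 0, 0, []⟩))) (.node (.node (.leaf ⟨495, 0, 566, 0, []⟩) (.leaf ⟨0, 12, 0, 0, []⟩)) (.node (.leaf ⟨1029, 8, 1041, 40, [7637, 7744]⟩) (.leaf ⟨0, 12, 0, 0, []⟩)))))) (.node (.node (.node (.node (.node (.leaf ⟨28, 2, 52, 0, []⟩) (.leaf ⟨1105, 4, 1107, 0, []⟩)) (.node (.leaf ⟨717, 1, 718, 0, []⟩) (.leaf ⟨0, 12, 0, 0, []⟩))) (.node (.node (.leaf ⟨148, 0, 357, 0, []⟩) (.leaf ⟨0, 12, 0, 0, []⟩)) (.node (.leaf ⟨907, 5, 496, 32, [5415, 5446, 6464, 6049, 5225, 2627, 2614, 6082, 3538, 6080, 5094, 6060, 2403, 915, 928, 2311, 2364, 3214, 3205, 1857,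 1904, 3268]⟩) (.leaf ⟨0, 12, 0, 0, []⟩)))) (.node (.node (.node (.leaf ⟨103, 4, 220, 49, [617, 455, 440, 1344]⟩) (.leaf ⟨0, 12, 0, 0, []⟩)) (.node (.leaf ⟨821, 5, 911, 55, [4959, 4957, 4769, 3729, 1981, 675, 1282, 1682, 710, 2078, 3858, 3860, 5438]⟩) (.leaf ⟨0, 12, 0, 0, []⟩))) (.node (.node (.leaf ⟨284, 4, 521, 0, []⟩) (.leaf ⟨0, 12, 0, 0, []⟩)) (.node (.leaf ⟨686, 1, 1016, 11, [4253, 7208, 7488]⟩) (.leaf ⟨0, 12, 0, 0, []⟩))))) (.node (.node (.node (.node (.leaf ⟨103, 8, 141, 40, [618, 832]⟩) (.leaf ⟨513, 1, 540, 36, [4442, 6150]⟩)) (.node (.leaf ⟨813, 8, 816, 0, []⟩) (.leaf ⟨0, 12, 0, 0, []⟩))) (.node (.node (.leaf ⟨430, 4, 437, 0, []⟩) (.leaf ⟨0, 12, 0, 0, []⟩)) (.node (.leaf ⟨971, 8, 896, 19, [6977, 6448]⟩) (.leaf ⟨0, 12, 0, 0, []⟩)))) (.node (.node (.node (.leaf ⟨232, 8, 279, 48, [1427,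 1819, 1856]⟩) (.leaf ⟨0, 12, 0, 0, []⟩)) (.node (.leaf ⟨456, 12, 349, 76, [3003, 5943, 3055]⟩) (.leaf ⟨0, 12, 0, 0, []⟩))) (.node (.node (.leaf ⟨612, 4, 615, 0, []⟩) (.leaf ⟨0, 12, 0, 0, []⟩)) (.node (.leaf ⟨1047, 3, 1062, 27, [7809, 7988, 7993, 7787, 7226, 7225, 8000, 8001, 8000]⟩) (.leaf ⟨0, 12, 0, 0, []⟩))))))) (.node (.node (.node (.node (.node (.node (.leaf ⟨33, 4, 35, 0, []⟩) (.leaf ⟨1094, 9, 1095, 0, []⟩)) (.node (.leaf ⟨350, 2, 691, 26, [2329, 2328, 2329, 1024, 2678, 2681, 2325, 2397, 4288]⟩) (.leaf ⟨0, 12, 0, 0, []⟩))) (.node (.node (.leaf ⟨132, 0, 336, 21, [1743, 2238, 2240]⟩) (.leaf ⟨0, 12, 0, 0, []⟩)) (.node (.leaf ⟨852, 3, 644, 7, [5137, 4630, 6336]⟩) (.leaf ⟨0, 12, 0, 0, []⟩)))) (.node (.node (.node (.leaf ⟨83, 4, 200, 58, [568, 748, 1216]⟩) (.leaf ⟨857, 8, 644, 76, [6331, 6347]⟩))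 (.node (.leaf ⟨888, 9, 887, 4, [5311, 4643, 5308]⟩) (.leaf ⟨0, 12, 0, 0, []⟩))) (.node (.node (.leaf ⟨330, 3, 495, 30, [2195, 1789, 3264]⟩) (.leaf ⟨0, 12, 0, 0, []⟩)) (.node (.leaf ⟨512, 3, 1006, 53, [4332, 4331, 4310, 4309, 7046, 7047, 7046, 7358, 7360]⟩) (.leaf ⟨0, 12, 0, 0, []⟩))))) (.node (.node (.node (.node (.leaf ⟨75, 2, 120, 47, [441, 177, 47, 40, 132, 127, 53, 154, 156, 316, 702]⟩) (.leaf ⟨402, 1, 717, 36, [5326, 6284]⟩)) (.node (.leaf ⟨759, 1, 786, 8, [4647, 4664, 4800]⟩) (.leaf ⟨0, 12, 0, 0, []⟩))) (.node (.node (.leaf ⟨406, 3, 411, 53, [2709, 1958, 2184, 2187, 1165, 1164, 1165, 1170, 2750]⟩) (.leaf ⟨0, 12, 0, 0, []⟩)) (.node (.leaf ⟨895, 8, 961, 40, [5360, 6848]⟩) (.leaf ⟨0, 12, 0, 0, []⟩)))) (.node (.node (.node (.leaf ⟨94, 9, 258, 4, [579, 1106, 1726]⟩) (.leaf ⟨0, 12, 0, 0, []⟩))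 (.node (.leaf ⟨683, 12, 373, 34, [5825]⟩) (.leaf ⟨0, 12, 0, 0, []⟩))) (.node (.node (.leaf ⟨585, 9, 590, 5, [3751, 2118, 3772]⟩) (.leaf ⟨0, 12, 0, 0, []⟩)) (.node (.leaf ⟨949, 8, 1052, 0, []⟩) (.leaf ⟨0, 12, 0, 0, []⟩)))))) (.node (.node (.node (.node (.node (.leaf ⟨76, 4, 77, 0, []⟩) (.leaf ⟨87, 1, 145, 36, [1508, 1572]⟩)) (.node (.leaf ⟨399, 8, 743, 40, [2676, 4544]⟩) (.leaf ⟨0, 12, 0, 0, []⟩))) (.node (.node (.leaf ⟨226, 4, 371, 0, []⟩) (.leaf ⟨0, 12, 0, 0, []⟩)) (.node (.leaf ⟨418, 3, 934, 7, [2779, 6537, 6592]⟩) (.leaf ⟨0, 12, 0, 0, []⟩)))) (.node (.node (.node (.leaf ⟨236, 9, 241, 4, [1457, 1453, 1472]⟩) (.leaf ⟨0, 12, 0, 0, []⟩)) (.node (.leaf ⟨319, 12, 656, 74, [2127, 5569, 4096]⟩) (.leaf ⟨0, 12, 0, 0, []⟩))) (.node (.node (.leaf ⟨544, 1, 545, 0, []⟩) (.leaf ⟨0, 12, 0, 0, []⟩)) (.node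 (.leaf ⟨1025, 4, 1028, 0, []⟩) (.leaf ⟨0, 12, 0, 0, []⟩))))) (.node (.node (.node (.node (.leaf ⟨163, 9, 164, 0, []⟩) (.leaf ⟨640, 4, 611, 75, [4008, 5632]⟩)) (.node (.leaf ⟨687, 3, 838, 10, [4255, 2759, 1155, 715, 690, 2030, 2033, 940, 964, 2626, 5056]⟩) (.leaf ⟨0, 12, 0, 0, []⟩))) (.node (.node (.leaf ⟨457, 2, 458, 0, []⟩) (.leaf ⟨0, 12, 0, 0, []⟩)) (.node (.leaf ⟨903, 8, 982, 48, [5394, 6258, 3107, 7102]⟩) (.leaf ⟨0, 12, 0, 0, []⟩)))) (.node (.node (.node (.leaf ⟨202, 1, 296, 8, [1233, 1296, 1984]⟩) (.leaf ⟨0, 12, 0, 0, []⟩)) (.node (.leaf ⟨390, 12, 278, 37, [2611, 6081, 3539]⟩) (.leaf ⟨0, 12, 0, 0, []⟩))) (.node (.node (.leaf ⟨646, 9, 641, 4, [4033, 3964, 4012]⟩) (.leaf ⟨0, 12, 0, 0, []⟩)) (.node (.leaf ⟨704, 3, 1071, 30, [4351, 6902, 8126]⟩) (.leaf ⟨0, 12, 0, 0, []⟩)))))))))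

def fact2 : Arr (CFact) :=
  (.node (.node (.node (.node (.node (.node (.node (.node (.leaf ⟨0, 4, 0, 1, []⟩) (.leaf ⟨943, 9, 1077, 4, [6726, 6757, 6750, 8188]⟩)) (.node (.leaf ⟨596, 2, 657, 0, []⟩) (.leaf ⟨0, 12, 0, 0, []⟩))) (.node (.node (.leaf ⟨119, 9, 304, 4, [700, 1162, 2048]⟩) (.leaf ⟨0, 12, 0, 0, []⟩)) (.node (.leaf ⟨540, 12, 803, 74, [3542, 6147, 5101]⟩) (.leaf ⟨0, 12, 0, 0, []⟩)))) (.node (.node (.node (.leaf ⟨141, 2, 173, 13, [829, 1024, 1026]⟩) (.leaf ⟨671, 0, 767, 77, [5857, 6305, 6290]⟩)) (.node (.leaf ⟨849, 8, 850, 0, []⟩) (.leaf ⟨0, 12, 0, 0, []⟩))) (.node (.node (.leaf ⟨228, 9, 465, 39, [1401, 1394, 3070]⟩) (.leaf ⟨0, 12, 0, 0, []⟩)) (.node (.leaf ⟨820, 5, 989, 85, [4957, 5760, 4073, 4082, 5691, 6908, 6917, 3131, 6195, 5355, 6193, 4477, 6980, 7166]⟩) (.leaf ⟨0, 12, 0, 0,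 []⟩))))) (.node (.node (.node (.node (.leaf ⟨86, 8, 85, 48, [514, 476, 509]⟩) (.leaf ⟨143, 0, 143, 77, [1520, 1548]⟩)) (.node (.leaf ⟨751, 9, 754, 5, [4589, 4487, 4610]⟩) (.leaf ⟨0, 12, 0, 0, []⟩))) (.node (.node (.leaf ⟨163, 2, 380, 0, []⟩) (.leaf ⟨0, 12, 0, 0, []⟩)) (.node (.leaf ⟨922, 1, 941, 20, [6497, 2771, 1166, 2806, 6659]⟩) (.leaf ⟨0, 12, 0, 0, []⟩)))) (.node (.node (.node (.leaf ⟨256, 0, 256, 33, [1539, 1454, 1449, 529, 544, 547, 1518, 1521, 847, 815, 868, 872, 615, 597, 620, 1524, 1523, 1436, 1433, 495, 488, 525, 1538]⟩) (.leaf ⟨0, 12, 0, 0, []⟩)) (.node (.leaf ⟨620, 12, 593, 34, [5635]⟩) (.leaf ⟨0, 12, 0, 0, []⟩))) (.node (.node (.leaf ⟨427, 0, 556, 0, []⟩) (.leaf ⟨0, 12, 0, 0, []⟩)) (.node (.leaf ⟨650, 8, 1033, 40, [6455, 7682]⟩) (.leaf ⟨0, 12, 0, 0, []⟩)))))) (.node (.node (.node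 (.node (.node (.leaf ⟨40, 1, 40, 8, [259, 93, 258]⟩) (.leaf ⟨1072, 5, 1101, 32, [8140, 5030, 8232, 8235, 7733, 7163, 4801, 4663, 7678, 8246, 8243, 8256, 8336, 8339, 8325, 8192, 8356, 8448, 8446]⟩)) (.node (.leaf ⟨364, 0, 705, 44, [2437, 2946, 2949, 2447, 2446, 2447, 2290, 2266, 4354]⟩) (.leaf ⟨0, 12, 0, 0, []⟩))) (.node (.node (.leaf ⟨218, 2, 347, 0, []⟩) (.leaf ⟨0, 12, 0, 0, []⟩)) (.node (.leaf ⟨909, 12, 335, 34, [6403]⟩) (.leaf ⟨0, 12, 0, 0, []⟩)))) (.node (.node (.node (.leaf ⟨210, 2, 197, 29, [1283, 589, 293, 169, 280, 285, 440, 437, 1190]⟩) (.leaf ⟨986, 8, 608, 76, [7153, 5680]⟩)) (.node (.leaf ⟨609, 2, 902, 0, []⟩) (.leaf ⟨0, 12, 0, 0, []⟩))) (.node (.node (.leaf ⟨509, 4, 511, 0, []⟩) (.leaf ⟨0, 12, 0, 0, []⟩)) (.node (.leaf ⟨549, 9, 1010, 5, [3545, 7316, 7420]⟩) (.leaf ⟨0, 12, 0, 0,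 []⟩))))) (.node (.node (.node (.node (.leaf ⟨94, 2, 132, 0, []⟩) (.leaf ⟨459, 8, 695, 76, [6243, 4337]⟩)) (.node (.leaf ⟨800, 9, 801, 0, []⟩) (.leaf ⟨0, 12, 0, 0, []⟩))) (.node (.node (.leaf ⟨419, 8, 426, 40, [2784, 2818]⟩) (.leaf ⟨0, 12, 0, 0, []⟩)) (.node (.leaf ⟨474, 3, 966, 30, [4486, 6818, 6912]⟩) (.leaf ⟨0, 12, 0, 0, []⟩)))) (.node (.node (.node (.leaf ⟨267, 8, 270, 0, []⟩) (.leaf ⟨0, 12, 0, 0, []⟩)) (.node (.leaf ⟨784, 12, 646, 35, [4791, 5779, 4032]⟩) (.leaf ⟨0, 12, 0, 0, []⟩))) (.node (.node (.leaf ⟨424, 4, 603, 0, []⟩) (.leaf ⟨0, 12, 0, 0, []⟩)) (.node (.leaf ⟨981, 1, 1057, 11, [7912, 7917, 7934]⟩) (.leaf ⟨0, 12, 0, 0, []⟩))))))) (.node (.node (.node (.node (.node (.node (.leaf ⟨7, 5, 22, 12, [43, 61, 128]⟩) (.leaf ⟨1053, 5, 1089, 28, [7887, 7864, 8318]⟩)) (.node (.leaf ⟨683, 4,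 675, 6, [4227, 4165, 4193]⟩) (.leaf ⟨0, 12, 0, 0, []⟩))) (.node (.node (.leaf ⟨293, 9, 328, 4, [1967, 1934, 2176]⟩) (.leaf ⟨0, 12, 0, 0, []⟩)) (.node (.leaf ⟨758, 12, 712, 76, [4645, 6275, 4425]⟩) (.leaf ⟨0, 12, 0, 0, []⟩)))) (.node (.node (.node (.leaf ⟨76, 5, 190, 12, [443, 440, 1152]⟩) (.leaf ⟨777, 2, 666, 38, [4780, 5868]⟩)) (.node (.leaf ⟨399, 4, 876, 43, [5242, 5248, 5250]⟩) (.leaf ⟨0, 12, 0, 0, []⟩))) (.node (.node (.leaf ⟨279, 2, 488, 0, []⟩) (.leaf ⟨0, 12, 0, 0, []⟩)) (.node (.leaf ⟨1001, 1, 877, 146, [7299, 6949, 4512, 4528, 6031, 5291]⟩) (.leaf ⟨0, 12, 0, 0, []⟩))))) (.node (.node (.node (.node (.leaf ⟨109, 2, 78, 50, [643, 571]⟩) (.leaf ⟨378, 4, 265, 75, [4834, 5708]⟩)) (.node (.leaf ⟨773, 4, 373, 6, [4739, 2593, 2523]⟩) (.leaf ⟨0, 12, 0, 0, []⟩))) (.node (.node (.leaf ⟨229, 2,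 403, 47, [1404, 1117, 776, 1072, 1079, 809, 427, 918, 920, 2416, 2688]⟩) (.leaf ⟨0, 12, 0, 0, []⟩)) (.node (.leaf ⟨575, 0, 957, 42, [3706, 5742, 5448, 5447, 5414, 5413, 6626, 6627, 6626, 6786]⟩) (.leaf ⟨0, 12, 0, 0, []⟩)))) (.node (.node (.node (.leaf ⟨141, 12, 180, 76, [833, 1613, 1213]⟩) (.leaf ⟨0, 12, 0, 0, []⟩)) (.node (.leaf ⟨818, 12, 590, 34, [5763]⟩) (.leaf ⟨0, 12, 0, 0, []⟩))) (.node (.node (.leaf ⟨438, 4, 579, 0, []⟩) (.leaf ⟨0, 12, 0, 0, []⟩)) (.node (.leaf ⟨1036, 1, 1047, 8, [7711, 7770, 7810]⟩) (.leaf ⟨0, 12, 0, 0, []⟩)))))) (.node (.node (.node (.node (.node (.leaf ⟨63, 4, 65, 0, []⟩) (.leaf ⟨1111, 4, 1112, 43, [8565, 8533, 8572]⟩)) (.node (.leaf ⟨564, 9, 731, 4, [3639, 2990, 4482]⟩) (.leaf ⟨0, 12, 0, 0, []⟩))) (.node (.node (.leaf ⟨296, 2, 364, 18, [1991, 2288, 2434]⟩) (.leaf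 ⟨0, 12, 0, 0, []⟩)) (.node (.leaf ⟨689, 5, 926, 12, [4271, 5450, 6530]⟩) (.leaf ⟨0, 12, 0, 0, []⟩)))) (.node (.node (.node (.leaf ⟨176, 2, 231, 0, []⟩) (.leaf ⟨0, 12, 0, 0, []⟩)) (.node (.leaf ⟨661, 12, 589, 34, [5507]⟩) (.leaf ⟨0, 12, 0, 0, []⟩))) (.node (.node (.leaf ⟨272, 5, 532, 57, [1811, 603, 664, 686, 1778, 1806, 3450, 3447, 3456]⟩) (.leaf ⟨0, 12, 0, 0, []⟩)) (.node (.leaf ⟨849, 5, 1021, 112, [5130, 6335, 5184, 5202, 6352, 4002, 4686, 4689, 7538, 7535, 7554]⟩) (.leaf ⟨0, 12, 0, 0, []⟩))))) (.node (.node (.node (.node (.leaf ⟨72, 1, 153, 11, [423, 810, 898]⟩) (.leaf ⟨572, 4, 764, 75, [5995, 4992, 6294]⟩)) (.node (.leaf ⟨778, 2, 829, 0, []⟩) (.leaf ⟨0, 12, 0, 0, []⟩))) (.node (.node (.leaf ⟨365, 2, 447, 29, [2447, 2292, 914, 2374, 2371, 908, 2444, 2437, 2946]⟩) (.leaf ⟨0, 12, 0, 0, []⟩))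 (.node (.leaf ⟨512, 2, 977, 23, [4332, 4331, 4310, 7042]⟩) (.leaf ⟨0, 12, 0, 0, []⟩)))) (.node (.node (.node (.leaf ⟨165, 8, 288, 40, [970, 1922]⟩) (.leaf ⟨0, 12, 0, 0, []⟩)) (.node (.leaf ⟨751, 1, 812, 11, [4589, 5975, 6016]⟩) (.leaf ⟨0, 12, 0, 0, []⟩))) (.node (.node (.leaf ⟨630, 8, 633, 0, []⟩) (.leaf ⟨0, 12, 0, 0, []⟩)) (.node (.leaf ⟨1032, 8, 1067, 40, [7675, 8066]⟩) (.leaf ⟨0, 12, 0, 0, []⟩)))))))) (.node (.node (.node (.node (.node (.node (.node (.leaf ⟨9, 3, 11, 17, [55, 15, 9, 2, 4, 8, 14, 54, 66]⟩) (.leaf ⟨1060, 1, 1082, 8, [7985, 8180, 8256]⟩)) (.node (.leaf ⟨665, 4, 670, 0, []⟩) (.leaf ⟨0, 12, 0, 0, []⟩))) (.node (.node (.leaf ⟨290, 4, 318, 0, []⟩) (.leaf ⟨0, 12, 0, 0, []⟩)) (.node (.leaf ⟨533, 12, 259, 34, [6211]⟩) (.leaf ⟨0, 12, 0, 0, []⟩)))) (.node (.node (.node (.leaf ⟨82,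 4, 181, 58, [525, 784, 1090]⟩) (.leaf ⟨717, 1, 402, 36, [4418, 6274]⟩)) (.node (.leaf ⟨393, 4, 863, 43, [2624, 5056, 5186]⟩) (.leaf ⟨0, 12, 0, 0, []⟩))) (.node (.node (.leaf ⟨466, 2, 477, 0, []⟩) (.leaf ⟨0, 12, 0, 0, []⟩)) (.node (.leaf ⟨724, 0, 995, 92, [4447, 6172, 4966, 4968, 6092, 3512, 6097, 2577, 4864, 6305, 4971, 5498, 5632, 3968, 7226, 7228]⟩) (.leaf ⟨0, 12, 0, 0, []⟩))))) (.node (.node (.node (.node (.leaf ⟨51, 1, 94, 8, [319, 386, 578]⟩) (.leaf ⟨309, 4, 406, 75, [3868, 5540]⟩)) (.node (.leaf ⟨716, 2, 765, 0, []⟩) (.leaf ⟨0, 12, 0, 0, []⟩))) (.node (.node (.leaf ⟨386, 9, 394, 4, [2591, 962, 2626]⟩) (.leaf ⟨0, 12, 0, 0, []⟩)) (.node (.leaf ⟨951, 8, 884, 54, [6722, 6478, 5301]⟩) (.leaf ⟨0, 12, 0, 0, []⟩)))) (.node (.node (.node (.leaf ⟨240, 12, 225, 34, [1603]⟩) (.leaf ⟨0, 12, 0, 0,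 []⟩)) (.node (.leaf ⟨562, 12, 580, 74, [3631, 5699, 4069]⟩) (.leaf ⟨0, 12, 0, 0, []⟩))) (.node (.node (.leaf ⟨528, 2, 566, 29, [3437, 2082, 1806, 2012, 2011, 1798, 2198, 3266, 3650]⟩) (.leaf ⟨0, 12, 0, 0, []⟩)) (.node (.leaf ⟨1027, 5, 1041, 28, [7638, 7652, 7744]⟩) (.leaf ⟨0, 12, 0, 0, []⟩)))))) (.node (.node (.node (.node (.node (.leaf ⟨24, 0, 52, 44, [143, 280, 283, 151, 150, 151, 124, 170, 322]⟩) (.leaf ⟨1097, 1, 1107, 8, [8413, 8500, 8514]⟩)) (.node (.leaf ⟨340, 4, 718, 43, [4408, 4416, 4418]⟩) (.leaf ⟨0, 12, 0, 0, []⟩))) (.node (.node (.leaf ⟨213, 3, 357, 27, [1305, 431, 886, 1010, 1015, 909, 2370, 2371, 2370]⟩) (.leaf ⟨0, 12, 0, 0, []⟩)) (.node (.leaf ⟨833, 4, 733, 111, [5023, 5262, 5259, 4543, 2481, 3058, 4578, 6049, 5215, 5286, 5283, 2679, 1025, 2322, 4504, 6386, 4997, 5256, 5253,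 2675, 2331, 2336, 4496]⟩) (.leaf ⟨0, 12, 0, 0, []⟩)))) (.node (.node (.node (.leaf ⟨220, 2, 104, 50, [1341, 623]⟩) (.leaf ⟨0, 12, 0, 0, []⟩)) (.node (.leaf ⟨823, 2, 911, 63, [4973, 4961, 5442]⟩) (.leaf ⟨0, 12, 0, 0, []⟩))) (.node (.node (.leaf ⟨515, 9, 521, 4, [3365, 3361, 3394]⟩) (.leaf ⟨0, 12, 0, 0, []⟩)) (.node (.leaf ⟨991, 3, 1016, 7, [7195, 4250, 7490]⟩) (.leaf ⟨0, 12, 0, 0, []⟩))))) (.node (.node (.node (.node (.leaf ⟨102, 9, 142, 0, []⟩) (.leaf ⟨514, 4, 430, 75, [3364, 5744]⟩)) (.node (.leaf ⟨810, 2, 816, 23, [4902, 2873, 4917, 4930]⟩) (.leaf ⟨0, 12, 0, 0, []⟩))) (.node (.node (.leaf ⟨437, 9, 436, 4, [2883, 2861, 2880]⟩) (.leaf ⟨0, 12, 0, 0, []⟩)) (.node (.leaf ⟨453, 0, 972, 0, []⟩) (.leaf ⟨0, 12, 0, 0, []⟩)))) (.node (.node (.node (.leaf ⟨268, 4, 280, 0, []⟩) (.leaf ⟨0, 12, 0, 0, []⟩))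 (.node (.leaf ⟨741, 12, 217, 35, [4535, 5955, 3005]⟩) (.leaf ⟨0, 12, 0, 0, []⟩))) (.node (.node (.leaf ⟨615, 1, 616, 0, []⟩) (.leaf ⟨0, 12, 0, 0, []⟩)) (.node (.leaf ⟨1061, 2, 1062, 26, [7993, 7992, 7993, 7795, 6363, 3966, 7226, 7225, 8000]⟩) (.leaf ⟨0, 12, 0, 0, []⟩))))))) (.node (.node (.node (.node (.node (.node (.leaf ⟨11, 1, 35, 8, [67, 188, 194]⟩) (.leaf ⟨939, 0, 1095, 21, [7902, 8384, 8386]⟩)) (.node (.leaf ⟨691, 9, 692, 0, []⟩) (.leaf ⟨0, 12, 0, 0, []⟩))) (.node (.node (.leaf ⟨336, 2, 259, 29, [2243, 777, 1116, 1134, 1136, 1139, 1741, 1739, 1732]⟩) (.leaf ⟨0, 12, 0, 0, []⟩)) (.node (.leaf ⟨864, 2, 644, 13, [5195, 5994, 4632, 6336]⟩) (.leaf ⟨0, 12, 0, 0, []⟩)))) (.node (.node (.node (.leaf ⟨116, 8, 201, 0, []⟩) (.leaf ⟨864, 1, 572, 36, [5195, 5994]⟩)) (.node (.leaf ⟨469, 4, 889, 0,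 []⟩) (.leaf ⟨0, 12, 0, 0, []⟩))) (.node (.node (.leaf ⟨286, 0, 496, 0, []⟩) (.leaf ⟨0, 12, 0, 0, []⟩)) (.node (.leaf ⟨583, 4, 1006, 84, [7346, 7345, 5869, 4781, 6409, 6392, 5371, 5367, 6396, 7046, 7358]⟩) (.leaf ⟨0, 12, 0, 0, []⟩))))) (.node (.node (.node (.node (.leaf ⟨120, 4, 105, 14, [703, 317, 305, 625]⟩) (.leaf ⟨404, 4, 227, 75, [3316, 6198]⟩)) (.node (.leaf ⟨579, 2, 787, 0, []⟩) (.leaf ⟨0, 12, 0, 0, []⟩))) (.node (.node (.leaf ⟨411, 9, 412, 0, []⟩) (.leaf ⟨0, 12, 0, 0, []⟩)) (.node (.leaf ⟨444, 4, 962, 0, []⟩) (.leaf ⟨0, 12, 0, 0, []⟩)))) (.node (.node (.node (.leaf ⟨189, 0, 259, 0, []⟩) (.leaf ⟨0, 12, 0, 0, []⟩)) (.node (.leaf ⟨776, 12, 675, 35, [4753, 5827, 4228]⟩) (.leaf ⟨0, 12, 0, 0, []⟩))) (.node (.node (.leaf ⟨303, 1, 591, 0, []⟩) (.leaf ⟨0, 12, 0, 0, []⟩)) (.node (.leaf ⟨1017,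 0, 1052, 69, [7509, 7253, 7874]⟩) (.leaf ⟨0, 12, 0, 0, []⟩)))))) (.node (.node (.node (.node (.node (.leaf ⟨77, 1, 78, 0, []⟩) (.leaf ⟨87, 2, 53, 38, [546, 1580]⟩)) (.node (.leaf ⟨350, 3, 743, 30, [2327, 2680, 4544]⟩) (.leaf ⟨0, 12, 0, 0, []⟩))) (.node (.node (.leaf ⟨362, 3, 371, 10, [2421, 2371, 908, 2444, 2443, 2259, 1727, 1360, 1363, 1390, 2498]⟩) (.leaf ⟨0, 12, 0, 0, []⟩)) (.node (.leaf ⟨493, 5, 934, 138, [3249, 3093, 2691, 1371, 1175, 1171, 1164, 2186, 5647, 2768, 2780, 6594]⟩) (.leaf ⟨0, 12, 0, 0, []⟩)))) (.node (.node (.node (.leaf ⟨241, 2, 242, 0, []⟩) (.leaf ⟨0, 12, 0, 0, []⟩)) (.node (.leaf ⟨656, 12, 319, 34, [5571]⟩) (.leaf ⟨0, 12, 0, 0, []⟩))) (.node (.node (.leaf ⟨277, 4, 545, 43, [3514, 3520, 3522]⟩) (.leaf ⟨0, 12, 0, 0, []⟩)) (.node (.leaf ⟨642, 1, 1028, 8, [4017, 7596, 7618]⟩)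 (.leaf ⟨0, 12, 0, 0, []⟩))))) (.node (.node (.node (.node (.leaf ⟨57, 0, 164, 21, [897, 960, 962]⟩) (.leaf ⟨642, 0, 857, 77, [5897, 5158]⟩)) (.node (.leaf ⟨688, 2, 838, 47, [4267, 2185, 1957, 1946, 2840, 2833, 2165, 2598, 2605, 2626, 5056]⟩) (.leaf ⟨0, 12, 0, 0, []⟩))) (.node (.node (.leaf ⟨307, 0, 458, 93, [2156, 2163, 1263, 2520, 2538, 2537, 2032, 3008, 3010]⟩) (.leaf ⟨0, 12, 0, 0, []⟩)) (.node (.leaf ⟨892, 2, 983, 0, []⟩) (.leaf ⟨0, 12, 0, 0, []⟩)))) (.node (.node (.node (.leaf ⟨137, 9, 296, 4, [809, 1298, 1984]⟩) (.leaf ⟨0, 12, 0, 0, []⟩)) (.node (.leaf ⟨549, 12, 846, 75, [3549, 6083, 5106]⟩) (.leaf ⟨0, 12, 0, 0, []⟩))) (.node (.node (.leaf ⟨590, 2, 647, 0, []⟩) (.leaf ⟨0, 12, 0, 0, []⟩)) (.node (.leaf ⟨708, 8, 1072, 0, []⟩) (.leaf ⟨0, 12, 0, 0, []⟩)))))))))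

def fact3 : Arr (CFact) :=
  (.node (.node (.node (.node (.node (.node (.node (.node (.leaf ⟨0, 8, 0, 1, []⟩) (.leaf ⟨942, 8, 1077, 40, [6664, 8196]⟩)) (.node (.leaf ⟨321, 1, 657, 11, [2135, 3808, 4100]⟩) (.leaf ⟨0, 12, 0, 0, []⟩))) (.node (.node (.leaf ⟨195, 0, 305, 0, []⟩) (.leaf ⟨0, 12, 0, 0, []⟩)) (.node (.leaf ⟨722, 12, 540, 34, [5891, 6149]⟩) (.leaf ⟨0, 12, 0, 0, []⟩)))) (.node (.node (.node (.leaf ⟨138, 5, 173, 12, [860, 1022, 1026]⟩) (.leaf ⟨671, 8, 802, 76, [5857, 4875]⟩)) (.node (.leaf ⟨850, 8, 391, 19, [5125, 5123]⟩) (.leaf ⟨0, 12, 0, 0, []⟩))) (.node (.node (.leaf ⟨403, 0, 466, 0, []⟩) (.leaf ⟨0, 12, 0, 0, []⟩)) (.node (.leaf ⟨693, 1, 989, 11, [4506, 6988, 7166]⟩) (.leaf ⟨0, 12, 0, 0, []⟩))))) (.node (.node (.node (.node (.leaf ⟨80, 0, 87, 0, []⟩) (.leaf ⟨143, 1, 251, 36, [1549,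 1517]⟩)) (.node (.leaf ⟨355, 5, 754, 28, [2359, 4591, 4612]⟩) (.leaf ⟨0, 12, 0, 0, []⟩))) (.node (.node (.leaf ⟨327, 0, 380, 42, [2175, 2428, 2523, 2521, 967, 960, 961, 960, 2564]⟩) (.leaf ⟨0, 12, 0, 0, []⟩)) (.node (.leaf ⟨940, 0, 942, 0, []⟩) (.leaf ⟨0, 12, 0, 0, []⟩)))) (.node (.node (.node (.leaf ⟨252, 9, 256, 4, [1519, 520, 1538]⟩) (.leaf ⟨0, 12, 0, 0, []⟩)) (.node (.leaf ⟨921, 12, 687, 77, [5494, 5637, 5497]⟩) (.leaf ⟨0, 12, 0, 0, []⟩))) (.node (.node (.leaf ⟨497, 2, 556, 26, [3273, 3272, 3273, 1788, 3440, 3443, 3269, 2825, 3588]⟩) (.leaf ⟨0, 12, 0, 0, []⟩)) (.node (.leaf ⟨1031, 5, 1033, 28, [7659, 4749, 7682]⟩) (.leaf ⟨0, 12, 0, 0, []⟩)))))) (.node (.node (.node (.node (.node (.leaf ⟨38, 9, 40, 4, [249, 243, 258]⟩) (.leaf ⟨1022, 1, 1101, 8, [8006, 8366, 8448]⟩)) (.node (.leaf ⟨366,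 9, 705, 5, [3344, 3351, 4354]⟩) (.leaf ⟨0, 12, 0, 0, []⟩))) (.node (.node (.leaf ⟨347, 2, 158, 50, [2309, 1331]⟩) (.leaf ⟨0, 12, 0, 0, []⟩)) (.node (.leaf ⟨698, 12, 667, 79, [6391, 6392, 5372, 6236, 3822, 6156, 5005, 2593, 2540, 4798, 5832, 5585, 4197, 4161, 4152]⟩) (.leaf ⟨0, 12, 0, 0, []⟩)))) (.node (.node (.node (.leaf ⟨210, 9, 211, 0, []⟩) (.leaf ⟨989, 4, 490, 75, [7173, 5986]⟩)) (.node (.leaf ⟨422, 9, 902, 5, [2801, 3870, 5380]⟩) (.leaf ⟨0, 12, 0, 0, []⟩))) (.node (.node (.leaf ⟨511, 1, 512, 0, []⟩) (.leaf ⟨0, 12, 0, 0, []⟩)) (.node (.leaf ⟨541, 8, 1010, 40, [3546, 7428]⟩) (.leaf ⟨0, 12, 0, 0, []⟩))))) (.node (.node (.node (.node (.leaf ⟨62, 1, 132, 11, [379, 580, 772]⟩) (.leaf ⟨466, 4, 410, 75, [3150, 6208]⟩)) (.node (.leaf ⟨381, 0, 801, 21, [4650, 4866, 4868]⟩) (.leaf ⟨0, 12, 0, 0,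 []⟩))) (.node (.node (.leaf ⟨310, 2, 427, 0, []⟩) (.leaf ⟨0, 12, 0, 0, []⟩)) (.node (.leaf ⟨765, 4, 967, 0, []⟩) (.leaf ⟨0, 12, 0, 0, []⟩)))) (.node (.node (.node (.leaf ⟨264, 2, 270, 18, [1765, 1778, 1796]⟩) (.leaf ⟨0, 12, 0, 0, []⟩)) (.node (.leaf ⟨858, 12, 643, 77, [5163, 5779, 4020]⟩) (.leaf ⟨0, 12, 0, 0, []⟩))) (.node (.node (.leaf ⟨421, 1, 603, 8, [2797, 2810, 3844]⟩) (.leaf ⟨0, 12, 0, 0, []⟩)) (.node (.leaf ⟨689, 9, 1057, 5, [4269, 4281, 7934]⟩) (.leaf ⟨0, 12, 0, 0, []⟩))))))) (.node (.node (.node (.node (.node (.node (.leaf ⟨6, 0, 23, 0, []⟩) (.leaf ⟨1085, 2, 1090, 0, []⟩)) (.node (.leaf ⟨683, 9, 677, 5, [4227, 4166, 4200]⟩) (.leaf ⟨0, 12, 0, 0, []⟩))) (.node (.node (.leaf ⟨297, 5, 328, 28, [1997, 1974, 2180]⟩) (.leaf ⟨0, 12, 0, 0, []⟩)) (.node (.leaf ⟨711, 12, 401, 76, [4391, 6277,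 4643]⟩) (.leaf ⟨0, 12, 0, 0, []⟩)))) (.node (.node (.node (.leaf ⟨186, 8, 191, 0, []⟩) (.leaf ⟨777, 8, 595, 76, [4778, 5884]⟩)) (.node (.leaf ⟨830, 3, 876, 17, [5005, 2593, 2429, 1918, 1927, 2382, 2387, 2674, 5252]⟩) (.leaf ⟨0, 12, 0, 0, []⟩))) (.node (.node (.leaf ⟨446, 9, 488, 5, [2937, 2411, 3204]⟩) (.leaf ⟨0, 12, 0, 0, []⟩)) (.node (.leaf ⟨496, 1, 1002, 0, []⟩) (.leaf ⟨0, 12, 0, 0, []⟩))))) (.node (.node (.node (.node (.leaf ⟨47, 8, 110, 0, []⟩) (.leaf ⟨381, 0, 232, 77, [4870, 6056]⟩)) (.node (.leaf ⟨373, 1, 774, 0, []⟩) (.leaf ⟨0, 12, 0, 0, []⟩))) (.node (.node (.leaf ⟨283, 1, 403, 8, [2404, 2412, 2688]⟩) (.leaf ⟨0, 12, 0, 0, []⟩)) (.node (.leaf ⟨951, 1, 957, 11, [6721, 6715, 6786]⟩) (.leaf ⟨0, 12, 0, 0, []⟩)))) (.node (.node (.node (.leaf ⟨180, 12, 141, 34, [1669]⟩) (.leaf ⟨0, 12, 0,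 0, []⟩)) (.node (.leaf ⟨647, 12, 809, 37, [4037, 5765, 4944]⟩) (.leaf ⟨0, 12, 0, 0, []⟩))) (.node (.node (.leaf ⟨579, 9, 578, 4, [3717, 2893, 3714]⟩) (.leaf ⟨0, 12, 0, 0, []⟩)) (.node (.leaf ⟨592, 9, 1047, 4, [3787, 7772, 7810]⟩) (.leaf ⟨0, 12, 0, 0, []⟩)))))) (.node (.node (.node (.node (.node (.leaf ⟨65, 1, 66, 0, []⟩) (.leaf ⟨1112, 0, 1110, 152, [8573, 8528, 8527, 8327, 8540, 8551, 8390, 8389, 6651, 8294, 8572, 8577, 8570, 8563]⟩)) (.node (.leaf ⟨474, 8, 731, 40, [3640, 4484]⟩) (.leaf ⟨0, 12, 0, 0, []⟩))) (.node (.node (.leaf ⟨206, 1, 364, 11, [1253, 1986, 2436]⟩) (.leaf ⟨0, 12, 0, 0, []⟩)) (.node (.leaf ⟨926, 2, 927, 0, []⟩) (.leaf ⟨0, 12, 0, 0, []⟩)))) (.node (.node (.node (.leaf ⟨174, 9, 231, 5, [1039, 1056, 1412]⟩) (.leaf ⟨0, 12, 0, 0, []⟩)) (.node (.leaf ⟨594, 12, 662, 37, [3797, 5509,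 4126]⟩) (.leaf ⟨0, 12, 0, 0, []⟩))) (.node (.node (.leaf ⟨530, 9, 532, 5, [3445, 3382, 3456]⟩) (.leaf ⟨0, 12, 0, 0, []⟩)) (.node (.leaf ⟨766, 9, 1021, 46, [4689, 7538, 7535, 7554]⟩) (.leaf ⟨0, 12, 0, 0, []⟩))))) (.node (.node (.node (.node (.leaf ⟨133, 3, 153, 7, [781, 761, 900]⟩) (.leaf ⟨574, 8, 482, 76, [4066, 5698]⟩)) (.node (.leaf ⟨604, 4, 829, 9, [3849, 2755, 2709, 2048, 2842, 2851, 2833, 2566, 2573, 4762, 4996]⟩) (.leaf ⟨0, 12, 0, 0, []⟩))) (.node (.node (.leaf ⟨340, 3, 447, 41, [2271, 812, 809, 427, 918, 2392, 2383, 1984, 2946]⟩) (.leaf ⟨0, 12, 0, 0, []⟩)) (.node (.leaf ⟨505, 0, 977, 69, [3304, 4310, 7042]⟩) (.leaf ⟨0, 12, 0, 0, []⟩)))) (.node (.node (.node (.leaf ⟨212, 5, 288, 28, [1299, 936, 1922]⟩) (.leaf ⟨0, 12, 0, 0, []⟩)) (.node (.leaf ⟨751, 8, 442, 109, [6020, 4911, 2875, 2671,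 2910]⟩) (.leaf ⟨0, 12, 0, 0, []⟩))) (.node (.node (.leaf ⟨627, 2, 633, 18, [3949, 3958, 3972]⟩) (.leaf ⟨0, 12, 0, 0, []⟩)) (.node (.leaf ⟨650, 0, 1067, 21, [7684, 7679, 8066]⟩) (.leaf ⟨0, 12, 0, 0, []⟩)))))))) (.node (.node (.node (.node (.node (.node (.node (.leaf ⟨4, 8, 12, 0, []⟩) (.leaf ⟨945, 9, 1082, 4, [6734, 8182, 8256]⟩)) (.node (.leaf ⟨670, 9, 324, 4, [4165, 4145, 2146]⟩) (.leaf ⟨0, 12, 0, 0, []⟩))) (.node (.node (.leaf ⟨318, 9, 317, 4, [2117, 1943, 2114]⟩) (.leaf ⟨0, 12, 0, 0, []⟩)) (.node (.leaf ⟨501, 12, 534, 36, [3291, 6213, 3470]⟩) (.leaf ⟨0, 12, 0, 0, []⟩)))) (.node (.node (.node (.leaf ⟨63, 8, 182, 0, []⟩) (.leaf ⟨717, 2, 892, 38, [6285, 5328]⟩)) (.node (.leaf ⟨854, 8, 864, 0, []⟩) (.leaf ⟨0, 12, 0, 0, []⟩))) (.node (.node (.leaf ⟨370, 0, 477, 44, [2489, 3070, 3073, 2729, 2728,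 2729, 2692, 3078, 3140]⟩) (.leaf ⟨0, 12, 0, 0, []⟩)) (.node (.leaf ⟨980, 4, 996, 0, []⟩) (.leaf ⟨0, 12, 0, 0, []⟩))))) (.node (.node (.node (.node (.leaf ⟨71, 2, 95, 0, []⟩) (.leaf ⟨311, 4, 123, 75, [2098, 5604]⟩)) (.node (.leaf ⟨447, 1, 765, 11, [2949, 4414, 4676]⟩) (.leaf ⟨0, 12, 0, 0, []⟩))) (.node (.node (.leaf ⟨387, 8, 394, 40, [2594, 2628]⟩) (.leaf ⟨0, 12, 0, 0, []⟩)) (.node (.leaf ⟨943, 5, 951, 127, [6667, 2807, 1169, 390, 1703, 1191, 391, 1168, 2806, 2808, 3844, 5666, 2812, 6723]⟩) (.leaf ⟨0, 12, 0, 0, []⟩)))) (.node (.node (.node (.leaf ⟨103, 12, 181, 36, [1382, 1605, 1471]⟩) (.leaf ⟨0, 12, 0, 0, []⟩)) (.node (.leaf ⟨580, 12, 562, 34, [5701]⟩) (.leaf ⟨0, 12, 0, 0, []⟩))) (.node (.node (.leaf ⟨557, 3, 566, 41, [3595, 1871, 1721, 627, 1810, 3362, 3355, 3258, 3650]⟩) (.leaf ⟨0, 12, 0,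 0, []⟩)) (.node (.leaf ⟨597, 2, 1042, 0, []⟩) (.leaf ⟨0, 12, 0, 0, []⟩)))))) (.node (.node (.node (.node (.node (.leaf ⟨26, 9, 52, 5, [298, 297, 322]⟩) (.leaf ⟨1106, 2, 1107, 71, [8513, 8503, 8501, 7735, 7812, 7809, 7813, 7734, 8500, 8506, 8513, 8514]⟩)) (.node (.leaf ⟨711, 9, 718, 4, [4387, 2268, 4420]⟩) (.leaf ⟨0, 12, 0, 0, []⟩))) (.node (.node (.leaf ⟨155, 2, 357, 26, [915, 914, 915, 922, 1004, 1006, 1015, 909, 2370]⟩) (.leaf ⟨0, 12, 0, 0, []⟩)) (.node (.leaf ⟨833, 0, 738, 134, [6468, 4497, 3100, 3248, 4580, 6049, 5215, 5286, 6030, 4527]⟩) (.leaf ⟨0, 12, 0, 0, []⟩)))) (.node (.node (.node (.leaf ⟨211, 9, 221, 0, []⟩) (.leaf ⟨0, 12, 0, 0, []⟩)) (.node (.leaf ⟨418, 2, 912, 0, []⟩) (.leaf ⟨0, 12, 0, 0, []⟩))) (.node (.node (.leaf ⟨521, 2, 522, 0, []⟩) (.leaf ⟨0, 12, 0, 0, []⟩)) (.node (.leaf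 ⟨1013, 0, 1016, 92, [7457, 7420, 7427, 4659, 2523, 5827, 4228, 6315, 3713, 6370, 3437, 2178, 4248, 7490]⟩) (.leaf ⟨0, 12, 0, 0, []⟩))))) (.node (.node (.node (.node (.leaf ⟨101, 8, 142, 40, [612, 836]⟩) (.leaf ⟨519, 1, 399, 36, [3381, 5952]⟩)) (.node (.leaf ⟨384, 9, 816, 5, [2583, 4901, 4932]⟩) (.leaf ⟨0, 12, 0, 0, []⟩))) (.node (.node (.leaf ⟨377, 2, 438, 0, []⟩) (.leaf ⟨0, 12, 0, 0, []⟩)) (.node (.leaf ⟨888, 2, 972, 29, [5313, 4495, 2301, 858, 2360, 2363, 6195, 5355, 6193, 4477, 6980]⟩) (.leaf ⟨0, 12, 0, 0, []⟩)))) (.node (.node (.node (.leaf ⟨280, 4, 206, 14, [1861, 1785, 687, 1257]⟩) (.leaf ⟨0, 12, 0, 0, []⟩)) (.node (.leaf ⟨457, 12, 740, 36, [3007, 5957, 4533]⟩) (.leaf ⟨0, 12, 0, 0, []⟩))) (.node (.node (.leaf ⟨312, 4, 616, 43, [3894, 3906, 3908]⟩) (.leaf ⟨0, 12, 0, 0, []⟩)) (.node (.leaf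 ⟨1022, 5, 1062, 112, [7566, 7590, 7589, 7572, 7790, 7787, 7226, 7225, 8000]⟩) (.leaf ⟨0, 12, 0, 0, []⟩))))))) (.node (.node (.node (.node (.node (.node (.leaf ⟨33, 3, 35, 7, [189, 68, 196]⟩) (.leaf ⟨1086, 3, 1095, 53, [8289, 8109, 8272, 8296, 8295, 8294, 8295, 6650, 8388]⟩)) (.node (.leaf ⟨331, 0, 692, 21, [2401, 4288, 4292]⟩) (.leaf ⟨0, 12, 0, 0, []⟩))) (.node (.node (.leaf ⟨261, 2, 337, 0, []⟩) (.leaf ⟨0, 12, 0, 0, []⟩)) (.node (.leaf ⟨638, 5, 644, 12, [3999, 5765, 4989, 5990, 6336]⟩) (.leaf ⟨0, 12, 0, 0, []⟩)))) (.node (.node (.node (.leaf ⟨112, 2, 201, 23, [655, 682, 681, 1220]⟩) (.leaf ⟨869, 1, 851, 36, [5219, 6334]⟩)) (.node (.leaf ⟨882, 9, 889, 4, [5293, 3193, 5316]⟩) (.leaf ⟨0, 12, 0, 0, []⟩))) (.node (.node (.leaf ⟨496, 9, 497, 0, []⟩) (.leaf ⟨0, 12, 0, 0, []⟩)) (.node (.leaf ⟨524,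 5, 1006, 110, [3626, 5752, 2872, 5983, 5981, 4610, 7308, 7305, 4327, 7050, 7358, 7360]⟩) (.leaf ⟨0, 12, 0, 0, []⟩))))) (.node (.node (.node (.node (.leaf ⟨120, 1, 121, 0, []⟩) (.leaf ⟨405, 4, 228, 75, [5376, 6202]⟩)) (.node (.leaf ⟨787, 4, 377, 6, [4805, 3717, 2887]⟩) (.leaf ⟨0, 12, 0, 0, []⟩))) (.node (.node (.leaf ⟨190, 0, 412, 21, [1177, 2750, 2756]⟩) (.leaf ⟨0, 12, 0, 0, []⟩)) (.node (.leaf ⟨751, 0, 962, 100, [6820, 6817, 6420, 3735, 3733, 4903, 5808, 4047, 3753, 6852]⟩) (.leaf ⟨0, 12, 0, 0, []⟩)))) (.node (.node (.node (.leaf ⟨259, 9, 260, 0, []⟩) (.leaf ⟨0, 12, 0, 0, []⟩)) (.node (.leaf ⟨665, 12, 785, 37, [4193, 5829, 4794]⟩) (.leaf ⟨0, 12, 0, 0, []⟩))) (.node (.node (.leaf ⟨314, 3, 591, 7, [2105, 2042, 3780]⟩) (.leaf ⟨0, 12, 0, 0, []⟩)) (.node (.leaf ⟨946, 2, 1052, 18, [6689, 6706,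 7874]⟩) (.leaf ⟨0, 12, 0, 0, []⟩)))))) (.node (.node (.node (.node (.node (.leaf ⟨29, 4, 78, 43, [442, 450, 452]⟩) (.leaf ⟨87, 4, 143, 75, [1518, 1548]⟩)) (.node (.leaf ⟨691, 4, 744, 0, []⟩) (.leaf ⟨0, 12, 0, 0, []⟩))) (.node (.node (.leaf ⟨367, 2, 371, 47, [2463, 915, 2293, 2290, 1745, 1145, 1121, 1104, 1360, 1390, 2498]⟩) (.leaf ⟨0, 12, 0, 0, []⟩)) (.node (.leaf ⟨910, 2, 935, 0, []⟩) (.leaf ⟨0, 12, 0, 0, []⟩)))) (.node (.node (.node (.leaf ⟨237, 9, 242, 5, [1459, 1474, 1476]⟩) (.leaf ⟨0, 12, 0, 0, []⟩)) (.node (.leaf ⟨595, 12, 663, 36, [3803, 5573, 4136]⟩) (.leaf ⟨0, 12, 0, 0, []⟩))) (.node (.node (.leaf ⟨527, 4, 546, 0, []⟩) (.leaf ⟨0, 12, 0, 0, []⟩)) (.node (.leaf ⟨762, 9, 1028, 4, [7604, 7599, 7618]⟩) (.leaf ⟨0, 12, 0, 0, []⟩))))) (.node (.node (.node (.node (.leaf ⟨152, 2, 165, 0, []⟩)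 (.leaf ⟨642, 2, 859, 38, [5897, 5166]⟩)) (.node (.leaf ⟨822, 9, 838, 4, [4963, 2628, 5056]⟩) (.leaf ⟨0, 12, 0, 0, []⟩))) (.node (.node (.leaf ⟨354, 1, 458, 11, [2357, 3006, 3010]⟩) (.leaf ⟨0, 12, 0, 0, []⟩)) (.node (.leaf ⟨771, 1, 983, 11, [4731, 5330, 7108]⟩) (.leaf ⟨0, 12, 0, 0, []⟩)))) (.node (.node (.node (.leaf ⟨214, 8, 296, 40, [1315, 1988]⟩) (.leaf ⟨0, 12, 0, 0, []⟩)) (.node (.leaf ⟨846, 12, 549, 34, [6085]⟩) (.leaf ⟨0, 12, 0, 0, []⟩))) (.node (.node (.leaf ⟨639, 1, 647, 11, [4003, 3999, 4036]⟩) (.leaf ⟨0, 12, 0, 0, []⟩)) (.node (.leaf ⟨1072, 8, 1013, 19, [8133, 7463]⟩) (.leaf ⟨0, 12, 0, 0, []⟩)))))))))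

def fact4 : Arr (CFact) :=
  (.node (.node (.node (.node (.node (.node (.node (.node (.leaf ⟨0, 0, 1, 0, []⟩) (.leaf ⟨927, 8, 1078, 0, []⟩)) (.node (.leaf ⟨596, 4, 658, 0, []⟩) (.leaf ⟨0, 12, 0, 0, []⟩))) (.node (.node (.leaf ⟨124, 2, 305, 26, [727, 726, 727, 690, 2040, 2043, 723, 1183, 2054]⟩) (.leaf ⟨0, 12, 0, 0, []⟩)) (.node (.leaf ⟨487, 12, 381, 37, [3506, 6111, 4852]⟩) (.leaf ⟨0, 12, 0, 0, []⟩)))) (.node (.node (.node (.leaf ⟨60, 4, 173, 43, [1000, 1020, 1026]⟩) (.leaf ⟨672, 4, 666, 75, [6472, 5868]⟩)) (.node (.leaf ⟨809, 1, 850, 20, [4897, 2581, 962, 2616, 5127]⟩) (.leaf ⟨0, 12, 0, 0, []⟩))) (.node (.node (.leaf ⟨228, 2, 466, 26, [1401, 1400, 1401, 1128, 2732, 2736, 1397, 2690, 3078]⟩) (.leaf ⟨0, 12, 0, 0, []⟩)) (.node (.leaf ⟨888, 3, 989, 7, [7086, 7083, 7174]⟩) (.leaf ⟨0, 12, 0, 0,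 []⟩))))) (.node (.node (.node (.node (.leaf ⟨87, 9, 88, 0, []⟩) (.leaf ⟨145, 1, 87, 36, [861, 1570]⟩)) (.node (.leaf ⟨409, 4, 755, 0, []⟩) (.leaf ⟨0, 12, 0, 0, []⟩))) (.node (.node (.leaf ⟨376, 9, 380, 5, [2541, 2431, 2564]⟩) (.leaf ⟨0, 12, 0, 0, []⟩)) (.node (.leaf ⟨942, 9, 943, 0, []⟩) (.leaf ⟨0, 12, 0, 0, []⟩)))) (.node (.node (.node (.leaf ⟨253, 8, 256, 40, [1527, 1542]⟩) (.leaf ⟨0, 12, 0, 0, []⟩)) (.node (.leaf ⟨412, 12, 914, 75, [4254, 5639, 5493]⟩) (.leaf ⟨0, 12, 0, 0, []⟩))) (.node (.node (.leaf ⟨556, 9, 557, 0, []⟩) (.leaf ⟨0, 12, 0, 0, []⟩)) (.node (.leaf ⟨1028, 4, 1034, 0, []⟩) (.leaf ⟨0, 12, 0, 0, []⟩)))))) (.node (.node (.node (.node (.node (.leaf ⟨40, 2, 41, 0, []⟩) (.leaf ⟨1011, 9, 1101, 4, [7441, 8362, 8448]⟩)) (.node (.leaf ⟨365, 8, 705, 40, [2450, 4358]⟩) (.leaf ⟨0, 12, 0,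 0, []⟩))) (.node (.node (.leaf ⟨347, 9, 145, 5, [2309, 1334, 858]⟩) (.leaf ⟨0, 12, 0, 0, []⟩)) (.node (.leaf ⟨579, 0, 777, 128, [6392, 5370, 5372, 6236, 3158, 3161, 2163, 2530, 2596, 4754]⟩) (.leaf ⟨0, 12, 0, 0, []⟩)))) (.node (.node (.node (.leaf ⟨72, 0, 211, 21, [586, 1282, 1286]⟩) (.leaf ⟨994, 4, 551, 75, [7223, 6118]⟩)) (.node (.leaf ⟨414, 8, 902, 40, [2802, 5382]⟩) (.leaf ⟨0, 12, 0, 0, []⟩))) (.node (.node (.leaf ⟨260, 4, 512, 43, [3326, 3332, 3334]⟩) (.leaf ⟨0, 12, 0, 0, []⟩)) (.node (.leaf ⟨938, 3, 1010, 30, [6641, 6543, 7428]⟩) (.leaf ⟨0, 12, 0, 0, []⟩))))) (.node (.node (.node (.node (.leaf ⟨63, 5, 132, 12, [383, 381, 774]⟩) (.leaf ⟨467, 0, 224, 77, [3085, 1596]⟩)) (.node (.leaf ⟨759, 4, 802, 0, []⟩) (.leaf ⟨0, 12, 0, 0, []⟩))) (.node (.node (.leaf ⟨427, 2, 286, 50, [2823, 2087]⟩)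 (.leaf ⟨0, 12, 0, 0, []⟩)) (.node (.leaf ⟨725, 1, 967, 8, [4451, 4678, 6918]⟩) (.leaf ⟨0, 12, 0, 0, []⟩)))) (.node (.node (.node (.leaf ⟨229, 1, 270, 11, [1403, 1768, 1798]⟩) (.leaf ⟨0, 12, 0, 0, []⟩)) (.node (.leaf ⟨853, 12, 642, 74, [5140, 5779, 4014]⟩) (.leaf ⟨0, 12, 0, 0, []⟩))) (.node (.node (.leaf ⟨411, 4, 604, 0, []⟩) (.leaf ⟨0, 12, 0, 0, []⟩)) (.node (.leaf ⟨925, 8, 1057, 40, [6527, 7942]⟩) (.leaf ⟨0, 12, 0, 0, []⟩))))))) (.node (.node (.node (.node (.node (.node (.leaf ⟨9, 2, 23, 26, [55, 54, 55, 18, 64, 69, 55, 38, 134]⟩) (.leaf ⟨1052, 4, 1090, 86, [7877, 7505, 7192, 7628, 7635, 4059, 4052, 8070, 8150, 8278, 8326]⟩)) (.node (.leaf ⟨670, 4, 684, 0, []⟩) (.leaf ⟨0, 12, 0, 0, []⟩))) (.node (.node (.leaf ⟨292, 0, 329, 0, []⟩) (.leaf ⟨0, 12, 0, 0, []⟩)) (.node (.leaf ⟨883, 12, 339, 75,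 [5296, 6279, 4387]⟩) (.leaf ⟨0, 12, 0, 0, []⟩)))) (.node (.node (.node (.leaf ⟨183, 4, 191, 24, [1097, 1122, 1158]⟩) (.leaf ⟨778, 1, 490, 36, [4954, 5986]⟩)) (.node (.leaf ⟨778, 0, 876, 96, [4763, 2529, 961, 895, 882, 2380, 2387, 2674, 5252]⟩) (.leaf ⟨0, 12, 0, 0, []⟩))) (.node (.node (.leaf ⟨274, 8, 488, 40, [2940, 3206]⟩) (.leaf ⟨0, 12, 0, 0, []⟩)) (.node (.leaf ⟨700, 3, 1002, 7, [6812, 6805, 7302]⟩) (.leaf ⟨0, 12, 0, 0, []⟩))))) (.node (.node (.node (.node (.leaf ⟨110, 8, 111, 0, []⟩) (.leaf ⟨381, 1, 654, 36, [4848, 5840]⟩)) (.node (.leaf ⟨761, 3, 774, 7, [4661, 2523, 4742]⟩) (.leaf ⟨0, 12, 0, 0, []⟩))) (.node (.node (.leaf ⟨254, 8, 403, 62, [1529, 562, 1555, 628, 1890, 2694]⟩) (.leaf ⟨0, 12, 0, 0, []⟩)) (.node (.leaf ⟨934, 9, 957, 5, [6587, 6632, 6786]⟩) (.leaf ⟨0, 12, 0, 0, []⟩)))) (.node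 (.node (.node (.leaf ⟨208, 3, 256, 30, [1271, 851, 1549, 1542]⟩) (.leaf ⟨0, 12, 0, 0, []⟩)) (.node (.leaf ⟨809, 12, 647, 34, [5767]⟩) (.leaf ⟨0, 12, 0, 0, []⟩))) (.node (.node (.leaf ⟨436, 2, 580, 0, []⟩) (.leaf ⟨0, 12, 0, 0, []⟩)) (.node (.leaf ⟨1044, 4, 1048, 0, []⟩) (.leaf ⟨0, 12, 0, 0, []⟩)))))) (.node (.node (.node (.node (.node (.leaf ⟨25, 4, 66, 43, [382, 388, 390]⟩) (.leaf ⟨1112, 8, 1112, 62, [8573, 8552, 8551, 8292, 8572]⟩)) (.node (.leaf ⟨452, 2, 732, 0, []⟩) (.leaf ⟨0, 12, 0, 0, []⟩))) (.node (.node (.leaf ⟨153, 9, 364, 5, [899, 1988, 2436]⟩) (.leaf ⟨0, 12, 0, 0, []⟩)) (.node (.leaf ⟨927, 2, 417, 50, [6535, 6529]⟩) (.leaf ⟨0, 12, 0, 0, []⟩)))) (.node (.node (.node (.leaf ⟨169, 8, 231, 40, [1040, 1414]⟩) (.leaf ⟨0, 12, 0, 0, []⟩)) (.node (.leaf ⟨662, 12, 594, 34, [5511]⟩) (.leaf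 ⟨0, 12, 0, 0, []⟩))) (.node (.node (.leaf ⟨467, 4, 533, 0, []⟩) (.leaf ⟨0, 12, 0, 0, []⟩)) (.node (.leaf ⟨1021, 2, 1022, 0, []⟩) (.leaf ⟨0, 12, 0, 0, []⟩))))) (.node (.node (.node (.node (.leaf ⟨56, 5, 153, 12, [347, 425, 900]⟩) (.leaf ⟨575, 2, 476, 38, [3706, 5742]⟩)) (.node (.leaf ⟨821, 1, 829, 11, [4959, 4955, 4996]⟩) (.leaf ⟨0, 12, 0, 0, []⟩))) (.node (.node (.leaf ⟨342, 8, 447, 3, [2281, 1990, 2946]⟩) (.leaf ⟨0, 12, 0, 0, []⟩)) (.node (.leaf ⟨561, 4, 977, 24, [3623, 6249, 7042]⟩) (.leaf ⟨0, 12, 0, 0, []⟩)))) (.node (.node (.node (.leaf ⟨162, 4, 289, 0, []⟩) (.leaf ⟨0, 12, 0, 0, []⟩)) (.node (.leaf ⟨442, 8, 754, 19, [6023, 4612]⟩) (.leaf ⟨0, 12, 0, 0, []⟩))) (.node (.node (.leaf ⟨315, 9, 633, 5, [2107, 3951, 3974]⟩) (.leaf ⟨0, 12, 0, 0, []⟩)) (.node (.leaf ⟨1028, 3, 1067, 30, [7623, 4663,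 8066]⟩) (.leaf ⟨0, 12, 0, 0, []⟩)))))))) (.node (.node (.node (.node (.node (.node (.node (.leaf ⟨12, 2, 12, 18, [71, 27, 70]⟩) (.leaf ⟨728, 8, 1082, 40, [6687, 8262]⟩)) (.node (.leaf ⟨655, 2, 671, 0, []⟩) (.leaf ⟨0, 12, 0, 0, []⟩))) (.node (.node (.leaf ⟨305, 2, 319, 0, []⟩) (.leaf ⟨0, 12, 0, 0, []⟩)) (.node (.leaf ⟨534, 12, 501, 34, [6215]⟩) (.leaf ⟨0, 12, 0, 0, []⟩)))) (.node (.node (.node (.leaf ⟨182, 8, 183, 0, []⟩) (.leaf ⟨717, 4, 893, 75, [6285, 5332]⟩)) (.node (.leaf ⟨850, 4, 864, 24, [5125, 5142, 5190]⟩) (.leaf ⟨0, 12, 0, 0, []⟩))) (.node (.node (.leaf ⟨409, 9, 477, 5, [3120, 3119, 3140]⟩) (.leaf ⟨0, 12, 0, 0, []⟩)) (.node (.leaf ⟨655, 3, 996, 10, [4089, 5885, 6174, 5226, 6182, 6481, 6482, 4617, 5420, 6884, 6881, 7084, 7238]⟩) (.leaf ⟨0, 12, 0, 0, []⟩))))) (.node (.node (.node (.node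 (.leaf ⟨75, 9, 95, 5, [437, 418, 582]⟩) (.leaf ⟨315, 4, 314, 75, [3892, 5616]⟩)) (.node (.leaf ⟨715, 3, 765, 7, [4409, 2950, 4678]⟩) (.leaf ⟨0, 12, 0, 0, []⟩))) (.node (.node (.leaf ⟨326, 2, 395, 0, []⟩) (.leaf ⟨0, 12, 0, 0, []⟩)) (.node (.leaf ⟨886, 12, 942, 4, [5305, 6725, 6727, 6665]⟩) (.leaf ⟨0, 12, 0, 0, []⟩)))) (.node (.node (.node (.leaf ⟨181, 12, 103, 34, [1607]⟩) (.leaf ⟨0, 12, 0, 0, []⟩)) (.node (.leaf ⟨439, 12, 299, 103, [2897, 2886, 4064, 5698, 3167, 3158, 3161, 2158, 730, 683, 1781, 1806, 2012]⟩) (.leaf ⟨0, 12, 0, 0, []⟩))) (.node (.node (.leaf ⟨496, 8, 566, 3, [3269, 3254, 3650]⟩) (.leaf ⟨0, 12, 0, 0, []⟩)) (.node (.leaf ⟨688, 0, 1042, 42, [5060, 5502, 5512, 3797, 5509, 5501, 5016, 6159, 6158, 6159, 7750]⟩) (.leaf ⟨0, 12, 0, 0, []⟩)))))) (.node (.node (.node (.node (.node (.leaf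 ⟨25, 8, 52, 40, [152, 326]⟩) (.leaf ⟨1107, 9, 1107, 4, [8515, 8505, 8514]⟩)) (.node (.leaf ⟨712, 8, 718, 40, [4390, 4422]⟩) (.leaf ⟨0, 12, 0, 0, []⟩))) (.node (.node (.leaf ⟨150, 9, 357, 46, [1010, 1015, 909, 2370]⟩) (.leaf ⟨0, 12, 0, 0, []⟩)) (.node (.leaf ⟨672, 4, 782, 86, [6321, 6366, 6247, 4330, 6242, 3017, 5961, 4531, 4526, 6031, 5287, 5051, 4754, 4780]⟩) (.leaf ⟨0, 12, 0, 0, []⟩)))) (.node (.node (.node (.leaf ⟨210, 8, 221, 40, [1286, 1350]⟩) (.leaf ⟨0, 12, 0, 0, []⟩)) (.node (.leaf ⟨476, 0, 912, 94, [3137, 3071, 2488, 2497, 1105, 1122, 1164, 2780, 5446]⟩) (.leaf ⟨0, 12, 0, 0, []⟩))) (.node (.node (.leaf ⟨516, 9, 522, 5, [3369, 3396, 3398]⟩) (.leaf ⟨0, 12, 0, 0, []⟩)) (.node (.leaf ⟨763, 8, 1016, 62, [4671, 2594, 2589, 6005, 4244, 7490]⟩) (.leaf ⟨0, 12, 0, 0, []⟩))))) (.node (.node (.node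 (.node (.leaf ⟨53, 0, 142, 21, [335, 614, 836]⟩) (.leaf ⟨519, 4, 875, 75, [5951, 5248]⟩)) (.node (.leaf ⟨433, 9, 817, 0, []⟩) (.leaf ⟨0, 12, 0, 0, []⟩))) (.node (.node (.leaf ⟨287, 0, 438, 44, [1909, 2854, 2857, 1977, 1976, 1977, 1254, 2542, 2886]⟩) (.leaf ⟨0, 12, 0, 0, []⟩)) (.node (.leaf ⟨555, 4, 972, 16, [3581, 3218, 3229, 3500, 3508, 6151, 6414, 6444, 5353, 6222, 6980]⟩) (.leaf ⟨0, 12, 0, 0, []⟩)))) (.node (.node (.node (.leaf ⟨280, 9, 275, 4, [1861, 1786, 1836]⟩) (.leaf ⟨0, 12, 0, 0, []⟩)) (.node (.leaf ⟨740, 12, 457, 34, [5959]⟩) (.leaf ⟨0, 12, 0, 0, []⟩))) (.node (.node (.leaf ⟨567, 0, 617, 0, []⟩) (.leaf ⟨0, 12, 0, 0, []⟩)) (.node (.leaf ⟨1045, 9, 1062, 46, [7787, 7226, 7225, 8000]⟩) (.leaf ⟨0, 12, 0, 0, []⟩))))))) (.node (.node (.node (.node (.node (.node (.leaf ⟨34, 2, 35, 13, [193,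 139, 196]⟩) (.leaf ⟨1083, 2, 1095, 29, [8267, 8259, 8236, 8229, 6667, 2808, 6684, 6679, 8388]⟩)) (.node (.leaf ⟨399, 3, 692, 27, [2675, 2394, 4288, 4291, 2329, 2204, 4294, 4295, 4294]⟩) (.leaf ⟨0, 12, 0, 0, []⟩))) (.node (.node (.leaf ⟨304, 1, 337, 11, [2047, 1949, 2246]⟩) (.leaf ⟨0, 12, 0, 0, []⟩)) (.node (.leaf ⟨852, 2, 864, 25, [6338, 6341]⟩) (.leaf ⟨0, 12, 0, 0, []⟩)))) (.node (.node (.node (.leaf ⟨201, 0, 201, 69, [1221, 681, 1220]⟩) (.leaf ⟨875, 0, 608, 77, [6166, 5680]⟩)) (.node (.leaf ⟨889, 2, 890, 0, []⟩) (.leaf ⟨0, 12, 0, 0, []⟩))) (.node (.node (.leaf ⟨257, 0, 497, 21, [1907, 3268, 3270]⟩) (.leaf ⟨0, 12, 0, 0, []⟩)) (.node (.leaf ⟨560, 1, 1006, 11, [3611, 7052, 7358]⟩) (.leaf ⟨0, 12, 0, 0, []⟩))))) (.node (.node (.node (.node (.leaf ⟨65, 3, 121, 7, [390, 704, 710]⟩) (.leaf ⟨406,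 1, 608, 36, [5388, 5680]⟩)) (.node (.leaf ⟨442, 2, 788, 0, []⟩) (.leaf ⟨0, 12, 0, 0, []⟩))) (.node (.node (.leaf ⟨192, 3, 412, 30, [2712, 2754, 2756]⟩) (.leaf ⟨0, 12, 0, 0, []⟩)) (.node (.leaf ⟨610, 1, 962, 8, [6379, 2914, 6852]⟩) (.leaf ⟨0, 12, 0, 0, []⟩)))) (.node (.node (.node (.leaf ⟨94, 0, 260, 21, [1148, 1732, 1734]⟩) (.leaf ⟨0, 12, 0, 0, []⟩)) (.node (.leaf ⟨785, 12, 665, 34, [5831]⟩) (.leaf ⟨0, 12, 0, 0, []⟩))) (.node (.node (.leaf ⟨315, 2, 591, 13, [2109, 2097, 3780]⟩) (.leaf ⟨0, 12, 0, 0, []⟩)) (.node (.leaf ⟨925, 1, 1052, 11, [6521, 6692, 7878]⟩) (.leaf ⟨0, 12, 0, 0, []⟩)))))) (.node (.node (.node (.node (.node (.leaf ⟨53, 9, 78, 4, [333, 174, 454]⟩) (.leaf ⟨88, 1, 224, 36, [1528, 1596]⟩)) (.node (.leaf ⟨736, 9, 744, 4, [4519, 4515, 4550]⟩) (.leaf ⟨0, 12, 0, 0, []⟩))) (.node (.node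 (.leaf ⟨219, 1, 371, 8, [1337, 1392, 2498]⟩) (.leaf ⟨0, 12, 0, 0, []⟩)) (.node (.leaf ⟨722, 4, 935, 84, [4441, 6418, 3633, 6417, 6590, 6589, 5966, 5434, 6598]⟩) (.leaf ⟨0, 12, 0, 0, []⟩)))) (.node (.node (.node (.leaf ⟨83, 5, 242, 28, [491, 1461, 1478]⟩) (.leaf ⟨0, 12, 0, 0, []⟩)) (.node (.leaf ⟨663, 12, 595, 34, [5575]⟩) (.leaf ⟨0, 12, 0, 0, []⟩))) (.node (.node (.leaf ⟨546, 9, 545, 4, [3527, 3433, 3524]⟩) (.leaf ⟨0, 12, 0, 0, []⟩)) (.node (.leaf ⟨571, 8, 1028, 40, [6457, 7622]⟩) (.leaf ⟨0, 12, 0, 0, []⟩))))) (.node (.node (.node (.node (.leaf ⟨165, 4, 157, 6, [967, 895, 925]⟩) (.leaf ⟨642, 4, 860, 75, [5897, 5172]⟩)) (.node (.leaf ⟨832, 8, 838, 40, [5020, 5062]⟩) (.leaf ⟨0, 12, 0, 0, []⟩))) (.node (.node (.leaf ⟨457, 4, 459, 0, []⟩) (.leaf ⟨0, 12, 0, 0, []⟩)) (.node (.leaf ⟨926, 9, 983,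 5, [6529, 6561, 7108]⟩) (.leaf ⟨0, 12, 0, 0, []⟩)))) (.node (.node (.node (.leaf ⟨215, 2, 297, 0, []⟩) (.leaf ⟨0, 12, 0, 0, []⟩)) (.node (.leaf ⟨541, 12, 804, 74, [3546, 6087, 5105]⟩) (.leaf ⟨0, 12, 0, 0, []⟩))) (.node (.node (.leaf ⟨317, 3, 647, 7, [2113, 4005, 4038]⟩) (.leaf ⟨0, 12, 0, 0, []⟩)) (.node (.leaf ⟨1072, 4, 955, 24, [8133, 4382, 6767]⟩) (.leaf ⟨0, 12, 0, 0, []⟩)))))))))

def fact5 : Arr (CFact) :=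
  (.node (.node (.node (.node (.node (.node (.node (.node (.leaf ⟨1, 2, 1, 2, [9, 6, 3, 8]⟩) (.leaf ⟨932, 2, 1078, 18, [6578, 6534, 8200]⟩)) (.node (.leaf ⟨658, 1, 659, 0, []⟩) (.leaf ⟨0, 12, 0, 0, []⟩))) (.node (.node (.leaf ⟨305, 9, 306, 0, []⟩) (.leaf ⟨0, 12, 0, 0, []⟩)) (.node (.leaf ⟨693, 4, 778, 111, [4506, 4505, 2323, 2328, 4548, 5258, 5263, 6050, 4501, 4497, 2337, 2324, 2680, 5282, 5287, 6042, 4582, 4579, 3059, 3050, 5942, 2973, 5952, 5252, 5257]⟩) (.leaf ⟨0, 12, 0, 0, []⟩)))) (.node (.node (.node (.leaf ⟨168, 9, 173, 4, [989, 469, 1032]⟩) (.leaf ⟨673, 1, 744, 36, [6183, 6011]⟩)) (.node (.leaf ⟨849, 0, 851, 0, []⟩) (.leaf ⟨0, 12, 0, 0, []⟩))) (.node (.node (.leaf ⟨466, 9, 467, 0, []⟩) (.leaf ⟨0, 12, 0, 0, []⟩)) (.node (.leaf ⟨973, 2, 990, 0, []⟩) (.leaf ⟨0, 12, 0, 0, []⟩))))) (.node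 (.node (.node (.node (.leaf ⟨39, 0, 88, 21, [476, 518, 520]⟩) (.leaf ⟨145, 4, 251, 75, [1573, 1514]⟩)) (.node (.leaf ⟨517, 9, 755, 4, [3373, 2730, 4616]⟩) (.leaf ⟨0, 12, 0, 0, []⟩))) (.node (.node (.leaf ⟨375, 8, 380, 40, [2534, 2568]⟩) (.leaf ⟨0, 12, 0, 0, []⟩)) (.node (.leaf ⟨423, 0, 943, 21, [6652, 6662, 6664]⟩) (.leaf ⟨0, 12, 0, 0, []⟩)))) (.node (.node (.node (.leaf ⟨143, 12, 252, 39, [1520, 1542, 1540, 1543]⟩) (.leaf ⟨0, 12, 0, 0, []⟩)) (.node (.leaf ⟨914, 12, 412, 34, [5641]⟩) (.leaf ⟨0, 12, 0, 0, []⟩))) (.node (.node (.leaf ⟨281, 0, 557, 21, [2829, 3588, 3592]⟩) (.leaf ⟨0, 12, 0, 0, []⟩)) (.node (.leaf ⟨987, 0, 1034, 100, [7434, 7443, 7439, 4801, 4663, 7678, 7677, 7627, 7688]⟩) (.leaf ⟨0, 12, 0, 0, []⟩)))))) (.node (.node (.node (.node (.node (.leaf ⟨41, 1, 41, 11, [265, 261, 264]⟩)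 (.leaf ⟨1041, 0, 1102, 0, []⟩)) (.node (.leaf ⟨343, 3, 705, 30, [2283, 2454, 4358]⟩) (.leaf ⟨0, 12, 0, 0, []⟩))) (.node (.node (.leaf ⟨209, 1, 348, 0, []⟩) (.leaf ⟨0, 12, 0, 0, []⟩)) (.node (.leaf ⟨442, 0, 582, 92, [2911, 2886, 3716, 6392, 5369, 6400, 4313, 2239, 1948, 2122, 3802, 5885, 6174, 3737]⟩) (.leaf ⟨0, 12, 0, 0, []⟩)))) (.node (.node (.node (.leaf ⟨198, 3, 211, 30, [1197, 1285, 1286]⟩) (.leaf ⟨996, 4, 539, 75, [7243, 6110]⟩)) (.node (.leaf ⟨406, 5, 902, 28, [2715, 2804, 5382]⟩) (.leaf ⟨0, 12, 0, 0, []⟩))) (.node (.node (.leaf ⟨504, 9, 512, 4, [3301, 1734, 3336]⟩) (.leaf ⟨0, 12, 0, 0, []⟩)) (.node (.leaf ⟨987, 2, 1011, 0, []⟩) (.leaf ⟨0, 12, 0, 0, []⟩))))) (.node (.node (.node (.node (.leaf ⟨94, 4, 133, 0, []⟩) (.leaf ⟨467, 4, 259, 75, [3464, 6212]⟩)) (.node (.leaf ⟨802, 9, 799, 4,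 [4873, 4651, 4864]⟩) (.leaf ⟨0, 12, 0, 0, []⟩))) (.node (.node (.leaf ⟨427, 4, 194, 6, [2823, 2081, 1173]⟩) (.leaf ⟨0, 12, 0, 0, []⟩)) (.node (.leaf ⟨924, 9, 967, 4, [6552, 6559, 6918]⟩) (.leaf ⟨0, 12, 0, 0, []⟩)))) (.node (.node (.node (.leaf ⟨98, 9, 270, 5, [599, 1770, 1798]⟩) (.leaf ⟨0, 12, 0, 0, []⟩)) (.node (.leaf ⟨435, 12, 295, 36, [2878, 5757, 3729]⟩) (.leaf ⟨0, 12, 0, 0, []⟩))) (.node (.node (.leaf ⟨600, 9, 604, 4, [3833, 2793, 3848]⟩) (.leaf ⟨0, 12, 0, 0, []⟩)) (.node (.leaf ⟨635, 3, 1057, 30, [3981, 4276, 4272, 7942]⟩) (.leaf ⟨0, 12, 0, 0, []⟩))))))) (.node (.node (.node (.node (.node (.node (.leaf ⟨11, 3, 23, 27, [65, 32, 134, 137, 55, 38, 134, 135, 134]⟩) (.leaf ⟨1059, 1, 1090, 11, [7965, 8282, 8326]⟩)) (.node (.leaf ⟨684, 9, 679, 4, [4233, 4166, 4210]⟩) (.leaf ⟨0, 12, 0, 0, []⟩)))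 (.node (.node (.leaf ⟨192, 2, 329, 29, [1165, 1178, 2054, 2120, 2123, 2046, 2049, 1958, 2184]⟩) (.leaf ⟨0, 12, 0, 0, []⟩)) (.node (.leaf ⟨884, 12, 710, 36, [5299, 6279, 4385]⟩) (.leaf ⟨0, 12, 0, 0, []⟩)))) (.node (.node (.node (.leaf ⟨65, 9, 191, 4, [389, 1099, 1160]⟩) (.leaf ⟨786, 1, 486, 36, [4803, 6078]⟩)) (.node (.leaf ⟨743, 4, 877, 0, []⟩) (.leaf ⟨0, 12, 0, 0, []⟩))) (.node (.node (.leaf ⟨268, 3, 488, 30, [1838, 2942, 3206]⟩) (.leaf ⟨0, 12, 0, 0, []⟩)) (.node (.leaf ⟨895, 2, 1002, 13, [6385, 3443, 7302]⟩) (.leaf ⟨0, 12, 0, 0, []⟩))))) (.node (.node (.node (.node (.leaf ⟨111, 8, 47, 19, [649, 647]⟩) (.leaf ⟨381, 2, 277, 38, [2576, 6096]⟩)) (.node (.leaf ⟨762, 2, 774, 13, [4665, 2539, 4742]⟩) (.leaf ⟨0, 12, 0, 0, []⟩))) (.node (.node (.leaf ⟨337, 0, 404, 0, []⟩) (.leaf ⟨0, 12, 0, 0, []⟩))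 (.node (.leaf ⟨935, 8, 957, 40, [6607, 6792]⟩) (.leaf ⟨0, 12, 0, 0, []⟩)))) (.node (.node (.node (.leaf ⟨174, 5, 256, 28, [1041, 1037, 1549, 1542]⟩) (.leaf ⟨0, 12, 0, 0, []⟩)) (.node (.leaf ⟨639, 12, 850, 36, [4038, 5769, 5128]⟩) (.leaf ⟨0, 12, 0, 0, []⟩))) (.node (.node (.leaf ⟨317, 0, 580, 94, [2115, 723, 728, 730, 681, 1232, 1246, 2880, 3720]⟩) (.leaf ⟨0, 12, 0, 0, []⟩)) (.node (.leaf ⟨858, 5, 1048, 59, [5164, 6335, 5460, 6361, 6510, 6552, 7450, 7445, 6119, 7222, 7778, 7781, 7816]⟩) (.leaf ⟨0, 12, 0, 0, []⟩)))))) (.node (.node (.node (.node (.node (.leaf ⟨52, 4, 67, 0, []⟩) (.leaf ⟨2, 0, 2, 77, [54, 230]⟩)) (.node (.leaf ⟨563, 1, 732, 11, [3633, 2978, 4488]⟩) (.leaf ⟨0, 12, 0, 0, []⟩))) (.node (.node (.leaf ⟨338, 3, 364, 30, [2263, 902, 2440]⟩) (.leaf ⟨0, 12, 0, 0, []⟩)) (.node (.leaf ⟨418,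 4, 928, 0, []⟩) (.leaf ⟨0, 12, 0, 0, []⟩)))) (.node (.node (.node (.leaf ⟨103, 3, 231, 30, [834, 1042, 1414]⟩) (.leaf ⟨0, 12, 0, 0, []⟩)) (.node (.leaf ⟨305, 12, 321, 35, [3799, 5513, 4131]⟩) (.leaf ⟨0, 12, 0, 0, []⟩))) (.node (.node (.leaf ⟨478, 9, 533, 4, [3151, 3082, 3464]⟩) (.leaf ⟨0, 12, 0, 0, []⟩)) (.node (.leaf ⟨1022, 2, 860, 50, [7561, 7553]⟩) (.leaf ⟨0, 12, 0, 0, []⟩))))) (.node (.node (.node (.node (.leaf ⟨151, 8, 154, 0, []⟩) (.leaf ⟨575, 4, 528, 75, [3710, 6370]⟩)) (.node (.leaf ⟨386, 3, 829, 7, [2589, 4961, 5000]⟩) (.leaf ⟨0, 12, 0, 0, []⟩))) (.node (.node (.leaf ⟨343, 9, 447, 39, [2285, 1988, 2946]⟩) (.leaf ⟨0, 12, 0, 0, []⟩)) (.node (.leaf ⟨506, 5, 977, 59, [3315, 6221, 3123, 3113, 3037, 1391, 1364, 2236, 2852, 2851, 3616, 7048]⟩) (.leaf ⟨0, 12, 0, 0, []⟩)))) (.node (.node (.node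 (.leaf ⟨287, 2, 289, 68, [1917, 658, 652, 590, 630, 1426, 1425, 1015, 909, 954, 1928]⟩) (.leaf ⟨0, 12, 0, 0, []⟩)) (.node (.leaf ⟨880, 12, 735, 64, [5279, 5962, 4605, 6018, 6013, 4519]⟩) (.leaf ⟨0, 12, 0, 0, []⟩))) (.node (.node (.leaf ⟨630, 0, 634, 0, []⟩) (.leaf ⟨0, 12, 0, 0, []⟩)) (.node (.leaf ⟨849, 1, 1067, 20, [5123, 2617, 2432, 4660, 8066]⟩) (.leaf ⟨0, 12, 0, 0, []⟩)))))))) (.node (.node (.node (.node (.node (.node (.node (.leaf ⟨12, 8, 13, 0, []⟩) (.leaf ⟨1082, 0, 1083, 0, []⟩)) (.node (.leaf ⟨594, 1, 671, 11, [3797, 4090, 4168]⟩) (.leaf ⟨0, 12, 0, 0, []⟩))) (.node (.node (.leaf ⟨291, 0, 319, 44, [1947, 1940, 2037, 2035, 2034, 2035, 1180, 2054, 2120]⟩) (.leaf ⟨0, 12, 0, 0, []⟩)) (.node (.leaf ⟨260, 12, 472, 76, [1735, 6213, 3469]⟩) (.leaf ⟨0, 12, 0, 0, []⟩)))) (.node (.node (.node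 (.leaf ⟨183, 8, 63, 19, [1097, 1095]⟩) (.leaf ⟨717, 8, 927, 76, [6285, 6562]⟩)) (.node (.leaf ⟨814, 1, 864, 8, [4921, 5128, 5192]⟩) (.leaf ⟨0, 12, 0, 0, []⟩))) (.node (.node (.leaf ⟨408, 8, 477, 40, [2730, 3144]⟩) (.leaf ⟨0, 12, 0, 0, []⟩)) (.node (.leaf ⟨796, 5, 996, 59, [4852, 5839, 4211, 5785, 2567, 2175, 955, 908, 2444, 3066, 3238, 7078, 7238]⟩) (.leaf ⟨0, 12, 0, 0, []⟩))))) (.node (.node (.node (.node (.leaf ⟨72, 8, 95, 40, [438, 584]⟩) (.leaf ⟨316, 8, 392, 76, [3965, 5778]⟩)) (.node (.leaf ⟨716, 4, 766, 0, []⟩) (.leaf ⟨0, 12, 0, 0, []⟩))) (.node (.node (.leaf ⟨395, 2, 307, 50, [2633, 2157]⟩) (.leaf ⟨0, 12, 0, 0, []⟩)) (.node (.leaf ⟨942, 12, 886, 34, [6729]⟩) (.leaf ⟨0, 12, 0, 0, []⟩)))) (.node (.node (.node (.leaf ⟨100, 12, 200, 76, [619, 1609, 1210]⟩) (.leaf ⟨0, 12, 0, 0, []⟩)) (.node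 (.leaf ⟨265, 12, 793, 76, [2016, 5705, 4836]⟩) (.leaf ⟨0, 12, 0, 0, []⟩))) (.node (.node (.leaf ⟨497, 9, 566, 39, [3273, 3264, 3650]⟩) (.leaf ⟨0, 12, 0, 0, []⟩)) (.node (.leaf ⟨887, 4, 1042, 86, [7018, 7027, 3297, 3292, 6834, 6827, 3698, 3701, 4042, 5684, 7750]⟩) (.leaf ⟨0, 12, 0, 0, []⟩)))))) (.node (.node (.node (.node (.node (.leaf ⟨19, 3, 52, 30, [109, 157, 326]⟩) (.leaf ⟨1107, 2, 1105, 50, [8519, 8507]⟩)) (.node (.leaf ⟨397, 0, 719, 0, []⟩) (.leaf ⟨0, 12, 0, 0, []⟩))) (.node (.node (.leaf ⟨149, 8, 357, 3, [883, 876, 2370]⟩) (.leaf ⟨0, 12, 0, 0, []⟩)) (.node (.leaf ⟨892, 4, 765, 43, [5331, 5316, 6268, 4678]⟩) (.leaf ⟨0, 12, 0, 0, []⟩)))) (.node (.node (.node (.leaf ⟨75, 0, 221, 21, [439, 1288, 1350]⟩) (.leaf ⟨0, 12, 0, 0, []⟩)) (.node (.leaf ⟨412, 5, 912, 57, [2759, 1157, 449, 450, 1128,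 2732, 5420, 5415, 5446]⟩) (.leaf ⟨0, 12, 0, 0, []⟩))) (.node (.node (.leaf ⟨266, 5, 522, 28, [1775, 3371, 3400]⟩) (.leaf ⟨0, 12, 0, 0, []⟩)) (.node (.leaf ⟨992, 4, 1017, 0, []⟩) (.leaf ⟨0, 12, 0, 0, []⟩))))) (.node (.node (.node (.node (.leaf ⟨107, 2, 142, 29, [633, 577, 281, 142, 324, 331, 340, 337, 840]⟩) (.leaf ⟨524, 4, 433, 75, [3626, 5752]⟩)) (.node (.leaf ⟨384, 0, 817, 21, [4919, 4916, 4936]⟩) (.leaf ⟨0, 12, 0, 0, []⟩))) (.node (.node (.leaf ⟨295, 9, 438, 5, [2668, 2671, 2886]⟩) (.leaf ⟨0, 12, 0, 0, []⟩)) (.node (.leaf ⟨558, 5, 972, 56, [4640, 4639, 2421, 2371, 908, 1318, 2510, 2982, 6980]⟩) (.leaf ⟨0, 12, 0, 0, []⟩)))) (.node (.node (.node (.leaf ⟨225, 4, 281, 0, []⟩) (.leaf ⟨0, 12, 0, 0, []⟩)) (.node (.leaf ⟨879, 12, 753, 36, [5273, 5933, 4606]⟩) (.leaf ⟨0, 12, 0, 0, []⟩))) (.node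 (.node (.leaf ⟨617, 9, 618, 0, []⟩) (.leaf ⟨0, 12, 0, 0, []⟩)) (.node (.leaf ⟨994, 8, 1062, 3, [7227, 6364, 8000]⟩) (.leaf ⟨0, 12, 0, 0, []⟩))))))) (.node (.node (.node (.node (.node (.node (.leaf ⟨10, 0, 36, 0, []⟩) (.leaf ⟨1086, 5, 1095, 56, [8291, 8267, 8257, 8242, 8312, 8325, 7891, 6646, 8388]⟩)) (.node (.leaf ⟨463, 2, 692, 89, [3051, 2005, 3210, 3478, 3481, 1851, 606, 997, 1678, 977, 1080, 1670, 829, 2204, 4294]⟩) (.leaf ⟨0, 12, 0, 0, []⟩))) (.node (.node (.leaf ⟨189, 3, 337, 7, [1147, 2050, 2248]⟩) (.leaf ⟨0, 12, 0, 0, []⟩)) (.node (.leaf ⟨644, 9, 867, 5, [6341, 5191, 5204]⟩) (.leaf ⟨0, 12, 0, 0, []⟩)))) (.node (.node (.node (.leaf ⟨201, 2, 111, 52, [1225, 1223, 655, 654, 655, 666, 665, 308, 653]⟩) (.leaf ⟨875, 4, 674, 75, [6164, 6178]⟩)) (.node (.leaf ⟨883, 9, 890, 5, [5295, 5318, 5320]⟩)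 (.leaf ⟨0, 12, 0, 0, []⟩))) (.node (.node (.leaf ⟨259, 2, 498, 0, []⟩) (.leaf ⟨0, 12, 0, 0, []⟩)) (.node (.leaf ⟨976, 9, 1006, 5, [7029, 7054, 7358]⟩) (.leaf ⟨0, 12, 0, 0, []⟩))))) (.node (.node (.node (.node (.leaf ⟨49, 4, 121, 43, [314, 702, 710]⟩) (.leaf ⟨410, 1, 695, 36, [4318, 6400]⟩)) (.node (.leaf ⟨438, 1, 788, 11, [2887, 2910, 4808]⟩) (.leaf ⟨0, 12, 0, 0, []⟩))) (.node (.node (.leaf ⟨329, 2, 412, 25, [2187, 2760]⟩) (.leaf ⟨0, 12, 0, 0, []⟩)) (.node (.leaf ⟨582, 9, 962, 4, [3735, 5756, 2918, 6852]⟩) (.leaf ⟨0, 12, 0, 0, []⟩)))) (.node (.node (.node (.leaf ⟨189, 2, 261, 0, []⟩) (.leaf ⟨0, 12, 0, 0, []⟩)) (.node (.leaf ⟨670, 12, 376, 35, [4165, 5833, 4799]⟩) (.leaf ⟨0, 12, 0, 0, []⟩))) (.node (.node (.leaf ⟨591, 4, 592, 0, []⟩) (.leaf ⟨0, 12, 0, 0, []⟩)) (.node (.leaf ⟨602, 9, 1052, 5,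 [3839, 6694, 7878]⟩) (.leaf ⟨0, 12, 0, 0, []⟩)))))) (.node (.node (.node (.node (.node (.leaf ⟨45, 8, 78, 40, [334, 456]⟩) (.leaf ⟨88, 2, 78, 38, [524, 1664]⟩)) (.node (.leaf ⟨744, 2, 745, 0, []⟩) (.leaf ⟨0, 12, 0, 0, []⟩))) (.node (.node (.leaf ⟨225, 9, 371, 4, [1387, 1394, 2498]⟩) (.leaf ⟨0, 12, 0, 0, []⟩)) (.node (.leaf ⟨758, 1, 935, 11, [4641, 6302, 6598]⟩) (.leaf ⟨0, 12, 0, 0, []⟩)))) (.node (.node (.node (.leaf ⟨83, 1, 243, 0, []⟩) (.leaf ⟨0, 12, 0, 0, []⟩)) (.node (.leaf ⟨322, 12, 596, 37, [3804, 5577, 4139]⟩) (.leaf ⟨0, 12, 0, 0, []⟩))) (.node (.node (.leaf ⟨535, 2, 547, 0, []⟩) (.leaf ⟨0, 12, 0, 0, []⟩)) (.node (.leaf ⟨1028, 0, 1028, 21, [7623, 4667, 7622]⟩) (.leaf ⟨0, 12, 0, 0, []⟩))))) (.node (.node (.node (.node (.leaf ⟨165, 9, 159, 5, [967, 896, 932]⟩) (.leaf ⟨643, 0, 392, 77,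 [4021, 5778]⟩)) (.node (.leaf ⟨783, 4, 839, 0, []⟩) (.leaf ⟨0, 12, 0, 0, []⟩))) (.node (.node (.leaf ⟨459, 1, 460, 0, []⟩) (.leaf ⟨0, 12, 0, 0, []⟩)) (.node (.leaf ⟨932, 8, 983, 40, [6578, 7112]⟩) (.leaf ⟨0, 12, 0, 0, []⟩)))) (.node (.node (.node (.leaf ⟨267, 1, 297, 11, [1779, 1320, 1992]⟩) (.leaf ⟨0, 12, 0, 0, []⟩)) (.node (.leaf ⟨768, 12, 541, 34, [5887, 6089]⟩) (.leaf ⟨0, 12, 0, 0, []⟩))) (.node (.node (.leaf ⟨318, 4, 648, 0, []⟩) (.leaf ⟨0, 12, 0, 0, []⟩)) (.node (.leaf ⟨1072, 1, 1024, 146, [8133, 4377, 2268, 4408, 7584]⟩) (.leaf ⟨0, 12, 0, 0, []⟩)))))))))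

def fact6 : Arr (CFact) :=
  (.node (.node (.node (.node (.node (.node (.node (.node (.leaf ⟨1, 8, 1, 3, [9, 6, 8]⟩) (.leaf ⟨1024, 4, 1078, 24, [7587, 7447, 8200]⟩)) (.node (.leaf ⟨320, 4, 659, 43, [3808, 4104, 4106]⟩) (.leaf ⟨0, 12, 0, 0, []⟩))) (.node (.node (.leaf ⟨119, 0, 306, 21, [1185, 2054, 2058]⟩) (.leaf ⟨0, 12, 0, 0, []⟩)) (.node (.leaf ⟨599, 4, 830, 108, [6045, 6046, 2917, 5727, 3645, 2014, 2011, 1767, 655, 668, 1183, 2066, 2068, 1739, 1744, 2272, 4300, 6154, 5256, 5255]⟩) (.leaf ⟨0, 12, 0, 0, []⟩)))) (.node (.node (.node (.leaf ⟨143, 4, 169, 64, [847, 1030, 1033, 999]⟩) (.leaf ⟨673, 2, 1005, 38, [6183, 7348]⟩)) (.node (.leaf ⟨851, 9, 852, 0, []⟩) (.leaf ⟨0, 12, 0, 0, []⟩))) (.node (.node (.leaf ⟨254, 0, 467, 21, [2696, 3078, 3082]⟩) (.leaf ⟨0, 12, 0, 0, []⟩)) (.node (.leaf ⟨896,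 0, 990, 42, [5353, 6222, 6980, 6983, 5313, 4489, 6992, 6993, 6992, 7178]⟩) (.leaf ⟨0, 12, 0, 0, []⟩))))) (.node (.node (.node (.node (.leaf ⟨88, 2, 82, 29, [523, 256, 83, 72, 82, 240, 478, 471, 488]⟩) (.leaf ⟨163, 2, 324, 38, [2564, 5784]⟩)) (.node (.leaf ⟨755, 1, 756, 0, []⟩) (.leaf ⟨0, 12, 0, 0, []⟩))) (.node (.node (.leaf ⟨374, 3, 380, 30, [2525, 2538, 2568]⟩) (.leaf ⟨0, 12, 0, 0, []⟩)) (.node (.leaf ⟨494, 1, 943, 140, [4498, 6628, 6631, 2787, 5661, 2805, 1169, 390, 1703, 1191, 391, 1168, 2806, 6666]⟩) (.leaf ⟨0, 12, 0, 0, []⟩)))) (.node (.node (.node (.leaf ⟨252, 12, 143, 34, [1547]⟩) (.leaf ⟨0, 12, 0, 0, []⟩)) (.node (.leaf ⟨329, 12, 414, 38, [2762, 5643, 5463]⟩) (.leaf ⟨0, 12, 0, 0, []⟩))) (.node (.node (.leaf ⟨528, 3, 557, 27, [3437, 2822, 3588, 3591, 3273, 1870, 3594, 3595, 3594]⟩)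 (.leaf ⟨0, 12, 0, 0, []⟩)) (.node (.leaf ⟨860, 1, 1034, 8, [5173, 5896, 7620, 7688]⟩) (.leaf ⟨0, 12, 0, 0, []⟩)))))) (.node (.node (.node (.node (.node (.leaf ⟨39, 9, 41, 5, [253, 262, 264]⟩) (.leaf ⟨1099, 2, 1102, 52, [8427, 7717, 8410, 8411, 8410, 8415, 7735, 7740, 8458]⟩)) (.node (.leaf ⟨705, 4, 706, 0, []⟩) (.leaf ⟨0, 12, 0, 0, []⟩))) (.node (.node (.leaf ⟨255, 3, 348, 7, [1536, 1677, 2314]⟩) (.leaf ⟨0, 12, 0, 0, []⟩)) (.node (.leaf ⟨744, 3, 582, 65, [5982, 4903, 4976, 6006, 4249, 2183, 2346, 2958, 5911, 4815, 6410]⟩) (.leaf ⟨0, 12, 0, 0, []⟩)))) (.node (.node (.node (.leaf ⟨157, 8, 212, 0, []⟩) (.leaf ⟨1003, 0, 501, 77, [7321, 6216]⟩)) (.node (.leaf ⟨406, 1, 903, 0, []⟩) (.leaf ⟨0, 12, 0, 0, []⟩))) (.node (.node (.leaf ⟨505, 8, 512, 40, [3304, 3338]⟩) (.leaf ⟨0, 12, 0, 0, []⟩)) (.node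 (.leaf ⟨536, 1, 1011, 11, [3489, 7158, 7434]⟩) (.leaf ⟨0, 12, 0, 0, []⟩))))) (.node (.node (.node (.node (.leaf ⟨130, 1, 133, 8, [757, 580, 778]⟩) (.leaf ⟨469, 4, 447, 75, [5316, 6268]⟩)) (.node (.leaf ⟨796, 4, 803, 0, []⟩) (.leaf ⟨0, 12, 0, 0, []⟩))) (.node (.node (.leaf ⟨427, 9, 281, 5, [2823, 2084, 1872]⟩) (.leaf ⟨0, 12, 0, 0, []⟩)) (.node (.leaf ⟨863, 0, 967, 21, [5213, 6512, 6922]⟩) (.leaf ⟨0, 12, 0, 0, []⟩)))) (.node (.node (.node (.leaf ⟨111, 5, 270, 28, [650, 602, 1802]⟩) (.leaf ⟨0, 12, 0, 0, []⟩)) (.node (.leaf ⟨398, 12, 522, 37, [2667, 5749, 3398]⟩) (.leaf ⟨0, 12, 0, 0, []⟩))) (.node (.node (.leaf ⟨604, 2, 605, 0, []⟩) (.leaf ⟨0, 12, 0, 0, []⟩)) (.node (.leaf ⟨1057, 4, 1058, 0, []⟩) (.leaf ⟨0, 12, 0, 0, []⟩))))))) (.node (.node (.node (.node (.node (.node (.leaf ⟨20, 8, 24, 0, []⟩)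 (.leaf ⟨939, 9, 1090, 5, [6651, 8284, 8326]⟩)) (.node (.leaf ⟨653, 2, 685, 0, []⟩) (.leaf ⟨0, 12, 0, 0, []⟩))) (.node (.node (.leaf ⟨308, 8, 329, 3, [2073, 1964, 2184]⟩) (.leaf ⟨0, 12, 0, 0, []⟩)) (.node (.leaf ⟨891, 12, 717, 36, [5327, 6275, 4419]⟩) (.leaf ⟨0, 12, 0, 0, []⟩)))) (.node (.node (.node (.leaf ⟨186, 0, 192, 0, []⟩) (.leaf ⟨788, 0, 703, 77, [5979, 6238]⟩)) (.node (.leaf ⟨836, 3, 877, 17, [5041, 2627, 965, 932, 937, 1304, 2476, 4542, 5258]⟩) (.leaf ⟨0, 12, 0, 0, []⟩))) (.node (.node (.leaf ⟨358, 5, 488, 28, [2389, 2944, 3206]⟩) (.leaf ⟨0, 12, 0, 0, []⟩)) (.node (.leaf ⟨754, 5, 1002, 12, [5416, 6466, 7302]⟩) (.leaf ⟨0, 12, 0, 0, []⟩))))) (.node (.node (.node (.node (.leaf ⟨111, 0, 48, 51, [650, 406, 410, 409]⟩) (.leaf ⟨381, 4, 671, 75, [4864, 5856]⟩)) (.node (.leaf ⟨774, 4, 775,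 0, []⟩) (.leaf ⟨0, 12, 0, 0, []⟩))) (.node (.node (.leaf ⟨260, 2, 404, 26, [1737, 1736, 1737, 772, 2242, 2244, 1733, 2250, 2698]⟩) (.leaf ⟨0, 12, 0, 0, []⟩)) (.node (.leaf ⟨426, 3, 957, 30, [2819, 6594, 6792]⟩) (.leaf ⟨0, 12, 0, 0, []⟩)))) (.node (.node (.node (.leaf ⟨209, 2, 256, 63, [1281, 1042, 1674]⟩) (.leaf ⟨0, 12, 0, 0, []⟩)) (.node (.leaf ⟨850, 12, 639, 34, [5771]⟩) (.leaf ⟨0, 12, 0, 0, []⟩))) (.node (.node (.leaf ⟨574, 9, 580, 5, [3699, 2884, 3720]⟩) (.leaf ⟨0, 12, 0, 0, []⟩)) (.node (.leaf ⟨717, 0, 1048, 143, [4417, 4412, 7708, 7699, 6345, 5135, 2618, 5779, 4032, 5893, 5082, 7782, 7816]⟩) (.leaf ⟨0, 12, 0, 0, []⟩)))))) (.node (.node (.node (.node (.node (.leaf ⟨67, 9, 66, 4, [395, 329, 392]⟩) (.leaf ⟨3, 0, 6, 77, [64, 234]⟩)) (.node (.leaf ⟨730, 9, 732, 5, [4477, 2984, 4488]⟩) (.leaf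 ⟨0, 12, 0, 0, []⟩))) (.node (.node (.leaf ⟨154, 5, 364, 28, [913, 904, 2440]⟩) (.leaf ⟨0, 12, 0, 0, []⟩)) (.node (.leaf ⟨548, 3, 928, 10, [3541, 3479, 3211, 1785, 1778, 2083, 2081, 1126, 1164, 2780, 6538]⟩) (.leaf ⟨0, 12, 0, 0, []⟩)))) (.node (.node (.node (.leaf ⟨79, 5, 231, 28, [467, 1044, 1414]⟩) (.leaf ⟨0, 12, 0, 0, []⟩)) (.node (.leaf ⟨321, 12, 305, 34, [5515]⟩) (.leaf ⟨0, 12, 0, 0, []⟩))) (.node (.node (.leaf ⟨472, 8, 533, 40, [3152, 3466]⟩) (.leaf ⟨0, 12, 0, 0, []⟩)) (.node (.leaf ⟨1022, 9, 551, 46, [7561, 7555, 7451, 6557]⟩) (.leaf ⟨0, 12, 0, 0, []⟩))))) (.node (.node (.node (.node (.leaf ⟨148, 2, 154, 18, [877, 890, 906]⟩) (.leaf ⟨578, 1, 528, 36, [3713, 6370]⟩)) (.node (.leaf ⟨387, 0, 830, 0, []⟩) (.leaf ⟨0, 12, 0, 0, []⟩))) (.node (.node (.leaf ⟨216, 2, 448, 0, []⟩) (.leaf ⟨0, 12,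 0, 0, []⟩)) (.node (.leaf ⟨531, 1, 977, 8, [3453, 3618, 7048]⟩) (.leaf ⟨0, 12, 0, 0, []⟩)))) (.node (.node (.node (.leaf ⟨126, 1, 289, 8, [735, 956, 1928]⟩) (.leaf ⟨0, 12, 0, 0, []⟩)) (.node (.leaf ⟨739, 12, 881, 36, [4529, 6027, 5280]⟩) (.leaf ⟨0, 12, 0, 0, []⟩))) (.node (.node (.leaf ⟨634, 9, 635, 0, []⟩) (.leaf ⟨0, 12, 0, 0, []⟩)) (.node (.leaf ⟨1033, 2, 1067, 13, [7681, 5168, 8074]⟩) (.leaf ⟨0, 12, 0, 0, []⟩)))))))) (.node (.node (.node (.node (.node (.node (.node (.leaf ⟨13, 2, 13, 18, [75, 72, 74]⟩) (.leaf ⟨1083, 5, 1083, 102, [8267, 8259, 7878, 7877, 7499, 8154, 8176, 8256, 8266]⟩)) (.node (.leaf ⟨323, 5, 671, 12, [2145, 3799, 4170]⟩) (.leaf ⟨0, 12, 0, 0, []⟩))) (.node (.node (.leaf ⟨303, 9, 319, 5, [2096, 2095, 2120]⟩) (.leaf ⟨0, 12, 0, 0, []⟩)) (.node (.leaf ⟨472, 12, 260, 34, [6219]⟩)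 (.leaf ⟨0, 12, 0, 0, []⟩)))) (.node (.node (.node (.leaf ⟨183, 0, 64, 51, [1098, 444, 448, 447]⟩) (.leaf ⟨721, 2, 540, 38, [4440, 6150]⟩)) (.node (.leaf ⟨393, 9, 864, 4, [2623, 5127, 5192]⟩) (.leaf ⟨0, 12, 0, 0, []⟩))) (.node (.node (.leaf ⟨228, 3, 477, 30, [1399, 2737, 3144]⟩) (.leaf ⟨0, 12, 0, 0, []⟩)) (.node (.leaf ⟨671, 2, 996, 47, [4173, 4186, 6179, 6165, 6163, 5407, 6612, 6623, 5434, 6598, 7084, 7238]⟩) (.leaf ⟨0, 12, 0, 0, []⟩))))) (.node (.node (.node (.node (.leaf ⟨44, 5, 95, 28, [295, 440, 584]⟩) (.leaf ⟨317, 0, 433, 77, [3722, 5754]⟩)) (.node (.leaf ⟨713, 1, 766, 8, [4393, 4414, 4682]⟩) (.leaf ⟨0, 12, 0, 0, []⟩))) (.node (.node (.leaf ⟨395, 4, 165, 6, [2633, 2163, 1263]⟩) (.leaf ⟨0, 12, 0, 0, []⟩)) (.node (.leaf ⟨938, 1, 952, 0, []⟩) (.leaf ⟨0, 12, 0, 0, []⟩)))) (.node (.node (.node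 (.leaf ⟨200, 12, 100, 34, [1611]⟩) (.leaf ⟨0, 12, 0, 0, []⟩)) (.node (.leaf ⟨793, 12, 265, 34, [5707]⟩) (.leaf ⟨0, 12, 0, 0, []⟩))) (.node (.node (.leaf ⟨306, 4, 567, 0, []⟩) (.leaf ⟨0, 12, 0, 0, []⟩)) (.node (.leaf ⟨588, 3, 1042, 103, [3767, 2036, 5671, 3661, 3814, 7750, 7753, 4267, 2764, 5528, 2186, 4266, 7752]⟩) (.leaf ⟨0, 12, 0, 0, []⟩)))))) (.node (.node (.node (.node (.node (.leaf ⟨28, 4, 53, 0, []⟩) (.leaf ⟨1106, 0, 1107, 149, [8509, 8437, 7735, 8358, 8486, 8495, 8472, 8471, 7729, 8432, 8508, 8507, 8503, 8523]⟩)) (.node (.leaf ⟨494, 3, 719, 41, [3253, 2214, 2211, 902, 2452, 3344, 3343, 2654, 4426]⟩) (.leaf ⟨0, 12, 0, 0, []⟩))) (.node (.node (.leaf ⟨149, 2, 358, 0, []⟩) (.leaf ⟨0, 12, 0, 0, []⟩)) (.node (.leaf ⟨885, 4, 727, 6, [5301, 6282, 4383, 4462]⟩) (.leaf ⟨0, 12, 0, 0, []⟩)))) (.node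 (.node (.node (.leaf ⟨196, 3, 221, 30, [1194, 1290, 1350]⟩) (.leaf ⟨0, 12, 0, 0, []⟩)) (.node (.leaf ⟨910, 9, 912, 5, [5433, 2784, 5446]⟩) (.leaf ⟨0, 12, 0, 0, []⟩))) (.node (.node (.leaf ⟨266, 1, 523, 0, []⟩) (.leaf ⟨0, 12, 0, 0, []⟩)) (.node (.leaf ⟨956, 5, 1017, 72, [6775, 6476, 7200, 7199, 6704, 6730, 5305, 6282, 4383, 4462, 7200, 7206, 7498]⟩) (.leaf ⟨0, 12, 0, 0, []⟩))))) (.node (.node (.node (.node (.leaf ⟨107, 5, 142, 56, [842, 841, 333, 171, 122, 118, 170, 332, 840]⟩) (.leaf ⟨525, 0, 394, 77, [6039, 5041]⟩)) (.node (.leaf ⟨811, 3, 817, 30, [4907, 2873, 4936]⟩) (.leaf ⟨0, 12, 0, 0, []⟩))) (.node (.node (.leaf ⟨294, 8, 438, 40, [1978, 2890]⟩) (.leaf ⟨0, 12, 0, 0, []⟩)) (.node (.leaf ⟨734, 1, 972, 140, [4507, 6154, 4763, 5823, 4201, 5785, 2574, 6153, 3201, 1429, 1558, 747, 580, 1736,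 6221, 3125, 6980]⟩) (.leaf ⟨0, 12, 0, 0, []⟩)))) (.node (.node (.node (.leaf ⟨220, 1, 281, 8, [1347, 1382, 1866]⟩) (.leaf ⟨0, 12, 0, 0, []⟩)) (.node (.leaf ⟨788, 5, 483, 12, [4811, 4064, 5698, 3168]⟩) (.leaf ⟨0, 12, 0, 0, []⟩))) (.node (.node (.leaf ⟨312, 0, 618, 21, [3664, 3912, 3914]⟩) (.leaf ⟨0, 12, 0, 0, []⟩)) (.node (.leaf ⟨777, 4, 1063, 0, []⟩) (.leaf ⟨0, 12, 0, 0, []⟩))))))) (.node (.node (.node (.node (.node (.node (.leaf ⟨11, 4, 36, 31, [65, 22, 11, 14, 34, 33, 22, 14, 54, 66, 65, 32, 35, 15, 10, 23, 61, 63, 202]⟩) (.leaf ⟨1094, 1, 1095, 22, [8385, 7899, 7487, 7924, 7929, 7147, 7480, 7479, 4091, 5509, 5501, 6648, 8388]⟩)) (.node (.leaf ⟨341, 0, 693, 0, []⟩) (.leaf ⟨0, 12, 0, 0, []⟩))) (.node (.node (.leaf ⟨214, 4, 337, 43, [1313, 2048, 2248]⟩) (.leaf ⟨0, 12, 0, 0, []⟩)) (.node (.leaf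 ⟨638, 9, 859, 4, [6342, 6346, 5206]⟩) (.leaf ⟨0, 12, 0, 0, []⟩)))) (.node (.node (.node (.leaf ⟨182, 1, 201, 70, [1138, 1137, 1135, 1117, 383, 178, 177, 53, 154, 404, 409, 653, 1227, 1225]⟩) (.leaf ⟨877, 2, 525, 38, [5261, 6038]⟩)) (.node (.leaf ⟨402, 5, 890, 28, [2685, 5297, 5322]⟩) (.leaf ⟨0, 12, 0, 0, []⟩))) (.node (.node (.leaf ⟨396, 0, 498, 42, [2653, 2740, 2743, 2239, 1739, 1732, 1733, 1732, 3274]⟩) (.leaf ⟨0, 12, 0, 0, []⟩)) (.node (.leaf ⟨899, 8, 1006, 40, [7038, 7370]⟩) (.leaf ⟨0, 12, 0, 0, []⟩))))) (.node (.node (.node (.node (.leaf ⟨114, 8, 122, 0, []⟩) (.leaf ⟨415, 0, 630, 77, [4277, 3979]⟩)) (.node (.leaf ⟨441, 3, 788, 7, [2907, 2894, 4810]⟩) (.leaf ⟨0, 12, 0, 0, []⟩))) (.node (.node (.leaf ⟨329, 4, 413, 0, []⟩) (.leaf ⟨0, 12, 0, 0, []⟩)) (.node (.leaf ⟨960, 8, 962, 40, [6837,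 6858]⟩) (.leaf ⟨0, 12, 0, 0, []⟩)))) (.node (.node (.node (.leaf ⟨261, 4, 182, 6, [1739, 1145, 1121]⟩) (.leaf ⟨0, 12, 0, 0, []⟩)) (.node (.leaf ⟨759, 12, 684, 35, [4647, 5835, 4232]⟩) (.leaf ⟨0, 12, 0, 0, []⟩))) (.node (.node (.leaf ⟨592, 1, 593, 0, []⟩) (.leaf ⟨0, 12, 0, 0, []⟩)) (.node (.leaf ⟨941, 3, 1052, 30, [6658, 3842, 7882]⟩) (.leaf ⟨0, 12, 0, 0, []⟩)))))) (.node (.node (.node (.node (.node (.leaf ⟨59, 0, 79, 0, []⟩) (.leaf ⟨89, 0, 93, 77, [1448, 1588]⟩)) (.node (.leaf ⟨737, 9, 745, 5, [4521, 4552, 4554]⟩) (.leaf ⟨0, 12, 0, 0, []⟩))) (.node (.node (.leaf ⟨230, 8, 371, 40, [1410, 2506]⟩) (.leaf ⟨0, 12, 0, 0, []⟩)) (.node (.leaf ⟨419, 3, 935, 7, [5396, 6258, 6257, 4435, 6277, 6602]⟩) (.leaf ⟨0, 12, 0, 0, []⟩)))) (.node (.node (.node (.leaf ⟨243, 2, 244, 0, []⟩) (.leaf ⟨0, 12, 0, 0, []⟩))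 (.node (.leaf ⟨596, 12, 322, 34, [5579]⟩) (.leaf ⟨0, 12, 0, 0, []⟩))) (.node (.node (.leaf ⟨360, 0, 547, 44, [2407, 3428, 3431, 3197, 3196, 3197, 3204, 3478, 3530]⟩) (.leaf ⟨0, 12, 0, 0, []⟩)) (.node (.leaf ⟨587, 2, 1029, 0, []⟩) (.leaf ⟨0, 12, 0, 0, []⟩))))) (.node (.node (.node (.node (.leaf ⟨152, 4, 166, 0, []⟩) (.leaf ⟨643, 1, 837, 36, [6327, 5179]⟩)) (.node (.leaf ⟨777, 1, 839, 8, [4755, 4786, 5066]⟩) (.leaf ⟨0, 12, 0, 0, []⟩))) (.node (.node (.leaf ⟨217, 4, 460, 43, [3006, 3016, 3018]⟩) (.leaf ⟨0, 12, 0, 0, []⟩)) (.node (.leaf ⟨891, 3, 983, 30, [6562, 6535, 7112]⟩) (.leaf ⟨0, 12, 0, 0, []⟩)))) (.node (.node (.node (.leaf ⟨139, 9, 297, 5, [821, 1322, 1992]⟩) (.leaf ⟨0, 12, 0, 0, []⟩)) (.node (.leaf ⟨804, 12, 541, 34, [5886, 6090]⟩) (.leaf ⟨0, 12, 0, 0, []⟩))) (.node (.node (.leaf ⟨648,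 9, 640, 4, [4043, 2118, 4006]⟩) (.leaf ⟨0, 12, 0, 0, []⟩)) (.node (.leaf ⟨1072, 0, 763, 149, [8138, 7591, 7567, 7561, 7555, 7449, 6540, 6545, 3293, 6217, 7320, 7456, 7459, 7205, 5031]⟩) (.leaf ⟨0, 12, 0, 0, []⟩)))))))))

def fact7 : Arr (CFact) :=
  (.node (.node (.node (.node (.node (.node (.node (.node (.leaf ⟨1, 4, 2, 0, []⟩) (.leaf ⟨1046, 0, 1078, 100, [7799, 7121, 7117, 6284, 4417, 4680, 7570, 7573, 7588, 8204]⟩)) (.node (.leaf ⟨616, 9, 659, 4, [3911, 2132, 4108]⟩) (.leaf ⟨0, 12, 0, 0, []⟩))) (.node (.node (.leaf ⟨302, 3, 306, 27, [2035, 1180, 2054, 2057, 727, 699, 2060, 2061, 2060]⟩) (.leaf ⟨0, 12, 0, 0, []⟩)) (.node (.leaf ⟨597, 0, 832, 96, [3815, 2063, 2035, 2159, 3160, 3824, 6156, 5005, 5014]⟩) (.leaf ⟨0, 12, 0, 0, []⟩)))) (.node (.node (.node (.leaf ⟨173, 2, 174, 0, []⟩) (.leaf ⟨673,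 4, 398, 75, [6183, 5233]⟩)) (.node (.leaf ⟨391, 0, 852, 21, [5122, 5130, 5132]⟩) (.leaf ⟨0, 12, 0, 0, []⟩))) (.node (.node (.leaf ⟨408, 3, 467, 27, [2729, 2692, 3078, 3081, 1401, 1378, 1597, 3084, 3085, 3084]⟩) (.leaf ⟨0, 12, 0, 0, []⟩)) (.node (.leaf ⟨588, 4, 990, 9, [3767, 2036, 1941, 1956, 2192, 3048, 3039, 3188, 3608, 6994, 7178]⟩) (.leaf ⟨0, 12, 0, 0, []⟩))))) (.node (.node (.node (.node (.leaf ⟨41, 2, 89, 0, []⟩) (.leaf ⟨172, 1, 129, 36, [1026, 1566]⟩)) (.node (.leaf ⟨355, 4, 756, 43, [2734, 4616, 4620]⟩) (.leaf ⟨0, 12, 0, 0, []⟩))) (.node (.node (.leaf ⟨380, 4, 381, 0, []⟩) (.leaf ⟨0, 12, 0, 0, []⟩)) (.node (.leaf ⟨940, 2, 944, 0, []⟩) (.leaf ⟨0, 12, 0, 0, []⟩)))) (.node (.node (.node (.leaf ⟨104, 12, 253, 74, [848, 1549, 1526]⟩) (.leaf ⟨0, 12, 0, 0, []⟩)) (.node (.leaf ⟨414, 12, 329,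 34, [5645]⟩) (.leaf ⟨0, 12, 0, 0, []⟩))) (.node (.node (.leaf ⟨368, 0, 558, 0, []⟩) (.leaf ⟨0, 12, 0, 0, []⟩)) (.node (.leaf ⟨786, 9, 1034, 4, [4801, 7622, 7688]⟩) (.leaf ⟨0, 12, 0, 0, []⟩)))))) (.node (.node (.node (.node (.node (.leaf ⟨15, 5, 41, 28, [85, 257, 268]⟩) (.leaf ⟨1095, 5, 1102, 110, [8395, 8291, 8268, 8267, 8276, 8279, 8244, 8249, 7715, 7740, 8458]⟩)) (.node (.leaf ⟨649, 5, 706, 59, [4048, 2117, 1941, 1946, 2840, 2934, 2923, 2645, 2436, 4356, 4364]⟩) (.leaf ⟨0, 12, 0, 0, []⟩))) (.node (.node (.leaf ⟨332, 2, 348, 13, [2213, 1276, 2314]⟩) (.leaf ⟨0, 12, 0, 0, []⟩)) (.node (.leaf ⟨722, 0, 531, 124, [4443, 3343, 2261, 2542, 2910, 6410, 3736, 5226, 5233, 2864, 5712, 3392, 3452]⟩) (.leaf ⟨0, 12, 0, 0, []⟩)))) (.node (.node (.node (.leaf ⟨154, 2, 212, 23, [1014, 1007, 1005, 1292]⟩)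 (.leaf ⟨1010, 4, 527, 75, [7427, 6142]⟩)) (.node (.leaf ⟨606, 3, 903, 7, [3859, 2710, 5388]⟩) (.leaf ⟨0, 12, 0, 0, []⟩))) (.node (.node (.leaf ⟨338, 0, 513, 0, []⟩) (.leaf ⟨0, 12, 0, 0, []⟩)) (.node (.leaf ⟨786, 3, 1011, 7, [4803, 6078, 3486, 7436]⟩) (.leaf ⟨0, 12, 0, 0, []⟩))))) (.node (.node (.node (.node (.leaf ⟨58, 0, 134, 0, []⟩) (.leaf ⟨470, 1, 419, 36, [6259, 5397]⟩)) (.node (.leaf ⟨803, 2, 804, 0, []⟩) (.leaf ⟨0, 12, 0, 0, []⟩))) (.node (.node (.leaf ⟨230, 4, 427, 24, [1410, 1866, 2829]⟩) (.leaf ⟨0, 12, 0, 0, []⟩)) (.node (.leaf ⟨628, 5, 967, 28, [4280, 6514, 6922]⟩) (.leaf ⟨0, 12, 0, 0, []⟩)))) (.node (.node (.node (.leaf ⟨267, 0, 271, 0, []⟩) (.leaf ⟨0, 12, 0, 0, []⟩)) (.node (.leaf ⟨522, 12, 398, 34, [5901]⟩) (.leaf ⟨0, 12, 0, 0, []⟩))) (.node (.node (.leaf ⟨601, 9, 605, 5, [3835,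 3850, 3852]⟩) (.leaf ⟨0, 12, 0, 0, []⟩)) (.node (.leaf ⟨967, 3, 1058, 10, [6919, 7570, 7579, 4013, 3996, 6342, 7802, 7799, 7121, 7938, 7948]⟩) (.leaf ⟨0, 12, 0, 0, []⟩))))))) (.node (.node (.node (.node (.node (.node (.leaf ⟨17, 2, 24, 18, [99, 112, 140]⟩) (.leaf ⟨1054, 8, 1090, 40, [7903, 8332]⟩)) (.node (.leaf ⟨647, 9, 685, 5, [4037, 4078, 4236]⟩) (.leaf ⟨0, 12, 0, 0, []⟩))) (.node (.node (.leaf ⟨309, 9, 329, 39, [2079, 1962, 2184]⟩) (.leaf ⟨0, 12, 0, 0, []⟩)) (.node (.leaf ⟨724, 4, 606, 115, [4449, 4437, 6256, 6259, 5395, 5680, 3865]⟩) (.leaf ⟨0, 12, 0, 0, []⟩)))) (.node (.node (.node (.leaf ⟨192, 9, 193, 0, []⟩) (.leaf ⟨790, 8, 674, 76, [4821, 6178]⟩)) (.node (.leaf ⟨773, 0, 877, 96, [4740, 2522, 2429, 955, 2370, 2373, 2476, 4542, 5258]⟩) (.leaf ⟨0, 12, 0, 0, []⟩))) (.node (.node (.leaf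 ⟨356, 4, 488, 49, [2365, 2333, 2386, 3212]⟩) (.leaf ⟨0, 12, 0, 0, []⟩)) (.node (.leaf ⟨877, 4, 1002, 43, [7301, 7297, 7302]⟩) (.leaf ⟨0, 12, 0, 0, []⟩))))) (.node (.node (.node (.node (.leaf ⟨110, 0, 112, 0, []⟩) (.leaf ⟨381, 8, 486, 76, [4650, 6078]⟩)) (.node (.leaf ⟨775, 1, 776, 0, []⟩) (.leaf ⟨0, 12, 0, 0, []⟩))) (.node (.node (.leaf ⟨404, 9, 405, 0, []⟩) (.leaf ⟨0, 12, 0, 0, []⟩)) (.node (.leaf ⟨494, 5, 957, 28, [3251, 6596, 6792]⟩) (.leaf ⟨0, 12, 0, 0, []⟩)))) (.node (.node (.node (.leaf ⟨169, 0, 167, 78, [998, 1032, 1038, 1674, 1540, 1673, 1269, 759, 395, 792, 976]⟩) (.leaf ⟨0, 12, 0, 0, []⟩)) (.node (.leaf ⟨316, 12, 856, 37, [4005, 5773, 5154]⟩) (.leaf ⟨0, 12, 0, 0, []⟩))) (.node (.node (.leaf ⟨295, 5, 580, 28, [1979, 3702, 3724]⟩) (.leaf ⟨0, 12, 0, 0, []⟩)) (.node (.leaf ⟨930, 2, 1048,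 47, [6768, 7216, 7215, 6536, 2777, 5653, 4285, 2773, 4277, 3979, 3986, 7776, 7816]⟩) (.leaf ⟨0, 12, 0, 0, []⟩)))))) (.node (.node (.node (.node (.node (.leaf ⟨50, 2, 68, 0, []⟩) (.leaf ⟨6, 0, 3, 77, [134, 214]⟩)) (.node (.leaf ⟨346, 5, 732, 28, [2299, 4480, 4492]⟩) (.leaf ⟨0, 12, 0, 0, []⟩))) (.node (.node (.leaf ⟨344, 0, 365, 0, []⟩) (.leaf ⟨0, 12, 0, 0, []⟩)) (.node (.leaf ⟨549, 2, 928, 47, [3549, 1851, 605, 598, 1792, 1795, 1154, 2758, 2761, 2780, 6538]⟩) (.leaf ⟨0, 12, 0, 0, []⟩)))) (.node (.node (.node (.leaf ⟨104, 4, 231, 49, [621, 990, 989, 1420]⟩) (.leaf ⟨0, 12, 0, 0, []⟩)) (.node (.leaf ⟨195, 12, 664, 77, [2054, 5517, 4142]⟩) (.leaf ⟨0, 12, 0, 0, []⟩))) (.node (.node (.leaf ⟨533, 1, 534, 0, []⟩) (.leaf ⟨0, 12, 0, 0, []⟩)) (.node (.leaf ⟨1022, 0, 933, 69, [7564, 6556, 6584]⟩) (.leaf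 ⟨0, 12, 0, 0, []⟩))))) (.node (.node (.node (.node (.leaf ⟨113, 1, 154, 11, [667, 880, 908]⟩) (.leaf ⟨579, 2, 674, 38, [4804, 6178]⟩)) (.node (.leaf ⟨692, 5, 830, 56, [4297, 2675, 2386, 2383, 1301, 954, 2428, 2592, 5004]⟩) (.leaf ⟨0, 12, 0, 0, []⟩))) (.node (.node (.leaf ⟨353, 0, 448, 42, [2353, 2510, 2513, 2297, 1331, 1324, 1325, 1324, 2956]⟩) (.leaf ⟨0, 12, 0, 0, []⟩)) (.node (.leaf ⟨459, 9, 977, 4, [3017, 3625, 7048]⟩) (.leaf ⟨0, 12, 0, 0, []⟩)))) (.node (.node (.node (.leaf ⟨161, 9, 289, 4, [949, 958, 1928]⟩) (.leaf ⟨0, 12, 0, 0, []⟩)) (.node (.leaf ⟨881, 12, 739, 34, [6029]⟩) (.leaf ⟨0, 12, 0, 0, []⟩))) (.node (.node (.leaf ⟨315, 0, 635, 21, [3961, 3978, 3980]⟩) (.leaf ⟨0, 12, 0, 0, []⟩)) (.node (.leaf ⟨1066, 2, 1068, 0, []⟩) (.leaf ⟨0, 12, 0, 0, []⟩)))))))) (.node (.node (.node (.node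 (.node (.node (.node (.leaf ⟨13, 8, 4, 19, [75, 71]⟩) (.leaf ⟨1083, 9, 1084, 0, []⟩)) (.node (.leaf ⟨669, 8, 672, 0, []⟩) (.leaf ⟨0, 12, 0, 0, []⟩))) (.node (.node (.leaf ⟨302, 8, 319, 40, [2038, 2124]⟩) (.leaf ⟨0, 12, 0, 0, []⟩)) (.node (.leaf ⟨509, 12, 453, 36, [3327, 6221, 3125]⟩) (.leaf ⟨0, 12, 0, 0, []⟩)))) (.node (.node (.node (.leaf ⟨183, 1, 157, 66, [1100, 387, 281, 103, 112, 114, 94, 123, 180, 370, 1000, 1005]⟩) (.leaf ⟨721, 4, 605, 75, [4444, 6172]⟩)) (.node (.leaf ⟨854, 0, 865, 0, []⟩) (.leaf ⟨0, 12, 0, 0, []⟩))) (.node (.node (.leaf ⟨466, 4, 478, 0, []⟩) (.leaf ⟨0, 12, 0, 0, []⟩)) (.node (.leaf ⟨725, 0, 996, 73, [4672, 6295, 4993, 4921, 5768, 4041, 2115, 5605, 2099, 2089, 723, 669, 654, 1766, 1892, 3258, 3263, 2457, 3028, 3240, 7078, 7238]⟩) (.leaf ⟨0, 12, 0, 0, []⟩))))) (.node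 (.node (.node (.node (.leaf ⟨48, 4, 96, 0, []⟩) (.leaf ⟨323, 4, 322, 75, [3806, 5580]⟩)) (.node (.leaf ⟨639, 5, 766, 55, [4003, 4001, 4274, 4271, 2759, 1153, 1354, 1686, 780, 2270, 4408, 4412, 4682]⟩) (.leaf ⟨0, 12, 0, 0, []⟩))) (.node (.node (.leaf ⟨395, 9, 333, 5, [2633, 2160, 2224]⟩) (.leaf ⟨0, 12, 0, 0, []⟩)) (.node (.leaf ⟨945, 5, 952, 12, [6681, 6644, 6732]⟩) (.leaf ⟨0, 12, 0, 0, []⟩)))) (.node (.node (.node (.leaf ⟨99, 12, 245, 36, [606, 1613, 1490]⟩) (.leaf ⟨0, 12, 0, 0, []⟩)) (.node (.leaf ⟨266, 12, 431, 76, [1775, 5709, 4839]⟩) (.leaf ⟨0, 12, 0, 0, []⟩))) (.node (.node (.leaf ⟨320, 9, 567, 4, [2131, 2058, 3660]⟩) (.leaf ⟨0, 12, 0, 0, []⟩)) (.node (.leaf ⟨707, 5, 1042, 85, [4374, 2286, 4470, 7270, 7267, 4498, 6469, 5025, 5016, 6159, 7750]⟩) (.leaf ⟨0, 12, 0, 0, []⟩)))))) (.node (.node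 (.node (.node (.node (.leaf ⟨45, 9, 53, 4, [301, 297, 332]⟩) (.leaf ⟨1090, 0, 1108, 0, []⟩)) (.node (.leaf ⟨693, 8, 719, 3, [4301, 2660, 4426]⟩) (.leaf ⟨0, 12, 0, 0, []⟩))) (.node (.node (.leaf ⟨212, 0, 358, 44, [1295, 1014, 1007, 1005, 1004, 1005, 924, 882, 2380]⟩) (.leaf ⟨0, 12, 0, 0, []⟩)) (.node (.leaf ⟨425, 8, 885, 135, [2814, 2821, 5396, 6258, 3194, 5302]⟩) (.leaf ⟨0, 12, 0, 0, []⟩)))) (.node (.node (.node (.leaf ⟨188, 8, 222, 0, []⟩) (.leaf ⟨0, 12, 0, 0, []⟩)) (.node (.leaf ⟨689, 4, 913, 0, []⟩) (.leaf ⟨0, 12, 0, 0, []⟩))) (.node (.node (.leaf ⟨300, 0, 523, 92, [2023, 1198, 1207, 403, 298, 300, 1641, 493, 251, 1643, 615, 592, 1776, 3404]⟩) (.leaf ⟨0, 12, 0, 0, []⟩)) (.node (.leaf ⟨973, 1, 1017, 8, [6999, 7208, 7498]⟩) (.leaf ⟨0, 12, 0, 0, []⟩))))) (.node (.node (.node (.node (.leaf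 ⟨138, 4, 143, 0, []⟩) (.leaf ⟨525, 4, 691, 75, [6039, 5043]⟩)) (.node (.leaf ⟨813, 2, 818, 0, []⟩) (.leaf ⟨0, 12, 0, 0, []⟩))) (.node (.node (.leaf ⟨205, 3, 438, 30, [1249, 1983, 2890]⟩) (.leaf ⟨0, 12, 0, 0, []⟩)) (.node (.leaf ⟨972, 9, 973, 0, []⟩) (.leaf ⟨0, 12, 0, 0, []⟩)))) (.node (.node (.node (.leaf ⟨257, 3, 281, 7, [1723, 1552, 1349, 1868]⟩) (.leaf ⟨0, 12, 0, 0, []⟩)) (.node (.leaf ⟨443, 2, 483, 63, [2913, 4812, 5964]⟩) (.leaf ⟨0, 12, 0, 0, []⟩))) (.node (.node (.leaf ⟨567, 4, 619, 0, []⟩) (.leaf ⟨0, 12, 0, 0, []⟩)) (.node (.leaf ⟨1018, 0, 1063, 100, [7521, 7246, 7241, 4089, 3801, 4186, 6179, 4805, 6408, 8012]⟩) (.leaf ⟨0, 12, 0, 0, []⟩))))))) (.node (.node (.node (.node (.node (.node (.leaf ⟨23, 5, 36, 32, [135, 39, 15, 23, 32, 35, 15, 11, 9, 5, 8, 14, 38, 56, 60, 19, 34, 56, 202]⟩)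 (.leaf ⟨1084, 9, 1096, 0, []⟩)) (.node (.leaf ⟨693, 9, 694, 0, []⟩) (.leaf ⟨0, 12, 0, 0, []⟩))) (.node (.node (.leaf ⟨179, 8, 337, 62, [1075, 771, 743, 2052, 2248]⟩) (.leaf ⟨0, 12, 0, 0, []⟩)) (.node (.leaf ⟨859, 0, 864, 51, [6349, 3997, 4024, 6341]⟩) (.leaf ⟨0, 12, 0, 0, []⟩)))) (.node (.node (.node (.leaf ⟨69, 9, 201, 46, [409, 653, 1227, 1225]⟩) (.leaf ⟨877, 8, 739, 76, [5290, 6030]⟩)) (.node (.leaf ⟨402, 1, 891, 0, []⟩) (.leaf ⟨0, 12, 0, 0, []⟩))) (.node (.node (.leaf ⟨405, 9, 498, 5, [2744, 2747, 3274]⟩) (.leaf ⟨0, 12, 0, 0, []⟩)) (.node (.leaf ⟨979, 2, 1007, 0, []⟩) (.leaf ⟨0, 12, 0, 0, []⟩))))) (.node (.node (.node (.node (.leaf ⟨111, 4, 122, 24, [649, 668, 716]⟩) (.leaf ⟨416, 4, 415, 75, [4284, 5652]⟩)) (.node (.leaf ⟨442, 4, 789, 0, []⟩) (.leaf ⟨0, 12, 0, 0, []⟩))) (.node (.node (.leaf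 ⟨413, 2, 414, 0, []⟩) (.leaf ⟨0, 12, 0, 0, []⟩)) (.node (.leaf ⟨563, 5, 962, 28, [3635, 6423, 6858]⟩) (.leaf ⟨0, 12, 0, 0, []⟩)))) (.node (.node (.node (.leaf ⟨261, 9, 132, 5, [1739, 1149, 772]⟩) (.leaf ⟨0, 12, 0, 0, []⟩)) (.node (.leaf ⟨679, 12, 381, 76, [4235, 5837, 4651]⟩) (.leaf ⟨0, 12, 0, 0, []⟩))) (.node (.node (.leaf ⟨303, 4, 593, 43, [3780, 3786, 3788]⟩) (.leaf ⟨0, 12, 0, 0, []⟩)) (.node (.leaf ⟨997, 9, 1053, 0, []⟩) (.leaf ⟨0, 12, 0, 0, []⟩)))))) (.node (.node (.node (.node (.node (.leaf ⟨60, 2, 79, 29, [371, 182, 150, 282, 281, 142, 368, 366, 460]⟩) (.leaf ⟨91, 0, 199, 77, [1492, 1714]⟩)) (.node (.leaf ⟨350, 5, 745, 28, [2327, 4523, 4556]⟩) (.leaf ⟨0, 12, 0, 0, []⟩))) (.node (.node (.leaf ⟨215, 0, 372, 0, []⟩) (.leaf ⟨0, 12, 0, 0, []⟩)) (.node (.leaf ⟨934, 8, 935, 62, [6593, 6563,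 5327, 6275, 4425, 6277, 6602]⟩) (.leaf ⟨0, 12, 0, 0, []⟩)))) (.node (.node (.node (.leaf ⟨233, 1, 244, 11, [1435, 1482, 1484]⟩) (.leaf ⟨0, 12, 0, 0, []⟩)) (.node (.leaf ⟨665, 12, 676, 74, [4145, 5581, 4199]⟩) (.leaf ⟨0, 12, 0, 0, []⟩))) (.node (.node (.leaf ⟨487, 9, 547, 5, [3506, 3505, 3530]⟩) (.leaf ⟨0, 12, 0, 0, []⟩)) (.node (.leaf ⟨597, 1, 1029, 11, [3811, 3765, 7628]⟩) (.leaf ⟨0, 12, 0, 0, []⟩))))) (.node (.node (.node (.node (.leaf ⟨166, 9, 161, 4, [973, 896, 948]⟩) (.leaf ⟨643, 2, 851, 38, [5895, 5164]⟩)) (.node (.leaf ⟨390, 2, 840, 0, []⟩) (.leaf ⟨0, 12, 0, 0, []⟩))) (.node (.node (.leaf ⟨452, 9, 460, 4, [2981, 1326, 3020]⟩) (.leaf ⟨0, 12, 0, 0, []⟩)) (.node (.leaf ⟨931, 4, 983, 58, [6772, 5333, 7116]⟩) (.leaf ⟨0, 12, 0, 0, []⟩)))) (.node (.node (.node (.leaf ⟨218, 8, 297, 40, [1334,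 1996]⟩) (.leaf ⟨0, 12, 0, 0, []⟩)) (.node (.leaf ⟨277, 12, 769, 35, [3513, 6091, 4704]⟩) (.leaf ⟨0, 12, 0, 0, []⟩))) (.node (.node (.leaf ⟨585, 2, 649, 0, []⟩) (.leaf ⟨0, 12, 0, 0, []⟩)) (.node (.leaf ⟨763, 9, 1073, 0, []⟩) (.leaf ⟨0, 12, 0, 0, []⟩)))))))))

def fact8 : Arr (CFact) :=
  (.node (.node (.node (.node (.node (.node (.node (.node (.leaf ⟨2, 9, 2, 4, [15, 13, 14]⟩) (.leaf ⟨923, 3, 1078, 10, [6507, 6499, 7766, 7769, 5168, 7556, 8046, 8043, 7567, 7582, 8204]⟩)) (.node (.leaf ⟨619, 8, 659, 40, [3920, 4110]⟩) (.leaf ⟨0, 12, 0, 0, []⟩))) (.node (.node (.leaf ⟨290, 2, 306, 2, [1941, 721, 699, 2060]⟩) (.leaf ⟨0, 12, 0, 0, []⟩)) (.node (.leaf ⟨906, 1, 830, 8, [5407, 3826, 6156]⟩) (.leaf ⟨0, 12, 0, 0, []⟩)))) (.node (.node (.node (.leaf ⟨169, 9, 174, 5, [995, 1034, 1038]⟩) (.leaf ⟨673, 8,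 790, 76, [6183, 5229]⟩)) (.node (.leaf ⟨538, 1, 852, 22, [3497, 1831, 1754, 1548, 1036, 998, 376, 1050, 1562, 783, 351, 964, 2616, 5134]⟩) (.leaf ⟨0, 12, 0, 0, []⟩))) (.node (.node (.leaf ⟨465, 2, 467, 89, [3071, 1393, 2311, 2354, 2357, 1329, 435, 1581, 547, 519, 471, 1659, 611, 453, 1378, 1597, 3084]⟩) (.leaf ⟨0, 12, 0, 0, []⟩)) (.node (.leaf ⟨491, 5, 990, 85, [6446, 3751, 4042, 5687, 6244, 4813, 5907, 3639, 4494, 4489, 6992, 7178]⟩) (.leaf ⟨0, 12, 0, 0, []⟩))))) (.node (.node (.node (.node (.leaf ⟨40, 4, 89, 9, [259, 240, 237, 100, 162, 169, 101, 236, 247, 270, 526]⟩) (.leaf ⟨175, 1, 134, 36, [1048, 1562]⟩)) (.node (.leaf ⟨449, 8, 756, 62, [3380, 3382, 3375, 4618, 4620]⟩) (.leaf ⟨0, 12, 0, 0, []⟩))) (.node (.node (.leaf ⟨381, 2, 382, 0, []⟩) (.leaf ⟨0, 12, 0, 0, []⟩)) (.node (.leaf ⟨944,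 9, 424, 5, [6671, 6653, 2808]⟩) (.leaf ⟨0, 12, 0, 0, []⟩)))) (.node (.node (.node (.leaf ⟨253, 12, 104, 34, [1551]⟩) (.leaf ⟨0, 12, 0, 0, []⟩)) (.node (.leaf ⟨416, 12, 915, 36, [2775, 5647, 5468]⟩) (.leaf ⟨0, 12, 0, 0, []⟩))) (.node (.node (.leaf ⟨470, 2, 558, 26, [3109, 3108, 3109, 1385, 2686, 3104, 3103, 2474, 3598]⟩) (.leaf ⟨0, 12, 0, 0, []⟩)) (.node (.leaf ⟨651, 8, 1034, 40, [6458, 7694]⟩) (.leaf ⟨0, 12, 0, 0, []⟩)))))) (.node (.node (.node (.node (.node (.leaf ⟨15, 4, 42, 0, []⟩) (.leaf ⟨1098, 1, 1102, 140, [8421, 8423, 8424, 8406, 8405, 8403, 6681, 7832, 7841, 7992, 7997, 8458]⟩)) (.node (.leaf ⟨648, 2, 706, 60, [4043, 2117, 1941, 2050, 2842, 2853, 2231, 2258, 2442, 4356, 4364]⟩) (.leaf ⟨0, 12, 0, 0, []⟩))) (.node (.node (.leaf ⟨153, 5, 348, 12, [901, 1279, 2314]⟩) (.leaf ⟨0, 12, 0,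 0, []⟩)) (.node (.leaf ⟨548, 0, 451, 21, [3543, 6151, 6414, 3454]⟩) (.leaf ⟨0, 12, 0, 0, []⟩)))) (.node (.node (.node (.leaf ⟨116, 1, 212, 11, [679, 910, 1294]⟩) (.leaf ⟨1014, 8, 767, 76, [7473, 6290]⟩)) (.node (.leaf ⟨607, 2, 903, 13, [3863, 2755, 5388]⟩) (.leaf ⟨0, 12, 0, 0, []⟩))) (.node (.node (.leaf ⟨366, 3, 513, 27, [2453, 903, 2270, 2950, 2947, 2264, 3342, 3343, 3342]⟩) (.leaf ⟨0, 12, 0, 0, []⟩)) (.node (.leaf ⟨998, 4, 1011, 43, [7262, 7269, 7436]⟩) (.leaf ⟨0, 12, 0, 0, []⟩))))) (.node (.node (.node (.node (.leaf ⟨88, 5, 134, 56, [524, 489, 273, 87, 27, 28, 110, 352, 782]⟩) (.leaf ⟨470, 4, 342, 75, [6257, 4436]⟩)) (.node (.leaf ⟨804, 4, 382, 6, [4879, 4877, 4851]⟩) (.leaf ⟨0, 12, 0, 0, []⟩))) (.node (.node (.leaf ⟨327, 4, 428, 0, []⟩) (.leaf ⟨0, 12, 0, 0, []⟩)) (.node (.leaf ⟨963, 2,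 968, 0, []⟩) (.leaf ⟨0, 12, 0, 0, []⟩)))) (.node (.node (.node (.leaf ⟨271, 9, 272, 0, []⟩) (.leaf ⟨0, 12, 0, 0, []⟩)) (.node (.leaf ⟨441, 12, 564, 36, [2907, 5727, 3643]⟩) (.leaf ⟨0, 12, 0, 0, []⟩))) (.node (.node (.leaf ⟨309, 5, 605, 28, [2077, 3837, 3854]⟩) (.leaf ⟨0, 12, 0, 0, []⟩)) (.node (.leaf ⟨852, 5, 1058, 72, [6338, 6343, 6353, 5203, 2623, 2618, 5779, 3963, 5621, 3993, 3959, 3952, 7934, 7948]⟩) (.leaf ⟨0, 12, 0, 0, []⟩))))))) (.node (.node (.node (.node (.node (.node (.leaf ⟨20, 1, 24, 11, [113, 102, 142]⟩) (.leaf ⟨1082, 3, 1090, 30, [8263, 6679, 8332]⟩)) (.node (.leaf ⟨649, 8, 685, 40, [4050, 4238]⟩) (.leaf ⟨0, 12, 0, 0, []⟩))) (.node (.node (.leaf ⟨292, 4, 330, 0, []⟩) (.leaf ⟨0, 12, 0, 0, []⟩)) (.node (.leaf ⟨767, 12, 823, 110, [4695, 2455, 4437, 6256, 3109, 1385, 1047, 1002,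 1826, 1829, 1972, 3692, 6004, 4972]⟩) (.leaf ⟨0, 12, 0, 0, []⟩)))) (.node (.node (.node (.leaf ⟨65, 0, 193, 21, [1125, 1164, 1166]⟩) (.leaf ⟨791, 0, 419, 77, [5739, 5401]⟩)) (.node (.leaf ⟨876, 8, 877, 3, [5257, 4761, 5262]⟩) (.leaf ⟨0, 12, 0, 0, []⟩))) (.node (.node (.leaf ⟨356, 8, 489, 0, []⟩) (.leaf ⟨0, 12, 0, 0, []⟩)) (.node (.leaf ⟨965, 8, 1002, 62, [6901, 4820, 6368, 3657, 7302]⟩) (.leaf ⟨0, 12, 0, 0, []⟩))))) (.node (.node (.node (.node (.leaf ⟨48, 9, 112, 39, [653, 649, 654]⟩) (.leaf ⟨383, 2, 325, 38, [2582, 5796]⟩)) (.node (.leaf ⟨373, 4, 776, 43, [4742, 4748, 4750]⟩) (.leaf ⟨0, 12, 0, 0, []⟩))) (.node (.node (.leaf ⟨179, 0, 405, 21, [2254, 2698, 2702]⟩) (.leaf ⟨0, 12, 0, 0, []⟩)) (.node (.leaf ⟨462, 0, 958, 0, []⟩) (.leaf ⟨0, 12, 0, 0, []⟩)))) (.node (.node (.node (.leaf ⟨105, 0,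 209, 79, [1340, 1345, 441, 284, 318, 746, 1559, 989, 465, 1044, 1674, 1677]⟩) (.leaf ⟨0, 12, 0, 0, []⟩)) (.node (.leaf ⟨856, 12, 316, 34, [5775]⟩) (.leaf ⟨0, 12, 0, 0, []⟩))) (.node (.node (.leaf ⟨295, 1, 581, 0, []⟩) (.leaf ⟨0, 12, 0, 0, []⟩)) (.node (.leaf ⟨993, 3, 1048, 17, [7217, 6769, 6569, 6574, 6576, 6523, 7776, 7781, 7816]⟩) (.leaf ⟨0, 12, 0, 0, []⟩)))))) (.node (.node (.node (.node (.node (.leaf ⟨62, 9, 68, 5, [379, 320, 398]⟩) (.leaf ⟨10, 0, 10, 77, [202, 210]⟩)) (.node (.leaf ⟨352, 0, 733, 0, []⟩) (.leaf ⟨0, 12, 0, 0, []⟩))) (.node (.node (.leaf ⟨340, 2, 365, 26, [2271, 2270, 2271, 812, 2284, 2287, 2267, 2291, 2446]⟩) (.leaf ⟨0, 12, 0, 0, []⟩)) (.node (.leaf ⟨502, 0, 928, 96, [6427, 3363, 1811, 1792, 3440, 3443, 6467, 5415, 6538]⟩) (.leaf ⟨0, 12, 0, 0, []⟩)))) (.node (.node (.node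 (.leaf ⟨171, 4, 232, 0, []⟩) (.leaf ⟨0, 12, 0, 0, []⟩)) (.node (.leaf ⟨664, 12, 195, 34, [5519]⟩) (.leaf ⟨0, 12, 0, 0, []⟩))) (.node (.node (.leaf ⟨272, 4, 534, 43, [3090, 3464, 3470]⟩) (.leaf ⟨0, 12, 0, 0, []⟩)) (.node (.leaf ⟨1022, 8, 1023, 0, []⟩) (.leaf ⟨0, 12, 0, 0, []⟩))))) (.node (.node (.node (.node (.leaf ⟨56, 9, 154, 5, [345, 879, 908]⟩) (.leaf ⟨583, 0, 595, 77, [6175, 5884]⟩)) (.node (.leaf ⟨830, 9, 831, 0, []⟩) (.leaf ⟨0, 12, 0, 0, []⟩))) (.node (.node (.leaf ⟨299, 1, 448, 11, [2013, 2306, 2956]⟩) (.leaf ⟨0, 12, 0, 0, []⟩)) (.node (.leaf ⟨906, 2, 978, 0, []⟩) (.leaf ⟨0, 12, 0, 0, []⟩)))) (.node (.node (.node (.leaf ⟨166, 8, 289, 40, [974, 1934]⟩) (.leaf ⟨0, 12, 0, 0, []⟩)) (.node (.leaf ⟨879, 12, 831, 37, [5277, 6031, 5285]⟩) (.leaf ⟨0, 12, 0, 0, []⟩))) (.node (.node (.leaf ⟨635,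 2, 628, 2, [3983, 3961, 3959, 3952]⟩) (.leaf ⟨0, 12, 0, 0, []⟩)) (.node (.leaf ⟨1068, 0, 1068, 44, [8079, 8059, 7438, 7443, 7443, 7443, 7439, 8058, 8078]⟩) (.leaf ⟨0, 12, 0, 0, []⟩)))))))) (.node (.node (.node (.node (.node (.node (.node (.leaf ⟨12, 1, 13, 20, [71, 25, 13, 24, 79]⟩) (.leaf ⟨728, 0, 1084, 21, [8264, 8266, 8270]⟩)) (.node (.leaf ⟨666, 2, 672, 18, [4147, 4160, 4174]⟩) (.leaf ⟨0, 12, 0, 0, []⟩))) (.node (.node (.leaf ⟨124, 3, 319, 30, [725, 2042, 2124]⟩) (.leaf ⟨0, 12, 0, 0, []⟩)) (.node (.leaf ⟨508, 12, 471, 75, [3325, 6221, 3123]⟩) (.leaf ⟨0, 12, 0, 0, []⟩)))) (.node (.node (.node (.leaf ⟨182, 0, 184, 0, []⟩) (.leaf ⟨724, 1, 605, 36, [4447, 6172]⟩)) (.node (.leaf ⟨865, 9, 866, 0, []⟩) (.leaf ⟨0, 12, 0, 0, []⟩))) (.node (.node (.leaf ⟨472, 9, 478, 4, [3123, 3119, 3150]⟩) (.leaf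 ⟨0, 12, 0, 0, []⟩)) (.node (.leaf ⟨995, 8, 996, 3, [7237, 4453, 7246]⟩) (.leaf ⟨0, 12, 0, 0, []⟩))))) (.node (.node (.node (.node (.leaf ⟨45, 1, 96, 8, [301, 310, 590]⟩) (.leaf ⟨324, 0, 327, 77, [4224, 5864]⟩)) (.node (.leaf ⟨641, 2, 766, 63, [4013, 4005, 4686]⟩) (.leaf ⟨0, 12, 0, 0, []⟩))) (.node (.node (.leaf ⟨337, 4, 395, 24, [2255, 2218, 2639]⟩) (.leaf ⟨0, 12, 0, 0, []⟩)) (.node (.leaf ⟨425, 4, 952, 43, [2814, 6636, 6732]⟩) (.leaf ⟨0, 12, 0, 0, []⟩)))) (.node (.node (.node (.leaf ⟨245, 12, 99, 34, [1615]⟩) (.leaf ⟨0, 12, 0, 0, []⟩)) (.node (.leaf ⟨431, 12, 266, 34, [5711]⟩) (.leaf ⟨0, 12, 0, 0, []⟩))) (.node (.node (.leaf ⟨312, 8, 567, 40, [2132, 3662]⟩) (.leaf ⟨0, 12, 0, 0, []⟩)) (.node (.leaf ⟨1037, 1, 1042, 11, [7717, 7631, 7750]⟩) (.leaf ⟨0, 12, 0, 0, []⟩)))))) (.node (.node (.node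 (.node (.node (.leaf ⟨53, 2, 54, 0, []⟩) (.leaf ⟨1087, 3, 1108, 27, [8295, 6650, 8388, 8393, 8267, 8336, 8526, 8527, 8526]⟩)) (.node (.leaf ⟨694, 9, 719, 39, [4305, 2658, 4426]⟩) (.leaf ⟨0, 12, 0, 0, []⟩))) (.node (.node (.leaf ⟨357, 1, 358, 11, [2375, 1013, 2380]⟩) (.leaf ⟨0, 12, 0, 0, []⟩)) (.node (.leaf ⟨747, 4, 673, 84, [4565, 4563, 5390, 6167, 6164, 6178, 4187, 3800, 5885, 6174, 5226, 6182]⟩) (.leaf ⟨0, 12, 0, 0, []⟩)))) (.node (.node (.node (.leaf ⟨184, 2, 222, 23, [1105, 1138, 1137, 1358]⟩) (.leaf ⟨0, 12, 0, 0, []⟩)) (.node (.leaf ⟨687, 1, 913, 8, [4255, 4270, 5454]⟩) (.leaf ⟨0, 12, 0, 0, []⟩))) (.node (.node (.leaf ⟨458, 9, 523, 46, [3011, 3009, 2027, 3406]⟩) (.leaf ⟨0, 12, 0, 0, []⟩)) (.node (.leaf ⟨948, 3, 1017, 7, [7190, 7179, 7502]⟩) (.leaf ⟨0, 12, 0, 0, []⟩))))) (.node (.node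 (.node (.node (.leaf ⟨104, 9, 143, 4, [621, 816, 846]⟩) (.leaf ⟨527, 4, 363, 75, [3526, 6132]⟩)) (.node (.leaf ⟨818, 2, 809, 50, [4943, 4915]⟩) (.leaf ⟨0, 12, 0, 0, []⟩))) (.node (.node (.leaf ⟨377, 4, 439, 0, []⟩) (.leaf ⟨0, 12, 0, 0, []⟩)) (.node (.leaf ⟨452, 0, 973, 21, [2985, 6980, 6990]⟩) (.leaf ⟨0, 12, 0, 0, []⟩)))) (.node (.node (.node (.leaf ⟨269, 2, 281, 13, [1791, 1340, 1868]⟩) (.leaf ⟨0, 12, 0, 0, []⟩)) (.node (.leaf ⟨575, 8, 443, 54, [3706, 5742, 3174, 5967]⟩) (.leaf ⟨0, 12, 0, 0, []⟩))) (.node (.node (.leaf ⟨619, 9, 616, 4, [3919, 3665, 3910]⟩) (.leaf ⟨0, 12, 0, 0, []⟩)) (.node (.leaf ⟨843, 3, 1063, 10, [5087, 6081, 3533, 2936, 3228, 3227, 2177, 1929, 1918, 2598, 4754, 8012]⟩) (.leaf ⟨0, 12, 0, 0, []⟩))))))) (.node (.node (.node (.node (.node (.node (.leaf ⟨10, 12, 36, 33, [57,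 33, 64, 67, 55, 38, 56, 202, 205, 138, 135, 35, 54, 68, 204, 203, 57, 33, 64, 67, 55, 38, 56, 202]⟩) (.leaf ⟨1083, 8, 1096, 40, [8270, 8398]⟩)) (.node (.leaf ⟨332, 0, 694, 21, [2278, 4300, 4302]⟩) (.leaf ⟨0, 12, 0, 0, []⟩))) (.node (.node (.leaf ⟨262, 8, 338, 0, []⟩) (.leaf ⟨0, 12, 0, 0, []⟩)) (.node (.leaf ⟨866, 12, 638, 39, [5203, 5196, 6351, 6349]⟩) (.leaf ⟨0, 12, 0, 0, []⟩)))) (.node (.node (.node (.leaf ⟨116, 4, 202, 0, []⟩) (.leaf ⟨885, 0, 951, 77, [6748, 6756]⟩)) (.node (.leaf ⟨891, 2, 892, 0, []⟩) (.leaf ⟨0, 12, 0, 0, []⟩))) (.node (.node (.leaf ⟨404, 8, 498, 40, [2702, 3278]⟩) (.leaf ⟨0, 12, 0, 0, []⟩)) (.node (.leaf ⟨518, 4, 1007, 86, [3446, 6942, 6945, 7056, 7059, 4321, 6396, 4308, 4311, 6246, 7068, 7374]⟩) (.leaf ⟨0, 12, 0, 0, []⟩))))) (.node (.node (.node (.node (.leaf ⟨49, 9,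 122, 4, [313, 651, 718]⟩) (.leaf ⟨419, 0, 791, 77, [5400, 5738]⟩)) (.node (.leaf ⟨439, 1, 789, 8, [2897, 2910, 4814]⟩) (.leaf ⟨0, 12, 0, 0, []⟩))) (.node (.node (.leaf ⟨414, 4, 192, 6, [2767, 2765, 2187]⟩) (.leaf ⟨0, 12, 0, 0, []⟩)) (.node (.leaf ⟨744, 9, 963, 0, []⟩) (.leaf ⟨0, 12, 0, 0, []⟩)))) (.node (.node (.node (.leaf ⟨189, 4, 262, 0, []⟩) (.leaf ⟨0, 12, 0, 0, []⟩)) (.node (.leaf ⟨795, 12, 654, 36, [4849, 5839, 4209]⟩) (.leaf ⟨0, 12, 0, 0, []⟩))) (.node (.node (.leaf ⟨588, 9, 593, 4, [3767, 2038, 3790]⟩) (.leaf ⟨0, 12, 0, 0, []⟩)) (.node (.leaf ⟨1017, 8, 1053, 40, [7509, 7886]⟩) (.leaf ⟨0, 12, 0, 0, []⟩)))))) (.node (.node (.node (.node (.node (.leaf ⟨61, 3, 79, 41, [375, 131, 127, 53, 154, 298, 293, 358, 460]⟩) (.leaf ⟨92, 1, 106, 36, [1555, 628]⟩)) (.node (.leaf ⟨350, 1, 746, 0, []⟩)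 (.leaf ⟨0, 12, 0, 0, []⟩))) (.node (.node (.leaf ⟨345, 2, 372, 29, [2297, 1332, 882, 2380, 2383, 1301, 2000, 1993, 2510]⟩) (.leaf ⟨0, 12, 0, 0, []⟩)) (.node (.leaf ⟨426, 0, 936, 0, []⟩) (.leaf ⟨0, 12, 0, 0, []⟩)))) (.node (.node (.node (.leaf ⟨243, 4, 245, 0, []⟩) (.leaf ⟨0, 12, 0, 0, []⟩)) (.node (.leaf ⟨676, 12, 665, 34, [5583]⟩) (.leaf ⟨0, 12, 0, 0, []⟩))) (.node (.node (.leaf ⟨486, 8, 547, 40, [3198, 3534]⟩) (.leaf ⟨0, 12, 0, 0, []⟩)) (.node (.leaf ⟨570, 5, 1029, 12, [3679, 3814, 7630]⟩) (.leaf ⟨0, 12, 0, 0, []⟩))))) (.node (.node (.node (.node (.leaf ⟨135, 2, 167, 0, []⟩) (.leaf ⟨643, 4, 645, 75, [6327, 5181, 5880]⟩)) (.node (.leaf ⟨796, 9, 840, 5, [4851, 2612, 5070]⟩) (.leaf ⟨0, 12, 0, 0, []⟩))) (.node (.node (.leaf ⟨453, 8, 460, 40, [2984, 3022]⟩) (.leaf ⟨0, 12, 0, 0, []⟩)) (.node (.leaf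 ⟨983, 0, 893, 51, [7113, 6529, 6572, 6772]⟩) (.leaf ⟨0, 12, 0, 0, []⟩)))) (.node (.node (.node (.leaf ⟨148, 5, 297, 28, [878, 824, 1996]⟩) (.leaf ⟨0, 12, 0, 0, []⟩)) (.node (.leaf ⟨382, 12, 277, 34, [5815, 6095]⟩) (.leaf ⟨0, 12, 0, 0, []⟩))) (.node (.node (.leaf ⟨649, 2, 318, 50, [4047, 3751]⟩) (.leaf ⟨0, 12, 0, 0, []⟩)) (.node (.leaf ⟨1016, 8, 1073, 40, [7497, 8142]⟩) (.leaf ⟨0, 12, 0, 0, []⟩)))))))))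

def fact9 : Arr (CFact) :=
  (.node (.node (.node (.node (.node (.node (.node (.node (.leaf ⟨2, 2, 3, 0, []⟩) (.leaf ⟨955, 1, 1078, 8, [8137, 8138, 8204]⟩)) (.node (.leaf ⟨618, 9, 660, 0, []⟩) (.leaf ⟨0, 12, 0, 0, []⟩))) (.node (.node (.leaf ⟨195, 4, 307, 0, []⟩) (.leaf ⟨0, 12, 0, 0, []⟩)) (.node (.leaf ⟨906, 3, 875, 7, [6160, 5254, 5251]⟩) (.leaf ⟨0, 12, 0, 0, []⟩)))) (.node (.node (.node (.leaf ⟨141, 3, 174, 30, [833, 997, 1040]⟩) (.leaf ⟨674, 1, 965, 36, [6179, 6900]⟩)) (.node (.leaf ⟨849, 2, 853, 0, []⟩) (.leaf ⟨0, 12, 0, 0, []⟩))) (.node (.node (.leaf ⟨272, 1, 467, 22, [1811, 601, 1629, 1437, 1555, 620, 1422, 1413, 1562, 785, 523, 255, 522, 1667, 1376, 1597, 3084]⟩) (.leaf ⟨0, 12, 0, 0, []⟩)) (.node (.leaf ⟨989, 9, 990, 5, [7167, 6990, 7178]⟩) (.leaf ⟨0, 12, 0, 0, []⟩))))) (.node (.node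 (.node (.node (.leaf ⟨89, 1, 89, 11, [527, 267, 526]⟩) (.leaf ⟨177, 0, 85, 77, [1707, 1497]⟩)) (.node (.leaf ⟨756, 8, 455, 19, [4625, 2998]⟩) (.leaf ⟨0, 12, 0, 0, []⟩))) (.node (.node (.leaf ⟨382, 4, 163, 6, [2577, 2575, 2565]⟩) (.leaf ⟨0, 12, 0, 0, []⟩)) (.node (.leaf ⟨944, 4, 940, 24, [6672, 3844, 5666, 6652]⟩) (.leaf ⟨0, 12, 0, 0, []⟩)))) (.node (.node (.node (.leaf ⟨97, 12, 92, 75, [620, 1553, 1523]⟩) (.leaf ⟨0, 12, 0, 0, []⟩)) (.node (.leaf ⟨915, 12, 416, 34, [5649]⟩) (.leaf ⟨0, 12, 0, 0, []⟩))) (.node (.node (.leaf ⟨558, 9, 559, 0, []⟩) (.leaf ⟨0, 12, 0, 0, []⟩)) (.node (.leaf ⟨864, 4, 1035, 0, []⟩) (.leaf ⟨0, 12, 0, 0, []⟩)))))) (.node (.node (.node (.node (.node (.leaf ⟨42, 1, 42, 8, [273, 89, 272]⟩) (.leaf ⟨1097, 8, 1102, 3, [8411, 7746, 8458]⟩)) (.node (.leaf ⟨706, 2, 707, 0, []⟩)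 (.leaf ⟨0, 12, 0, 0, []⟩))) (.node (.node (.leaf ⟨140, 4, 348, 43, [828, 1280, 2314]⟩) (.leaf ⟨0, 12, 0, 0, []⟩)) (.node (.leaf ⟨721, 0, 563, 93, [4440, 6150, 3509, 3499, 1847, 3210, 3478, 3540, 6416, 3632]⟩) (.leaf ⟨0, 12, 0, 0, []⟩)))) (.node (.node (.node (.leaf ⟨73, 9, 212, 5, [427, 912, 1294]⟩) (.leaf ⟨1019, 4, 543, 75, [7531, 6106]⟩)) (.node (.leaf ⟨903, 4, 904, 0, []⟩) (.leaf ⟨0, 12, 0, 0, []⟩))) (.node (.node (.leaf ⟨342, 2, 513, 26, [2281, 2280, 2281, 2288, 2446, 2948, 2947, 2264, 3342]⟩) (.leaf ⟨0, 12, 0, 0, []⟩)) (.node (.leaf ⟨1011, 0, 1011, 92, [7437, 3487, 6079, 4872, 6313, 4161, 5833, 4799, 2537, 980, 1679, 1822, 3484, 7436]⟩) (.leaf ⟨0, 12, 0, 0, []⟩))))) (.node (.node (.node (.node (.leaf ⟨128, 8, 134, 3, [747, 356, 782]⟩) (.leaf ⟨471, 4, 260, 75, [3122, 6220]⟩)) (.node (.leaf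 ⟨797, 2, 805, 0, []⟩) (.leaf ⟨0, 12, 0, 0, []⟩))) (.node (.node (.leaf ⟨307, 1, 428, 8, [2067, 2168, 2832]⟩) (.leaf ⟨0, 12, 0, 0, []⟩)) (.node (.leaf ⟨966, 0, 968, 44, [6905, 6832, 6831, 5978, 5979, 5978, 4813, 5907, 6868, 6928]⟩) (.leaf ⟨0, 12, 0, 0, []⟩)))) (.node (.node (.node (.leaf ⟨98, 0, 272, 21, [1783, 1806, 1808]⟩) (.leaf ⟨0, 12, 0, 0, []⟩)) (.node (.leaf ⟨564, 12, 441, 34, [5905]⟩) (.leaf ⟨0, 12, 0, 0, []⟩))) (.node (.node (.leaf ⟨309, 1, 606, 0, []⟩) (.leaf ⟨0, 12, 0, 0, []⟩)) (.node (.leaf ⟨1035, 2, 1058, 68, [7709, 4413, 4411, 6123, 5081, 4788, 5180, 6326, 5895, 7818, 7821, 6285, 7116, 7938, 7948]⟩) (.leaf ⟨0, 12, 0, 0, []⟩))))))) (.node (.node (.node (.node (.node (.node (.leaf ⟨7, 9, 24, 5, [41, 104, 142]⟩) (.leaf ⟨1089, 5, 1090, 28, [8319, 7861, 8332]⟩)) (.node (.leaf ⟨325,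 3, 685, 30, [2153, 4040, 4238]⟩) (.leaf ⟨0, 12, 0, 0, []⟩))) (.node (.node (.leaf ⟨269, 9, 330, 4, [1795, 1962, 2192]⟩) (.leaf ⟨0, 12, 0, 0, []⟩)) (.node (.leaf ⟨823, 12, 767, 34, [6289]⟩) (.leaf ⟨0, 12, 0, 0, []⟩)))) (.node (.node (.node (.leaf ⟨186, 2, 194, 0, []⟩) (.leaf ⟨791, 4, 408, 75, [4830, 5740]⟩)) (.node (.leaf ⟨741, 2, 878, 0, []⟩) (.leaf ⟨0, 12, 0, 0, []⟩))) (.node (.node (.leaf ⟨484, 2, 489, 18, [3183, 2368, 3216]⟩) (.leaf ⟨0, 12, 0, 0, []⟩)) (.node (.leaf ⟨714, 0, 1002, 69, [6309, 6107, 6894, 7312]⟩) (.leaf ⟨0, 12, 0, 0, []⟩))))) (.node (.node (.node (.node (.leaf ⟨112, 3, 111, 30, [657, 309, 651]⟩) (.leaf ⟨383, 8, 647, 76, [4896, 5768]⟩)) (.node (.leaf ⟨388, 4, 777, 0, []⟩) (.leaf ⟨0, 12, 0, 0, []⟩))) (.node (.node (.leaf ⟨335, 3, 405, 27, [2239, 2246, 2698, 2701, 1737, 1076,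 2704, 2705, 2704]⟩) (.leaf ⟨0, 12, 0, 0, []⟩)) (.node (.leaf ⟨529, 3, 958, 27, [3441, 1872, 3594, 3654, 3651, 3257, 6800, 6801, 6800]⟩) (.leaf ⟨0, 12, 0, 0, []⟩)))) (.node (.node (.node (.leaf ⟨210, 12, 120, 31, [1283, 589, 291, 316, 702, 707, 441, 454, 1665, 489, 494, 1663, 637, 1629, 1437, 748, 1559, 989, 465, 1044, 1674, 1677, 1681, 709]⟩) (.leaf ⟨0, 12, 0, 0, []⟩)) (.node (.leaf ⟨631, 12, 392, 74, [3964, 5777, 5157]⟩) (.leaf ⟨0, 12, 0, 0, []⟩))) (.node (.node (.leaf ⟨433, 3, 581, 7, [2871, 1983, 3728]⟩) (.leaf ⟨0, 12, 0, 0, []⟩)) (.node (.leaf ⟨694, 1, 1048, 144, [4307, 7210, 7824]⟩) (.leaf ⟨0, 12, 0, 0, []⟩)))))) (.node (.node (.node (.node (.node (.leaf ⟨26, 5, 68, 28, [153, 381, 400]⟩) (.leaf ⟨38, 0, 45, 77, [492, 1640]⟩)) (.node (.leaf ⟨494, 2, 733, 26, [3253, 3252, 3253, 2214, 4304,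 4307, 3249, 3101, 4496]⟩) (.leaf ⟨0, 12, 0, 0, []⟩))) (.node (.node (.leaf ⟨365, 9, 366, 0, []⟩) (.leaf ⟨0, 12, 0, 0, []⟩)) (.node (.leaf ⟨688, 5, 928, 137, [4267, 2187, 2780, 6538, 6545, 6427, 3355, 1893, 1767, 1916, 1930, 1929, 955, 1300, 2382, 3212, 3478, 3540, 6540]⟩) (.leaf ⟨0, 12, 0, 0, []⟩)))) (.node (.node (.node (.leaf ⟨106, 5, 232, 72, [627, 603, 664, 1257, 1254, 973, 895, 925, 1004, 1006, 1424]⟩) (.leaf ⟨0, 12, 0, 0, []⟩)) (.node (.leaf ⟨186, 12, 919, 75, [1178, 5521, 5486]⟩) (.leaf ⟨0, 12, 0, 0, []⟩))) (.node (.node (.leaf ⟨451, 9, 534, 4, [2977, 1808, 3472]⟩) (.leaf ⟨0, 12, 0, 0, []⟩)) (.node (.leaf ⟨765, 0, 1023, 69, [6582, 7567, 7568]⟩) (.leaf ⟨0, 12, 0, 0, []⟩))))) (.node (.node (.node (.node (.leaf ⟨151, 0, 155, 0, []⟩) (.leaf ⟨583, 2, 673, 38, [5226, 6182]⟩)) (.node (.leaf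 ⟨386, 0, 831, 21, [2595, 5004, 5008]⟩) (.leaf ⟨0, 12, 0, 0, []⟩))) (.node (.node (.leaf ⟨355, 9, 448, 5, [2514, 2517, 2956]⟩) (.leaf ⟨0, 12, 0, 0, []⟩)) (.node (.leaf ⟨698, 4, 978, 142, [4321, 6396, 7046, 7049, 3617, 2934, 2923, 2653, 1727, 2496, 3026, 3029, 4638, 5310, 5313, 6381, 3879, 6946, 6945, 7056]⟩) (.leaf ⟨0, 12, 0, 0, []⟩)))) (.node (.node (.node (.leaf ⟨203, 3, 289, 30, [1245, 944, 1934]⟩) (.leaf ⟨0, 12, 0, 0, []⟩)) (.node (.leaf ⟨831, 12, 753, 34, [6033, 5962]⟩) (.leaf ⟨0, 12, 0, 0, []⟩))) (.node (.node (.leaf ⟨630, 2, 636, 0, []⟩) (.leaf ⟨0, 12, 0, 0, []⟩)) (.node (.leaf ⟨651, 3, 1068, 148, [4059, 7670, 7667, 4747, 4667, 4800, 8058, 8078, 8080]⟩) (.leaf ⟨0, 12, 0, 0, []⟩)))))))) (.node (.node (.node (.node (.node (.node (.node (.leaf ⟨12, 0, 14, 0, []⟩) (.leaf ⟨1084, 5, 1084,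 28, [8271, 8268, 8270]⟩)) (.node (.leaf ⟨630, 1, 672, 11, [3959, 4150, 4176]⟩) (.leaf ⟨0, 12, 0, 0, []⟩))) (.node (.node (.leaf ⟨305, 4, 320, 0, []⟩) (.leaf ⟨0, 12, 0, 0, []⟩)) (.node (.leaf ⟨467, 12, 500, 74, [3116, 6225, 3323]⟩) (.leaf ⟨0, 12, 0, 0, []⟩)))) (.node (.node (.node (.leaf ⟨64, 9, 184, 39, [1101, 1097, 1104]⟩) (.leaf ⟨731, 8, 441, 76, [4485, 5906]⟩)) (.node (.leaf ⟨393, 0, 866, 21, [5145, 5198, 5200]⟩) (.leaf ⟨0, 12, 0, 0, []⟩))) (.node (.node (.leaf ⟨228, 1, 480, 0, []⟩) (.leaf ⟨0, 12, 0, 0, []⟩)) (.node (.leaf ⟨943, 2, 997, 0, []⟩) (.leaf ⟨0, 12, 0, 0, []⟩))))) (.node (.node (.node (.node (.leaf ⟨46, 2, 97, 0, []⟩) (.leaf ⟨324, 2, 374, 38, [4200, 5822]⟩)) (.node (.leaf ⟨724, 2, 767, 0, []⟩) (.leaf ⟨0, 12, 0, 0, []⟩))) (.node (.node (.leaf ⟨334, 2, 396, 0, []⟩) (.leaf ⟨0, 12,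 0, 0, []⟩)) (.node (.leaf ⟨727, 9, 952, 4, [6477, 6479, 6736]⟩) (.leaf ⟨0, 12, 0, 0, []⟩)))) (.node (.node (.node (.leaf ⟨96, 12, 243, 75, [604, 1617, 1489]⟩) (.leaf ⟨0, 12, 0, 0, []⟩)) (.node (.leaf ⟨523, 12, 871, 36, [3405, 5713, 5236]⟩) (.leaf ⟨0, 12, 0, 0, []⟩))) (.node (.node (.leaf ⟨567, 2, 568, 0, []⟩) (.leaf ⟨0, 12, 0, 0, []⟩)) (.node (.leaf ⟨1019, 9, 1042, 5, [7523, 5512, 3812, 7750]⟩) (.leaf ⟨0, 12, 0, 0, []⟩)))))) (.node (.node (.node (.node (.node (.leaf ⟨46, 9, 54, 5, [303, 334, 336]⟩) (.leaf ⟨1084, 2, 1108, 26, [8273, 8272, 8273, 8108, 8288, 8291, 8267, 8336, 8526]⟩)) (.node (.leaf ⟨712, 2, 720, 0, []⟩) (.leaf ⟨0, 12, 0, 0, []⟩))) (.node (.node (.leaf ⟨351, 5, 358, 87, [2332, 2309, 1332, 882, 1012, 915, 1366, 1363, 1367, 914, 1013, 2380]⟩) (.leaf ⟨0, 12, 0, 0, []⟩)) (.node (.leaf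 ⟨747, 2, 755, 136, [6480, 6183, 5233, 2667, 2880, 5757, 3734, 6411, 4814, 5910, 2959, 2353, 1319, 2444, 2443, 2259, 1727, 1111, 1100, 1132, 2732, 4616]⟩) (.leaf ⟨0, 12, 0, 0, []⟩)))) (.node (.node (.node (.leaf ⟨222, 0, 222, 69, [1359, 1137, 1358]⟩) (.leaf ⟨0, 12, 0, 0, []⟩)) (.node (.leaf ⟨863, 2, 913, 13, [5187, 5059, 5456]⟩) (.leaf ⟨0, 12, 0, 0, []⟩))) (.node (.node (.leaf ⟨523, 2, 524, 0, []⟩) (.leaf ⟨0, 12, 0, 0, []⟩)) (.node (.leaf ⟨886, 2, 1017, 13, [5306, 6996, 7502]⟩) (.leaf ⟨0, 12, 0, 0, []⟩))))) (.node (.node (.node (.node (.leaf ⟨143, 2, 144, 0, []⟩) (.leaf ⟨528, 1, 578, 36, [6371, 3712]⟩)) (.node (.leaf ⟨818, 9, 779, 46, [4943, 4916, 3730, 4768]⟩) (.leaf ⟨0, 12, 0, 0, []⟩))) (.node (.node (.leaf ⟨431, 9, 439, 4, [2865, 2671, 2896]⟩) (.leaf ⟨0, 12, 0, 0, []⟩)) (.node (.leaf ⟨559,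 5, 973, 28, [3603, 6986, 6990]⟩) (.leaf ⟨0, 12, 0, 0, []⟩)))) (.node (.node (.node (.leaf ⟨190, 5, 281, 12, [1153, 1344, 1868]⟩) (.leaf ⟨0, 12, 0, 0, []⟩)) (.node (.leaf ⟨575, 5, 731, 28, [5968, 2913, 5907, 4484]⟩) (.leaf ⟨0, 12, 0, 0, []⟩))) (.node (.node (.leaf ⟨613, 4, 620, 0, []⟩) (.leaf ⟨0, 12, 0, 0, []⟩)) (.node (.leaf ⟨694, 5, 1063, 59, [4307, 6596, 6589, 5966, 3171, 3080, 7064, 7059, 6391, 6408, 8012]⟩) (.leaf ⟨0, 12, 0, 0, []⟩))))))) (.node (.node (.node (.node (.node (.node (.leaf ⟨36, 12, 10, 34, [209]⟩) (.leaf ⟨945, 0, 1096, 21, [6686, 8272, 8398]⟩)) (.node (.leaf ⟨493, 3, 694, 41, [3249, 3096, 2273, 2291, 2446, 2449, 2271, 2210, 4304]⟩) (.leaf ⟨0, 12, 0, 0, []⟩))) (.node (.node (.leaf ⟨258, 4, 338, 24, [1725, 1744, 2256]⟩) (.leaf ⟨0, 12, 0, 0, []⟩)) (.node (.leaf ⟨645, 12, 865,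 74, [4030, 6353, 5201]⟩) (.leaf ⟨0, 12, 0, 0, []⟩)))) (.node (.node (.node (.leaf ⟨202, 9, 70, 4, [1233, 685, 412]⟩) (.leaf ⟨886, 0, 940, 77, [6731, 6663]⟩)) (.node (.leaf ⟨469, 1, 892, 11, [3105, 5326, 5328]⟩) (.leaf ⟨0, 12, 0, 0, []⟩))) (.node (.node (.leaf ⟨336, 3, 498, 30, [2241, 2706, 3278]⟩) (.leaf ⟨0, 12, 0, 0, []⟩)) (.node (.leaf ⟨790, 5, 1007, 87, [4823, 2858, 2882, 3774, 3998, 6353, 5203, 2624, 5040, 6038, 3420, 3458, 7072, 7374]⟩) (.leaf ⟨0, 12, 0, 0, []⟩))))) (.node (.node (.node (.node (.leaf ⟨114, 0, 123, 0, []⟩) (.leaf ⟨419, 1, 470, 36, [5396, 6258]⟩)) (.node (.leaf ⟨578, 2, 790, 0, []⟩) (.leaf ⟨0, 12, 0, 0, []⟩))) (.node (.node (.leaf ⟨192, 1, 415, 0, []⟩) (.leaf ⟨0, 12, 0, 0, []⟩)) (.node (.leaf ⟨736, 8, 963, 40, [4552, 6864]⟩) (.leaf ⟨0, 12, 0, 0, []⟩)))) (.node (.node (.node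 (.leaf ⟨262, 9, 133, 4, [1745, 1149, 778]⟩) (.leaf ⟨0, 12, 0, 0, []⟩)) (.node (.leaf ⟨640, 12, 819, 74, [4084, 5841, 4951]⟩) (.leaf ⟨0, 12, 0, 0, []⟩))) (.node (.node (.leaf ⟨589, 8, 593, 40, [3770, 3792]⟩) (.leaf ⟨0, 12, 0, 0, []⟩)) (.node (.leaf ⟨602, 0, 1053, 21, [6711, 7252, 7886]⟩) (.leaf ⟨0, 12, 0, 0, []⟩)))))) (.node (.node (.node (.node (.node (.leaf ⟨61, 9, 79, 46, [464, 461, 366, 460]⟩) (.leaf ⟨92, 2, 45, 38, [569, 1640]⟩)) (.node (.leaf ⟨606, 0, 746, 45, [3859, 2079, 711, 705, 740, 1071, 1065, 1062, 1080, 1670, 829, 2328, 4560]⟩) (.leaf ⟨0, 12, 0, 0, []⟩))) (.node (.node (.leaf ⟨355, 3, 372, 41, [2361, 863, 433, 345, 886, 1010, 1015, 1318, 2510]⟩) (.leaf ⟨0, 12, 0, 0, []⟩)) (.node (.leaf ⟨443, 3, 936, 41, [6588, 6595, 2781, 2760, 2759, 1151, 1168, 2816, 6608]⟩) (.leaf ⟨0, 12, 0,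 0, []⟩)))) (.node (.node (.node (.leaf ⟨200, 1, 245, 8, [1219, 1482, 1488]⟩) (.leaf ⟨0, 12, 0, 0, []⟩)) (.node (.leaf ⟨324, 12, 658, 35, [2147, 5581, 4104]⟩) (.leaf ⟨0, 12, 0, 0, []⟩))) (.node (.node (.leaf ⟨278, 3, 547, 30, [1849, 3202, 3534]⟩) (.leaf ⟨0, 12, 0, 0, []⟩)) (.node (.leaf ⟨651, 4, 1029, 43, [4061, 5684, 7630]⟩) (.leaf ⟨0, 12, 0, 0, []⟩))))) (.node (.node (.node (.node (.leaf ⟨71, 4, 167, 9, [417, 156, 107, 118, 180, 184, 181, 170, 322, 792, 976]⟩) (.leaf ⟨643, 8, 857, 76, [5895, 5161]⟩)) (.node (.leaf ⟨389, 3, 840, 30, [2609, 4853, 5072]⟩) (.leaf ⟨0, 12, 0, 0, []⟩))) (.node (.node (.leaf ⟨370, 2, 461, 0, []⟩) (.leaf ⟨0, 12, 0, 0, []⟩)) (.node (.leaf ⟨830, 2, 984, 0, []⟩) (.leaf ⟨0, 12, 0, 0, []⟩)))) (.node (.node (.node (.leaf ⟨215, 4, 298, 0, []⟩) (.leaf ⟨0, 12, 0, 0, []⟩))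 (.node (.leaf ⟨542, 12, 797, 36, [3515, 6097, 4856]⟩) (.leaf ⟨0, 12, 0, 0, []⟩))) (.node (.node (.leaf ⟨649, 9, 647, 5, [4047, 3778, 4036]⟩) (.leaf ⟨0, 12, 0, 0, []⟩)) (.node (.leaf ⟨708, 0, 1073, 21, [8132, 8140, 8142]⟩) (.leaf ⟨0, 12, 0, 0, []⟩)))))))))

def fact10 : Arr (CFact) :=
  (.node (.node (.node (.node (.node (.node (.node (.node (.leaf ⟨3, 9, 3, 5, [19, 16, 18]⟩) (.leaf ⟨717, 9, 1078, 4, [4417, 7584, 8204]⟩)) (.node (.leaf ⟨617, 8, 660, 40, [3914, 4114]⟩) (.leaf ⟨0, 12, 0, 0, []⟩))) (.node (.node (.leaf ⟨307, 4, 261, 14, [2067, 1179, 1123, 1741]⟩) (.leaf ⟨0, 12, 0, 0, []⟩)) (.node (.leaf ⟨875, 4, 787, 114, [6163, 5407, 3143, 2497, 1105, 1741, 2246, 2253, 1311, 924, 1333, 2558, 3686, 5995, 4921, 4904, 6046, 2917, 2544, 4807]⟩) (.leaf ⟨0, 12, 0, 0, []⟩)))) (.node (.node (.node (.leaf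 ⟨61, 5, 174, 28, [373, 999, 1040]⟩) (.leaf ⟨674, 4, 377, 75, [6179, 4806]⟩)) (.node (.leaf ⟨853, 9, 392, 5, [5139, 5123, 2618]⟩) (.leaf ⟨0, 12, 0, 0, []⟩))) (.node (.node (.leaf ⟨403, 4, 468, 0, []⟩) (.leaf ⟨0, 12, 0, 0, []⟩)) (.node (.leaf ⟨887, 3, 990, 30, [5315, 7176, 7186]⟩) (.leaf ⟨0, 12, 0, 0, []⟩))))) (.node (.node (.node (.node (.leaf ⟨81, 9, 89, 5, [481, 268, 526]⟩) (.leaf ⟨178, 0, 86, 77, [1711, 1503]⟩)) (.node (.leaf ⟨489, 0, 757, 0, []⟩) (.leaf ⟨0, 12, 0, 0, []⟩))) (.node (.node (.leaf ⟨163, 1, 383, 0, []⟩) (.leaf ⟨0, 12, 0, 0, []⟩)) (.node (.leaf ⟨728, 4, 944, 49, [4467, 6477, 6655, 6675]⟩) (.leaf ⟨0, 12, 0, 0, []⟩)))) (.node (.node (.node (.leaf ⟨128, 12, 168, 75, [749, 1555, 990]⟩) (.leaf ⟨0, 12, 0, 0, []⟩)) (.node (.leaf ⟨690, 12, 415, 35, [4285, 5651, 5471]⟩) (.leaf ⟨0, 12,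 0, 0, []⟩))) (.node (.node (.leaf ⟨282, 0, 559, 21, [2468, 3598, 3602]⟩) (.leaf ⟨0, 12, 0, 0, []⟩)) (.node (.leaf ⟨967, 2, 1035, 47, [6927, 3953, 5621, 3993, 3986, 4029, 5881, 5180, 5177, 5202, 6352, 4002, 5773, 5192, 7698]⟩) (.leaf ⟨0, 12, 0, 0, []⟩)))))) (.node (.node (.node (.node (.node (.leaf ⟨40, 9, 42, 4, [259, 84, 272]⟩) (.leaf ⟨1098, 9, 1102, 39, [8419, 7744, 8458]⟩)) (.node (.leaf ⟨707, 2, 648, 50, [4371, 4369]⟩) (.leaf ⟨0, 12, 0, 0, []⟩))) (.node (.node (.leaf ⟨219, 0, 349, 0, []⟩) (.leaf ⟨0, 12, 0, 0, []⟩)) (.node (.leaf ⟨745, 2, 582, 25, [4555, 6412]⟩) (.leaf ⟨0, 12, 0, 0, []⟩)))) (.node (.node (.node (.leaf ⟨148, 3, 212, 30, [878, 430, 1298]⟩) (.leaf ⟨1035, 1, 764, 36, [7703, 6294]⟩)) (.node (.leaf ⟨419, 1, 904, 8, [2783, 5388, 5394]⟩) (.leaf ⟨0, 12, 0, 0, []⟩))) (.node (.node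 (.leaf ⟨340, 9, 513, 46, [2950, 2947, 2264, 3342]⟩) (.leaf ⟨0, 12, 0, 0, []⟩)) (.node (.leaf ⟨551, 4, 1012, 0, []⟩) (.leaf ⟨0, 12, 0, 0, []⟩))))) (.node (.node (.node (.node (.leaf ⟨129, 9, 134, 39, [753, 354, 782]⟩) (.leaf ⟨476, 1, 430, 36, [3366, 5744]⟩)) (.node (.leaf ⟨796, 1, 805, 11, [4851, 4856, 4882]⟩) (.leaf ⟨0, 12, 0, 0, []⟩))) (.node (.node (.leaf ⟨301, 9, 428, 4, [2033, 2170, 2832]⟩) (.leaf ⟨0, 12, 0, 0, []⟩)) (.node (.leaf ⟨450, 5, 968, 85, [2974, 2305, 3638, 6868, 6877, 4297, 5953, 2971, 5911, 4815, 2909, 5907, 6868, 6928]⟩) (.leaf ⟨0, 12, 0, 0, []⟩)))) (.node (.node (.node (.leaf ⟨272, 2, 265, 29, [1811, 603, 664, 678, 680, 683, 1781, 1779, 1772]⟩) (.leaf ⟨0, 12, 0, 0, []⟩)) (.node (.leaf ⟨448, 12, 789, 36, [2961, 5705, 4816]⟩) (.leaf ⟨0, 12, 0, 0, []⟩))) (.node (.node (.leaf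 ⟨606, 2, 607, 0, []⟩) (.leaf ⟨0, 12, 0, 0, []⟩)) (.node (.leaf ⟨1058, 0, 1058, 96, [7953, 6344, 6351, 5207, 6330, 5159, 5166, 7768, 7936, 7948]⟩) (.leaf ⟨0, 12, 0, 0, []⟩))))))) (.node (.node (.node (.node (.node (.node (.leaf ⟨13, 5, 24, 28, [78, 44, 146]⟩) (.leaf ⟨953, 2, 1091, 0, []⟩)) (.node (.leaf ⟨573, 9, 686, 0, []⟩) (.leaf ⟨0, 12, 0, 0, []⟩))) (.node (.node (.leaf ⟨310, 8, 330, 40, [2084, 2194]⟩) (.leaf ⟨0, 12, 0, 0, []⟩)) (.node (.leaf ⟨764, 12, 828, 74, [4692, 6291, 4995]⟩) (.leaf ⟨0, 12, 0, 0, []⟩)))) (.node (.node (.node (.leaf ⟨194, 2, 126, 50, [1171, 1127]⟩) (.leaf ⟨791, 8, 936, 76, [5739, 6616]⟩)) (.node (.leaf ⟨872, 9, 878, 5, [5239, 4538, 5266]⟩) (.leaf ⟨0, 12, 0, 0, []⟩))) (.node (.node (.leaf ⟨353, 4, 489, 24, [2345, 2364, 3216]⟩) (.leaf ⟨0, 12, 0, 0, []⟩)) (.node (.leaf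 ⟨548, 9, 1003, 0, []⟩) (.leaf ⟨0, 12, 0, 0, []⟩))))) (.node (.node (.node (.node (.leaf ⟨112, 9, 113, 0, []⟩) (.leaf ⟨385, 0, 293, 77, [4984, 6002]⟩)) (.node (.leaf ⟨777, 9, 776, 4, [4755, 2603, 4752]⟩) (.leaf ⟨0, 12, 0, 0, []⟩))) (.node (.node (.leaf ⟨191, 0, 406, 0, []⟩) (.leaf ⟨0, 12, 0, 0, []⟩)) (.node (.leaf ⟨496, 2, 958, 26, [3269, 3268, 3269, 2086, 3436, 3652, 3651, 3257, 6800]⟩) (.leaf ⟨0, 12, 0, 0, []⟩)))) (.node (.node (.node (.leaf ⟨130, 12, 221, 74, [762, 1683, 1352]⟩) (.leaf ⟨0, 12, 0, 0, []⟩)) (.node (.leaf ⟨375, 12, 680, 36, [2620, 5779, 4216]⟩) (.leaf ⟨0, 12, 0, 0, []⟩))) (.node (.node (.leaf ⟨434, 2, 581, 13, [2875, 2669, 3728]⟩) (.leaf ⟨0, 12, 0, 0, []⟩)) (.node (.leaf ⟨1046, 8, 1048, 54, [7799, 7218, 7824]⟩) (.leaf ⟨0, 12, 0, 0, []⟩)))))) (.node (.node (.node (.node (.node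 (.leaf ⟨26, 1, 69, 0, []⟩) (.leaf ⟨40, 0, 53, 77, [544, 1580]⟩)) (.node (.leaf ⟨733, 2, 719, 50, [4499, 4428]⟩) (.leaf ⟨0, 12, 0, 0, []⟩))) (.node (.node (.leaf ⟨153, 0, 366, 21, [2295, 2446, 2450]⟩) (.leaf ⟨0, 12, 0, 0, []⟩)) (.node (.leaf ⟨721, 9, 928, 4, [6170, 2784, 6538]⟩) (.leaf ⟨0, 12, 0, 0, []⟩)))) (.node (.node (.node (.leaf ⟨168, 1, 232, 8, [989, 1008, 1424]⟩) (.leaf ⟨0, 12, 0, 0, []⟩)) (.node (.leaf ⟨919, 12, 186, 34, [5523]⟩) (.leaf ⟨0, 12, 0, 0, []⟩))) (.node (.node (.leaf ⟨531, 8, 534, 40, [3454, 3474]⟩) (.leaf ⟨0, 12, 0, 0, []⟩)) (.node (.leaf ⟨766, 2, 1023, 18, [7558, 7560, 7568]⟩) (.leaf ⟨0, 12, 0, 0, []⟩))))) (.node (.node (.node (.node (.leaf ⟨155, 9, 156, 0, []⟩) (.leaf ⟨589, 0, 600, 77, [5509, 5501]⟩)) (.node (.leaf ⟨735, 5, 831, 28, [4513, 5006, 5008]⟩) (.leaf ⟨0, 12,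 0, 0, []⟩))) (.node (.node (.leaf ⟨354, 8, 448, 40, [2358, 2962]⟩) (.leaf ⟨0, 12, 0, 0, []⟩)) (.node (.leaf ⟨746, 9, 978, 5, [6489, 5408, 7056]⟩) (.leaf ⟨0, 12, 0, 0, []⟩)))) (.node (.node (.node (.leaf ⟨122, 0, 290, 0, []⟩) (.leaf ⟨0, 12, 0, 0, []⟩)) (.node (.leaf ⟨525, 12, 836, 76, [4608, 6035, 5046]⟩) (.leaf ⟨0, 12, 0, 0, []⟩))) (.node (.node (.leaf ⟨636, 2, 626, 50, [3987, 3959]⟩) (.leaf ⟨0, 12, 0, 0, []⟩)) (.node (.leaf ⟨708, 5, 1068, 110, [4382, 6283, 5300, 6655, 6662, 6730, 7506, 7499, 7488, 7672, 8062, 8078, 8080]⟩) (.leaf ⟨0, 12, 0, 0, []⟩)))))))) (.node (.node (.node (.node (.node (.node (.node (.leaf ⟨14, 9, 15, 0, []⟩) (.leaf ⟨1082, 2, 1085, 0, []⟩)) (.node (.leaf ⟨323, 9, 672, 5, [2143, 4149, 4176]⟩) (.leaf ⟨0, 12, 0, 0, []⟩))) (.node (.node (.leaf ⟨312, 9, 320, 4, [2099, 2095,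 2130]⟩) (.leaf ⟨0, 12, 0, 0, []⟩)) (.node (.leaf ⟨500, 12, 467, 34, [6227]⟩) (.leaf ⟨0, 12, 0, 0, []⟩)))) (.node (.node (.node (.leaf ⟨147, 1, 184, 20, [875, 343, 288, 386, 1106]⟩) (.leaf ⟨732, 8, 510, 76, [4493, 6192]⟩)) (.node (.leaf ⟨854, 2, 867, 0, []⟩) (.leaf ⟨0, 12, 0, 0, []⟩))) (.node (.node (.leaf ⟨333, 0, 480, 92, [2221, 1064, 1066, 380, 178, 454, 1665, 489, 275, 1659, 611, 453, 1400, 3154]⟩) (.leaf ⟨0, 12, 0, 0, []⟩)) (.node (.leaf ⟨949, 0, 997, 42, [6708, 6662, 6705, 6703, 2809, 6666, 6667, 6666, 7250]⟩) (.leaf ⟨0, 12, 0, 0, []⟩))))) (.node (.node (.node (.node (.leaf ⟨97, 2, 45, 50, [595, 303]⟩) (.leaf ⟨324, 4, 381, 75, [4210, 5838]⟩)) (.node (.leaf ⟨764, 9, 767, 5, [4673, 4452, 4690]⟩) (.leaf ⟨0, 12, 0, 0, []⟩))) (.node (.node (.leaf ⟨296, 4, 396, 90, [1985, 1295, 1014, 1011,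 1046, 1380, 1375, 1133, 1101, 2236, 2642]⟩) (.leaf ⟨0, 12, 0, 0, []⟩)) (.node (.leaf ⟨885, 8, 953, 0, []⟩) (.leaf ⟨0, 12, 0, 0, []⟩)))) (.node (.node (.node (.leaf ⟨243, 12, 96, 34, [1619]⟩) (.leaf ⟨0, 12, 0, 0, []⟩)) (.node (.leaf ⟨871, 12, 523, 34, [5715]⟩) (.leaf ⟨0, 12, 0, 0, []⟩))) (.node (.node (.leaf ⟨321, 9, 568, 5, [2135, 3662, 3666]⟩) (.leaf ⟨0, 12, 0, 0, []⟩)) (.node (.leaf ⟨636, 8, 1043, 0, []⟩) (.leaf ⟨0, 12, 0, 0, []⟩)))))) (.node (.node (.node (.node (.node (.leaf ⟨19, 5, 54, 28, [109, 305, 338]⟩) (.leaf ⟨1087, 5, 1108, 112, [8295, 6650, 8388, 8391, 8394, 8393, 8267, 8336, 8526]⟩)) (.node (.leaf ⟨720, 4, 342, 6, [4435, 4389, 3347]⟩) (.leaf ⟨0, 12, 0, 0, []⟩))) (.node (.node (.leaf ⟨213, 9, 358, 5, [2372, 2379, 2380]⟩) (.leaf ⟨0, 12, 0, 0, []⟩)) (.node (.leaf ⟨747, 5, 526, 59,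 [6482, 4617, 2733, 1374, 1381, 1882, 1877, 1721, 631, 1776, 3422]⟩) (.leaf ⟨0, 12, 0, 0, []⟩)))) (.node (.node (.node (.leaf ⟨222, 2, 183, 52, [1363, 1361, 1105, 1104, 1105, 1120, 1117, 384, 1101]⟩) (.leaf ⟨0, 12, 0, 0, []⟩)) (.node (.leaf ⟨862, 5, 913, 12, [5218, 5217, 5456]⟩) (.leaf ⟨0, 12, 0, 0, []⟩))) (.node (.node (.leaf ⟨395, 0, 524, 44, [2633, 3160, 3159, 3157, 3156, 3157, 2223, 3406, 3410]⟩) (.leaf ⟨0, 12, 0, 0, []⟩)) (.node (.leaf ⟨997, 8, 1017, 62, [7257, 4502, 6988, 6990, 7502]⟩) (.leaf ⟨0, 12, 0, 0, []⟩))))) (.node (.node (.node (.node (.leaf ⟨105, 9, 144, 5, [623, 848, 850]⟩) (.leaf ⟨529, 4, 510, 75, [6382, 6192]⟩)) (.node (.leaf ⟨813, 4, 819, 0, []⟩) (.leaf ⟨0, 12, 0, 0, []⟩))) (.node (.node (.leaf ⟨439, 2, 440, 0, []⟩) (.leaf ⟨0, 12, 0, 0, []⟩)) (.node (.leaf ⟨887, 2, 973, 63,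 [5309, 3606, 6994]⟩) (.leaf ⟨0, 12, 0, 0, []⟩)))) (.node (.node (.node (.leaf ⟨257, 4, 282, 0, []⟩) (.leaf ⟨0, 12, 0, 0, []⟩)) (.node (.leaf ⟨731, 0, 736, 105, [4483, 2989, 2001, 1300, 1984, 2644, 2643, 2237, 1160, 2708, 2782, 5400, 5738, 4827, 5970, 4483, 2995, 3004, 5954, 4523, 4521]⟩) (.leaf ⟨0, 12, 0, 0, []⟩))) (.node (.node (.leaf ⟨620, 2, 621, 0, []⟩) (.leaf ⟨0, 12, 0, 0, []⟩)) (.node (.leaf ⟨995, 2, 1063, 47, [7233, 3479, 3215, 2560, 2553, 973, 1265, 2530, 2596, 4754, 8012]⟩) (.leaf ⟨0, 12, 0, 0, []⟩))))))) (.node (.node (.node (.node (.node (.node (.leaf ⟨3, 12, 23, 35, [61, 211, 207]⟩) (.leaf ⟨1096, 5, 1096, 28, [8399, 8274, 8398]⟩)) (.node (.leaf ⟨505, 2, 695, 0, []⟩) (.leaf ⟨0, 12, 0, 0, []⟩))) (.node (.node (.leaf ⟨166, 1, 338, 8, [973, 1728, 2258]⟩) (.leaf ⟨0, 12, 0, 0, []⟩))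 (.node (.leaf ⟨865, 12, 645, 34, [6355]⟩) (.leaf ⟨0, 12, 0, 0, []⟩)))) (.node (.node (.node (.leaf ⟨166, 2, 202, 18, [974, 945, 1235]⟩) (.leaf ⟨886, 8, 1077, 76, [6731, 8198]⟩)) (.node (.leaf ⟨891, 4, 893, 0, []⟩) (.leaf ⟨0, 12, 0, 0, []⟩))) (.node (.node (.leaf ⟨498, 4, 499, 0, []⟩) (.leaf ⟨0, 12, 0, 0, []⟩)) (.node (.leaf ⟨875, 9, 1007, 5, [7062, 7074, 7374]⟩) (.leaf ⟨0, 12, 0, 0, []⟩))))) (.node (.node (.node (.node (.leaf ⟨123, 9, 124, 0, []⟩) (.leaf ⟨424, 4, 423, 75, [3844, 5666]⟩)) (.node (.leaf ⟨787, 9, 790, 5, [4805, 3718, 4818]⟩) (.leaf ⟨0, 12, 0, 0, []⟩))) (.node (.node (.leaf ⟨415, 2, 416, 0, []⟩) (.leaf ⟨0, 12, 0, 0, []⟩)) (.node (.leaf ⟨564, 0, 963, 21, [3641, 5980, 6864]⟩) (.leaf ⟨0, 12, 0, 0, []⟩)))) (.node (.node (.node (.leaf ⟨262, 2, 214, 18, [1746, 812, 1314]⟩) (.leaf ⟨0,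 12, 0, 0, []⟩)) (.node (.leaf ⟨819, 12, 640, 34, [5843]⟩) (.leaf ⟨0, 12, 0, 0, []⟩))) (.node (.node (.leaf ⟨589, 2, 594, 0, []⟩) (.leaf ⟨0, 12, 0, 0, []⟩)) (.node (.leaf ⟨947, 3, 1053, 27, [6699, 6706, 7252, 7251, 6667, 3842, 7890, 7891, 7890]⟩) (.leaf ⟨0, 12, 0, 0, []⟩)))))) (.node (.node (.node (.node (.node (.leaf ⟨60, 8, 79, 3, [371, 364, 460]⟩) (.leaf ⟨92, 4, 104, 75, [1522, 1552]⟩)) (.node (.leaf ⟨746, 2, 747, 0, []⟩) (.leaf ⟨0, 12, 0, 0, []⟩))) (.node (.node (.leaf ⟨216, 8, 372, 3, [1325, 1316, 2510]⟩) (.leaf ⟨0, 12, 0, 0, []⟩)) (.node (.leaf ⟨477, 5, 936, 56, [3149, 1401, 451, 449, 445, 388, 1168, 2816, 6608]⟩) (.leaf ⟨0, 12, 0, 0, []⟩)))) (.node (.node (.node (.leaf ⟨91, 0, 246, 0, []⟩) (.leaf ⟨0, 12, 0, 0, []⟩)) (.node (.leaf ⟨658, 12, 324, 34, [5587]⟩) (.leaf ⟨0, 12, 0, 0, []⟩)))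 (.node (.node (.leaf ⟨535, 4, 548, 0, []⟩) (.leaf ⟨0, 12, 0, 0, []⟩)) (.node (.leaf ⟨988, 8, 1029, 62, [7165, 4874, 5856, 4171, 3812, 7630]⟩) (.leaf ⟨0, 12, 0, 0, []⟩))))) (.node (.node (.node (.node (.leaf ⟨160, 1, 167, 11, [939, 935, 976]⟩) (.leaf ⟨645, 0, 854, 77, [6357, 5199]⟩)) (.node (.leaf ⟨784, 2, 841, 0, []⟩) (.leaf ⟨0, 12, 0, 0, []⟩))) (.node (.node (.leaf ⟨362, 4, 461, 9, [2421, 2373, 1305, 808, 1078, 1077, 579, 1101, 1110, 2496, 3026]⟩) (.leaf ⟨0, 12, 0, 0, []⟩)) (.node (.leaf ⟨869, 0, 984, 44, [5215, 5286, 6030, 4527, 6471, 6470, 6471, 5027, 5004, 7122]⟩) (.leaf ⟨0, 12, 0, 0, []⟩)))) (.node (.node (.node (.leaf ⟨268, 1, 298, 8, [1785, 1320, 2002]⟩) (.leaf ⟨0, 12, 0, 0, []⟩)) (.node (.leaf ⟨770, 12, 542, 34, [5813, 6099]⟩) (.leaf ⟨0, 12, 0, 0, []⟩))) (.node (.node (.leaf ⟨571,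 2, 650, 0, []⟩) (.leaf ⟨0, 12, 0, 0, []⟩)) (.node (.leaf ⟨854, 1, 1073, 20, [5144, 2624, 2631, 4670, 8142]⟩) (.leaf ⟨0, 12, 0, 0, []⟩)))))))))

def fact11 : Arr (CFact) :=
  (.node (.node (.node (.node (.node (.node (.node (.node (.leaf ⟨3, 4, 1, 6, [19, 15, 11]⟩) (.leaf ⟨927, 0, 1079, 0, []⟩)) (.node (.leaf ⟨320, 0, 660, 21, [2133, 3916, 4114]⟩) (.leaf ⟨0, 12, 0, 0, []⟩))) (.node (.node (.leaf ⟨307, 9, 300, 4, [2067, 1184, 2020]⟩) (.leaf ⟨0, 12, 0, 0, []⟩)) (.node (.leaf ⟨875, 0, 903, 78, [6164, 4806, 2886, 4064, 4063, 4072, 5761, 4956, 5986, 3582, 6009, 5442, 5439, 5392]⟩) (.leaf ⟨0, 12, 0, 0, []⟩)))) (.node (.node (.node (.leaf ⟨150, 4, 175, 0, []⟩) (.leaf ⟨675, 1, 775, 36, [5829, 4751]⟩)) (.node (.leaf ⟨849, 4, 854, 0, []⟩) (.leaf ⟨0, 12, 0, 0, []⟩))) (.node (.node (.leaf ⟨468, 4, 359,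 14, [3093, 2689, 2417, 2399]⟩) (.leaf ⟨0, 12, 0, 0, []⟩)) (.node (.leaf ⟨948, 1, 990, 144, [6704, 6730, 5306, 7188]⟩) (.leaf ⟨0, 12, 0, 0, []⟩))))) (.node (.node (.node (.node (.leaf ⟨84, 8, 89, 40, [502, 532]⟩) (.leaf ⟨199, 0, 91, 77, [1715, 1493]⟩)) (.node (.leaf ⟨538, 3, 757, 27, [3497, 1833, 3234, 4250, 4249, 3226, 4628, 4629, 4628]⟩) (.leaf ⟨0, 12, 0, 0, []⟩))) (.node (.node (.leaf ⟨383, 2, 384, 0, []⟩) (.leaf ⟨0, 12, 0, 0, []⟩)) (.node (.leaf ⟨939, 2, 945, 0, []⟩) (.leaf ⟨0, 12, 0, 0, []⟩)))) (.node (.node (.node (.leaf ⟨168, 12, 128, 34, [1557]⟩) (.leaf ⟨0, 12, 0, 0, []⟩)) (.node (.leaf ⟨309, 12, 902, 74, [2190, 5647, 5384]⟩) (.leaf ⟨0, 12, 0, 0, []⟩))) (.node (.node (.leaf ⟨401, 3, 559, 27, [2683, 2464, 3598, 3601, 3109, 1880, 3604, 3605, 3604]⟩) (.leaf ⟨0, 12, 0, 0, []⟩)) (.node (.leaf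 ⟨828, 1, 1035, 8, [4993, 5194, 7698]⟩) (.leaf ⟨0, 12, 0, 0, []⟩)))))) (.node (.node (.node (.node (.node (.leaf ⟨38, 8, 42, 40, [262, 276]⟩) (.leaf ⟨1038, 0, 1103, 0, []⟩)) (.node (.leaf ⟨707, 4, 339, 6, [4371, 4365, 4355]⟩) (.leaf ⟨0, 12, 0, 0, []⟩))) (.node (.node (.leaf ⟨349, 9, 350, 0, []⟩) (.leaf ⟨0, 12, 0, 0, []⟩)) (.node (.leaf ⟨582, 4, 560, 129, [6413, 4551, 5042, 5260, 5263, 6050, 4427, 2663, 2489, 2498, 3038, 3049, 2199, 1805, 652, 590, 1776, 1896, 3613]⟩) (.leaf ⟨0, 12, 0, 0, []⟩)))) (.node (.node (.node (.leaf ⟨170, 9, 213, 0, []⟩) (.leaf ⟨1048, 4, 643, 75, [7819, 5894]⟩)) (.node (.leaf ⟨476, 2, 905, 0, []⟩) (.leaf ⟨0, 12, 0, 0, []⟩))) (.node (.node (.leaf ⟨339, 8, 513, 3, [2267, 2256, 3342]⟩) (.leaf ⟨0, 12, 0, 0, []⟩)) (.node (.leaf ⟨927, 5, 1012, 72, [6535, 6533, 4275, 4000,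 4002, 4686, 4683, 4413, 4411, 3552, 7444]⟩) (.leaf ⟨0, 12, 0, 0, []⟩))))) (.node (.node (.node (.node (.leaf ⟨58, 2, 135, 0, []⟩) (.leaf ⟨476, 2, 791, 38, [5398, 5738]⟩)) (.node (.leaf ⟨795, 3, 805, 7, [4849, 4853, 4884]⟩) (.leaf ⟨0, 12, 0, 0, []⟩))) (.node (.node (.leaf ⟨326, 8, 428, 40, [2160, 2836]⟩) (.leaf ⟨0, 12, 0, 0, []⟩)) (.node (.leaf ⟨556, 1, 968, 11, [3591, 6872, 6928]⟩) (.leaf ⟨0, 12, 0, 0, []⟩)))) (.node (.node (.node (.leaf ⟨267, 2, 273, 0, []⟩) (.leaf ⟨0, 12, 0, 0, []⟩)) (.node (.leaf ⟨789, 12, 448, 34, [5909]⟩) (.leaf ⟨0, 12, 0, 0, []⟩))) (.node (.node (.leaf ⟨411, 1, 607, 11, [2753, 3858, 3860]⟩) (.leaf ⟨0, 12, 0, 0, []⟩)) (.node (.leaf ⟨1018, 1, 1058, 8, [7513, 7940, 7948]⟩) (.leaf ⟨0, 12, 0, 0, []⟩))))))) (.node (.node (.node (.node (.node (.node (.leaf ⟨20, 0, 25, 0, []⟩)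 (.leaf ⟨1091, 0, 1091, 44, [8341, 6758, 6778, 6777, 6777, 6777, 6779, 6759, 8340]⟩)) (.node (.leaf ⟨572, 8, 686, 40, [3690, 4244]⟩) (.leaf ⟨0, 12, 0, 0, []⟩))) (.node (.node (.leaf ⟨270, 5, 330, 28, [1803, 1792, 2194]⟩) (.leaf ⟨0, 12, 0, 0, []⟩)) (.node (.leaf ⟨828, 12, 764, 34, [6293]⟩) (.leaf ⟨0, 12, 0, 0, []⟩)))) (.node (.node (.node (.leaf ⟨194, 4, 188, 6, [1171, 1123, 1138]⟩) (.leaf ⟨811, 0, 647, 77, [4905, 5768]⟩)) (.node (.leaf ⟨400, 5, 878, 28, [2677, 5241, 5268]⟩) (.leaf ⟨0, 12, 0, 0, []⟩))) (.node (.node (.leaf ⟨286, 1, 489, 8, [1905, 2348, 3220]⟩) (.leaf ⟨0, 12, 0, 0, []⟩)) (.node (.leaf ⟨540, 8, 1003, 40, [3542, 7316]⟩) (.leaf ⟨0, 12, 0, 0, []⟩))))) (.node (.node (.node (.node (.leaf ⟨48, 8, 113, 40, [656, 660]⟩) (.leaf ⟨385, 2, 490, 38, [4952, 5986]⟩)) (.node (.leaf ⟨386, 2, 778,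 0, []⟩) (.leaf ⟨0, 12, 0, 0, []⟩))) (.node (.node (.leaf ⟨309, 3, 406, 41, [2079, 713, 389, 444, 449, 447, 1101, 1160, 2708]⟩) (.leaf ⟨0, 12, 0, 0, []⟩)) (.node (.leaf ⟨896, 4, 958, 120, [5353, 6222, 2983, 5919, 4573, 4548, 4543, 3566, 3577, 2420, 2500, 3038, 6800]⟩) (.leaf ⟨0, 12, 0, 0, []⟩)))) (.node (.node (.node (.leaf ⟨221, 12, 130, 34, [1685]⟩) (.leaf ⟨0, 12, 0, 0, []⟩)) (.node (.leaf ⟨680, 12, 375, 34, [5781]⟩) (.leaf ⟨0, 12, 0, 0, []⟩))) (.node (.node (.leaf ⟨581, 4, 582, 0, []⟩) (.leaf ⟨0, 12, 0, 0, []⟩)) (.node (.leaf ⟨611, 2, 1049, 0, []⟩) (.leaf ⟨0, 12, 0, 0, []⟩)))))) (.node (.node (.node (.node (.node (.leaf ⟨47, 3, 69, 7, [307, 157, 404]⟩) (.leaf ⟨42, 0, 78, 77, [488, 1664]⟩)) (.node (.leaf ⟨733, 9, 734, 0, []⟩) (.leaf ⟨0, 12, 0, 0, []⟩))) (.node (.node (.leaf ⟨342, 3, 366,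 27, [2281, 2288, 2446, 2449, 2271, 902, 2452, 2453, 2452]⟩) (.leaf ⟨0, 12, 0, 0, []⟩)) (.node (.leaf ⟨928, 1, 929, 0, []⟩) (.leaf ⟨0, 12, 0, 0, []⟩)))) (.node (.node (.node (.leaf ⟨99, 2, 232, 13, [606, 992, 1428]⟩) (.leaf ⟨0, 12, 0, 0, []⟩)) (.node (.leaf ⟨192, 12, 413, 77, [1165, 5525, 5485]⟩) (.leaf ⟨0, 12, 0, 0, []⟩))) (.node (.node (.leaf ⟨488, 0, 535, 0, []⟩) (.leaf ⟨0, 12, 0, 0, []⟩)) (.node (.leaf ⟨714, 1, 1023, 11, [4401, 4684, 7572]⟩) (.leaf ⟨0, 12, 0, 0, []⟩))))) (.node (.node (.node (.node (.leaf ⟨56, 0, 156, 21, [893, 914, 916]⟩) (.leaf ⟨593, 0, 687, 77, [5495, 5638]⟩)) (.node (.leaf ⟨387, 4, 832, 0, []⟩) (.leaf ⟨0, 12, 0, 0, []⟩))) (.node (.node (.leaf ⟨346, 3, 448, 30, [2299, 2362, 2962]⟩) (.leaf ⟨0, 12, 0, 0, []⟩)) (.node (.leaf ⟨875, 3, 978, 30, [6487, 4565, 7060]⟩) (.leaf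 ⟨0, 12, 0, 0, []⟩)))) (.node (.node (.node (.leaf ⟨123, 8, 290, 3, [723, 716, 1940]⟩) (.leaf ⟨0, 12, 0, 0, []⟩)) (.node (.leaf ⟨836, 12, 525, 34, [6037]⟩) (.leaf ⟨0, 12, 0, 0, []⟩))) (.node (.node (.leaf ⟨636, 9, 591, 5, [3987, 3960, 3784]⟩) (.leaf ⟨0, 12, 0, 0, []⟩)) (.node (.leaf ⟨1037, 4, 1068, 121, [7718, 3763, 4056, 7664, 7667, 4748, 7726, 7733, 7163, 8058, 8078]⟩) (.leaf ⟨0, 12, 0, 0, []⟩)))))))) (.node (.node (.node (.node (.node (.node (.node (.leaf ⟨4, 0, 15, 21, [70, 82, 84]⟩) (.leaf ⟨1073, 4, 1085, 86, [8147, 4378, 8106, 8113, 7895, 6785, 6779, 6759, 8178, 8256, 8276]⟩)) (.node (.leaf ⟨669, 0, 673, 0, []⟩) (.leaf ⟨0, 12, 0, 0, []⟩))) (.node (.node (.leaf ⟨320, 2, 321, 0, []⟩) (.leaf ⟨0, 12, 0, 0, []⟩)) (.node (.leaf ⟨465, 12, 499, 38, [3088, 6229, 3287]⟩) (.leaf ⟨0, 12, 0, 0, []⟩))))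 (.node (.node (.node (.leaf ⟨183, 2, 184, 13, [1102, 924, 1108]⟩) (.leaf ⟨736, 2, 703, 38, [4520, 6238]⟩)) (.node (.leaf ⟨867, 4, 859, 6, [5205, 5143, 5169]⟩) (.leaf ⟨0, 12, 0, 0, []⟩))) (.node (.node (.leaf ⟨480, 2, 481, 0, []⟩) (.leaf ⟨0, 12, 0, 0, []⟩)) (.node (.leaf ⟨950, 5, 997, 85, [6717, 3839, 3844, 5666, 6666, 6726, 6722, 2813, 5667, 3845, 2809, 6666, 7250]⟩) (.leaf ⟨0, 12, 0, 0, []⟩))))) (.node (.node (.node (.node (.leaf ⟨96, 2, 98, 0, []⟩) (.leaf ⟨324, 8, 376, 76, [4167, 5834]⟩)) (.node (.leaf ⟨366, 5, 767, 28, [2451, 4675, 4692]⟩) (.leaf ⟨0, 12, 0, 0, []⟩))) (.node (.node (.leaf ⟨207, 1, 396, 11, [1263, 2232, 2642]⟩) (.leaf ⟨0, 12, 0, 0, []⟩)) (.node (.leaf ⟨941, 4, 953, 24, [6657, 6654, 6740]⟩) (.leaf ⟨0, 12, 0, 0, []⟩)))) (.node (.node (.node (.leaf ⟨98, 12, 244, 37, [599, 1621,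 1484]⟩) (.leaf ⟨0, 12, 0, 0, []⟩)) (.node (.leaf ⟨284, 12, 432, 37, [1897, 5713, 2866]⟩) (.leaf ⟨0, 12, 0, 0, []⟩))) (.node (.node (.leaf ⟨313, 8, 568, 40, [2136, 3668]⟩) (.leaf ⟨0, 12, 0, 0, []⟩)) (.node (.leaf ⟨633, 2, 1043, 23, [6498, 6524, 6523, 7764]⟩) (.leaf ⟨0, 12, 0, 0, []⟩)))))) (.node (.node (.node (.node (.node (.leaf ⟨19, 1, 55, 0, []⟩) (.leaf ⟨1097, 4, 1108, 141, [8415, 7735, 7714, 8248, 8312, 8338, 8526, 8529, 8532, 8529, 8532]⟩)) (.node (.leaf ⟨342, 1, 721, 0, []⟩) (.leaf ⟨0, 12, 0, 0, []⟩))) (.node (.node (.leaf ⟨170, 8, 358, 40, [1302, 2388]⟩) (.leaf ⟨0, 12, 0, 0, []⟩)) (.node (.leaf ⟨747, 9, 875, 4, [6484, 3427, 5951, 5248]⟩) (.leaf ⟨0, 12, 0, 0, []⟩)))) (.node (.node (.node (.leaf ⟨151, 1, 222, 70, [891, 882, 921, 919, 347, 173, 111, 50, 176, 442, 447, 1101, 1365, 1363]⟩)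 (.leaf ⟨0, 12, 0, 0, []⟩)) (.node (.leaf ⟨414, 2, 914, 0, []⟩) (.leaf ⟨0, 12, 0, 0, []⟩))) (.node (.node (.leaf ⟨284, 1, 524, 11, [1897, 3404, 3410]⟩) (.leaf ⟨0, 12, 0, 0, []⟩)) (.node (.leaf ⟨828, 2, 1018, 0, []⟩) (.leaf ⟨0, 12, 0, 0, []⟩))))) (.node (.node (.node (.node (.leaf ⟨54, 5, 144, 28, [339, 625, 852]⟩) (.leaf ⟨531, 0, 540, 77, [6415, 6150]⟩)) (.node (.leaf ⟨819, 9, 795, 4, [4949, 4918, 4846]⟩) (.leaf ⟨0, 12, 0, 0, []⟩))) (.node (.node (.leaf ⟨432, 9, 440, 5, [2867, 2898, 2900]⟩) (.leaf ⟨0, 12, 0, 0, []⟩)) (.node (.leaf ⟨537, 4, 973, 141, [4252, 4249, 2183, 2001, 908, 2444, 4356, 4363, 6265, 5293, 3608, 6994]⟩) (.leaf ⟨0, 12, 0, 0, []⟩)))) (.node (.node (.node (.leaf ⟨231, 1, 282, 8, [1423, 1553, 1722, 1876]⟩) (.leaf ⟨0, 12, 0, 0, []⟩)) (.node (.leaf ⟨574, 1, 731, 106, [3703, 3704,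 5970]⟩) (.leaf ⟨0, 12, 0, 0, []⟩))) (.node (.node (.leaf ⟨621, 4, 313, 6, [3925, 3923, 3897]⟩) (.leaf ⟨0, 12, 0, 0, []⟩)) (.node (.leaf ⟨1044, 1, 1063, 8, [7777, 5877, 5069, 8012]⟩) (.leaf ⟨0, 12, 0, 0, []⟩))))))) (.node (.node (.node (.node (.node (.node (.leaf ⟨23, 12, 3, 34, [213]⟩) (.leaf ⟨1094, 3, 1096, 17, [8385, 7895, 7252, 8230, 8233, 7204, 6735, 8402, 8405]⟩)) (.node (.leaf ⟨504, 0, 695, 94, [3301, 1733, 1738, 1740, 1104, 1726, 2740, 3302, 4308]⟩) (.leaf ⟨0, 12, 0, 0, []⟩))) (.node (.node (.leaf ⟨133, 9, 338, 4, [779, 1730, 2258]⟩) (.leaf ⟨0, 12, 0, 0, []⟩)) (.node (.leaf ⟨627, 5, 633, 85, [4016, 5897, 5139, 5142, 5198, 6356, 5881, 5180, 6326, 5895, 5164, 6335, 5460, 5455, 4269, 4279, 3974]⟩) (.leaf ⟨0, 12, 0, 0, []⟩)))) (.node (.node (.node (.leaf ⟨202, 8, 203, 0, []⟩) (.leaf ⟨894,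 0, 510, 77, [5339, 6192]⟩)) (.node (.leaf ⟨893, 1, 894, 0, []⟩) (.leaf ⟨0, 12, 0, 0, []⟩))) (.node (.node (.leaf ⟨499, 2, 500, 0, []⟩) (.leaf ⟨0, 12, 0, 0, []⟩)) (.node (.leaf ⟨747, 8, 1007, 40, [6486, 7380]⟩) (.leaf ⟨0, 12, 0, 0, []⟩))))) (.node (.node (.node (.node (.leaf ⟨49, 0, 124, 21, [671, 722, 724]⟩) (.leaf ⟨430, 1, 476, 36, [3708, 5742]⟩)) (.node (.leaf ⟨378, 5, 790, 28, [2547, 4807, 4820]⟩) (.leaf ⟨0, 12, 0, 0, []⟩))) (.node (.node (.leaf ⟨329, 1, 416, 11, [2187, 2770, 2772]⟩) (.leaf ⟨0, 12, 0, 0, []⟩)) (.node (.leaf ⟨811, 5, 963, 28, [4907, 5983, 6864]⟩) (.leaf ⟨0, 12, 0, 0, []⟩)))) (.node (.node (.node (.leaf ⟨144, 2, 263, 0, []⟩) (.leaf ⟨0, 12, 0, 0, []⟩)) (.node (.leaf ⟨317, 12, 813, 75, [4006, 5845, 4949]⟩) (.leaf ⟨0, 12, 0, 0, []⟩))) (.node (.node (.leaf ⟨594, 4, 305, 6, [3797,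 3769, 2121]⟩) (.leaf ⟨0, 12, 0, 0, []⟩)) (.node (.leaf ⟨949, 4, 1054, 0, []⟩) (.leaf ⟨0, 12, 0, 0, []⟩)))))) (.node (.node (.node (.node (.node (.leaf ⟨42, 2, 80, 0, []⟩) (.leaf ⟨93, 0, 89, 77, [632, 1650]⟩)) (.node (.leaf ⟨691, 1, 747, 11, [4291, 4560, 4564]⟩) (.leaf ⟨0, 12, 0, 0, []⟩))) (.node (.node (.leaf ⟨217, 9, 372, 39, [1329, 1322, 2510]⟩) (.leaf ⟨0, 12, 0, 0, []⟩)) (.node (.leaf ⟨497, 4, 936, 139, [3878, 3875, 2193, 2184, 2187, 2780, 5414, 6466, 3442, 3441, 1795, 2078, 2710, 2782, 5400, 5738, 6372, 3653, 3437, 2081, 2072, 2075, 2816, 6608]⟩) (.leaf ⟨0, 12, 0, 0, []⟩)))) (.node (.node (.node (.leaf ⟨246, 9, 247, 0, []⟩) (.leaf ⟨0, 12, 0, 0, []⟩)) (.node (.leaf ⟨325, 12, 659, 36, [2149, 5589, 4106]⟩) (.leaf ⟨0, 12, 0, 0, []⟩))) (.node (.node (.leaf ⟨540, 9, 548, 4, [3509, 3505, 3540]⟩)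 (.leaf ⟨0, 12, 0, 0, []⟩)) (.node (.leaf ⟨1027, 8, 1030, 0, []⟩) (.leaf ⟨0, 12, 0, 0, []⟩))))) (.node (.node (.node (.node (.leaf ⟨127, 9, 167, 5, [739, 794, 976]⟩) (.leaf ⟨645, 1, 388, 36, [5881, 4787]⟩)) (.node (.leaf ⟨390, 1, 841, 11, [2611, 4792, 5076]⟩) (.leaf ⟨0, 12, 0, 0, []⟩))) (.node (.node (.leaf ⟨347, 1, 461, 11, [2309, 2490, 3026]⟩) (.leaf ⟨0, 12, 0, 0, []⟩)) (.node (.leaf ⟨699, 4, 984, 84, [6902, 6895, 6106, 3517, 6101, 5696, 6041, 6471, 5027, 5004, 7122]⟩) (.leaf ⟨0, 12, 0, 0, []⟩)))) (.node (.node (.node (.leaf ⟨140, 9, 298, 4, [827, 1322, 2002]⟩) (.leaf ⟨0, 12, 0, 0, []⟩)) (.node (.leaf ⟨797, 12, 542, 34, [5812, 6100]⟩) (.leaf ⟨0, 12, 0, 0, []⟩))) (.node (.node (.leaf ⟨585, 1, 650, 11, [3751, 3684, 4052]⟩) (.leaf ⟨0, 12, 0, 0, []⟩)) (.node (.leaf ⟨1067, 4, 1073, 43, [8075,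 5142, 8148]⟩) (.leaf ⟨0, 12, 0, 0, []⟩)))))))))

def fact12 : Arr (CFact) :=
  (.node (.node (.node (.node (.node (.node (.node (.node (.leaf ⟨1, 1, 4, 0, []⟩) (.leaf ⟨857, 5, 1079, 112, [5159, 5166, 6350, 6340, 7802, 7801, 6573, 6537, 8214]⟩)) (.node (.leaf ⟨623, 2, 660, 29, [3935, 3673, 1941, 1946, 2122, 2129, 2138, 2135, 4118]⟩) (.leaf ⟨0, 12, 0, 0, []⟩))) (.node (.node (.leaf ⟨126, 0, 308, 0, []⟩) (.leaf ⟨0, 12, 0, 0, []⟩)) (.node (.leaf ⟨517, 0, 607, 51, [5410, 6162, 6166, 5393]⟩) (.leaf ⟨0, 12, 0, 0, []⟩)))) (.node (.node (.node (.leaf ⟨175, 1, 176, 0, []⟩) (.leaf ⟨675, 8, 777, 76, [5829, 4757]⟩)) (.node (.leaf ⟨854, 9, 393, 4, [5143, 5123, 2622]⟩) (.leaf ⟨0, 12, 0, 0, []⟩))) (.node (.node (.leaf ⟨468, 2, 341, 15, [3093, 2693, 2276]⟩) (.leaf ⟨0, 12, 0, 0, []⟩)) (.node (.leaf ⟨948, 5,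 587, 12, [7190, 7183, 3765]⟩) (.leaf ⟨0, 12, 0, 0, []⟩))))) (.node (.node (.node (.node (.leaf ⟨40, 3, 89, 30, [263, 486, 532]⟩) (.leaf ⟨224, 0, 467, 77, [1597, 3084]⟩)) (.node (.leaf ⟨572, 2, 757, 26, [3687, 3686, 3687, 2562, 3490, 4252, 4249, 3226, 4628]⟩) (.leaf ⟨0, 12, 0, 0, []⟩))) (.node (.node (.leaf ⟨380, 1, 384, 11, [2565, 2580, 2582]⟩) (.leaf ⟨0, 12, 0, 0, []⟩)) (.node (.leaf ⟨601, 1, 945, 11, [3835, 6648, 6678]⟩) (.leaf ⟨0, 12, 0, 0, []⟩)))) (.node (.node (.node (.leaf ⟨134, 12, 176, 74, [787, 1559, 1058]⟩) (.leaf ⟨0, 12, 0, 0, []⟩)) (.node (.leaf ⟨902, 12, 309, 34, [5655]⟩) (.leaf ⟨0, 12, 0, 0, []⟩))) (.node (.node (.leaf ⟨485, 2, 559, 2, [3189, 2507, 1880, 3604]⟩) (.leaf ⟨0, 12, 0, 0, []⟩)) (.node (.leaf ⟨863, 9, 1035, 4, [5189, 5196, 7698]⟩) (.leaf ⟨0, 12, 0, 0, []⟩)))))) (.node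 (.node (.node (.node (.node (.leaf ⟨17, 0, 43, 0, []⟩) (.leaf ⟨1099, 3, 1103, 27, [8427, 7718, 7738, 8420, 8419, 7732, 8470, 8471, 8470]⟩)) (.node (.leaf ⟨339, 1, 708, 0, []⟩) (.leaf ⟨0, 12, 0, 0, []⟩))) (.node (.node (.leaf ⟨140, 0, 350, 21, [1339, 2324, 2326]⟩) (.leaf ⟨0, 12, 0, 0, []⟩)) (.node (.leaf ⟨578, 3, 668, 130, [6314, 4192, 4152, 6407, 6391, 6390, 6406, 4189, 4187, 2143, 4156]⟩) (.leaf ⟨0, 12, 0, 0, []⟩)))) (.node (.node (.node (.leaf ⟨73, 0, 213, 21, [927, 1004, 1302]⟩) (.leaf ⟨1064, 0, 639, 77, [8033, 5772]⟩)) (.node (.leaf ⟨419, 0, 905, 94, [2783, 2709, 2716, 2727, 1363, 1390, 3070, 3136, 5398]⟩) (.leaf ⟨0, 12, 0, 0, []⟩))) (.node (.node (.leaf ⟨265, 2, 514, 0, []⟩) (.leaf ⟨0, 12, 0, 0, []⟩)) (.node (.leaf ⟨548, 1, 1012, 8, [3541, 3554, 7444]⟩) (.leaf ⟨0, 12, 0, 0, []⟩))))) (.node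 (.node (.node (.node (.leaf ⟨52, 5, 135, 57, [325, 149, 236, 248, 252, 522, 784, 783, 790]⟩) (.leaf ⟨476, 4, 959, 75, [5743, 6814]⟩)) (.node (.leaf ⟨760, 0, 806, 0, []⟩) (.leaf ⟨0, 12, 0, 0, []⟩))) (.node (.node (.leaf ⟨291, 5, 428, 28, [1951, 2030, 2836]⟩) (.leaf ⟨0, 12, 0, 0, []⟩)) (.node (.leaf ⟨745, 9, 968, 5, [4555, 6864, 6928]⟩) (.leaf ⟨0, 12, 0, 0, []⟩)))) (.node (.node (.node (.leaf ⟨273, 2, 117, 50, [1815, 1779]⟩) (.leaf ⟨0, 12, 0, 0, []⟩)) (.node (.leaf ⟨471, 12, 748, 104, [3113, 3029, 2456, 3262, 3259, 1893, 1767, 1916, 2888, 4064, 4063, 4072, 5761, 4956, 4958, 5442, 5439, 5392, 5680, 3865, 4562, 4568]⟩) (.leaf ⟨0, 12, 0, 0, []⟩))) (.node (.node (.leaf ⟨606, 4, 608, 0, []⟩) (.leaf ⟨0, 12, 0, 0, []⟩)) (.node (.leaf ⟨913, 9, 1058, 4, [5455, 7942, 7948]⟩) (.leaf ⟨0, 12, 0, 0, []⟩)))))))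 (.node (.node (.node (.node (.node (.node (.leaf ⟨25, 9, 26, 0, []⟩) (.leaf ⟨955, 3, 1091, 53, [6753, 6723, 6757, 6749, 5301, 6759, 6758, 6759, 8340, 8342]⟩)) (.node (.leaf ⟨328, 0, 686, 21, [2181, 3692, 4244]⟩) (.leaf ⟨0, 12, 0, 0, []⟩))) (.node (.node (.leaf ⟨172, 2, 331, 0, []⟩) (.leaf ⟨0, 12, 0, 0, []⟩)) (.node (.leaf ⟨724, 3, 911, 88, [4449, 4437, 6256, 3600, 3599, 2471, 1854, 3204, 3215, 3230, 3582, 6009, 5442]⟩) (.leaf ⟨0, 12, 0, 0, []⟩)))) (.node (.node (.node (.leaf ⟨194, 9, 190, 5, [1171, 1124, 1150]⟩) (.leaf ⟨822, 0, 611, 77, [5498, 5632]⟩)) (.node (.leaf ⟨400, 1, 879, 0, []⟩) (.leaf ⟨0, 12, 0, 0, []⟩))) (.node (.node (.leaf ⟨251, 9, 489, 4, [1515, 1572, 2350, 3220]⟩) (.leaf ⟨0, 12, 0, 0, []⟩)) (.node (.leaf ⟨534, 0, 1003, 21, [3475, 6417, 7316]⟩) (.leaf ⟨0, 12, 0, 0, []⟩))))) (.node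 (.node (.node (.node (.leaf ⟨47, 0, 113, 21, [646, 654, 660]⟩) (.leaf ⟨385, 4, 767, 75, [4972, 6290]⟩)) (.node (.leaf ⟨773, 9, 778, 5, [4739, 2594, 4758]⟩) (.leaf ⟨0, 12, 0, 0, []⟩))) (.node (.node (.leaf ⟨192, 8, 406, 3, [1165, 1158, 2708]⟩) (.leaf ⟨0, 12, 0, 0, []⟩)) (.node (.leaf ⟨557, 9, 958, 46, [3654, 3651, 3257, 6800]⟩) (.leaf ⟨0, 12, 0, 0, []⟩)))) (.node (.node (.node (.leaf ⟨67, 12, 196, 37, [758, 1687, 1357]⟩) (.leaf ⟨0, 12, 0, 0, []⟩)) (.node (.leaf ⟨380, 12, 324, 74, [2571, 5783, 4219]⟩) (.leaf ⟨0, 12, 0, 0, []⟩))) (.node (.node (.leaf ⟨582, 1, 583, 0, []⟩) (.leaf ⟨0, 12, 0, 0, []⟩)) (.node (.leaf ⟨601, 0, 1049, 44, [3835, 5500, 5508, 7528, 7525, 7524, 7525, 4966, 5498, 5632, 7830]⟩) (.leaf ⟨0, 12, 0, 0, []⟩)))))) (.node (.node (.node (.node (.node (.leaf ⟨48, 2, 69, 13, [311,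 299, 404]⟩) (.leaf ⟨45, 0, 38, 77, [614, 1642]⟩)) (.node (.leaf ⟨348, 0, 734, 21, [2341, 4496, 4502]⟩) (.leaf ⟨0, 12, 0, 0, []⟩))) (.node (.node (.leaf ⟨362, 2, 367, 0, []⟩) (.leaf ⟨0, 12, 0, 0, []⟩)) (.node (.leaf ⟨924, 5, 929, 12, [6517, 6546, 6550]⟩) (.leaf ⟨0, 12, 0, 0, []⟩)))) (.node (.node (.node (.leaf ⟨84, 0, 233, 0, []⟩) (.leaf ⟨0, 12, 0, 0, []⟩)) (.node (.leaf ⟨413, 12, 192, 34, [5527]⟩) (.leaf ⟨0, 12, 0, 0, []⟩))) (.node (.node (.leaf ⟨278, 2, 535, 26, [1851, 1850, 1851, 1430, 3200, 3203, 1847, 3210, 3478]⟩) (.leaf ⟨0, 12, 0, 0, []⟩)) (.node (.leaf ⟨551, 9, 1023, 5, [3553, 6491, 7572]⟩) (.leaf ⟨0, 12, 0, 0, []⟩))))) (.node (.node (.node (.node (.leaf ⟨156, 2, 149, 2, [919, 893, 891, 882]⟩) (.leaf ⟨594, 0, 838, 77, [5513, 5503]⟩)) (.node (.leaf ⟨600, 3, 832, 10, [3833, 2789, 2725,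 1957, 1946, 2840, 2833, 2175, 2428, 2592, 5014]⟩) (.leaf ⟨0, 12, 0, 0, []⟩))) (.node (.node (.leaf ⟨408, 1, 265, 91, [2730, 2735, 2962, 2961, 2017]⟩) (.leaf ⟨0, 12, 0, 0, []⟩)) (.node (.leaf ⟨466, 5, 978, 28, [3118, 5915, 4569, 7060]⟩) (.leaf ⟨0, 12, 0, 0, []⟩)))) (.node (.node (.node (.leaf ⟨124, 9, 290, 39, [727, 720, 1940]⟩) (.leaf ⟨0, 12, 0, 0, []⟩)) (.node (.leaf ⟨738, 5, 704, 110, [4530, 5960, 3010, 6018, 4913, 2582, 5796, 2151, 2056, 3799, 5513, 4133, 4712, 5696]⟩) (.leaf ⟨0, 12, 0, 0, []⟩))) (.node (.node (.leaf ⟨630, 4, 637, 0, []⟩) (.leaf ⟨0, 12, 0, 0, []⟩)) (.node (.leaf ⟨707, 1, 1068, 11, [4371, 8060, 8078]⟩) (.leaf ⟨0, 12, 0, 0, []⟩)))))))) (.node (.node (.node (.node (.node (.node (.node (.leaf ⟨15, 1, 15, 22, [87, 25, 10, 14, 34, 33, 22, 9, 1, 8, 24, 86]⟩) (.leaf ⟨1074, 5, 1085,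 151, [8155, 7498, 7876, 7885, 6696, 8258, 8276, 8279, 8151, 8077, 7679, 7160, 7690, 7742, 7741, 7714, 8248, 8245, 8278]⟩)) (.node (.leaf ⟨673, 9, 674, 0, []⟩) (.leaf ⟨0, 12, 0, 0, []⟩))) (.node (.node (.leaf ⟨313, 9, 321, 5, [2101, 2132, 2134]⟩) (.leaf ⟨0, 12, 0, 0, []⟩)) (.node (.leaf ⟨499, 12, 465, 34, [6231]⟩) (.leaf ⟨0, 12, 0, 0, []⟩)))) (.node (.node (.node (.leaf ⟨184, 9, 185, 0, []⟩) (.leaf ⟨738, 4, 457, 75, [4530, 5960]⟩)) (.node (.leaf ⟨867, 9, 861, 5, [5205, 5144, 5176]⟩) (.leaf ⟨0, 12, 0, 0, []⟩))) (.node (.node (.leaf ⟨326, 0, 481, 44, [2157, 3012, 3011, 3009, 3008, 3009, 2224, 3156, 3158]⟩) (.leaf ⟨0, 12, 0, 0, []⟩)) (.node (.leaf ⟨733, 1, 997, 11, [4499, 6668, 7250]⟩) (.leaf ⟨0, 12, 0, 0, []⟩))))) (.node (.node (.node (.node (.leaf ⟨46, 1, 98, 11, [303, 592, 598]⟩) (.leaf ⟨325,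 0, 482, 77, [4062, 5698]⟩)) (.node (.leaf ⟨366, 1, 768, 0, []⟩) (.leaf ⟨0, 12, 0, 0, []⟩))) (.node (.node (.leaf ⟨179, 9, 396, 5, [1073, 2234, 2642]⟩) (.leaf ⟨0, 12, 0, 0, []⟩)) (.node (.leaf ⟨923, 1, 953, 8, [6507, 6660, 6742]⟩) (.leaf ⟨0, 12, 0, 0, []⟩)))) (.node (.node (.node (.leaf ⟨244, 12, 98, 34, [1623]⟩) (.leaf ⟨0, 12, 0, 0, []⟩)) (.node (.leaf ⟨432, 12, 284, 34, [5719]⟩) (.leaf ⟨0, 12, 0, 0, []⟩))) (.node (.node (.leaf ⟨290, 5, 568, 28, [1945, 2138, 3668]⟩) (.leaf ⟨0, 12, 0, 0, []⟩)) (.node (.leaf ⟨859, 4, 1043, 24, [5170, 5880, 4028, 7764]⟩) (.leaf ⟨0, 12, 0, 0, []⟩)))))) (.node (.node (.node (.node (.node (.leaf ⟨55, 2, 56, 0, []⟩) (.leaf ⟨1095, 9, 1108, 46, [8393, 8267, 8336, 8526]⟩)) (.node (.leaf ⟨721, 2, 722, 0, []⟩) (.leaf ⟨0, 12, 0, 0, []⟩))) (.node (.node (.leaf ⟨156, 3,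 358, 30, [917, 1306, 2388]⟩) (.leaf ⟨0, 12, 0, 0, []⟩)) (.node (.leaf ⟨755, 2, 746, 50, [6483, 4565]⟩) (.leaf ⟨0, 12, 0, 0, []⟩)))) (.node (.node (.node (.leaf ⟨76, 9, 222, 46, [447, 1101, 1365, 1363]⟩) (.leaf ⟨0, 12, 0, 0, []⟩)) (.node (.leaf ⟨914, 2, 413, 50, [5463, 2767]⟩) (.leaf ⟨0, 12, 0, 0, []⟩))) (.node (.node (.leaf ⟨480, 8, 524, 62, [3155, 3076, 3356, 3361, 3414]⟩) (.leaf ⟨0, 12, 0, 0, []⟩)) (.node (.leaf ⟨981, 4, 1018, 86, [7095, 7056, 7059, 6391, 3717, 4064, 5698, 5801, 4941, 4905, 4920, 4992, 7510]⟩) (.leaf ⟨0, 12, 0, 0, []⟩))))) (.node (.node (.node (.node (.leaf ⟨136, 4, 144, 49, [799, 353, 340, 854]⟩) (.leaf ⟨531, 8, 501, 76, [3476, 6216]⟩)) (.node (.leaf ⟨385, 2, 820, 0, []⟩) (.leaf ⟨0, 12, 0, 0, []⟩))) (.node (.node (.leaf ⟨205, 5, 440, 28, [1249, 2869, 2902]⟩) (.leaf ⟨0,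 12, 0, 0, []⟩)) (.node (.leaf ⟨460, 0, 974, 0, []⟩) (.leaf ⟨0, 12, 0, 0, []⟩)))) (.node (.node (.node (.leaf ⟨225, 3, 282, 7, [1383, 1418, 1878]⟩) (.leaf ⟨0, 12, 0, 0, []⟩)) (.node (.leaf ⟨571, 0, 571, 45, [3685, 3700, 5974, 4588, 4590, 2996, 5932, 4516, 4518, 5973, 5975, 3701, 3684]⟩) (.leaf ⟨0, 12, 0, 0, []⟩))) (.node (.node (.leaf ⟨614, 2, 622, 0, []⟩) (.leaf ⟨0, 12, 0, 0, []⟩)) (.node (.leaf ⟨655, 9, 1063, 4, [4089, 5885, 4779, 8012]⟩) (.leaf ⟨0, 12, 0, 0, []⟩))))))) (.node (.node (.node (.node (.node (.node (.leaf ⟨7, 12, 34, 36, [43, 215, 192]⟩) (.leaf ⟨1083, 1, 1096, 144, [8392, 8397, 8406]⟩)) (.node (.leaf ⟨335, 5, 695, 56, [2742, 2741, 1727, 1105, 1120, 1144, 1732, 3300, 4310]⟩) (.leaf ⟨0, 12, 0, 0, []⟩))) (.node (.node (.leaf ⟨296, 3, 338, 30, [1989, 813, 2262]⟩) (.leaf ⟨0, 12, 0,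 0, []⟩)) (.node (.leaf ⟨913, 0, 913, 96, [5461, 5184, 5202, 6352, 6342, 4025, 3996, 4001, 4274, 5454]⟩) (.leaf ⟨0, 12, 0, 0, []⟩)))) (.node (.node (.node (.leaf ⟨201, 4, 203, 24, [1221, 1232, 1238]⟩) (.leaf ⟨896, 2, 453, 38, [5353, 6222]⟩)) (.node (.leaf ⟨402, 4, 894, 43, [5326, 5332, 5334]⟩) (.leaf ⟨0, 12, 0, 0, []⟩))) (.node (.node (.leaf ⟨500, 4, 259, 6, [3287, 3285, 3275]⟩) (.leaf ⟨0, 12, 0, 0, []⟩)) (.node (.leaf ⟨986, 0, 1007, 21, [7153, 6167, 7380]⟩) (.leaf ⟨0, 12, 0, 0, []⟩))))) (.node (.node (.node (.node (.leaf ⟨114, 2, 125, 0, []⟩) (.leaf ⟨433, 0, 317, 77, [4917, 5848]⟩)) (.node (.leaf ⟨378, 1, 791, 0, []⟩) (.leaf ⟨0, 12, 0, 0, []⟩))) (.node (.node (.leaf ⟨415, 4, 417, 0, []⟩) (.leaf ⟨0, 12, 0, 0, []⟩)) (.node (.leaf ⟨497, 1, 963, 20, [3658, 6369, 5228, 6011, 6864]⟩) (.leaf ⟨0,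 12, 0, 0, []⟩)))) (.node (.node (.node (.leaf ⟨208, 0, 263, 44, [1672, 1541, 1677, 1681, 1680, 1681, 1340, 1718, 1750]⟩) (.leaf ⟨0, 12, 0, 0, []⟩)) (.node (.leaf ⟨813, 12, 317, 34, [5847]⟩) (.leaf ⟨0, 12, 0, 0, []⟩))) (.node (.node (.leaf ⟨323, 2, 595, 0, []⟩) (.leaf ⟨0, 12, 0, 0, []⟩)) (.node (.leaf ⟨992, 5, 1054, 59, [7488, 7672, 7667, 4745, 7160, 7434, 7441, 7259, 7250, 7253, 7894]⟩) (.leaf ⟨0, 12, 0, 0, []⟩)))))) (.node (.node (.node (.node (.node (.leaf ⟨80, 1, 80, 11, [471, 275, 470]⟩) (.leaf ⟨93, 2, 88, 38, [642, 1666]⟩)) (.node (.leaf ⟨746, 4, 748, 0, []⟩) (.leaf ⟨0, 12, 0, 0, []⟩))) (.node (.node (.leaf ⟨165, 0, 373, 0, []⟩) (.leaf ⟨0, 12, 0, 0, []⟩)) (.node (.leaf ⟨905, 8, 936, 3, [5401, 2820, 6608]⟩) (.leaf ⟨0, 12, 0, 0, []⟩)))) (.node (.node (.node (.leaf ⟨85, 0, 247, 21, [554,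 1492, 1494]⟩) (.leaf ⟨0, 12, 0, 0, []⟩)) (.node (.leaf ⟨659, 12, 325, 34, [5591]⟩) (.leaf ⟨0, 12, 0, 0, []⟩))) (.node (.node (.leaf ⟨548, 2, 549, 0, []⟩) (.leaf ⟨0, 12, 0, 0, []⟩)) (.node (.leaf ⟨1030, 0, 1030, 69, [7639, 7611, 7638]⟩) (.leaf ⟨0, 12, 0, 0, []⟩))))) (.node (.node (.node (.node (.leaf ⟨131, 8, 167, 40, [771, 982]⟩) (.leaf ⟨645, 2, 391, 38, [5881, 4789]⟩)) (.node (.leaf ⟨391, 5, 841, 12, [2617, 2614, 5078]⟩) (.leaf ⟨0, 12, 0, 0, []⟩))) (.node (.node (.leaf ⟨224, 9, 461, 5, [1375, 2492, 3026]⟩) (.leaf ⟨0, 12, 0, 0, []⟩)) (.node (.leaf ⟨481, 5, 984, 85, [6249, 4309, 6397, 4320, 6406, 4153, 5585, 4197, 4190, 5829, 4753, 4741, 4739, 5004, 7122]⟩) (.leaf ⟨0, 12, 0, 0, []⟩)))) (.node (.node (.node (.leaf ⟨219, 8, 298, 40, [1338, 2006]⟩) (.leaf ⟨0, 12, 0, 0, []⟩)) (.node (.leaf ⟨543,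 12, 805, 37, [3517, 6103, 4882]⟩) (.leaf ⟨0, 12, 0, 0, []⟩))) (.node (.node (.leaf ⟨586, 5, 650, 12, [3757, 3754, 4054]⟩) (.leaf ⟨0, 12, 0, 0, []⟩)) (.node (.leaf ⟨1072, 2, 1074, 0, []⟩) (.leaf ⟨0, 12, 0, 0, []⟩)))))))))

def fact13 : Arr (CFact) :=
  (.node (.node (.node (.node (.node (.node (.node (.node (.leaf ⟨4, 3, 4, 7, [25, 11, 24]⟩) (.leaf ⟨1047, 4, 1079, 120, [7988, 7991, 5173, 5139, 5130, 6335, 5184, 5188, 7536, 7535, 7447, 8214]⟩)) (.node (.leaf ⟨656, 4, 661, 0, []⟩) (.leaf ⟨0, 12, 0, 0, []⟩))) (.node (.node (.leaf ⟨193, 2, 308, 29, [1169, 701, 2060, 2063, 2035, 1180, 1179, 1127, 2072]⟩) (.leaf ⟨0, 12, 0, 0, []⟩)) (.node (.leaf ⟨721, 5, 419, 55, [4698, 6090, 3512, 1847, 2004, 3050, 5942, 3448, 3447, 3375, 6168, 3863, 2755, 2782]⟩) (.leaf ⟨0, 12, 0, 0, []⟩)))) (.node (.node (.node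 (.leaf ⟨61, 4, 176, 43, [888, 1046, 1048]⟩) (.leaf ⟨686, 8, 385, 76, [4245, 6004]⟩)) (.node (.leaf ⟨839, 2, 855, 0, []⟩) (.leaf ⟨0, 12, 0, 0, []⟩))) (.node (.node (.leaf ⟨468, 9, 255, 4, [3093, 2697, 1534]⟩) (.leaf ⟨0, 12, 0, 0, []⟩)) (.node (.leaf ⟨491, 1, 991, 0, []⟩) (.leaf ⟨0, 12, 0, 0, []⟩))))) (.node (.node (.node (.node (.leaf ⟨86, 5, 89, 28, [516, 505, 532]⟩) (.leaf ⟨224, 1, 88, 36, [1377, 1666]⟩)) (.node (.leaf ⟨491, 9, 757, 46, [4250, 4249, 3226, 4628]⟩) (.leaf ⟨0, 12, 0, 0, []⟩))) (.node (.node (.leaf ⟨383, 4, 385, 0, []⟩) (.leaf ⟨0, 12, 0, 0, []⟩)) (.node (.leaf ⟨835, 3, 945, 7, [5039, 5019, 6680]⟩) (.leaf ⟨0, 12, 0, 0, []⟩)))) (.node (.node (.node (.leaf ⟨176, 12, 134, 34, [1561]⟩) (.leaf ⟨0, 12, 0, 0, []⟩)) (.node (.leaf ⟨308, 12, 422, 74, [2076, 5657, 5383]⟩) (.leaf ⟨0, 12,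 0, 0, []⟩))) (.node (.node (.leaf ⟨531, 2, 560, 0, []⟩) (.leaf ⟨0, 12, 0, 0, []⟩)) (.node (.leaf ⟨868, 8, 1035, 40, [5212, 7704]⟩) (.leaf ⟨0, 12, 0, 0, []⟩)))))) (.node (.node (.node (.node (.node (.leaf ⟨25, 2, 43, 29, [151, 114, 82, 240, 237, 76, 148, 143, 280]⟩) (.leaf ⟨1102, 2, 1103, 52, [8459, 7741, 7734, 7735, 7734, 8436, 8433, 7728, 8470]⟩)) (.node (.leaf ⟨708, 2, 709, 0, []⟩) (.leaf ⟨0, 12, 0, 0, []⟩))) (.node (.node (.leaf ⟨219, 2, 351, 0, []⟩) (.leaf ⟨0, 12, 0, 0, []⟩)) (.node (.leaf ⟨514, 5, 502, 123, [3364, 5744, 2857, 3714, 6424, 4157, 2146, 4207, 5818, 2579, 6096, 3513, 6091, 4703, 4343]⟩) (.leaf ⟨0, 12, 0, 0, []⟩)))) (.node (.node (.node (.leaf ⟨155, 3, 213, 30, [1016, 1007, 1302]⟩) (.leaf ⟨1081, 1, 857, 36, [8251, 6330]⟩)) (.node (.leaf ⟨516, 1, 905, 11, [3369, 3367, 5398]⟩)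 (.leaf ⟨0, 12, 0, 0, []⟩))) (.node (.node (.leaf ⟨283, 0, 514, 42, [1893, 2010, 2013, 1807, 1779, 1772, 1773, 1772, 3352]⟩) (.leaf ⟨0, 12, 0, 0, []⟩)) (.node (.leaf ⟨929, 2, 1012, 13, [6551, 6541, 7448]⟩) (.leaf ⟨0, 12, 0, 0, []⟩))))) (.node (.node (.node (.node (.leaf ⟨68, 9, 135, 5, [399, 354, 790]⟩) (.leaf ⟨482, 0, 325, 77, [5699, 4063]⟩)) (.node (.leaf ⟨806, 9, 807, 0, []⟩) (.leaf ⟨0, 12, 0, 0, []⟩))) (.node (.node (.leaf ⟨304, 4, 429, 0, []⟩) (.leaf ⟨0, 12, 0, 0, []⟩)) (.node (.leaf ⟨737, 8, 968, 40, [4556, 6936]⟩) (.leaf ⟨0, 12, 0, 0, []⟩)))) (.node (.node (.node (.leaf ⟨273, 9, 106, 5, [1815, 1782, 626]⟩) (.leaf ⟨0, 12, 0, 0, []⟩)) (.node (.leaf ⟨748, 12, 471, 34, [5913]⟩) (.leaf ⟨0, 12, 0, 0, []⟩))) (.node (.node (.leaf ⟨608, 1, 609, 0, []⟩) (.leaf ⟨0, 12, 0, 0, []⟩)) (.node (.leaf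 ⟨925, 4, 1059, 0, []⟩) (.leaf ⟨0, 12, 0, 0, []⟩))))))) (.node (.node (.node (.node (.node (.node (.leaf ⟨7, 0, 26, 21, [117, 150, 152]⟩) (.leaf ⟨1053, 4, 1091, 84, [8192, 8195, 7884, 7877, 7501, 6777, 6779, 6759, 8340]⟩)) (.node (.leaf ⟨491, 3, 686, 30, [3233, 3694, 4244]⟩) (.leaf ⟨0, 12, 0, 0, []⟩))) (.node (.node (.leaf ⟨174, 1, 331, 11, [1039, 1027, 2200]⟩) (.leaf ⟨0, 12, 0, 0, []⟩)) (.node (.leaf ⟨558, 4, 607, 122, [3599, 2465, 2688, 3092, 3101, 2338, 2289, 2280, 4448, 6296, 5439]⟩) (.leaf ⟨0, 12, 0, 0, []⟩)))) (.node (.node (.node (.leaf ⟨186, 4, 195, 0, []⟩) (.leaf ⟨822, 1, 767, 36, [4970, 6290]⟩)) (.node (.leaf ⟨738, 3, 879, 7, [4525, 2680, 5272]⟩) (.leaf ⟨0, 12, 0, 0, []⟩))) (.node (.node (.leaf ⟨328, 3, 489, 30, [2181, 1973, 3224]⟩) (.leaf ⟨0, 12, 0, 0, []⟩)) (.node (.leaf ⟨957, 5,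 1003, 28, [6793, 6591, 7316]⟩) (.leaf ⟨0, 12, 0, 0, []⟩))))) (.node (.node (.node (.node (.leaf ⟨110, 2, 113, 52, [654, 658, 652, 653, 652, 408, 411, 407, 664]⟩) (.leaf ⟨385, 8, 572, 76, [4923, 5994]⟩)) (.node (.leaf ⟨374, 5, 778, 28, [2525, 4741, 4760]⟩) (.leaf ⟨0, 12, 0, 0, []⟩))) (.node (.node (.leaf ⟨193, 9, 406, 39, [1169, 1162, 2708]⟩) (.leaf ⟨0, 12, 0, 0, []⟩)) (.node (.leaf ⟨556, 8, 958, 3, [3589, 3044, 6800]⟩) (.leaf ⟨0, 12, 0, 0, []⟩)))) (.node (.node (.node (.leaf ⟨196, 12, 67, 34, [1689]⟩) (.leaf ⟨0, 12, 0, 0, []⟩)) (.node (.leaf ⟨322, 12, 794, 75, [2146, 5785, 4844]⟩) (.leaf ⟨0, 12, 0, 0, []⟩))) (.node (.node (.leaf ⟨295, 4, 583, 43, [3728, 3734, 3736]⟩) (.leaf ⟨0, 12, 0, 0, []⟩)) (.node (.leaf ⟨894, 4, 1049, 84, [7330, 7329, 6971, 5312, 7526, 7525, 4966, 5498, 5632, 7830]⟩) (.leaf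 ⟨0, 12, 0, 0, []⟩)))))) (.node (.node (.node (.node (.node (.leaf ⟨69, 0, 69, 45, [405, 155, 43, 32, 56, 60, 19, 34, 235, 65, 42, 154, 404]⟩) (.leaf ⟨46, 0, 84, 77, [636, 1662]⟩)) (.node (.leaf ⟨693, 3, 734, 30, [4430, 4501, 4502]⟩) (.leaf ⟨0, 12, 0, 0, []⟩))) (.node (.node (.leaf ⟨359, 1, 367, 11, [2395, 2422, 2456]⟩) (.leaf ⟨0, 12, 0, 0, []⟩)) (.node (.leaf ⟨417, 4, 929, 43, [2778, 6538, 6550]⟩) (.leaf ⟨0, 12, 0, 0, []⟩)))) (.node (.node (.node (.leaf ⟨83, 2, 233, 26, [493, 492, 493, 252, 522, 524, 489, 496, 1432]⟩) (.leaf ⟨0, 12, 0, 0, []⟩)) (.node (.leaf ⟨418, 12, 917, 35, [2781, 5529, 5476]⟩) (.leaf ⟨0, 12, 0, 0, []⟩))) (.node (.node (.leaf ⟨535, 9, 536, 0, []⟩) (.leaf ⟨0, 12, 0, 0, []⟩)) (.node (.leaf ⟨641, 3, 1023, 30, [4035, 5893, 5114, 6118, 7576]⟩) (.leaf ⟨0, 12, 0, 0, []⟩))))) (.node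 (.node (.node (.node (.leaf ⟨151, 2, 157, 0, []⟩) (.leaf ⟨594, 2, 1019, 38, [5513, 7522]⟩)) (.node (.leaf ⟨601, 2, 832, 47, [3836, 2073, 735, 728, 2159, 2163, 1263, 2520, 2522, 2592, 5014]⟩) (.leaf ⟨0, 12, 0, 0, []⟩))) (.node (.node (.leaf ⟨448, 4, 449, 0, []⟩) (.leaf ⟨0, 12, 0, 0, []⟩)) (.node (.leaf ⟨517, 2, 979, 0, []⟩) (.leaf ⟨0, 12, 0, 0, []⟩)))) (.node (.node (.node (.leaf ⟨122, 2, 291, 0, []⟩) (.leaf ⟨0, 12, 0, 0, []⟩)) (.node (.leaf ⟨837, 5, 694, 32, [5286, 6030, 5276, 5962, 4605, 6018, 6015, 2883, 5745, 3365, 3353, 1773, 687, 665, 312, 699, 2020, 2025, 773, 778, 2210, 4304]⟩) (.leaf ⟨0, 12, 0, 0, []⟩))) (.node (.node (.leaf ⟨637, 9, 612, 4, [3993, 3960, 3892]⟩) (.leaf ⟨0, 12, 0, 0, []⟩)) (.node (.leaf ⟨1011, 8, 1068, 62, [7437, 3502, 3518, 6307, 8088]⟩) (.leaf ⟨0, 12, 0, 0, []⟩))))))))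 (.node (.node (.node (.node (.node (.node (.node (.leaf ⟨15, 2, 14, 23, [87, 26, 86, 85]⟩) (.leaf ⟨868, 1, 1085, 11, [7980, 8260, 8276]⟩)) (.node (.leaf ⟨323, 0, 674, 21, [4163, 4182, 4184]⟩) (.leaf ⟨0, 12, 0, 0, []⟩))) (.node (.node (.leaf ⟨124, 5, 321, 28, [725, 2103, 2136]⟩) (.leaf ⟨0, 12, 0, 0, []⟩)) (.node (.leaf ⟨480, 12, 900, 36, [3155, 6203, 5375]⟩) (.leaf ⟨0, 12, 0, 0, []⟩)))) (.node (.node (.node (.leaf ⟨64, 8, 185, 40, [1106, 1112]⟩) (.leaf ⟨739, 0, 837, 77, [6031, 5287]⟩)) (.node (.leaf ⟨854, 4, 868, 0, []⟩) (.leaf ⟨0, 12, 0, 0, []⟩))) (.node (.node (.leaf ⟨466, 1, 481, 11, [3081, 3154, 3158]⟩) (.leaf ⟨0, 12, 0, 0, []⟩)) (.node (.leaf ⟨943, 4, 998, 0, []⟩) (.leaf ⟨0, 12, 0, 0, []⟩))))) (.node (.node (.node (.node (.leaf ⟨47, 5, 98, 12, [307, 305, 600]⟩) (.leaf ⟨327, 0, 324, 77,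 [2566, 5784]⟩)) (.node (.leaf ⟨721, 3, 768, 7, [4439, 2454, 4696]⟩) (.leaf ⟨0, 12, 0, 0, []⟩))) (.node (.node (.leaf ⟨337, 8, 396, 40, [2255, 2648]⟩) (.leaf ⟨0, 12, 0, 0, []⟩)) (.node (.leaf ⟨425, 9, 953, 4, [2813, 6659, 6742]⟩) (.leaf ⟨0, 12, 0, 0, []⟩)))) (.node (.node (.node (.leaf ⟨46, 12, 233, 36, [600, 1625, 1487]⟩) (.leaf ⟨0, 12, 0, 0, []⟩)) (.node (.leaf ⟨285, 12, 440, 76, [1899, 5721, 2902]⟩) (.leaf ⟨0, 12, 0, 0, []⟩))) (.node (.node (.leaf ⟨290, 1, 569, 0, []⟩) (.leaf ⟨0, 12, 0, 0, []⟩)) (.node (.leaf ⟨1031, 1, 1043, 8, [7686, 7681, 7768]⟩) (.leaf ⟨0, 12, 0, 0, []⟩)))))) (.node (.node (.node (.node (.node (.leaf ⟨28, 1, 56, 11, [173, 342, 344]⟩) (.leaf ⟨1094, 8, 1108, 3, [8385, 8334, 8526]⟩)) (.node (.leaf ⟨513, 1, 722, 11, [3347, 4438, 4440]⟩) (.leaf ⟨0, 12, 0, 0, []⟩))) (.node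 (.node (.leaf ⟨351, 2, 359, 0, []⟩) (.leaf ⟨0, 12, 0, 0, []⟩)) (.node (.leaf ⟨766, 8, 550, 135, [4685, 4714, 6100, 3515, 1848, 3550]⟩) (.leaf ⟨0, 12, 0, 0, []⟩)))) (.node (.node (.node (.leaf ⟨188, 4, 223, 0, []⟩) (.leaf ⟨0, 12, 0, 0, []⟩)) (.node (.leaf ⟨690, 2, 915, 0, []⟩) (.leaf ⟨0, 12, 0, 0, []⟩))) (.node (.node (.leaf ⟨523, 4, 525, 0, []⟩) (.leaf ⟨0, 12, 0, 0, []⟩)) (.node (.leaf ⟨538, 5, 1018, 57, [3497, 1835, 1980, 3738, 5226, 6182, 4183, 6312, 6311, 6295, 7510]⟩) (.leaf ⟨0, 12, 0, 0, []⟩))))) (.node (.node (.node (.node (.leaf ⟨139, 2, 145, 0, []⟩) (.leaf ⟨535, 2, 389, 38, [3530, 6080]⟩)) (.node (.leaf ⟨778, 1, 820, 11, [4759, 2589, 4952]⟩) (.leaf ⟨0, 12, 0, 0, []⟩))) (.node (.node (.leaf ⟨205, 1, 441, 0, []⟩) (.leaf ⟨0, 12, 0, 0, []⟩)) (.node (.leaf ⟨771, 5, 974, 56, [4729, 2687,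 1047, 887, 344, 432, 1328, 3020, 7000]⟩) (.leaf ⟨0, 12, 0, 0, []⟩)))) (.node (.node (.node (.leaf ⟨175, 2, 282, 13, [1048, 1412, 1878]⟩) (.leaf ⟨0, 12, 0, 0, []⟩)) (.node (.leaf ⟨737, 0, 788, 107, [4521, 5973, 5975, 3699, 3774, 3773, 3722, 5754, 2871, 1983, 1981, 673, 1250, 2906, 4812]⟩) (.leaf ⟨0, 12, 0, 0, []⟩))) (.node (.node (.leaf ⟨613, 1, 622, 11, [3897, 3902, 3928]⟩) (.leaf ⟨0, 12, 0, 0, []⟩)) (.node (.leaf ⟨1050, 8, 1063, 40, [7859, 8024]⟩) (.leaf ⟨0, 12, 0, 0, []⟩))))))) (.node (.node (.node (.node (.node (.node (.leaf ⟨34, 12, 7, 34, [217]⟩) (.leaf ⟨1029, 0, 1097, 0, []⟩)) (.node (.leaf ⟨335, 1, 696, 0, []⟩) (.leaf ⟨0, 12, 0, 0, []⟩))) (.node (.node (.leaf ⟨262, 0, 339, 0, []⟩) (.leaf ⟨0, 12, 0, 0, []⟩)) (.node (.leaf ⟨592, 0, 592, 125, [3788, 5637, 5497, 5456, 6361, 5457, 4260,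 4267, 2764, 5528, 2760, 4254, 5496, 5636, 3789]⟩) (.leaf ⟨0, 12, 0, 0, []⟩)))) (.node (.node (.node (.leaf ⟨186, 1, 203, 8, [1123, 1228, 1240]⟩) (.leaf ⟨899, 2, 505, 38, [5367, 6396]⟩)) (.node (.leaf ⟨730, 0, 894, 96, [4481, 2512, 2511, 1319, 1014, 1011, 1046, 2686, 5336]⟩) (.leaf ⟨0, 12, 0, 0, []⟩))) (.node (.node (.leaf ⟨259, 1, 501, 0, []⟩) (.leaf ⟨0, 12, 0, 0, []⟩)) (.node (.leaf ⟨517, 3, 1007, 30, [5410, 6162, 7380]⟩) (.leaf ⟨0, 12, 0, 0, []⟩))))) (.node (.node (.node (.node (.leaf ⟨125, 4, 116, 6, [729, 669, 682]⟩) (.leaf ⟨433, 4, 295, 75, [2876, 5898]⟩)) (.node (.leaf ⟨575, 3, 791, 7, [3705, 2550, 4824]⟩) (.leaf ⟨0, 12, 0, 0, []⟩))) (.node (.node (.leaf ⟨417, 1, 418, 0, []⟩) (.leaf ⟨0, 12, 0, 0, []⟩)) (.node (.leaf ⟨962, 2, 963, 13, [6857, 3879, 6872]⟩) (.leaf ⟨0, 12, 0, 0, []⟩))))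 (.node (.node (.node (.leaf ⟨263, 2, 252, 83, [1753, 1276, 1681, 1340, 1718, 1750, 1751, 851, 1520]⟩) (.leaf ⟨0, 12, 0, 0, []⟩)) (.node (.leaf ⟨662, 12, 798, 35, [4133, 5841, 4860]⟩) (.leaf ⟨0, 12, 0, 0, []⟩))) (.node (.node (.leaf ⟨319, 1, 595, 11, [2121, 2144, 3800]⟩) (.leaf ⟨0, 12, 0, 0, []⟩)) (.node (.leaf ⟨1015, 1, 1054, 8, [7481, 7141, 7894]⟩) (.leaf ⟨0, 12, 0, 0, []⟩)))))) (.node (.node (.node (.node (.node (.leaf ⟨41, 9, 80, 5, [265, 276, 470]⟩) (.leaf ⟨95, 0, 120, 77, [1282, 1682]⟩)) (.node (.leaf ⟨748, 1, 749, 0, []⟩) (.leaf ⟨0, 12, 0, 0, []⟩))) (.node (.node (.leaf ⟨373, 2, 363, 29, [2521, 968, 1004, 1006, 1015, 1294, 1926, 1919, 2428]⟩) (.leaf ⟨0, 12, 0, 0, []⟩)) (.node (.leaf ⟨907, 9, 936, 39, [5415, 2818, 6608]⟩) (.leaf ⟨0, 12, 0, 0, []⟩)))) (.node (.node (.node (.leaf ⟨246,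 2, 247, 29, [1493, 559, 566, 569, 493, 252, 515, 511, 1496]⟩) (.leaf ⟨0, 12, 0, 0, []⟩)) (.node (.leaf ⟨318, 12, 619, 76, [2154, 5593, 4113]⟩) (.leaf ⟨0, 12, 0, 0, []⟩))) (.node (.node (.leaf ⟨541, 9, 549, 5, [3511, 3542, 3544]⟩) (.leaf ⟨0, 12, 0, 0, []⟩)) (.node (.leaf ⟨1026, 2, 1030, 18, [7599, 7608, 7638]⟩) (.leaf ⟨0, 12, 0, 0, []⟩))))) (.node (.node (.node (.node (.leaf ⟨58, 3, 167, 30, [355, 744, 982]⟩) (.leaf ⟨645, 8, 859, 76, [5881, 5171]⟩)) (.node (.leaf ⟨784, 4, 842, 0, []⟩) (.leaf ⟨0, 12, 0, 0, []⟩))) (.node (.node (.leaf ⟨403, 8, 461, 40, [2697, 1596, 3032]⟩) (.leaf ⟨0, 12, 0, 0, []⟩)) (.node (.leaf ⟨978, 1, 984, 11, [7057, 6160, 7122]⟩) (.leaf ⟨0, 12, 0, 0, []⟩)))) (.node (.node (.node (.leaf ⟨264, 0, 299, 0, []⟩) (.leaf ⟨0, 12, 0, 0, []⟩)) (.node (.leaf ⟨805, 12, 543, 34, [6105]⟩)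 (.leaf ⟨0, 12, 0, 0, []⟩))) (.node (.node (.leaf ⟨571, 4, 651, 0, []⟩) (.leaf ⟨0, 12, 0, 0, []⟩)) (.node (.leaf ⟨992, 0, 1074, 44, [7207, 7201, 4465, 7868, 7869, 7868, 7873, 8141, 8152]⟩) (.leaf ⟨0, 12, 0, 0, []⟩)))))))))

def fact14 : Arr (CFact) :=
  (.node (.node (.node (.node (.node (.node (.node (.node (.leaf ⟨4, 4, 5, 0, []⟩) (.leaf ⟨947, 1, 1079, 70, [7892, 7891, 3839, 6702, 7190, 7179, 6993, 6968, 7328, 7796, 7801, 6573, 6537, 8214]⟩)) (.node (.leaf ⟨620, 9, 661, 4, [3923, 4094, 4122]⟩) (.leaf ⟨0, 12, 0, 0, []⟩))) (.node (.node (.leaf ⟨308, 9, 309, 0, []⟩) (.leaf ⟨0, 12, 0, 0, []⟩)) (.node (.leaf ⟨723, 12, 605, 115, [4445, 6170, 2783, 5386, 5656, 3856]⟩) (.leaf ⟨0, 12, 0, 0, []⟩)))) (.node (.node (.node (.leaf ⟨109, 5, 176, 59, [644, 455, 177, 51, 29, 27, 44, 132, 131, 374, 1050]⟩)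 (.leaf ⟨687, 0, 593, 77, [5496, 5636]⟩)) (.node (.leaf ⟨782, 1, 855, 11, [4781, 5068, 5146]⟩) (.leaf ⟨0, 12, 0, 0, []⟩))) (.node (.node (.leaf ⟨352, 2, 468, 18, [2340, 2317, 3099]⟩) (.leaf ⟨0, 12, 0, 0, []⟩)) (.node (.leaf ⟨650, 5, 991, 12, [4055, 6447, 7194]⟩) (.leaf ⟨0, 12, 0, 0, []⟩))))) (.node (.node (.node (.node (.leaf ⟨83, 9, 90, 0, []⟩) (.leaf ⟨224, 4, 255, 75, [1597, 1534]⟩)) (.node (.leaf ⟨490, 8, 757, 3, [3231, 3216, 4628]⟩) (.leaf ⟨0, 12, 0, 0, []⟩))) (.node (.node (.leaf ⟨385, 1, 386, 0, []⟩) (.leaf ⟨0, 12, 0, 0, []⟩)) (.node (.leaf ⟨424, 5, 945, 12, [2811, 3837, 6680]⟩) (.leaf ⟨0, 12, 0, 0, []⟩)))) (.node (.node (.node (.leaf ⟨129, 12, 173, 74, [788, 1563, 1057]⟩) (.leaf ⟨0, 12, 0, 0, []⟩)) (.node (.leaf ⟨422, 12, 308, 34, [5659]⟩) (.leaf ⟨0, 12, 0, 0, []⟩))) (.node (.node (.leaf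 ⟨560, 4, 284, 6, [3611, 3453, 3385]⟩) (.leaf ⟨0, 12, 0, 0, []⟩)) (.node (.leaf ⟨716, 5, 1035, 28, [7546, 7537, 7704]⟩) (.leaf ⟨0, 12, 0, 0, []⟩)))))) (.node (.node (.node (.node (.node (.leaf ⟨29, 3, 43, 41, [177, 51, 29, 26, 86, 246, 237, 100, 280]⟩) (.leaf ⟨1102, 5, 1103, 110, [8463, 8391, 8394, 8389, 6678, 6734, 7458, 7455, 7441, 7728, 8470]⟩)) (.node (.leaf ⟨705, 1, 709, 11, [4355, 4376, 4378]⟩) (.leaf ⟨0, 12, 0, 0, []⟩))) (.node (.node (.leaf ⟨351, 4, 347, 6, [2331, 1337, 2311]⟩) (.leaf ⟨0, 12, 0, 0, []⟩)) (.node (.leaf ⟨460, 4, 702, 9, [3021, 2356, 2355, 2364, 3214, 3211, 1785, 1772, 3352, 6426, 4342]⟩) (.leaf ⟨0, 12, 0, 0, []⟩)))) (.node (.node (.node (.leaf ⟨156, 1, 213, 20, [1019, 1009, 469, 1000, 1302]⟩) (.leaf ⟨0, 12, 0, 0, []⟩)) (.node (.leaf ⟨408, 5, 905, 12, [2968, 3371, 5402]⟩)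 (.leaf ⟨0, 12, 0, 0, []⟩))) (.node (.node (.leaf ⟨465, 1, 514, 11, [3073, 2968, 3352]⟩) (.leaf ⟨0, 12, 0, 0, []⟩)) (.node (.leaf ⟨715, 8, 1012, 62, [4409, 3348, 4442, 6150, 3542, 7448]⟩) (.leaf ⟨0, 12, 0, 0, []⟩))))) (.node (.node (.node (.node (.leaf ⟨62, 8, 135, 40, [400, 794]⟩) (.leaf ⟨482, 2, 811, 38, [5801, 4941]⟩)) (.node (.leaf ⟨382, 0, 807, 21, [4656, 4888, 4890]⟩) (.leaf ⟨0, 12, 0, 0, []⟩))) (.node (.node (.leaf ⟨395, 1, 429, 8, [2641, 2249, 2842]⟩) (.leaf ⟨0, 12, 0, 0, []⟩)) (.node (.leaf ⟨962, 3, 968, 30, [6859, 6421, 6936]⟩) (.leaf ⟨0, 12, 0, 0, []⟩)))) (.node (.node (.node (.leaf ⟨232, 2, 274, 0, []⟩) (.leaf ⟨0, 12, 0, 0, []⟩)) (.node (.leaf ⟨372, 12, 749, 36, [3114, 5915, 4570]⟩) (.leaf ⟨0, 12, 0, 0, []⟩))) (.node (.node (.leaf ⟨309, 4, 609, 43, [3858, 3864, 3866]⟩) (.leaf ⟨0,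 12, 0, 0, []⟩)) (.node (.leaf ⟨868, 2, 1059, 60, [5211, 5143, 5130, 5165, 5894, 6327, 5181, 5880, 4028, 3987, 3992, 5620, 3989, 6522, 7962]⟩) (.leaf ⟨0, 12, 0, 0, []⟩))))))) (.node (.node (.node (.node (.node (.node (.leaf ⟨26, 2, 18, 29, [155, 45, 86, 90, 83, 72, 115, 113, 106]⟩) (.leaf ⟨1052, 5, 1091, 110, [8328, 8337, 8257, 8242, 8312, 8338, 8337, 8257, 8179, 8340, 8342]⟩)) (.node (.leaf ⟨537, 2, 686, 25, [3493, 4250]⟩) (.leaf ⟨0, 12, 0, 0, []⟩))) (.node (.node (.leaf ⟨140, 3, 331, 7, [828, 1042, 2202]⟩) (.leaf ⟨0, 12, 0, 0, []⟩)) (.node (.leaf ⟨513, 5, 805, 123, [4388, 6277, 4641, 6298, 3861, 4562, 4568, 5914, 3111, 3129, 6188, 5347, 5690, 5841, 4886]⟩) (.leaf ⟨0, 12, 0, 0, []⟩)))) (.node (.node (.node (.leaf ⟨125, 2, 195, 68, [730, 679, 665, 312, 699, 700, 389, 1116, 1121, 1122, 1178]⟩)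 (.leaf ⟨822, 4, 541, 75, [4968, 6092]⟩)) (.node (.leaf ⟨739, 2, 879, 13, [4529, 4517, 5272]⟩) (.leaf ⟨0, 12, 0, 0, []⟩))) (.node (.node (.leaf ⟨446, 5, 489, 28, [2941, 1829, 3224]⟩) (.leaf ⟨0, 12, 0, 0, []⟩)) (.node (.leaf ⟨536, 4, 1003, 49, [7268, 7267, 6798, 7322]⟩) (.leaf ⟨0, 12, 0, 0, []⟩))))) (.node (.node (.node (.node (.leaf ⟨110, 4, 114, 0, []⟩) (.leaf ⟨386, 0, 753, 77, [5010, 6034]⟩)) (.node (.leaf ⟨374, 1, 779, 0, []⟩) (.leaf ⟨0, 12, 0, 0, []⟩))) (.node (.node (.leaf ⟨191, 2, 407, 0, []⟩) (.leaf ⟨0, 12, 0, 0, []⟩)) (.node (.leaf ⟨700, 1, 958, 20, [4328, 4323, 6406, 4154, 4159, 6808]⟩) (.leaf ⟨0, 12, 0, 0, []⟩)))) (.node (.node (.node (.leaf ⟨71, 12, 198, 74, [421, 1691, 1194]⟩) (.leaf ⟨0, 12, 0, 0, []⟩)) (.node (.leaf ⟨794, 12, 322, 34, [5787]⟩) (.leaf ⟨0, 12, 0, 0, []⟩))) (.node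 (.node (.leaf ⟨578, 9, 583, 4, [3715, 1978, 3738]⟩) (.leaf ⟨0, 12, 0, 0, []⟩)) (.node (.leaf ⟨593, 3, 1049, 103, [3791, 2043, 5605, 2099, 3890, 7830, 7833, 3836, 2796, 5662, 2074, 3837, 7832]⟩) (.leaf ⟨0, 12, 0, 0, []⟩)))))) (.node (.node (.node (.node (.node (.leaf ⟨69, 4, 70, 0, []⟩) (.leaf ⟨46, 2, 92, 38, [594, 1554]⟩)) (.node (.leaf ⟨349, 2, 735, 0, []⟩) (.leaf ⟨0, 12, 0, 0, []⟩))) (.node (.node (.leaf ⟨282, 9, 367, 5, [1883, 2424, 2456]⟩) (.leaf ⟨0, 12, 0, 0, []⟩)) (.node (.leaf ⟨551, 0, 929, 92, [3555, 6115, 5075, 5086, 6316, 4177, 5869, 4782, 2531, 2646, 3276, 3294, 6544, 6550]⟩) (.leaf ⟨0, 12, 0, 0, []⟩)))) (.node (.node (.node (.leaf ⟨92, 3, 233, 53, [567, 265, 544, 547, 519, 518, 519, 498, 1432]⟩) (.leaf ⟨0, 12, 0, 0, []⟩)) (.node (.leaf ⟨917, 12, 418, 34, [5531]⟩) (.leaf ⟨0, 12,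 0, 0, []⟩))) (.node (.node (.leaf ⟨274, 0, 536, 21, [3208, 3478, 3482]⟩) (.leaf ⟨0, 12, 0, 0, []⟩)) (.node (.leaf ⟨715, 5, 1023, 28, [7452, 7445, 7576]⟩) (.leaf ⟨0, 12, 0, 0, []⟩))))) (.node (.node (.node (.node (.leaf ⟨157, 2, 147, 50, [923, 891]⟩) (.leaf ⟨595, 0, 583, 77, [5885, 6174]⟩)) (.node (.leaf ⟨832, 9, 822, 5, [5019, 3854, 4966]⟩) (.leaf ⟨0, 12, 0, 0, []⟩))) (.node (.node (.leaf ⟨449, 2, 450, 0, []⟩) (.leaf ⟨0, 12, 0, 0, []⟩)) (.node (.leaf ⟨668, 4, 979, 121, [6425, 3715, 3702, 6016, 4913, 2586, 4972, 5444, 5439, 6169, 7066]⟩) (.leaf ⟨0, 12, 0, 0, []⟩)))) (.node (.node (.node (.leaf ⟨261, 1, 291, 11, [1739, 1147, 1946]⟩) (.leaf ⟨0, 12, 0, 0, []⟩)) (.node (.leaf ⟨811, 4, 599, 111, [4940, 5800, 5699, 4063, 2151, 727, 699, 2020, 3406, 5717, 5235, 2873, 5755, 3723, 2115, 723, 1183, 2066,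 3012, 6018, 6017, 3701, 2117, 1941, 2050, 2842, 3820]⟩) (.leaf ⟨0, 12, 0, 0, []⟩))) (.node (.node (.leaf ⟨316, 2, 638, 0, []⟩) (.leaf ⟨0, 12, 0, 0, []⟩)) (.node (.leaf ⟨987, 9, 1069, 0, []⟩) (.leaf ⟨0, 12, 0, 0, []⟩)))))))) (.node (.node (.node (.node (.node (.node (.node (.leaf ⟨14, 1, 14, 11, [91, 89, 90]⟩) (.leaf ⟨835, 9, 1085, 5, [6682, 8262, 8276]⟩)) (.node (.leaf ⟨674, 2, 667, 2, [4187, 4163, 4161, 4152]⟩) (.leaf ⟨0, 12, 0, 0, []⟩))) (.node (.node (.leaf ⟨124, 1, 322, 0, []⟩) (.leaf ⟨0, 12, 0, 0, []⟩)) (.node (.leaf ⟨900, 12, 480, 34, [6235]⟩) (.leaf ⟨0, 12, 0, 0, []⟩)))) (.node (.node (.node (.leaf ⟨63, 0, 185, 21, [1094, 1104, 1112]⟩) (.leaf ⟨739, 2, 753, 38, [5276, 5962]⟩)) (.node (.leaf ⟨868, 9, 863, 4, [5211, 5144, 5188]⟩) (.leaf ⟨0, 12, 0, 0, []⟩))) (.node (.node (.leaf ⟨457, 8,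 481, 62, [3007, 2518, 3114, 3119, 3162]⟩) (.leaf ⟨0, 12, 0, 0, []⟩)) (.node (.leaf ⟨988, 2, 998, 60, [7163, 4801, 4667, 4663, 4668, 5036, 6682, 6685, 2809, 6666, 7258]⟩) (.leaf ⟨0, 12, 0, 0, []⟩))))) (.node (.node (.node (.node (.leaf ⟨96, 4, 99, 0, []⟩) (.leaf ⟨329, 4, 192, 75, [2764, 5528]⟩)) (.node (.leaf ⟨722, 2, 768, 13, [4443, 3345, 4696]⟩) (.leaf ⟨0, 12, 0, 0, []⟩))) (.node (.node (.leaf ⟨258, 3, 396, 30, [1731, 1076, 2648]⟩) (.leaf ⟨0, 12, 0, 0, []⟩)) (.node (.leaf ⟨885, 0, 954, 0, []⟩) (.leaf ⟨0, 12, 0, 0, []⟩)))) (.node (.node (.node (.leaf ⟨233, 12, 46, 34, [1627]⟩) (.leaf ⟨0, 12, 0, 0, []⟩)) (.node (.leaf ⟨440, 12, 285, 34, [5723]⟩) (.leaf ⟨0, 12, 0, 0, []⟩))) (.node (.node (.leaf ⟨569, 2, 570, 0, []⟩) (.leaf ⟨0, 12, 0, 0, []⟩)) (.node (.leaf ⟨591, 9, 1043, 4, [4000, 6348, 7768]⟩)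 (.leaf ⟨0, 12, 0, 0, []⟩)))))) (.node (.node (.node (.node (.node (.leaf ⟨55, 4, 57, 0, []⟩) (.leaf ⟨1085, 0, 1109, 0, []⟩)) (.node (.leaf ⟨721, 4, 723, 0, []⟩) (.leaf ⟨0, 12, 0, 0, []⟩))) (.node (.node (.leaf ⟨359, 2, 219, 50, [2395, 2331]⟩) (.leaf ⟨0, 12, 0, 0, []⟩)) (.node (.leaf ⟨860, 8, 641, 19, [5174, 5892, 4034]⟩) (.leaf ⟨0, 12, 0, 0, []⟩)))) (.node (.node (.node (.leaf ⟨223, 9, 77, 4, [1371, 1143, 450]⟩) (.leaf ⟨0, 12, 0, 0, []⟩)) (.node (.leaf ⟨414, 1, 915, 11, [2767, 4286, 5466]⟩) (.leaf ⟨0, 12, 0, 0, []⟩))) (.node (.node (.leaf ⟨525, 1, 526, 0, []⟩) (.leaf ⟨0, 12, 0, 0, []⟩)) (.node (.leaf ⟨1015, 9, 1018, 5, [7477, 7475, 6295, 7510]⟩) (.leaf ⟨0, 12, 0, 0, []⟩))))) (.node (.node (.node (.node (.leaf ⟨138, 1, 145, 11, [815, 822, 858]⟩) (.leaf ⟨539, 2, 381, 38, [3507, 6152]⟩)) (.node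 (.leaf ⟨779, 5, 820, 12, [4765, 4762, 4954]⟩) (.leaf ⟨0, 12, 0, 0, []⟩))) (.node (.node (.leaf ⟨441, 2, 442, 0, []⟩) (.leaf ⟨0, 12, 0, 0, []⟩)) (.node (.leaf ⟨538, 4, 974, 116, [3497, 1833, 1515, 1572, 863, 433, 904, 903, 779, 1736, 3336, 4332, 6242, 3017, 3010, 6018, 6013, 4520, 6238, 4345, 6429, 7000]⟩) (.leaf ⟨0, 12, 0, 0, []⟩)))) (.node (.node (.node (.leaf ⟨171, 5, 282, 12, [1009, 1420, 1878]⟩) (.leaf ⟨0, 12, 0, 0, []⟩)) (.node (.leaf ⟨474, 0, 744, 21, [4486, 5972, 4552]⟩) (.leaf ⟨0, 12, 0, 0, []⟩))) (.node (.node (.leaf ⟨612, 3, 622, 7, [3895, 3899, 3930]⟩) (.leaf ⟨0, 12, 0, 0, []⟩)) (.node (.leaf ⟨852, 9, 1064, 0, []⟩) (.leaf ⟨0, 12, 0, 0, []⟩))))))) (.node (.node (.node (.node (.node (.node (.leaf ⟨8, 12, 35, 37, [53, 219, 200]⟩) (.leaf ⟨1039, 4, 1097, 16, [7735, 7740, 7749, 7611,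 7615, 7595, 3762, 7628, 8410]⟩)) (.node (.leaf ⟨696, 2, 697, 0, []⟩) (.leaf ⟨0, 12, 0, 0, []⟩))) (.node (.node (.leaf ⟨339, 9, 340, 0, []⟩) (.leaf ⟨0, 12, 0, 0, []⟩)) (.node (.leaf ⟨632, 8, 842, 48, [3971, 3961, 6323]⟩) (.leaf ⟨0, 12, 0, 0, []⟩)))) (.node (.node (.node (.leaf ⟨70, 9, 203, 4, [413, 1230, 1240]⟩) (.leaf ⟨899, 4, 480, 75, [5372, 6236]⟩)) (.node (.leaf ⟨887, 9, 894, 4, [5309, 2684, 5336]⟩) (.leaf ⟨0, 12, 0, 0, []⟩))) (.node (.node (.leaf ⟨501, 2, 502, 0, []⟩) (.leaf ⟨0, 12, 0, 0, []⟩)) (.node (.leaf ⟨1007, 1, 1008, 0, []⟩) (.leaf ⟨0, 12, 0, 0, []⟩))))) (.node (.node (.node (.node (.leaf ⟨125, 9, 118, 5, [729, 670, 690]⟩) (.leaf ⟨433, 8, 574, 76, [5755, 3725]⟩)) (.node (.leaf ⟨576, 2, 791, 13, [3709, 2859, 4824]⟩) (.leaf ⟨0, 12, 0, 0, []⟩))) (.node (.node (.leaf ⟨192, 4, 418, 43,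 [2770, 2776, 2778]⟩) (.leaf ⟨0, 12, 0, 0, []⟩)) (.node (.leaf ⟨692, 4, 963, 84, [4299, 3051, 3574, 4510, 4518, 5973, 4588, 6854, 6874]⟩) (.leaf ⟨0, 12, 0, 0, []⟩)))) (.node (.node (.node (.leaf ⟨100, 4, 263, 84, [997, 1678, 977, 1080, 1670, 1280, 1681, 1340, 1718, 1750]⟩) (.leaf ⟨0, 12, 0, 0, []⟩)) (.node (.leaf ⟨798, 12, 594, 34, [5851, 5512]⟩) (.leaf ⟨0, 12, 0, 0, []⟩))) (.node (.node (.leaf ⟨322, 3, 595, 7, [2141, 2128, 3802]⟩) (.leaf ⟨0, 12, 0, 0, []⟩)) (.node (.leaf ⟨728, 3, 1054, 7, [4468, 7486, 7898]⟩) (.leaf ⟨0, 12, 0, 0, []⟩)))))) (.node (.node (.node (.node (.node (.leaf ⟨39, 8, 80, 40, [268, 474]⟩) (.leaf ⟨100, 0, 68, 77, [1613, 1215]⟩)) (.node (.leaf ⟨350, 4, 749, 43, [4560, 4568, 4570]⟩) (.leaf ⟨0, 12, 0, 0, []⟩))) (.node (.node (.leaf ⟨373, 9, 374, 0, []⟩) (.leaf ⟨0, 12, 0, 0,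 []⟩)) (.node (.leaf ⟨811, 1, 936, 20, [4908, 6021, 4612, 5416, 6618]⟩) (.leaf ⟨0, 12, 0, 0, []⟩)))) (.node (.node (.node (.leaf ⟨247, 9, 248, 0, []⟩) (.leaf ⟨0, 12, 0, 0, []⟩)) (.node (.leaf ⟨619, 12, 318, 34, [5595]⟩) (.leaf ⟨0, 12, 0, 0, []⟩))) (.node (.node (.leaf ⟨278, 5, 549, 28, [1849, 3513, 3546]⟩) (.leaf ⟨0, 12, 0, 0, []⟩)) (.node (.leaf ⟨1026, 5, 1030, 110, [7605, 4746, 5034, 7204, 7458, 7455, 7439, 4801, 7604, 7642, 7640]⟩) (.leaf ⟨0, 12, 0, 0, []⟩))))) (.node (.node (.node (.node (.leaf ⟨79, 4, 168, 0, []⟩) (.leaf ⟨646, 1, 389, 36, [5893, 4793]⟩)) (.node (.leaf ⟨842, 1, 843, 0, []⟩) (.leaf ⟨0, 12, 0, 0, []⟩))) (.node (.node (.leaf ⟨226, 3, 461, 30, [1395, 1378, 3032]⟩) (.leaf ⟨0, 12, 0, 0, []⟩)) (.node (.leaf ⟨876, 3, 984, 7, [5251, 7062, 7130]⟩) (.leaf ⟨0, 12, 0, 0, []⟩)))) (.node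 (.node (.node (.leaf ⟨271, 2, 299, 29, [1807, 1780, 654, 1222, 1225, 1226, 1804, 1799, 2010]⟩) (.leaf ⟨0, 12, 0, 0, []⟩)) (.node (.leaf ⟨539, 12, 796, 36, [3518, 6107, 4885]⟩) (.leaf ⟨0, 12, 0, 0, []⟩))) (.node (.node (.leaf ⟨648, 1, 651, 8, [4043, 3684, 4058]⟩) (.leaf ⟨0, 12, 0, 0, []⟩)) (.node (.leaf ⟨1069, 5, 1074, 85, [8099, 8077, 7687, 7657, 7644, 7651, 4749, 5034, 5031, 8141, 8152]⟩) (.leaf ⟨0, 12, 0, 0, []⟩)))))))))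

def fact15 : Arr (CFact) :=
  (.node (.node (.node (.node (.node (.node (.node (.node (.leaf ⟨2, 1, 5, 8, [15, 24, 28]⟩) (.leaf ⟨1046, 9, 1079, 46, [7801, 6573, 6537, 8214]⟩)) (.node (.leaf ⟨661, 2, 662, 0, []⟩) (.leaf ⟨0, 12, 0, 0, []⟩))) (.node (.node (.leaf ⟨121, 0, 309, 21, [737, 2072, 2076]⟩) (.leaf ⟨0, 12, 0, 0, []⟩)) (.node (.leaf ⟨781, 0, 583, 97, [4775, 2529, 6137, 3525, 3513, 6091, 4699, 6170, 2783, 2709, 1161, 1100, 446, 1156, 1155, 715, 313, 308, 676, 1980, 3738]⟩) (.leaf ⟨0, 12, 0, 0, []⟩)))) (.node (.node (.node (.leaf ⟨103, 2, 176, 60, [617, 455, 177, 53, 45, 28, 50, 126, 130, 374, 1050]⟩) (.leaf ⟨695, 1, 410, 36, [6401, 4319]⟩)) (.node (.leaf ⟨392, 5, 855, 12, [2621, 4783, 5148]⟩) (.leaf ⟨0, 12, 0, 0, []⟩))) (.node (.node (.leaf ⟨230, 0, 469, 0, []⟩) (.leaf ⟨0, 12, 0, 0, []⟩))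 (.node (.leaf ⟨948, 4, 991, 43, [7190, 7185, 7194]⟩) (.leaf ⟨0, 12, 0, 0, []⟩))))) (.node (.node (.node (.node (.leaf ⟨82, 8, 90, 40, [490, 540]⟩) (.leaf ⟨224, 8, 403, 76, [1597, 2696]⟩)) (.node (.leaf ⟨362, 0, 758, 0, []⟩) (.leaf ⟨0, 12, 0, 0, []⟩))) (.node (.node (.leaf ⟨163, 4, 386, 43, [2580, 2586, 2588]⟩) (.leaf ⟨0, 12, 0, 0, []⟩)) (.node (.leaf ⟨945, 8, 728, 48, [6685, 6673, 6677]⟩) (.leaf ⟨0, 12, 0, 0, []⟩)))) (.node (.node (.node (.leaf ⟨173, 12, 129, 34, [1565]⟩) (.leaf ⟨0, 12, 0, 0, []⟩)) (.node (.leaf ⟨421, 12, 193, 35, [2797, 5661, 2805]⟩) (.leaf ⟨0, 12, 0, 0, []⟩))) (.node (.node (.leaf ⟨524, 2, 561, 0, []⟩) (.leaf ⟨0, 12, 0, 0, []⟩)) (.node (.leaf ⟨1031, 4, 1036, 0, []⟩) (.leaf ⟨0, 12, 0, 0, []⟩)))))) (.node (.node (.node (.node (.node (.leaf ⟨18, 8, 43, 3, [107, 98, 280]⟩) (.leaf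 ⟨1103, 5, 1099, 57, [8471, 8234, 8237, 6697, 6690, 8236, 8235, 8470, 8473]⟩)) (.node (.leaf ⟨708, 4, 710, 0, []⟩) (.leaf ⟨0, 12, 0, 0, []⟩))) (.node (.node (.leaf ⟨351, 9, 172, 5, [2331, 1338, 1024]⟩) (.leaf ⟨0, 12, 0, 0, []⟩)) (.node (.leaf ⟨560, 8, 502, 48, [3612, 3360, 6426]⟩) (.leaf ⟨0, 12, 0, 0, []⟩)))) (.node (.node (.node (.leaf ⟨157, 4, 214, 0, []⟩) (.leaf ⟨0, 12, 0, 0, []⟩)) (.node (.leaf ⟨477, 4, 906, 0, []⟩) (.leaf ⟨0, 12, 0, 0, []⟩))) (.node (.node (.leaf ⟨285, 9, 514, 5, [2014, 2017, 3352]⟩) (.leaf ⟨0, 12, 0, 0, []⟩)) (.node (.leaf ⟨1011, 4, 1013, 0, []⟩) (.leaf ⟨0, 12, 0, 0, []⟩))))) (.node (.node (.node (.node (.leaf ⟨58, 4, 136, 0, []⟩) (.leaf ⟨482, 4, 438, 75, [5699, 4065]⟩)) (.node (.leaf ⟨807, 2, 800, 29, [4893, 2578, 961, 966, 2520, 2522, 4658, 4653, 4866]⟩) (.leaf ⟨0,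 12, 0, 0, []⟩))) (.node (.node (.leaf ⟨300, 9, 429, 4, [2021, 2052, 2842]⟩) (.leaf ⟨0, 12, 0, 0, []⟩)) (.node (.leaf ⟨530, 2, 969, 0, []⟩) (.leaf ⟨0, 12, 0, 0, []⟩)))) (.node (.node (.node (.leaf ⟨169, 1, 274, 11, [995, 1428, 1820]⟩) (.leaf ⟨0, 12, 0, 0, []⟩)) (.node (.leaf ⟨749, 12, 372, 34, [5917]⟩) (.leaf ⟨0, 12, 0, 0, []⟩))) (.node (.node (.leaf ⟨421, 9, 609, 4, [2797, 2076, 3868]⟩) (.leaf ⟨0, 12, 0, 0, []⟩)) (.node (.leaf ⟨1059, 0, 1059, 33, [7963, 6521, 3957, 5617, 3893, 3982, 7946, 7948, 7957, 7949, 7935, 3953, 5621, 3993, 3978, 4276, 4272, 5454, 6361, 5455, 4269, 4279, 6358, 6498, 6524, 7962]⟩) (.leaf ⟨0, 12, 0, 0, []⟩))))))) (.node (.node (.node (.node (.node (.node (.leaf ⟨21, 8, 27, 0, []⟩) (.leaf ⟨932, 1, 1091, 11, [6575, 6744, 8340]⟩)) (.node (.leaf ⟨412, 4, 687, 0, []⟩) (.leaf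 ⟨0, 12, 0, 0, []⟩))) (.node (.node (.leaf ⟨150, 5, 331, 12, [889, 1044, 2202]⟩) (.leaf ⟨0, 12, 0, 0, []⟩)) (.node (.leaf ⟨558, 1, 910, 106, [6298, 3863, 5436]⟩) (.leaf ⟨0, 12, 0, 0, []⟩)))) (.node (.node (.node (.leaf ⟨195, 2, 114, 50, [1181, 729]⟩) (.leaf ⟨829, 1, 555, 36, [5001, 6008]⟩)) (.node (.leaf ⟨879, 4, 880, 0, []⟩) (.leaf ⟨0, 12, 0, 0, []⟩))) (.node (.node (.leaf ⟨356, 0, 490, 0, []⟩) (.leaf ⟨0, 12, 0, 0, []⟩)) (.node (.leaf ⟨938, 2, 1003, 63, [6637, 6796, 7322]⟩) (.leaf ⟨0, 12, 0, 0, []⟩))))) (.node (.node (.node (.node (.leaf ⟨114, 9, 49, 4, [669, 647, 312]⟩) (.leaf ⟨388, 1, 645, 36, [4786, 5880]⟩)) (.node (.leaf ⟨383, 3, 779, 7, [2581, 2528, 4764]⟩) (.leaf ⟨0, 12, 0, 0, []⟩))) (.node (.node (.leaf ⟨344, 1, 407, 11, [2289, 1313, 2716]⟩) (.leaf ⟨0, 12, 0, 0, []⟩)) (.node (.leaf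 ⟨576, 4, 959, 0, []⟩) (.leaf ⟨0, 12, 0, 0, []⟩)))) (.node (.node (.node (.leaf ⟨198, 12, 71, 34, [1693]⟩) (.leaf ⟨0, 12, 0, 0, []⟩)) (.node (.leaf ⟨124, 12, 815, 36, [2140, 5789, 4926]⟩) (.leaf ⟨0, 12, 0, 0, []⟩))) (.node (.node (.leaf ⟨579, 8, 583, 40, [3718, 3740]⟩) (.leaf ⟨0, 12, 0, 0, []⟩)) (.node (.leaf ⟨714, 5, 1049, 85, [4407, 2950, 4450, 7246, 7239, 7081, 6386, 4999, 4964, 5498, 5632, 7830]⟩) (.leaf ⟨0, 12, 0, 0, []⟩)))))) (.node (.node (.node (.node (.node (.leaf ⟨70, 1, 71, 0, []⟩) (.leaf ⟨53, 0, 40, 77, [840, 1654]⟩)) (.node (.leaf ⟨554, 0, 735, 42, [3575, 3050, 3053, 2675, 2331, 2324, 2325, 2324, 4508]⟩) (.leaf ⟨0, 12, 0, 0, []⟩))) (.node (.node (.leaf ⟨155, 5, 367, 28, [1016, 1884, 2460]⟩) (.leaf ⟨0, 12, 0, 0, []⟩)) (.node (.leaf ⟨765, 8, 929, 62, [4679, 2953, 4438, 6548, 6550]⟩)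 (.leaf ⟨0, 12, 0, 0, []⟩)))) (.node (.node (.node (.leaf ⟨233, 9, 234, 0, []⟩) (.leaf ⟨0, 12, 0, 0, []⟩)) (.node (.leaf ⟨419, 12, 920, 74, [2784, 5533, 5491]⟩) (.leaf ⟨0, 12, 0, 0, []⟩))) (.node (.node (.leaf ⟨486, 3, 536, 27, [3197, 3204, 3478, 3481, 1851, 1824, 3484, 3485, 3484]⟩) (.leaf ⟨0, 12, 0, 0, []⟩)) (.node (.leaf ⟨1022, 4, 1024, 0, []⟩) (.leaf ⟨0, 12, 0, 0, []⟩))))) (.node (.node (.node (.node (.leaf ⟨157, 9, 73, 5, [923, 892, 426]⟩) (.leaf ⟨600, 0, 589, 77, [5500, 5508]⟩)) (.node (.leaf ⟨773, 2, 833, 0, []⟩) (.leaf ⟨0, 12, 0, 0, []⟩))) (.node (.node (.leaf ⟨450, 4, 216, 6, [2973, 2971, 2957]⟩) (.leaf ⟨0, 12, 0, 0, []⟩)) (.node (.leaf ⟨500, 5, 979, 85, [3288, 2245, 4348, 5697, 4709, 2455, 4437, 6256, 6259, 5395, 5393, 6169, 7066]⟩) (.leaf ⟨0, 12, 0, 0, []⟩)))) (.node (.node (.node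 (.leaf ⟨118, 9, 291, 5, [691, 720, 1946]⟩) (.leaf ⟨0, 12, 0, 0, []⟩)) (.node (.leaf ⟨811, 2, 444, 47, [6044, 3821, 2843, 2051, 719, 1804, 1799, 2010, 2015, 3644, 5726, 2916]⟩) (.leaf ⟨0, 12, 0, 0, []⟩))) (.node (.node (.leaf ⟨590, 1, 638, 11, [3773, 2113, 3996]⟩) (.leaf ⟨0, 12, 0, 0, []⟩)) (.node (.leaf ⟨1066, 8, 1069, 40, [8065, 8092]⟩) (.leaf ⟨0, 12, 0, 0, []⟩)))))))) (.node (.node (.node (.node (.node (.node (.node (.leaf ⟨12, 4, 16, 0, []⟩) (.leaf ⟨1070, 8, 1085, 40, [8115, 8284]⟩)) (.node (.leaf ⟨669, 2, 675, 0, []⟩) (.leaf ⟨0, 12, 0, 0, []⟩))) (.node (.node (.leaf ⟨322, 2, 323, 0, []⟩) (.leaf ⟨0, 12, 0, 0, []⟩)) (.node (.leaf ⟨737, 12, 703, 118, [5978, 4811, 2889, 1911, 2750, 3862, 5392, 5394, 6186, 4436, 2454, 4708, 5696, 4347]⟩) (.leaf ⟨0, 12, 0, 0, []⟩)))) (.node (.node (.node (.leaf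 ⟨111, 1, 185, 20, [649, 880, 877, 1108, 1112]⟩) (.leaf ⟨739, 8, 876, 76, [6031, 5289]⟩)) (.node (.leaf ⟨837, 2, 869, 0, []⟩) (.leaf ⟨0, 12, 0, 0, []⟩))) (.node (.node (.leaf ⟨480, 4, 482, 0, []⟩) (.leaf ⟨0, 12, 0, 0, []⟩)) (.node (.leaf ⟨998, 1, 999, 0, []⟩) (.leaf ⟨0, 12, 0, 0, []⟩))))) (.node (.node (.node (.node (.leaf ⟨99, 1, 100, 0, []⟩) (.leaf ⟨335, 1, 505, 36, [4314, 6396]⟩)) (.node (.leaf ⟨702, 0, 768, 45, [4339, 2243, 775, 764, 1060, 1062, 791, 798, 1699, 1289, 900, 2452, 4696]⟩) (.leaf ⟨0, 12, 0, 0, []⟩))) (.node (.node (.leaf ⟨338, 4, 397, 0, []⟩) (.leaf ⟨0, 12, 0, 0, []⟩)) (.node (.leaf ⟨954, 9, 955, 0, []⟩) (.leaf ⟨0, 12, 0, 0, []⟩)))) (.node (.node (.node (.leaf ⟨18, 12, 241, 35, [305, 1629, 1472]⟩) (.leaf ⟨0, 12, 0, 0, []⟩)) (.node (.leaf ⟨565, 12, 205, 35, [3645, 5725, 2905]⟩)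 (.leaf ⟨0, 12, 0, 0, []⟩))) (.node (.node (.leaf ⟨306, 1, 570, 11, [2065, 3674, 3676]⟩) (.leaf ⟨0, 12, 0, 0, []⟩)) (.node (.leaf ⟨627, 3, 1043, 30, [3950, 3782, 7772]⟩) (.leaf ⟨0, 12, 0, 0, []⟩)))))) (.node (.node (.node (.node (.node (.leaf ⟨57, 1, 58, 0, []⟩) (.leaf ⟨1096, 3, 1109, 27, [8403, 6683, 8294, 8528, 8527, 8327, 8540, 8541, 8540]⟩)) (.node (.leaf ⟨723, 1, 724, 0, []⟩) (.leaf ⟨0, 12, 0, 0, []⟩))) (.node (.node (.leaf ⟨359, 4, 149, 6, [2395, 2386, 2381]⟩) (.leaf ⟨0, 12, 0, 0, []⟩)) (.node (.leaf ⟨635, 5, 628, 56, [3984, 3953, 5621, 3993, 3978, 4276, 2772, 5651, 5471, 4277, 3979, 3992, 5620, 3952]⟩) (.leaf ⟨0, 12, 0, 0, []⟩)))) (.node (.node (.node (.leaf ⟨187, 2, 224, 0, []⟩) (.leaf ⟨0, 12, 0, 0, []⟩)) (.node (.leaf ⟨415, 5, 915, 12, [2771, 2769, 5468]⟩) (.leaf ⟨0, 12, 0, 0, []⟩)))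 (.node (.node (.leaf ⟨266, 4, 526, 43, [3404, 3418, 3420]⟩) (.leaf ⟨0, 12, 0, 0, []⟩)) (.node (.leaf ⟨911, 8, 1018, 40, [7484, 7516]⟩) (.leaf ⟨0, 12, 0, 0, []⟩))))) (.node (.node (.node (.node (.leaf ⟨74, 3, 145, 7, [435, 818, 860]⟩) (.leaf ⟨540, 0, 531, 77, [6151, 6414]⟩)) (.node (.leaf ⟨820, 2, 821, 0, []⟩) (.leaf ⟨0, 12, 0, 0, []⟩))) (.node (.node (.leaf ⟨377, 1, 442, 11, [2545, 2906, 2908]⟩) (.leaf ⟨0, 12, 0, 0, []⟩)) (.node (.leaf ⟨931, 1, 974, 22, [6573, 2778, 5446, 5451, 4254, 5058, 5108, 6086, 6436, 3334, 4332, 6242, 3018, 7000]⟩) (.leaf ⟨0, 12, 0, 0, []⟩)))) (.node (.node (.node (.leaf ⟨273, 8, 283, 0, []⟩) (.leaf ⟨0, 12, 0, 0, []⟩)) (.node (.leaf ⟨744, 4, 434, 108, [4551, 4540, 5937, 4623, 4614, 4611, 5980, 4551, 4289, 2398, 921, 1854, 1857, 1815, 1780, 668, 722, 2114, 3722, 5754,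 2872]⟩) (.leaf ⟨0, 12, 0, 0, []⟩))) (.node (.node (.leaf ⟨568, 0, 623, 0, []⟩) (.leaf ⟨0, 12, 0, 0, []⟩)) (.node (.leaf ⟨851, 8, 1064, 40, [5132, 8028]⟩) (.leaf ⟨0, 12, 0, 0, []⟩))))))) (.node (.node (.node (.node (.node (.node (.leaf ⟨35, 12, 8, 34, [221]⟩) (.leaf ⟨1039, 3, 1097, 17, [7735, 7711, 7657, 7642, 7645, 7656, 7710, 7734, 8412]⟩)) (.node (.leaf ⟨410, 1, 697, 11, [2743, 4314, 4316]⟩) (.leaf ⟨0, 12, 0, 0, []⟩))) (.node (.node (.leaf ⟨133, 0, 340, 21, [1747, 2266, 2268]⟩) (.leaf ⟨0, 12, 0, 0, []⟩)) (.node (.leaf ⟨790, 2, 668, 89, [6320, 4179, 3959, 3952, 3985, 3983, 2109, 2089, 723, 1183, 2054, 2144, 2143, 4156]⟩) (.leaf ⟨0, 12, 0, 0, []⟩)))) (.node (.node (.node (.leaf ⟨202, 0, 204, 0, []⟩) (.leaf ⟨907, 8, 791, 76, [5419, 5738]⟩)) (.node (.leaf ⟨888, 8, 894, 40, [5314, 5340]⟩) (.leaf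 ⟨0, 12, 0, 0, []⟩))) (.node (.node (.leaf ⟨498, 1, 502, 11, [3275, 3290, 3292]⟩) (.leaf ⟨0, 12, 0, 0, []⟩)) (.node (.leaf ⟨518, 3, 1008, 7, [3375, 7386, 7388]⟩) (.leaf ⟨0, 12, 0, 0, []⟩))))) (.node (.node (.node (.node (.leaf ⟨114, 4, 126, 0, []⟩) (.leaf ⟨434, 0, 649, 77, [4903, 5808]⟩)) (.node (.leaf ⟨791, 4, 792, 0, []⟩) (.leaf ⟨0, 12, 0, 0, []⟩))) (.node (.node (.leaf ⟨406, 4, 419, 0, []⟩) (.leaf ⟨0, 12, 0, 0, []⟩)) (.node (.leaf ⟨474, 4, 964, 0, []⟩) (.leaf ⟨0, 12, 0, 0, []⟩)))) (.node (.node (.node (.leaf ⟨95, 5, 263, 85, [589, 291, 316, 752, 1567, 1033, 462, 1420, 1423, 1349, 1718, 1750]⟩) (.leaf ⟨0, 12, 0, 0, []⟩)) (.node (.leaf ⟨671, 12, 799, 36, [4171, 5853, 4862]⟩) (.leaf ⟨0, 12, 0, 0, []⟩))) (.node (.node (.leaf ⟨323, 4, 596, 0, []⟩) (.leaf ⟨0, 12, 0, 0, []⟩)) (.node (.leaf ⟨939,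 8, 1054, 62, [6649, 3850, 5440, 7484, 7898]⟩) (.leaf ⟨0, 12, 0, 0, []⟩)))))) (.node (.node (.node (.node (.node (.leaf ⟨37, 5, 80, 28, [245, 270, 474]⟩) (.leaf ⟨100, 2, 128, 38, [992, 1558]⟩)) (.node (.leaf ⟨741, 9, 749, 4, [4535, 2326, 4572]⟩) (.leaf ⟨0, 12, 0, 0, []⟩))) (.node (.node (.leaf ⟨159, 0, 374, 21, [971, 2520, 2524]⟩) (.leaf ⟨0, 12, 0, 0, []⟩)) (.node (.leaf ⟨483, 2, 936, 13, [3169, 5801, 4941, 6620]⟩) (.leaf ⟨0, 12, 0, 0, []⟩)))) (.node (.node (.node (.leaf ⟨86, 0, 248, 21, [516, 1496, 1500]⟩) (.leaf ⟨0, 12, 0, 0, []⟩)) (.node (.leaf ⟨317, 12, 616, 76, [2119, 5597, 3920]⟩) (.leaf ⟨0, 12, 0, 0, []⟩))) (.node (.node (.leaf ⟨278, 1, 550, 0, []⟩) (.leaf ⟨0, 12, 0, 0, []⟩)) (.node (.leaf ⟨669, 1, 1030, 11, [4161, 7602, 7642]⟩) (.leaf ⟨0, 12, 0, 0, []⟩))))) (.node (.node (.node (.node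 (.leaf ⟨97, 5, 168, 59, [596, 301, 293, 169, 101, 76, 148, 368, 367, 460, 988]⟩) (.leaf ⟨646, 2, 550, 38, [5893, 5076, 6122]⟩)) (.node (.leaf ⟨389, 4, 843, 43, [4792, 5082, 5084]⟩) (.leaf ⟨0, 12, 0, 0, []⟩))) (.node (.node (.leaf ⟨371, 4, 462, 0, []⟩) (.leaf ⟨0, 12, 0, 0, []⟩)) (.node (.leaf ⟨738, 8, 984, 62, [4525, 2326, 4560, 7060, 7130]⟩) (.leaf ⟨0, 12, 0, 0, []⟩)))) (.node (.node (.node (.leaf ⟨285, 3, 299, 41, [1901, 631, 591, 309, 664, 667, 654, 1766, 2010]⟩) (.leaf ⟨0, 12, 0, 0, []⟩)) (.node (.leaf ⟨796, 12, 539, 34, [6109]⟩) (.leaf ⟨0, 12, 0, 0, []⟩))) (.node (.node (.leaf ⟨325, 0, 652, 0, []⟩) (.leaf ⟨0, 12, 0, 0, []⟩)) (.node (.leaf ⟨1065, 1, 1074, 11, [8045, 8139, 8152]⟩) (.leaf ⟨0, 12, 0, 0, []⟩)))))))))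

def fact16 : Arr (CFact) :=
  (.node (.node (.node (.node (.node (.node (.node (.node (.leaf ⟨3, 2, 6, 0, []⟩) (.leaf ⟨1048, 8, 1079, 3, [7821, 6285, 6562, 8214]⟩)) (.node (.leaf ⟨621, 9, 662, 5, [3925, 4124, 4126]⟩) (.leaf ⟨0, 12, 0, 0, []⟩))) (.node (.node (.leaf ⟨126, 4, 310, 0, []⟩) (.leaf ⟨0, 12, 0, 0, []⟩)) (.node (.leaf ⟨674, 12, 787, 116, [4187, 3800, 5885, 4775, 2529, 6137, 3525, 3513, 6091, 4699, 6170, 5400, 5738, 4830, 5740, 2729, 2276, 2342, 2337, 1337, 1330, 2558, 2553, 2542, 4807]⟩) (.leaf ⟨0, 12, 0, 0, []⟩)))) (.node (.node (.node (.leaf ⟨173, 9, 176, 4, [1033, 372, 1050]⟩) (.leaf ⟨695, 2, 899, 38, [6401, 5368]⟩)) (.node (.leaf ⟨853, 8, 856, 0, []⟩) (.leaf ⟨0, 12, 0, 0, []⟩))) (.node (.node (.leaf ⟨402, 2, 469, 29, [2687, 1380, 1597, 3084, 3087, 2729, 2692, 2689, 2415, 3102]⟩)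 (.leaf ⟨0, 12, 0, 0, []⟩)) (.node (.leaf ⟨727, 0, 991, 92, [4461, 2287, 6281, 5296, 5308, 7188, 7185, 3235, 1516, 1521, 1549, 1517, 3234, 7194]⟩) (.leaf ⟨0, 12, 0, 0, []⟩))))) (.node (.node (.node (.node (.leaf ⟨40, 0, 90, 21, [263, 492, 540]⟩) (.leaf ⟨232, 0, 381, 77, [3200, 6152]⟩)) (.node (.leaf ⟨558, 2, 758, 52, [3599, 2465, 2682, 2683, 2682, 3190, 3189, 2501, 4638]⟩) (.leaf ⟨0, 12, 0, 0, []⟩))) (.node (.node (.leaf ⟨363, 4, 387, 0, []⟩) (.leaf ⟨0, 12, 0, 0, []⟩)) (.node (.leaf ⟨944, 8, 946, 0, []⟩) (.leaf ⟨0, 12, 0, 0, []⟩)))) (.node (.node (.node (.leaf ⟨87, 12, 138, 35, [754, 1567, 1031]⟩) (.leaf ⟨0, 12, 0, 0, []⟩)) (.node (.leaf ⟨423, 12, 603, 36, [2807, 5663, 3846]⟩) (.leaf ⟨0, 12, 0, 0, []⟩))) (.node (.node (.leaf ⟨428, 0, 561, 93, [2934, 2923, 2643, 3308, 3307, 2699, 2640, 3412,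 3614]⟩) (.leaf ⟨0, 12, 0, 0, []⟩)) (.node (.leaf ⟨1036, 9, 587, 4, [7711, 7661, 3762]⟩) (.leaf ⟨0, 12, 0, 0, []⟩)))))) (.node (.node (.node (.node (.node (.leaf ⟨19, 9, 43, 39, [111, 104, 280]⟩) (.leaf ⟨1040, 1, 1103, 22, [7739, 3764, 3810, 3815, 5565, 3673, 2037, 3766, 5504, 5440, 7854, 7857, 8470]⟩)) (.node (.leaf ⟨710, 1, 711, 0, []⟩) (.leaf ⟨0, 12, 0, 0, []⟩))) (.node (.node (.leaf ⟨219, 4, 352, 0, []⟩) (.leaf ⟨0, 12, 0, 0, []⟩)) (.node (.leaf ⟨502, 8, 563, 19, [6431, 3634]⟩) (.leaf ⟨0, 12, 0, 0, []⟩)))) (.node (.node (.node (.leaf ⟨191, 1, 214, 8, [1161, 1102, 1310]⟩) (.leaf ⟨0, 12, 0, 0, []⟩)) (.node (.leaf ⟨755, 9, 906, 4, [4617, 3144, 5406]⟩) (.leaf ⟨0, 12, 0, 0, []⟩))) (.node (.node (.leaf ⟨284, 8, 514, 40, [1898, 3358]⟩) (.leaf ⟨0, 12, 0, 0, []⟩)) (.node (.leaf ⟨1003, 1, 1013, 8,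 [7325, 7436, 7454]⟩) (.leaf ⟨0, 12, 0, 0, []⟩))))) (.node (.node (.node (.node (.leaf ⟨71, 3, 136, 10, [417, 155, 52, 47, 40, 132, 127, 51, 110, 352, 798]⟩) (.leaf ⟨482, 8, 433, 76, [3630, 5752]⟩)) (.node (.leaf ⟨383, 8, 809, 0, []⟩) (.leaf ⟨0, 12, 0, 0, []⟩))) (.node (.node (.leaf ⟨307, 8, 429, 40, [2070, 2846]⟩) (.leaf ⟨0, 12, 0, 0, []⟩)) (.node (.leaf ⟨906, 4, 969, 9, [5407, 3149, 1401, 1386, 1866, 1871, 1721, 1900, 1903, 3450, 6942]⟩) (.leaf ⟨0, 12, 0, 0, []⟩)))) (.node (.node (.node (.leaf ⟨99, 3, 274, 7, [606, 997, 1822]⟩) (.leaf ⟨0, 12, 0, 0, []⟩)) (.node (.leaf ⟨216, 12, 742, 76, [2516, 5919, 4577]⟩) (.leaf ⟨0, 12, 0, 0, []⟩))) (.node (.node (.leaf ⟨413, 8, 609, 40, [2798, 3870]⟩) (.leaf ⟨0, 12, 0, 0, []⟩)) (.node (.leaf ⟨1058, 9, 1059, 4, [7949, 7945, 7962]⟩) (.leaf ⟨0, 12, 0, 0,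 []⟩))))))) (.node (.node (.node (.node (.node (.node (.leaf ⟨24, 2, 27, 18, [141, 124, 158]⟩) (.leaf ⟨950, 9, 1091, 5, [6713, 6746, 8340]⟩)) (.node (.leaf ⟨604, 9, 687, 4, [3849, 2756, 4254]⟩) (.leaf ⟨0, 12, 0, 0, []⟩))) (.node (.node (.leaf ⟨255, 4, 331, 43, [1536, 1675, 2202]⟩) (.leaf ⟨0, 12, 0, 0, []⟩)) (.node (.leaf ⟨823, 0, 799, 73, [5444, 5439, 6299, 4640, 6276, 4389, 6300, 6106, 3517, 6101, 5696, 4349, 2243, 777, 444, 450, 1386, 1880, 1885, 1424, 3200, 6152, 4864]⟩) (.leaf ⟨0, 12, 0, 0, []⟩)))) (.node (.node (.node (.leaf ⟨195, 9, 119, 5, [1181, 732, 696]⟩) (.leaf ⟨830, 8, 525, 76, [5044, 6038]⟩)) (.node (.leaf ⟨880, 1, 881, 0, []⟩) (.leaf ⟨0, 12, 0, 0, []⟩))) (.node (.node (.leaf ⟨490, 9, 491, 0, []⟩) (.leaf ⟨0, 12, 0, 0, []⟩)) (.node (.leaf ⟨971, 0, 1004, 0, []⟩) (.leaf ⟨0, 12, 0,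 0, []⟩))))) (.node (.node (.node (.node (.leaf ⟨70, 2, 115, 0, []⟩) (.leaf ⟨389, 0, 360, 77, [5094, 6060]⟩)) (.node (.leaf ⟨581, 0, 779, 45, [3729, 1981, 675, 802, 856, 855, 337, 830, 1671, 1081, 934, 2526, 4764]⟩) (.leaf ⟨0, 12, 0, 0, []⟩))) (.node (.node (.leaf ⟨190, 9, 407, 5, [1151, 1162, 2716]⟩) (.leaf ⟨0, 12, 0, 0, []⟩)) (.node (.leaf ⟨745, 0, 959, 100, [6420, 6411, 4808, 5964, 5967, 6588, 6587, 5449, 5743, 6814]⟩) (.leaf ⟨0, 12, 0, 0, []⟩)))) (.node (.node (.node (.leaf ⟨136, 12, 211, 38, [801, 1695, 1290]⟩) (.leaf ⟨0, 12, 0, 0, []⟩)) (.node (.leaf ⟨815, 12, 124, 34, [5791]⟩) (.leaf ⟨0, 12, 0, 0, []⟩))) (.node (.node (.leaf ⟨565, 2, 584, 0, []⟩) (.leaf ⟨0, 12, 0, 0, []⟩)) (.node (.leaf ⟨1045, 1, 1049, 11, [7787, 3969, 7830]⟩) (.leaf ⟨0, 12, 0, 0, []⟩)))))) (.node (.node (.node (.node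 (.node (.leaf ⟨26, 4, 71, 43, [404, 412, 414]⟩) (.leaf ⟨54, 0, 81, 77, [868, 1646]⟩)) (.node (.leaf ⟨692, 9, 735, 5, [4299, 3055, 4508]⟩) (.leaf ⟨0, 12, 0, 0, []⟩))) (.node (.node (.leaf ⟨361, 2, 368, 0, []⟩) (.leaf ⟨0, 12, 0, 0, []⟩)) (.node (.leaf ⟨892, 8, 417, 48, [6474, 6558, 6555]⟩) (.leaf ⟨0, 12, 0, 0, []⟩)))) (.node (.node (.node (.leaf ⟨81, 0, 234, 21, [503, 1432, 1438]⟩) (.leaf ⟨0, 12, 0, 0, []⟩)) (.node (.leaf ⟨920, 12, 419, 34, [5535]⟩) (.leaf ⟨0, 12, 0, 0, []⟩))) (.node (.node (.leaf ⟨527, 2, 536, 2, [3429, 1845, 1824, 3484]⟩) (.leaf ⟨0, 12, 0, 0, []⟩)) (.node (.leaf ⟨715, 9, 1024, 4, [7580, 7569, 7582]⟩) (.leaf ⟨0, 12, 0, 0, []⟩))))) (.node (.node (.node (.node (.leaf ⟨151, 4, 158, 0, []⟩) (.leaf ⟨605, 1, 724, 36, [6173, 4446]⟩)) (.node (.leaf ⟨600, 4, 833, 9, [3833, 2795, 1169,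 701, 2020, 2026, 2033, 2536, 2539, 4741, 5022]⟩) (.leaf ⟨0, 12, 0, 0, []⟩))) (.node (.node (.leaf ⟨271, 4, 451, 0, []⟩) (.leaf ⟨0, 12, 0, 0, []⟩)) (.node (.leaf ⟨532, 1, 979, 11, [3457, 3375, 7066]⟩) (.leaf ⟨0, 12, 0, 0, []⟩)))) (.node (.node (.node (.leaf ⟨125, 8, 291, 40, [732, 1950]⟩) (.leaf ⟨0, 12, 0, 0, []⟩)) (.node (.leaf ⟨869, 4, 750, 58, [5215, 6042, 4582]⟩) (.leaf ⟨0, 12, 0, 0, []⟩))) (.node (.node (.leaf ⟨591, 5, 638, 12, [3781, 3776, 3998]⟩) (.leaf ⟨0, 12, 0, 0, []⟩)) (.node (.leaf ⟨651, 0, 1069, 21, [7696, 7691, 8092]⟩) (.leaf ⟨0, 12, 0, 0, []⟩)))))))) (.node (.node (.node (.node (.node (.node (.node (.leaf ⟨16, 9, 5, 4, [95, 71, 28]⟩) (.leaf ⟨1070, 0, 1086, 0, []⟩)) (.node (.leaf ⟨675, 2, 665, 50, [4191, 4161]⟩) (.leaf ⟨0, 12, 0, 0, []⟩))) (.node (.node (.leaf ⟨305, 1, 323, 11,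 [2057, 2140, 2142]⟩) (.leaf ⟨0, 12, 0, 0, []⟩)) (.node (.leaf ⟨459, 12, 701, 119, [3017, 3010, 6018, 6013, 4520, 6238, 4345, 4702, 6090, 3512, 1847, 1785, 1778, 2083, 2081, 1126, 1123, 1741, 2238, 4312, 4311, 4330]⟩) (.leaf ⟨0, 12, 0, 0, []⟩)))) (.node (.node (.node (.leaf ⟨182, 2, 185, 67, [1104, 1111, 1100, 387, 283, 151, 113, 106, 306, 406, 411, 409, 653, 1118]⟩) (.leaf ⟨743, 1, 755, 36, [5937, 4621]⟩)) (.node (.leaf ⟨687, 4, 869, 9, [4255, 2761, 1165, 1178, 2066, 2156, 2163, 2530, 2596, 5050, 5214]⟩) (.leaf ⟨0, 12, 0, 0, []⟩))) (.node (.node (.leaf ⟨482, 1, 483, 0, []⟩) (.leaf ⟨0, 12, 0, 0, []⟩)) (.node (.leaf ⟨802, 2, 999, 13, [7164, 7260, 7262]⟩) (.leaf ⟨0, 12, 0, 0, []⟩))))) (.node (.node (.node (.node (.leaf ⟨45, 4, 100, 43, [592, 604, 606]⟩) (.leaf ⟨339, 4, 401, 75, [4386, 6278]⟩))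 (.node (.leaf ⟨768, 4, 769, 0, []⟩) (.leaf ⟨0, 12, 0, 0, []⟩))) (.node (.node (.leaf ⟨379, 1, 397, 8, [2553, 2260, 2654]⟩) (.leaf ⟨0, 12, 0, 0, []⟩)) (.node (.leaf ⟨425, 0, 955, 21, [6478, 6748, 6750]⟩) (.leaf ⟨0, 12, 0, 0, []⟩)))) (.node (.node (.node (.leaf ⟨241, 12, 18, 34, [1631]⟩) (.leaf ⟨0, 12, 0, 0, []⟩)) (.node (.leaf ⟨377, 12, 584, 37, [2545, 5727, 3744]⟩) (.leaf ⟨0, 12, 0, 0, []⟩))) (.node (.node (.leaf ⟨570, 0, 570, 45, [3679, 2061, 742, 745, 702, 708, 623, 1422, 1716, 743, 2060, 3678]⟩) (.leaf ⟨0, 12, 0, 0, []⟩)) (.node (.leaf ⟨636, 4, 1044, 0, []⟩) (.leaf ⟨0, 12, 0, 0, []⟩)))))) (.node (.node (.node (.node (.node (.leaf ⟨19, 4, 58, 43, [342, 348, 350]⟩) (.leaf ⟨1094, 2, 1109, 26, [8385, 8384, 8385, 7901, 8272, 8530, 8527, 8327, 8540]⟩)) (.node (.leaf ⟨342, 4, 724, 43, [4438, 4444,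 4446]⟩) (.leaf ⟨0, 12, 0, 0, []⟩))) (.node (.node (.leaf ⟨359, 9, 331, 5, [2395, 2334, 2200]⟩) (.leaf ⟨0, 12, 0, 0, []⟩)) (.node (.leaf ⟨415, 8, 922, 0, []⟩) (.leaf ⟨0, 12, 0, 0, []⟩)))) (.node (.node (.node (.leaf ⟨109, 1, 224, 11, [643, 1130, 1374]⟩) (.leaf ⟨0, 12, 0, 0, []⟩)) (.node (.leaf ⟨690, 4, 916, 0, []⟩) (.leaf ⟨0, 12, 0, 0, []⟩))) (.node (.node (.leaf ⟨518, 9, 526, 4, [3377, 1774, 3422]⟩) (.leaf ⟨0, 12, 0, 0, []⟩)) (.node (.leaf ⟨725, 3, 1018, 30, [4474, 7486, 7516]⟩) (.leaf ⟨0, 12, 0, 0, []⟩))))) (.node (.node (.node (.node (.leaf ⟨108, 9, 146, 0, []⟩) (.leaf ⟨540, 1, 513, 36, [6151, 4443]⟩)) (.node (.leaf ⟨821, 2, 385, 50, [4959, 4953]⟩) (.leaf ⟨0, 12, 0, 0, []⟩))) (.node (.node (.leaf ⟨441, 4, 443, 0, []⟩) (.leaf ⟨0, 12, 0, 0, []⟩)) (.node (.leaf ⟨972, 8, 974, 3, [6981, 3024,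 7000]⟩) (.leaf ⟨0, 12, 0, 0, []⟩)))) (.node (.node (.node (.leaf ⟨270, 2, 283, 18, [1797, 1814, 1886]⟩) (.leaf ⟨0, 12, 0, 0, []⟩)) (.node (.leaf ⟨490, 12, 820, 16, [3231, 2560, 2559, 2296, 3130, 5980, 5982, 3732, 5756, 4074, 5761, 4956]⟩) (.leaf ⟨0, 12, 0, 0, []⟩))) (.node (.node (.leaf ⟨623, 9, 624, 0, []⟩) (.leaf ⟨0, 12, 0, 0, []⟩)) (.node (.leaf ⟨850, 0, 1064, 21, [5126, 5134, 8028]⟩) (.leaf ⟨0, 12, 0, 0, []⟩))))))) (.node (.node (.node (.node (.node (.node (.leaf ⟨5, 12, 33, 37, [50, 223, 199]⟩) (.leaf ⟨1097, 9, 1098, 0, []⟩)) (.node (.leaf ⟨696, 4, 698, 0, []⟩) (.leaf ⟨0, 12, 0, 0, []⟩))) (.node (.node (.leaf ⟨262, 4, 341, 0, []⟩) (.leaf ⟨0, 12, 0, 0, []⟩)) (.node (.leaf ⟨790, 1, 566, 118, [6320, 4179, 3978, 4276, 2771, 1165, 1242, 1908, 1917, 1766, 1892, 3258, 3650]⟩) (.leaf ⟨0, 12,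 0, 0, []⟩)))) (.node (.node (.node (.leaf ⟨204, 9, 205, 0, []⟩) (.leaf ⟨911, 4, 555, 75, [5443, 6008]⟩)) (.node (.leaf ⟨700, 2, 895, 0, []⟩) (.leaf ⟨0, 12, 0, 0, []⟩))) (.node (.node (.leaf ⟨501, 4, 503, 0, []⟩) (.leaf ⟨0, 12, 0, 0, []⟩)) (.node (.leaf ⟨532, 2, 1008, 13, [7072, 7374, 7388]⟩) (.leaf ⟨0, 12, 0, 0, []⟩))))) (.node (.node (.node (.node (.leaf ⟨126, 9, 121, 4, [735, 670, 714]⟩) (.leaf ⟨434, 2, 436, 38, [3732, 5756]⟩)) (.node (.leaf ⟨792, 1, 793, 0, []⟩) (.leaf ⟨0, 12, 0, 0, []⟩))) (.node (.node (.leaf ⟨419, 9, 418, 4, [2783, 2713, 2780]⟩) (.leaf ⟨0, 12, 0, 0, []⟩)) (.node (.leaf ⟨935, 0, 964, 100, [6605, 5400, 5738, 4827, 5970, 6818, 6817, 4555, 5981, 6878]⟩) (.leaf ⟨0, 12, 0, 0, []⟩)))) (.node (.node (.node (.leaf ⟨220, 9, 263, 5, [1341, 852, 1750]⟩) (.leaf ⟨0, 12, 0, 0, []⟩))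 (.node (.leaf ⟨799, 12, 671, 34, [5855]⟩) (.leaf ⟨0, 12, 0, 0, []⟩))) (.node (.node (.leaf ⟨320, 1, 596, 8, [2131, 2144, 3806]⟩) (.leaf ⟨0, 12, 0, 0, []⟩)) (.node (.leaf ⟨606, 8, 1055, 0, []⟩) (.leaf ⟨0, 12, 0, 0, []⟩)))))) (.node (.node (.node (.node (.node (.leaf ⟨39, 2, 81, 0, []⟩) (.leaf ⟨103, 0, 62, 77, [1609, 1089]⟩)) (.node (.leaf ⟨742, 8, 749, 40, [4538, 4574]⟩) (.leaf ⟨0, 12, 0, 0, []⟩))) (.node (.node (.leaf ⟨163, 3, 374, 30, [2430, 2523, 2524]⟩) (.leaf ⟨0, 12, 0, 0, []⟩)) (.node (.leaf ⟨426, 2, 937, 0, []⟩) (.leaf ⟨0, 12, 0, 0, []⟩)))) (.node (.node (.node (.leaf ⟨246, 3, 248, 27, [1493, 557, 1496, 1499, 1493, 549, 1502, 1503, 1502]⟩) (.leaf ⟨0, 12, 0, 0, []⟩)) (.node (.leaf ⟨616, 12, 317, 34, [5599]⟩) (.leaf ⟨0, 12, 0, 0, []⟩))) (.node (.node (.leaf ⟨550, 2, 551, 0, []⟩) (.leaf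 ⟨0, 12, 0, 0, []⟩)) (.node (.leaf ⟨570, 9, 1030, 5, [3677, 7606, 7642]⟩) (.leaf ⟨0, 12, 0, 0, []⟩))))) (.node (.node (.node (.node (.leaf ⟨100, 2, 168, 60, [609, 301, 293, 161, 149, 100, 168, 358, 366, 460, 988]⟩) (.leaf ⟨646, 4, 842, 75, [5893, 5082]⟩)) (.node (.leaf ⟨799, 9, 843, 4, [4865, 2608, 5086]⟩) (.leaf ⟨0, 12, 0, 0, []⟩))) (.node (.node (.leaf ⟨352, 1, 462, 8, [2337, 2504, 3038]⟩) (.leaf ⟨0, 12, 0, 0, []⟩)) (.node (.leaf ⟨559, 4, 985, 0, []⟩) (.leaf ⟨0, 12, 0, 0, []⟩)))) (.node (.node (.node (.leaf ⟨265, 8, 299, 3, [1773, 1764, 2010]⟩) (.leaf ⟨0, 12, 0, 0, []⟩)) (.node (.leaf ⟨535, 12, 840, 76, [3504, 6111, 5072]⟩) (.leaf ⟨0, 12, 0, 0, []⟩))) (.node (.node (.leaf ⟨438, 5, 652, 56, [2895, 1251, 413, 411, 407, 312, 726, 2150, 4062]⟩) (.leaf ⟨0, 12, 0, 0, []⟩)) (.node (.leaf ⟨709, 8,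 1074, 62, [4381, 4361, 4414, 8050, 8158]⟩) (.leaf ⟨0, 12, 0, 0, []⟩)))))))))

def fact17 : Arr (CFact) :=
  (.node (.node (.node (.node (.node (.node (.node (.node (.leaf ⟨2, 4, 6, 9, [15, 10, 9, 4, 4, 2, 5, 8, 10, 23, 32]⟩) (.leaf ⟨719, 1, 1080, 0, []⟩)) (.node (.leaf ⟨321, 5, 662, 28, [2137, 3927, 4128]⟩) (.leaf ⟨0, 12, 0, 0, []⟩))) (.node (.node (.leaf ⟨310, 4, 267, 14, [2081, 735, 669, 1781]⟩) (.leaf ⟨0, 12, 0, 0, []⟩)) (.node (.leaf ⟨787, 12, 674, 34, [6177]⟩) (.leaf ⟨0, 12, 0, 0, []⟩)))) (.node (.node (.node (.leaf ⟨168, 8, 176, 40, [1034, 1056]⟩) (.leaf ⟨699, 1, 667, 36, [4323, 6406]⟩)) (.node (.leaf ⟨850, 2, 856, 18, [5125, 5138, 5152]⟩) (.leaf ⟨0, 12, 0, 0, []⟩))) (.node (.node (.leaf ⟨469, 9, 470, 0, []⟩) (.leaf ⟨0, 12, 0, 0, []⟩)) (.node (.leaf ⟨834, 8, 991, 62, [5033, 4760, 4954,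 5986, 3232, 7194]⟩) (.leaf ⟨0, 12, 0, 0, []⟩))))) (.node (.node (.node (.node (.leaf ⟨87, 2, 90, 29, [519, 479, 237, 76, 236, 247, 270, 265, 544]⟩) (.leaf ⟨232, 1, 128, 36, [1429, 1558]⟩)) (.node (.leaf ⟨401, 8, 758, 3, [2683, 2426, 4638]⟩) (.leaf ⟨0, 12, 0, 0, []⟩))) (.node (.node (.leaf ⟨387, 9, 386, 4, [2593, 2431, 2590]⟩) (.leaf ⟨0, 12, 0, 0, []⟩)) (.node (.leaf ⟨941, 2, 946, 18, [6657, 6670, 6688]⟩) (.leaf ⟨0, 12, 0, 0, []⟩)))) (.node (.node (.node (.leaf ⟨138, 12, 87, 34, [1569]⟩) (.leaf ⟨0, 12, 0, 0, []⟩)) (.node (.leaf ⟨603, 12, 423, 34, [5665]⟩) (.leaf ⟨0, 12, 0, 0, []⟩))) (.node (.node (.leaf ⟨520, 1, 561, 11, [3385, 3414, 3614]⟩) (.leaf ⟨0, 12, 0, 0, []⟩)) (.node (.leaf ⟨1036, 4, 947, 24, [7712, 7193, 6701]⟩) (.leaf ⟨0, 12, 0, 0, []⟩)))))) (.node (.node (.node (.node (.node (.leaf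 ⟨18, 2, 44, 0, []⟩) (.leaf ⟨1040, 9, 1103, 46, [8420, 8419, 7732, 8470]⟩)) (.node (.leaf ⟨339, 4, 711, 43, [4376, 4382, 4384]⟩) (.leaf ⟨0, 12, 0, 0, []⟩))) (.node (.node (.leaf ⟨352, 4, 344, 14, [2337, 1337, 929, 2293]⟩) (.leaf ⟨0, 12, 0, 0, []⟩)) (.node (.leaf ⟨702, 9, 511, 4, [6429, 3025, 6223, 3332]⟩) (.leaf ⟨0, 12, 0, 0, []⟩)))) (.node (.node (.node (.leaf ⟨137, 8, 214, 62, [811, 396, 391, 1162, 1312]⟩) (.leaf ⟨0, 12, 0, 0, []⟩)) (.node (.leaf ⟨517, 8, 906, 40, [4618, 5408]⟩) (.leaf ⟨0, 12, 0, 0, []⟩))) (.node (.node (.leaf ⟨272, 3, 514, 30, [1809, 1902, 3358]⟩) (.leaf ⟨0, 12, 0, 0, []⟩)) (.node (.leaf ⟨952, 2, 1013, 13, [6733, 7326, 7456]⟩) (.leaf ⟨0, 12, 0, 0, []⟩))))) (.node (.node (.node (.node (.leaf ⟨95, 2, 136, 47, [589, 293, 163, 142, 368, 359, 161, 324, 331, 352, 798]⟩) (.leaf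 ⟨485, 4, 343, 75, [5292, 6264]⟩)) (.node (.leaf ⟨809, 8, 810, 0, []⟩) (.leaf ⟨0, 12, 0, 0, []⟩))) (.node (.node (.leaf ⟨428, 3, 429, 30, [2837, 2027, 2846]⟩) (.leaf ⟨0, 12, 0, 0, []⟩)) (.node (.leaf ⟨497, 5, 969, 85, [6614, 6623, 5965, 5979, 6238, 4345, 4341, 6217, 3473, 3460, 3457, 3446, 6942]⟩) (.leaf ⟨0, 12, 0, 0, []⟩)))) (.node (.node (.node (.leaf ⟨170, 5, 274, 12, [1001, 999, 1822]⟩) (.leaf ⟨0, 12, 0, 0, []⟩)) (.node (.leaf ⟨742, 12, 216, 34, [5921]⟩) (.leaf ⟨0, 12, 0, 0, []⟩))) (.node (.node (.leaf ⟨330, 0, 610, 0, []⟩) (.leaf ⟨0, 12, 0, 0, []⟩)) (.node (.leaf ⟨913, 8, 1059, 40, [7960, 7968]⟩) (.leaf ⟨0, 12, 0, 0, []⟩))))))) (.node (.node (.node (.node (.node (.node (.leaf ⟨17, 4, 27, 24, [99, 118, 158]⟩) (.leaf ⟨956, 8, 1091, 40, [6783, 8352]⟩)) (.node (.leaf ⟨600, 8, 687, 40, [3850,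 4256]⟩) (.leaf ⟨0, 12, 0, 0, []⟩))) (.node (.node (.leaf ⟨133, 4, 332, 0, []⟩) (.leaf ⟨0, 12, 0, 0, []⟩)) (.node (.leaf ⟨707, 8, 543, 48, [4374, 3350, 6300, 6106]⟩) (.leaf ⟨0, 12, 0, 0, []⟩)))) (.node (.node (.node (.leaf ⟨67, 0, 196, 0, []⟩) (.leaf ⟨837, 0, 739, 77, [5286, 6030]⟩)) (.node (.leaf ⟨400, 4, 881, 43, [5272, 5278, 5280]⟩) (.leaf ⟨0, 12, 0, 0, []⟩))) (.node (.node (.leaf ⟨251, 0, 491, 21, [2367, 3230, 3232]⟩) (.leaf ⟨0, 12, 0, 0, []⟩)) (.node (.leaf ⟨894, 3, 1004, 27, [5339, 6192, 5348, 7180, 7179, 6993, 6968, 7328, 7329, 7328]⟩) (.leaf ⟨0, 12, 0, 0, []⟩))))) (.node (.node (.node (.node (.leaf ⟨95, 1, 115, 11, [583, 415, 672]⟩) (.leaf ⟨389, 1, 646, 36, [4792, 5892]⟩)) (.node (.leaf ⟨779, 4, 780, 0, []⟩) (.leaf ⟨0, 12, 0, 0, []⟩))) (.node (.node (.leaf ⟨194, 8, 407, 40, [1176, 2720]⟩)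 (.leaf ⟨0, 12, 0, 0, []⟩)) (.node (.leaf ⟨731, 3, 959, 10, [4483, 2989, 2346, 2478, 3566, 3579, 3241, 3037, 3070, 3136, 5743, 6814]⟩) (.leaf ⟨0, 12, 0, 0, []⟩)))) (.node (.node (.node (.leaf ⟨211, 12, 136, 34, [1697]⟩) (.leaf ⟨0, 12, 0, 0, []⟩)) (.node (.leaf ⟨325, 12, 384, 35, [2151, 5793, 4929]⟩) (.leaf ⟨0, 12, 0, 0, []⟩))) (.node (.node (.leaf ⟨522, 9, 584, 5, [3399, 3649, 3744]⟩) (.leaf ⟨0, 12, 0, 0, []⟩)) (.node (.leaf ⟨1042, 9, 1049, 5, [7751, 3886, 7830]⟩) (.leaf ⟨0, 12, 0, 0, []⟩)))))) (.node (.node (.node (.node (.node (.leaf ⟨66, 9, 71, 4, [393, 152, 416]⟩) (.leaf ⟨54, 2, 87, 38, [814, 1570]⟩)) (.node (.leaf ⟨691, 8, 735, 40, [4292, 4512]⟩) (.leaf ⟨0, 12, 0, 0, []⟩))) (.node (.node (.leaf ⟨367, 9, 368, 5, [2457, 2427, 2464]⟩) (.leaf ⟨0, 12, 0, 0, []⟩)) (.node (.leaf ⟨891, 8, 927,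 54, [5328, 6560, 6537]⟩) (.leaf ⟨0, 12, 0, 0, []⟩)))) (.node (.node (.node (.leaf ⟨87, 3, 234, 30, [564, 1436, 1438]⟩) (.leaf ⟨0, 12, 0, 0, []⟩)) (.node (.leaf ⟨406, 12, 609, 75, [2782, 5537, 5489]⟩) (.leaf ⟨0, 12, 0, 0, []⟩))) (.node (.node (.leaf ⟨280, 0, 537, 0, []⟩) (.leaf ⟨0, 12, 0, 0, []⟩)) (.node (.leaf ⟨1012, 8, 1024, 40, [7453, 7584]⟩) (.leaf ⟨0, 12, 0, 0, []⟩))))) (.node (.node (.node (.node (.leaf ⟨158, 9, 74, 4, [929, 892, 432]⟩) (.leaf ⟨607, 2, 608, 38, [5392, 5680]⟩)) (.node (.leaf ⟨387, 3, 833, 10, [2593, 2429, 1918, 2932, 2931, 2843, 2049, 2716, 2788, 3832, 5024]⟩) (.leaf ⟨0, 12, 0, 0, []⟩))) (.node (.node (.leaf ⟨451, 1, 452, 0, []⟩) (.leaf ⟨0, 12, 0, 0, []⟩)) (.node (.leaf ⟨978, 9, 979, 5, [7057, 5411, 7066]⟩) (.leaf ⟨0, 12, 0, 0, []⟩)))) (.node (.node (.node (.leaf ⟨201,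 5, 291, 28, [1231, 694, 1950]⟩) (.leaf ⟨0, 12, 0, 0, []⟩)) (.node (.leaf ⟨773, 5, 719, 112, [5262, 5261, 5041, 5048, 6042, 4582, 4579, 3069, 4426]⟩) (.leaf ⟨0, 12, 0, 0, []⟩))) (.node (.node (.leaf ⟨638, 2, 639, 0, []⟩) (.leaf ⟨0, 12, 0, 0, []⟩)) (.node (.leaf ⟨1067, 5, 1069, 28, [8067, 7160, 8092]⟩) (.leaf ⟨0, 12, 0, 0, []⟩)))))))) (.node (.node (.node (.node (.node (.node (.node (.leaf ⟨16, 8, 17, 0, []⟩) (.leaf ⟨1083, 3, 1086, 65, [8269, 8267, 8259, 8236, 8233, 7862, 7869, 8106, 8288]⟩)) (.node (.leaf ⟨675, 9, 595, 5, [4191, 4162, 3800]⟩) (.leaf ⟨0, 12, 0, 0, []⟩))) (.node (.node (.leaf ⟨322, 4, 324, 0, []⟩) (.leaf ⟨0, 12, 0, 0, []⟩)) (.node (.leaf ⟨701, 12, 459, 34, [6241]⟩) (.leaf ⟨0, 12, 0, 0, []⟩)))) (.node (.node (.node (.leaf ⟨182, 4, 186, 0, []⟩) (.leaf ⟨744, 1, 673, 36, [6010, 6182]⟩))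 (.node (.leaf ⟨862, 1, 869, 11, [5183, 5179, 5214]⟩) (.leaf ⟨0, 12, 0, 0, []⟩))) (.node (.node (.leaf ⟨228, 4, 483, 43, [3154, 3166, 3168]⟩) (.leaf ⟨0, 12, 0, 0, []⟩)) (.node (.leaf ⟨494, 4, 999, 43, [6668, 7258, 7262]⟩) (.leaf ⟨0, 12, 0, 0, []⟩))))) (.node (.node (.node (.node (.leaf ⟨78, 0, 101, 0, []⟩) (.leaf ⟨340, 4, 402, 75, [4420, 6274]⟩)) (.node (.leaf ⟨769, 1, 770, 0, []⟩) (.leaf ⟨0, 12, 0, 0, []⟩))) (.node (.node (.leaf ⟨332, 9, 397, 4, [2211, 2262, 2654]⟩) (.leaf ⟨0, 12, 0, 0, []⟩)) (.node (.leaf ⟨951, 12, 954, 46, [6721, 6719, 6713, 6752, 6751]⟩) (.leaf ⟨0, 12, 0, 0, []⟩)))) (.node (.node (.node (.leaf ⟨44, 12, 242, 37, [291, 1633, 1476]⟩) (.leaf ⟨0, 12, 0, 0, []⟩)) (.node (.leaf ⟨584, 12, 377, 34, [5729]⟩) (.leaf ⟨0, 12, 0, 0, []⟩))) (.node (.node (.leaf ⟨569, 4, 571, 0, []⟩) (.leaf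 ⟨0, 12, 0, 0, []⟩)) (.node (.leaf ⟨994, 2, 1044, 47, [7223, 6118, 6556, 6555, 6528, 6769, 6764, 6334, 5165, 5163, 5779, 4026, 4028, 7776]⟩) (.leaf ⟨0, 12, 0, 0, []⟩)))))) (.node (.node (.node (.node (.node (.leaf ⟨50, 9, 58, 4, [317, 108, 352]⟩) (.leaf ⟨1104, 5, 1109, 112, [8487, 8359, 7734, 8436, 8439, 8528, 8527, 8327, 8540]⟩)) (.node (.leaf ⟨447, 4, 725, 0, []⟩) (.leaf ⟨0, 12, 0, 0, []⟩))) (.node (.node (.leaf ⟨155, 4, 360, 0, []⟩) (.leaf ⟨0, 12, 0, 0, []⟩)) (.node (.leaf ⟨633, 0, 922, 69, [3973, 3978, 4276, 6496]⟩) (.leaf ⟨0, 12, 0, 0, []⟩)))) (.node (.node (.node (.leaf ⟨77, 3, 224, 7, [452, 645, 1376]⟩) (.leaf ⟨0, 12, 0, 0, []⟩)) (.node (.leaf ⟨916, 1, 917, 0, []⟩) (.leaf ⟨0, 12, 0, 0, []⟩))) (.node (.node (.leaf ⟨519, 8, 526, 40, [3382, 3424]⟩) (.leaf ⟨0, 12, 0, 0, []⟩)) (.node (.leaf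 ⟨662, 2, 1019, 0, []⟩) (.leaf ⟨0, 12, 0, 0, []⟩))))) (.node (.node (.node (.node (.leaf ⟨107, 8, 146, 40, [634, 864]⟩) (.leaf ⟨540, 4, 935, 75, [6151, 6600]⟩)) (.node (.leaf ⟨386, 4, 822, 0, []⟩) (.leaf ⟨0, 12, 0, 0, []⟩))) (.node (.node (.leaf ⟨443, 1, 444, 0, []⟩) (.leaf ⟨0, 12, 0, 0, []⟩)) (.node (.leaf ⟨973, 9, 974, 39, [6993, 3022, 7000]⟩) (.leaf ⟨0, 12, 0, 0, []⟩)))) (.node (.node (.node (.leaf ⟨106, 9, 283, 5, [627, 1802, 1888]⟩) (.leaf ⟨0, 12, 0, 0, []⟩)) (.node (.leaf ⟨820, 12, 490, 34, [5985]⟩) (.leaf ⟨0, 12, 0, 0, []⟩))) (.node (.node (.leaf ⟨313, 0, 624, 21, [3670, 3934, 3936]⟩) (.leaf ⟨0, 12, 0, 0, []⟩)) (.node (.leaf ⟨854, 3, 1064, 30, [5190, 6345, 8028]⟩) (.leaf ⟨0, 12, 0, 0, []⟩))))))) (.node (.node (.node (.node (.node (.node (.leaf ⟨33, 12, 5, 34, [225]⟩) (.leaf ⟨988, 0,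 1098, 21, [7636, 8410, 8416]⟩)) (.node (.leaf ⟨698, 1, 699, 0, []⟩) (.leaf ⟨0, 12, 0, 0, []⟩))) (.node (.node (.leaf ⟨330, 1, 341, 8, [2193, 1961, 2272]⟩) (.leaf ⟨0, 12, 0, 0, []⟩)) (.node (.leaf ⟨577, 12, 528, 13, [3712, 4818, 6368, 3653]⟩) (.leaf ⟨0, 12, 0, 0, []⟩)))) (.node (.node (.node (.leaf ⟨70, 0, 205, 21, [1235, 1246, 1248]⟩) (.leaf ⟨913, 4, 851, 75, [5461, 6334]⟩)) (.node (.leaf ⟨895, 4, 404, 6, [5345, 4327, 3307]⟩) (.leaf ⟨0, 12, 0, 0, []⟩))) (.node (.node (.leaf ⟨503, 1, 504, 0, []⟩) (.leaf ⟨0, 12, 0, 0, []⟩)) (.node (.leaf ⟨566, 5, 1008, 12, [6369, 7378, 7388]⟩) (.leaf ⟨0, 12, 0, 0, []⟩))))) (.node (.node (.node (.node (.leaf ⟨68, 2, 127, 0, []⟩) (.leaf ⟨434, 4, 523, 75, [5234, 5716]⟩)) (.node (.leaf ⟨378, 4, 793, 43, [4824, 4830, 4832]⟩) (.leaf ⟨0, 12, 0, 0, []⟩))) (.node (.node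 (.leaf ⟨308, 2, 420, 0, []⟩) (.leaf ⟨0, 12, 0, 0, []⟩)) (.node (.leaf ⟨475, 3, 964, 10, [3135, 1397, 1402, 2276, 2342, 2337, 1337, 1330, 2296, 3130, 6878]⟩) (.leaf ⟨0, 12, 0, 0, []⟩)))) (.node (.node (.node (.leaf ⟨209, 8, 263, 40, [1342, 1760]⟩) (.leaf ⟨0, 12, 0, 0, []⟩)) (.node (.leaf ⟨160, 12, 681, 77, [2536, 5835, 4220]⟩) (.leaf ⟨0, 12, 0, 0, []⟩))) (.node (.node (.leaf ⟨588, 2, 597, 0, []⟩) (.leaf ⟨0, 12, 0, 0, []⟩)) (.node (.leaf ⟨982, 2, 1055, 23, [7101, 4565, 4563, 7904]⟩) (.leaf ⟨0, 12, 0, 0, []⟩)))))) (.node (.node (.node (.node (.node (.leaf ⟨38, 4, 81, 9, [249, 247, 87, 28, 46, 51, 29, 86, 90, 257, 480]⟩) (.leaf ⟨103, 2, 134, 38, [1054, 1562]⟩)) (.node (.leaf ⟨464, 0, 750, 0, []⟩) (.leaf ⟨0, 12, 0, 0, []⟩))) (.node (.node (.leaf ⟨207, 0, 375, 0, []⟩) (.leaf ⟨0, 12, 0, 0, []⟩))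 (.node (.leaf ⟨475, 0, 937, 42, [5412, 5415, 6594, 6589, 6610, 6609, 6608, 6609, 6624]⟩) (.leaf ⟨0, 12, 0, 0, []⟩)))) (.node (.node (.node (.leaf ⟨247, 2, 248, 26, [1497, 1496, 1497, 510, 1502, 1505, 1493, 549, 1502]⟩) (.leaf ⟨0, 12, 0, 0, []⟩)) (.node (.leaf ⟨123, 12, 312, 75, [2114, 5601, 3911]⟩) (.leaf ⟨0, 12, 0, 0, []⟩))) (.node (.node (.leaf ⟨535, 1, 551, 11, [3481, 3550, 3552]⟩) (.leaf ⟨0, 12, 0, 0, []⟩)) (.node (.leaf ⟨775, 3, 1030, 30, [6453, 3761, 7648]⟩) (.leaf ⟨0, 12, 0, 0, []⟩))))) (.node (.node (.node (.node (.leaf ⟨168, 2, 169, 0, []⟩) (.leaf ⟨646, 8, 860, 76, [5893, 5175]⟩)) (.node (.leaf ⟨802, 8, 843, 40, [4874, 5088]⟩) (.leaf ⟨0, 12, 0, 0, []⟩))) (.node (.node (.leaf ⟨281, 9, 462, 4, [1867, 2506, 3038]⟩) (.leaf ⟨0, 12, 0, 0, []⟩)) (.node (.leaf ⟨755, 0, 985, 100, [6488, 4563,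 3860, 6299, 3601, 3109, 1880, 3604, 7136]⟩) (.leaf ⟨0, 12, 0, 0, []⟩)))) (.node (.node (.node (.leaf ⟨266, 9, 299, 39, [1777, 1770, 2010]⟩) (.leaf ⟨0, 12, 0, 0, []⟩)) (.node (.leaf ⟨840, 12, 535, 34, [6113]⟩) (.leaf ⟨0, 12, 0, 0, []⟩))) (.node (.node (.leaf ⟨574, 8, 652, 3, [3701, 2154, 4062]⟩) (.leaf ⟨0, 12, 0, 0, []⟩)) (.node (.leaf ⟨1074, 8, 1075, 0, []⟩) (.leaf ⟨0, 12, 0, 0, []⟩)))))))))

def fact18 : Arr (CFact) :=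
  (.node (.node (.node (.node (.node (.node (.node (.node (.leaf ⟨6, 9, 6, 5, [33, 20, 32]⟩) (.leaf ⟨943, 3, 1080, 7, [6669, 4428, 8226]⟩)) (.node (.leaf ⟨654, 4, 662, 49, [4083, 2151, 2138, 4130]⟩) (.leaf ⟨0, 12, 0, 0, []⟩))) (.node (.node (.leaf ⟨310, 9, 269, 4, [2081, 736, 1794]⟩) (.leaf ⟨0, 12, 0, 0, []⟩)) (.node (.leaf ⟨673, 12, 870, 74, [4184, 6179, 5230]⟩) (.leaf ⟨0, 12, 0, 0, []⟩)))) (.node (.node (.node (.leaf ⟨131, 4, 177, 0, []⟩) (.leaf ⟨702, 0, 541, 77, [4702, 6090]⟩)) (.node (.leaf ⟨392, 9, 856, 5, [2619, 5127, 5154]⟩) (.leaf ⟨0, 12, 0, 0, []⟩))) (.node (.node (.leaf ⟨225, 0, 470, 21, [1411, 3102, 3106]⟩) (.leaf ⟨0, 12, 0, 0, []⟩)) (.node (.leaf ⟨834, 0, 952, 21, [7202, 7201, 6738]⟩) (.leaf ⟨0, 12, 0, 0, []⟩))))) (.node (.node (.node (.node (.leaf ⟨86, 2, 91, 0, []⟩) (.leaf ⟨251,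 1, 143, 36, [1516, 1548]⟩)) (.node (.leaf ⟨402, 9, 758, 39, [2687, 2424, 4638]⟩) (.leaf ⟨0, 12, 0, 0, []⟩))) (.node (.node (.leaf ⟨375, 2, 388, 0, []⟩) (.leaf ⟨0, 12, 0, 0, []⟩)) (.node (.leaf ⟨629, 1, 946, 11, [6502, 6660, 6690]⟩) (.leaf ⟨0, 12, 0, 0, []⟩)))) (.node (.node (.node (.leaf ⟨249, 12, 145, 36, [1509, 1571, 860]⟩) (.leaf ⟨0, 12, 0, 0, []⟩)) (.node (.leaf ⟨290, 12, 567, 74, [1943, 5605, 3664]⟩) (.leaf ⟨0, 12, 0, 0, []⟩))) (.node (.node (.leaf ⟨523, 3, 561, 7, [3405, 3392, 3618]⟩) (.leaf ⟨0, 12, 0, 0, []⟩)) (.node (.leaf ⟨1029, 2, 1037, 0, []⟩) (.leaf ⟨0, 12, 0, 0, []⟩)))))) (.node (.node (.node (.node (.node (.leaf ⟨27, 0, 44, 42, [169, 280, 283, 151, 113, 106, 107, 106, 290]⟩) (.leaf ⟨1039, 8, 1103, 3, [7735, 7724, 8470]⟩)) (.node (.leaf ⟨513, 4, 712, 0, []⟩) (.leaf ⟨0, 12, 0,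 0, []⟩))) (.node (.node (.leaf ⟨352, 9, 348, 4, [2337, 1338, 2322]⟩) (.leaf ⟨0, 12, 0, 0, []⟩)) (.node (.leaf ⟨549, 0, 511, 21, [3547, 6091, 4703, 6434]⟩) (.leaf ⟨0, 12, 0, 0, []⟩)))) (.node (.node (.node (.leaf ⟨158, 8, 215, 0, []⟩) (.leaf ⟨0, 12, 0, 0, []⟩)) (.node (.leaf ⟨475, 2, 907, 0, []⟩) (.leaf ⟨0, 12, 0, 0, []⟩))) (.node (.node (.leaf ⟨514, 4, 515, 0, []⟩) (.leaf ⟨0, 12, 0, 0, []⟩)) (.node (.leaf ⟨951, 5, 1013, 12, [6790, 7322, 7456]⟩) (.leaf ⟨0, 12, 0, 0, []⟩))))) (.node (.node (.node (.node (.leaf ⟨120, 9, 136, 4, [703, 354, 798]⟩) (.leaf ⟨486, 1, 786, 36, [6079, 4802]⟩)) (.node (.leaf ⟨810, 8, 383, 19, [4899, 4897]⟩) (.leaf ⟨0, 12, 0, 0, []⟩))) (.node (.node (.leaf ⟨334, 5, 429, 28, [2235, 2024, 2846]⟩) (.leaf ⟨0, 12, 0, 0, []⟩)) (.node (.leaf ⟨692, 1, 969, 11, [4299, 5942, 3448,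 6942]⟩) (.leaf ⟨0, 12, 0, 0, []⟩)))) (.node (.node (.node (.leaf ⟨251, 4, 274, 43, [1516, 1548, 1036, 1822]⟩) (.leaf ⟨0, 12, 0, 0, []⟩)) (.node (.leaf ⟨448, 12, 872, 37, [2957, 5923, 5238]⟩) (.leaf ⟨0, 12, 0, 0, []⟩))) (.node (.node (.leaf ⟨556, 2, 610, 52, [3589, 2823, 3436, 3437, 3436, 3652, 3651, 3267, 3874]⟩) (.leaf ⟨0, 12, 0, 0, []⟩)) (.node (.leaf ⟨1059, 2, 1060, 0, []⟩) (.leaf ⟨0, 12, 0, 0, []⟩))))))) (.node (.node (.node (.node (.node (.node (.leaf ⟨21, 1, 27, 8, [119, 102, 162]⟩) (.leaf ⟨1077, 4, 1092, 0, []⟩)) (.node (.leaf ⟨687, 2, 688, 0, []⟩) (.leaf ⟨0, 12, 0, 0, []⟩))) (.node (.node (.leaf ⟨208, 1, 332, 8, [1269, 780, 2210]⟩) (.leaf ⟨0, 12, 0, 0, []⟩)) (.node (.leaf ⟨543, 8, 714, 19, [6307, 4402]⟩) (.leaf ⟨0, 12, 0, 0, []⟩)))) (.node (.node (.node (.leaf ⟨196, 9, 197, 0, []⟩)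 (.leaf ⟨837, 1, 643, 36, [5178, 6326]⟩)) (.node (.leaf ⟨831, 3, 881, 17, [5011, 2591, 961, 966, 968, 1004, 1020, 2678, 5282]⟩) (.leaf ⟨0, 12, 0, 0, []⟩))) (.node (.node (.leaf ⟨468, 8, 492, 0, []⟩) (.leaf ⟨0, 12, 0, 0, []⟩)) (.node (.leaf ⟨974, 2, 1004, 26, [7001, 7000, 7001, 7014, 7019, 6996, 6993, 6968, 7328]⟩) (.leaf ⟨0, 12, 0, 0, []⟩))))) (.node (.node (.node (.node (.leaf ⟨48, 5, 115, 12, [311, 588, 674]⟩) (.leaf ⟨389, 2, 278, 38, [2610, 6082]⟩)) (.node (.leaf ⟨780, 1, 781, 0, []⟩) (.leaf ⟨0, 12, 0, 0, []⟩))) (.node (.node (.leaf ⟨292, 3, 407, 30, [1963, 1154, 2720]⟩) (.leaf ⟨0, 12, 0, 0, []⟩)) (.node (.leaf ⟨751, 2, 959, 47, [4590, 2355, 2333, 2394, 3095, 3093, 2693, 2728, 3072, 3136, 5743, 6814]⟩) (.leaf ⟨0, 12, 0, 0, []⟩)))) (.node (.node (.node (.leaf ⟨66, 12, 197, 74, [418, 1695,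 1197]⟩) (.leaf ⟨0, 12, 0, 0, []⟩)) (.node (.leaf ⟨384, 12, 325, 34, [5795]⟩) (.leaf ⟨0, 12, 0, 0, []⟩))) (.node (.node (.leaf ⟨516, 8, 584, 40, [3400, 3746]⟩) (.leaf ⟨0, 12, 0, 0, []⟩)) (.node (.leaf ⟨1019, 8, 1049, 40, [7762, 7842]⟩) (.leaf ⟨0, 12, 0, 0, []⟩)))))) (.node (.node (.node (.node (.node (.leaf ⟨67, 8, 71, 40, [396, 418]⟩) (.leaf ⟨60, 4, 129, 75, [1032, 1566]⟩)) (.node (.leaf ⟨400, 3, 735, 30, [2677, 4296, 4512]⟩) (.leaf ⟨0, 12, 0, 0, []⟩))) (.node (.node (.leaf ⟨282, 8, 368, 40, [2460, 2466]⟩) (.leaf ⟨0, 12, 0, 0, []⟩)) (.node (.leaf ⟨892, 5, 635, 28, [6560, 2777, 4277, 3980]⟩) (.leaf ⟨0, 12, 0, 0, []⟩)))) (.node (.node (.node (.leaf ⟨90, 2, 234, 25, [547, 1442]⟩) (.leaf ⟨0, 12, 0, 0, []⟩)) (.node (.leaf ⟨609, 12, 406, 34, [5539]⟩) (.leaf ⟨0, 12, 0, 0, []⟩))) (.node (.node (.leaf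 ⟨491, 2, 537, 29, [3235, 1828, 3484, 3487, 3197, 3204, 3215, 2369, 3490]⟩) (.leaf ⟨0, 12, 0, 0, []⟩)) (.node (.leaf ⟨766, 0, 1024, 21, [6490, 4410, 7584]⟩) (.leaf ⟨0, 12, 0, 0, []⟩))))) (.node (.node (.node (.node (.leaf ⟨57, 2, 159, 0, []⟩) (.leaf ⟨608, 0, 875, 77, [5681, 6167]⟩)) (.node (.leaf ⟨829, 8, 833, 54, [5003, 2595, 5026]⟩) (.leaf ⟨0, 12, 0, 0, []⟩))) (.node (.node (.leaf ⟨216, 4, 452, 43, [2307, 2976, 2978]⟩) (.leaf ⟨0, 12, 0, 0, []⟩)) (.node (.leaf ⟨746, 8, 979, 40, [7060, 7074]⟩) (.leaf ⟨0, 12, 0, 0, []⟩)))) (.node (.node (.node (.leaf ⟨122, 4, 292, 0, []⟩) (.leaf ⟨0, 12, 0, 0, []⟩)) (.node (.leaf ⟨848, 12, 99, 113, [5119, 2615, 2626, 5048, 6042, 4305, 2318, 2323, 1024, 1021, 1826, 1825]⟩) (.leaf ⟨0, 12, 0, 0, []⟩))) (.node (.node (.leaf ⟨639, 2, 316, 50, [4003, 3997]⟩) (.leaf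 ⟨0, 12, 0, 0, []⟩)) (.node (.leaf ⟨1021, 1, 1069, 20, [7551, 3551, 3434, 7158, 8092]⟩) (.leaf ⟨0, 12, 0, 0, []⟩)))))))) (.node (.node (.node (.node (.node (.node (.node (.leaf ⟨13, 4, 17, 24, [75, 94, 98]⟩) (.leaf ⟨1086, 9, 1087, 0, []⟩)) (.node (.leaf ⟨669, 4, 676, 0, []⟩) (.leaf ⟨0, 12, 0, 0, []⟩))) (.node (.node (.leaf ⟨324, 1, 325, 0, []⟩) (.leaf ⟨0, 12, 0, 0, []⟩)) (.node (.leaf ⟨898, 5, 788, 110, [5363, 2707, 4312, 4311, 4330, 6242, 3017, 3010, 6018, 6013, 4520, 5978]⟩) (.leaf ⟨0, 12, 0, 0, []⟩)))) (.node (.node (.node (.leaf ⟨186, 9, 65, 4, [1123, 1095, 388]⟩) (.leaf ⟨745, 8, 703, 76, [4557, 6238]⟩)) (.node (.leaf ⟨829, 9, 869, 5, [4997, 5052, 5214]⟩) (.leaf ⟨0, 12, 0, 0, []⟩))) (.node (.node (.leaf ⟨475, 9, 483, 4, [3135, 1398, 3170]⟩) (.leaf ⟨0, 12, 0, 0, []⟩)) (.node (.leaf ⟨536,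 5, 999, 59, [3487, 6079, 4647, 2537, 940, 349, 344, 904, 2320, 2317, 3252, 7266]⟩) (.leaf ⟨0, 12, 0, 0, []⟩))))) (.node (.node (.node (.node (.leaf ⟨101, 9, 102, 0, []⟩) (.leaf ⟨346, 4, 441, 75, [3638, 5906]⟩)) (.node (.leaf ⟨366, 4, 770, 43, [4696, 4704, 4706]⟩) (.leaf ⟨0, 12, 0, 0, []⟩))) (.node (.node (.leaf ⟨341, 8, 397, 40, [2279, 2658]⟩) (.leaf ⟨0, 12, 0, 0, []⟩)) (.node (.leaf ⟨954, 12, 951, 34, [6755]⟩) (.leaf ⟨0, 12, 0, 0, []⟩)))) (.node (.node (.node (.leaf ⟨242, 12, 44, 34, [1635]⟩) (.leaf ⟨0, 12, 0, 0, []⟩)) (.node (.leaf ⟨378, 12, 516, 76, [2547, 5731, 3749]⟩) (.leaf ⟨0, 12, 0, 0, []⟩))) (.node (.node (.leaf ⟨318, 1, 571, 8, [2117, 3674, 3682]⟩) (.leaf ⟨0, 12, 0, 0, []⟩)) (.node (.leaf ⟨1044, 0, 1044, 44, [7779, 7227, 3967, 6363, 6363, 6363, 3966, 7226, 7778]⟩) (.leaf ⟨0, 12,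 0, 0, []⟩)))))) (.node (.node (.node (.node (.node (.leaf ⟨51, 8, 58, 40, [320, 354]⟩) (.leaf ⟨1109, 5, 1094, 123, [8547, 8491, 8423, 8488, 8487, 8448, 8445, 8156, 8280, 8540, 8545]⟩)) (.node (.leaf ⟨725, 9, 724, 4, [4451, 2953, 4448]⟩) (.leaf ⟨0, 12, 0, 0, []⟩))) (.node (.node (.leaf ⟨283, 5, 360, 59, [1893, 1767, 655, 666, 1257, 1254, 973, 895, 890, 914, 2402]⟩) (.leaf ⟨0, 12, 0, 0, []⟩)) (.node (.leaf ⟨629, 4, 922, 24, [4282, 5651, 5471, 6496]⟩) (.leaf ⟨0, 12, 0, 0, []⟩)))) (.node (.node (.node (.leaf ⟨175, 4, 224, 43, [1048, 1053, 1376]⟩) (.leaf ⟨0, 12, 0, 0, []⟩)) (.node (.leaf ⟨413, 4, 917, 43, [4286, 5472, 5474]⟩) (.leaf ⟨0, 12, 0, 0, []⟩))) (.node (.node (.leaf ⟨276, 0, 527, 0, []⟩) (.leaf ⟨0, 12, 0, 0, []⟩)) (.node (.leaf ⟨605, 0, 1019, 42, [4966, 5498, 5632, 3885, 5637, 5497, 5058,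 5502, 5503, 5502, 7522]⟩) (.leaf ⟨0, 12, 0, 0, []⟩))))) (.node (.node (.node (.node (.leaf ⟨54, 0, 146, 21, [339, 636, 864]⟩) (.leaf ⟨541, 0, 702, 77, [6091, 4703]⟩)) (.node (.leaf ⟨604, 3, 822, 10, [3849, 2751, 1172, 735, 728, 2159, 2163, 1264, 960, 2590, 4962]⟩) (.leaf ⟨0, 12, 0, 0, []⟩))) (.node (.node (.leaf ⟨205, 4, 444, 43, [2906, 2912, 2914]⟩) (.leaf ⟨0, 12, 0, 0, []⟩)) (.node (.leaf ⟨974, 3, 894, 30, [7011, 6997, 5340]⟩) (.leaf ⟨0, 12, 0, 0, []⟩)))) (.node (.node (.node (.leaf ⟨264, 3, 283, 30, [1771, 630, 1890]⟩) (.leaf ⟨0, 12, 0, 0, []⟩)) (.node (.leaf ⟨757, 12, 827, 74, [4637, 5987, 4991]⟩) (.leaf ⟨0, 12, 0, 0, []⟩))) (.node (.node (.leaf ⟨624, 2, 617, 29, [3939, 2102, 723, 728, 2034, 2036, 3672, 3667, 3912]⟩) (.leaf ⟨0, 12, 0, 0, []⟩)) (.node (.leaf ⟨867, 2, 1064, 25, [5205, 8034]⟩)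 (.leaf ⟨0, 12, 0, 0, []⟩))))))) (.node (.node (.node (.node (.node (.node (.leaf ⟨2, 12, 9, 36, [30, 227, 189]⟩) (.leaf ⟨1040, 3, 1098, 30, [7737, 8414, 8416]⟩)) (.node (.leaf ⟨335, 4, 699, 43, [4314, 4320, 4322]⟩) (.leaf ⟨0, 12, 0, 0, []⟩))) (.node (.node (.leaf ⟨229, 5, 341, 12, [1800, 2198, 2274]⟩) (.leaf ⟨0, 12, 0, 0, []⟩)) (.node (.leaf ⟨791, 5, 566, 12, [4825, 4822, 6368]⟩) (.leaf ⟨0, 12, 0, 0, []⟩)))) (.node (.node (.node (.leaf ⟨202, 2, 206, 0, []⟩) (.leaf ⟨935, 1, 712, 36, [6603, 6276]⟩)) (.node (.leaf ⟨510, 2, 896, 0, []⟩) (.leaf ⟨0, 12, 0, 0, []⟩))) (.node (.node (.leaf ⟨259, 4, 504, 43, [3290, 3296, 3298]⟩) (.leaf ⟨0, 12, 0, 0, []⟩)) (.node (.leaf ⟨517, 4, 1008, 43, [3374, 7376, 7388]⟩) (.leaf ⟨0, 12, 0, 0, []⟩))))) (.node (.node (.node (.node (.leaf ⟨66, 4, 127, 9, [393, 282,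 281, 162, 358, 367, 359, 292, 299, 402, 738]⟩) (.leaf ⟨436, 1, 295, 36, [2879, 5898]⟩)) (.node (.leaf ⟨439, 9, 793, 4, [2897, 2546, 4834]⟩) (.leaf ⟨0, 12, 0, 0, []⟩))) (.node (.node (.leaf ⟨407, 0, 420, 44, [2717, 2708, 2754, 2751, 2750, 2751, 1172, 2072, 2786]⟩) (.leaf ⟨0, 12, 0, 0, []⟩)) (.node (.leaf ⟨907, 2, 964, 47, [5421, 2733, 2216, 2318, 2323, 827, 862, 2360, 2363, 3130, 6878]⟩) (.leaf ⟨0, 12, 0, 0, []⟩)))) (.node (.node (.node (.leaf ⟨117, 8, 264, 0, []⟩) (.leaf ⟨0, 12, 0, 0, []⟩)) (.node (.leaf ⟨681, 12, 160, 34, [5859]⟩) (.leaf ⟨0, 12, 0, 0, []⟩))) (.node (.node (.leaf ⟨594, 9, 597, 5, [3797, 3770, 3810]⟩) (.leaf ⟨0, 12, 0, 0, []⟩)) (.node (.leaf ⟨979, 0, 1055, 69, [7077, 4563, 7904]⟩) (.leaf ⟨0, 12, 0, 0, []⟩)))))) (.node (.node (.node (.node (.node (.leaf ⟨81, 1, 81, 11, [481,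 255, 480]⟩) (.leaf ⟨104, 0, 104, 77, [1524, 1552]⟩)) (.node (.leaf ⟨493, 2, 750, 52, [3249, 3101, 4496, 4497, 4496, 4500, 4427, 3068, 4578]⟩) (.leaf ⟨0, 12, 0, 0, []⟩))) (.node (.node (.leaf ⟨164, 2, 375, 26, [965, 964, 965, 932, 2526, 2529, 961, 1265, 2530]⟩) (.leaf ⟨0, 12, 0, 0, []⟩)) (.node (.leaf ⟨733, 4, 937, 84, [4499, 3253, 2316, 4504, 6460, 5435, 6622, 6609, 6624]⟩) (.leaf ⟨0, 12, 0, 0, []⟩)))) (.node (.node (.node (.leaf ⟨87, 1, 249, 0, []⟩) (.leaf ⟨0, 12, 0, 0, []⟩)) (.node (.leaf ⟨312, 12, 123, 34, [5603]⟩) (.leaf ⟨0, 12, 0, 0, []⟩))) (.node (.node (.leaf ⟨550, 4, 552, 0, []⟩) (.leaf ⟨0, 12, 0, 0, []⟩)) (.node (.leaf ⟨1030, 5, 988, 28, [7649, 7632, 7637]⟩) (.leaf ⟨0, 12, 0, 0, []⟩))))) (.node (.node (.node (.node (.leaf ⟨169, 2, 100, 50, [995, 993]⟩) (.leaf ⟨647, 0, 811, 77, [5769,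 4904]⟩)) (.node (.leaf ⟨801, 9, 844, 0, []⟩) (.leaf ⟨0, 12, 0, 0, []⟩))) (.node (.node (.leaf ⟨427, 8, 462, 40, [2828, 3042]⟩) (.leaf ⟨0, 12, 0, 0, []⟩)) (.node (.leaf ⟨949, 1, 985, 8, [6785, 6781, 7136]⟩) (.leaf ⟨0, 12, 0, 0, []⟩)))) (.node (.node (.node (.leaf ⟨119, 4, 300, 0, []⟩) (.leaf ⟨0, 12, 0, 0, []⟩)) (.node (.leaf ⟨551, 12, 847, 36, [3555, 6115, 5112]⟩) (.leaf ⟨0, 12, 0, 0, []⟩))) (.node (.node (.leaf ⟨580, 9, 652, 39, [3723, 2152, 4062]⟩) (.leaf ⟨0, 12, 0, 0, []⟩)) (.node (.leaf ⟨1013, 2, 1075, 23, [7494, 7489, 8154, 8162]⟩) (.leaf ⟨0, 12, 0, 0, []⟩)))))))))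

def fact19 : Arr (CFact) :=
  (.node (.node (.node (.node (.node (.node (.node (.node (.leaf ⟨2, 3, 6, 10, [15, 9, 2, 5, 2, 5, 5, 2, 8, 14, 34]⟩) (.leaf ⟨997, 2, 1080, 13, [7257, 4500, 8226]⟩)) (.node (.leaf ⟨657, 2, 663, 0, []⟩) (.leaf ⟨0, 12, 0, 0, []⟩))) (.node (.node (.leaf ⟨286, 2, 310, 18, [1906, 1788, 2085]⟩) (.leaf ⟨0, 12, 0, 0, []⟩)) (.node (.leaf ⟨870, 12, 673, 34, [6181]⟩) (.leaf ⟨0, 12, 0, 0, []⟩)))) (.node (.node (.node (.leaf ⟨177, 4, 135, 14, [1061, 767, 395, 792]⟩) (.leaf ⟨703, 0, 788, 77, [6239, 5978]⟩)) (.node (.leaf ⟨853, 0, 857, 0, []⟩) (.leaf ⟨0, 12, 0, 0, []⟩))) (.node (.node (.leaf ⟨227, 2, 471, 0, []⟩) (.leaf ⟨0, 12, 0, 0, []⟩)) (.node (.leaf ⟨991, 2, 992, 0, []⟩) (.leaf ⟨0, 12, 0, 0, []⟩))))) (.node (.node (.node (.node (.leaf ⟨91, 1, 91, 11, [549, 513, 548]⟩) (.leaf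 ⟨256, 8, 143, 76, [1543, 1548]⟩)) (.node (.leaf ⟨376, 4, 759, 0, []⟩) (.leaf ⟨0, 12, 0, 0, []⟩))) (.node (.node (.leaf ⟨288, 0, 388, 44, [1919, 2428, 2523, 2521, 2520, 2521, 1262, 2530, 2596]⟩) (.leaf ⟨0, 12, 0, 0, []⟩)) (.node (.leaf ⟨424, 9, 946, 5, [2809, 6659, 6690]⟩) (.leaf ⟨0, 12, 0, 0, []⟩)))) (.node (.node (.node (.leaf ⟨74, 12, 250, 37, [862, 1573, 1510]⟩) (.leaf ⟨0, 12, 0, 0, []⟩)) (.node (.leaf ⟨567, 12, 290, 34, [5669]⟩) (.leaf ⟨0, 12, 0, 0, []⟩))) (.node (.node (.leaf ⟨481, 8, 561, 62, [3163, 3082, 3091, 3388, 3618]⟩) (.leaf ⟨0, 12, 0, 0, []⟩)) (.node (.leaf ⟨1037, 2, 587, 50, [7717, 7629]⟩) (.leaf ⟨0, 12, 0, 0, []⟩)))))) (.node (.node (.node (.node (.node (.leaf ⟨29, 9, 44, 5, [284, 287, 290]⟩) (.leaf ⟨1092, 0, 1104, 0, []⟩)) (.node (.leaf ⟨712, 9, 711, 4, [4389, 3351, 4386]⟩)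 (.leaf ⟨0, 12, 0, 0, []⟩))) (.node (.node (.leaf ⟨341, 2, 352, 18, [2279, 2318, 2341]⟩) (.leaf ⟨0, 12, 0, 0, []⟩)) (.node (.leaf ⟨531, 3, 511, 30, [3476, 6216, 4340, 6434]⟩) (.leaf ⟨0, 12, 0, 0, []⟩)))) (.node (.node (.node (.leaf ⟨154, 4, 215, 24, [907, 928, 1316]⟩) (.leaf ⟨0, 12, 0, 0, []⟩)) (.node (.leaf ⟨418, 0, 907, 94, [2781, 1165, 1170, 1174, 1137, 1370, 1396, 3134, 5412]⟩) (.leaf ⟨0, 12, 0, 0, []⟩))) (.node (.node (.leaf ⟨476, 1, 515, 8, [3137, 3356, 3364]⟩) (.leaf ⟨0, 12, 0, 0, []⟩)) (.node (.leaf ⟨1013, 8, 708, 48, [7461, 6724, 6282, 4383]⟩) (.leaf ⟨0, 12, 0, 0, []⟩))))) (.node (.node (.node (.node (.leaf ⟨130, 8, 136, 40, [762, 804]⟩) (.leaf ⟨486, 4, 802, 75, [6079, 4872]⟩)) (.node (.leaf ⟨810, 0, 434, 51, [4900, 4766, 4769, 3733]⟩) (.leaf ⟨0, 12, 0, 0, []⟩))) (.node (.node (.leaf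 ⟨203, 0, 430, 0, []⟩) (.leaf ⟨0, 12, 0, 0, []⟩)) (.node (.leaf ⟨873, 3, 969, 7, [5243, 4296, 6948]⟩) (.leaf ⟨0, 12, 0, 0, []⟩)))) (.node (.node (.node (.leaf ⟨263, 1, 275, 0, []⟩) (.leaf ⟨0, 12, 0, 0, []⟩)) (.node (.leaf ⟨872, 12, 448, 34, [5925]⟩) (.leaf ⟨0, 12, 0, 0, []⟩))) (.node (.node (.leaf ⟨497, 3, 610, 53, [3273, 1870, 3594, 3654, 3651, 3650, 3651, 3267, 3874]⟩) (.leaf ⟨0, 12, 0, 0, []⟩)) (.node (.leaf ⟨1035, 0, 1060, 44, [7701, 6925, 6518, 6513, 6512, 6513, 7964, 7967, 7972]⟩) (.leaf ⟨0, 12, 0, 0, []⟩))))))) (.node (.node (.node (.node (.node (.node (.leaf ⟨8, 9, 27, 4, [47, 104, 162]⟩) (.leaf ⟨1036, 3, 1092, 10, [7711, 7657, 7642, 7652, 7260, 7259, 6726, 6722, 6752, 8188, 8356]⟩)) (.node (.leaf ⟨605, 9, 688, 5, [3853, 4256, 4260]⟩) (.leaf ⟨0, 12, 0, 0, []⟩))) (.node (.node (.leaf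 ⟨255, 2, 332, 13, [1536, 1673, 2212]⟩) (.leaf ⟨0, 12, 0, 0, []⟩)) (.node (.leaf ⟨764, 0, 802, 69, [4692, 6291, 6304, 4875]⟩) (.leaf ⟨0, 12, 0, 0, []⟩)))) (.node (.node (.node (.leaf ⟨66, 0, 197, 21, [397, 1186, 1188]⟩) (.leaf ⟨838, 0, 594, 77, [5502, 5512]⟩)) (.node (.leaf ⟨837, 0, 881, 96, [5051, 2605, 965, 349, 886, 1002, 1020, 2678, 5282]⟩) (.leaf ⟨0, 12, 0, 0, []⟩))) (.node (.node (.leaf ⟨464, 2, 492, 18, [3065, 3100, 3236]⟩) (.leaf ⟨0, 12, 0, 0, []⟩)) (.node (.leaf ⟨757, 5, 1004, 112, [4629, 3227, 4248, 4251, 7184, 7179, 6993, 6968, 7328]⟩) (.leaf ⟨0, 12, 0, 0, []⟩))))) (.node (.node (.node (.node (.leaf ⟨113, 2, 116, 0, []⟩) (.leaf ⟨392, 0, 643, 77, [5162, 5894]⟩)) (.node (.leaf ⟨374, 4, 781, 43, [4764, 4770, 4772]⟩) (.leaf ⟨0, 12, 0, 0, []⟩))) (.node (.node (.leaf ⟨222, 5, 407, 28,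 [1369, 1156, 2720]⟩) (.leaf ⟨0, 12, 0, 0, []⟩)) (.node (.leaf ⟨437, 1, 959, 8, [2883, 5745, 3367, 5743, 6814]⟩) (.leaf ⟨0, 12, 0, 0, []⟩)))) (.node (.node (.node (.leaf ⟨197, 12, 66, 34, [1701]⟩) (.leaf ⟨0, 12, 0, 0, []⟩)) (.node (.leaf ⟨652, 12, 817, 77, [4063, 5797, 4938]⟩) (.leaf ⟨0, 12, 0, 0, []⟩))) (.node (.node (.leaf ⟨318, 2, 585, 0, []⟩) (.leaf ⟨0, 12, 0, 0, []⟩)) (.node (.leaf ⟨675, 4, 1050, 0, []⟩) (.leaf ⟨0, 12, 0, 0, []⟩)))))) (.node (.node (.node (.node (.node (.leaf ⟨67, 2, 72, 0, []⟩) (.leaf ⟨61, 4, 134, 75, [1050, 1562]⟩)) (.node (.leaf ⟨735, 4, 736, 0, []⟩) (.leaf ⟨0, 12, 0, 0, []⟩))) (.node (.node (.leaf ⟨156, 5, 368, 28, [917, 2462, 2466]⟩) (.leaf ⟨0, 12, 0, 0, []⟩)) (.node (.leaf ⟨892, 9, 923, 4, [6564, 6504, 6506]⟩) (.leaf ⟨0, 12, 0, 0, []⟩)))) (.node (.node (.node (.leaf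 ⟨82, 2, 235, 0, []⟩) (.leaf ⟨0, 12, 0, 0, []⟩)) (.node (.leaf ⟨191, 12, 918, 77, [2708, 5541, 5478]⟩) (.leaf ⟨0, 12, 0, 0, []⟩))) (.node (.node (.leaf ⟨537, 9, 538, 0, []⟩) (.leaf ⟨0, 12, 0, 0, []⟩)) (.node (.leaf ⟨933, 2, 1024, 26, [7567, 7566, 7567, 7562, 7549, 4676, 7570, 7573, 7588]⟩) (.leaf ⟨0, 12, 0, 0, []⟩))))) (.node (.node (.node (.node (.leaf ⟨135, 1, 159, 11, [791, 351, 932]⟩) (.leaf ⟨608, 1, 406, 36, [3866, 5540]⟩)) (.node (.leaf ⟨763, 2, 834, 0, []⟩) (.leaf ⟨0, 12, 0, 0, []⟩))) (.node (.node (.leaf ⟨372, 4, 453, 0, []⟩) (.leaf ⟨0, 12, 0, 0, []⟩)) (.node (.leaf ⟨492, 0, 980, 0, []⟩) (.leaf ⟨0, 12, 0, 0, []⟩)))) (.node (.node (.node (.leaf ⟨191, 3, 292, 10, [1161, 1100, 446, 1156, 1155, 715, 313, 308, 653, 718, 1956]⟩) (.leaf ⟨0, 12, 0, 0, []⟩)) (.node (.leaf ⟨232, 12, 801, 37,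 [1431, 6053, 5121]⟩) (.leaf ⟨0, 12, 0, 0, []⟩))) (.node (.node (.leaf ⟨317, 4, 640, 0, []⟩) (.leaf ⟨0, 12, 0, 0, []⟩)) (.node (.leaf ⟨1034, 2, 1069, 13, [7693, 7552, 8100]⟩) (.leaf ⟨0, 12, 0, 0, []⟩)))))))) (.node (.node (.node (.node (.node (.node (.node (.leaf ⟨16, 1, 17, 8, [95, 80, 100]⟩) (.leaf ⟨835, 0, 1087, 21, [8114, 8288, 8292]⟩)) (.node (.leaf ⟨676, 9, 596, 4, [4197, 4162, 3806]⟩) (.leaf ⟨0, 12, 0, 0, []⟩))) (.node (.node (.leaf ⟨124, 4, 325, 43, [2140, 2146, 2148]⟩) (.leaf ⟨0, 12, 0, 0, []⟩)) (.node (.leaf ⟨504, 4, 668, 120, [4330, 6242, 3017, 5961, 4531, 5274, 5962, 6035, 5011, 4758, 4763, 4774, 5884, 3801, 3806, 5580, 4156]⟩) (.leaf ⟨0, 12, 0, 0, []⟩)))) (.node (.node (.node (.leaf ⟨126, 2, 186, 18, [736, 713, 1125]⟩) (.leaf ⟨746, 4, 471, 75, [4568, 5914]⟩)) (.node (.leaf ⟨833,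 8, 869, 40, [5029, 5220]⟩) (.leaf ⟨0, 12, 0, 0, []⟩))) (.node (.node (.leaf ⟨476, 8, 483, 40, [3138, 3172]⟩) (.leaf ⟨0, 12, 0, 0, []⟩)) (.node (.leaf ⟨729, 0, 999, 33, [4471, 4362, 4357, 3066, 4578, 4581, 7234, 7237, 4449, 2454, 2453, 2320, 4504, 7080, 7238, 7247, 4451, 2949, 2447, 2339, 4496, 4499, 7266]⟩) (.leaf ⟨0, 12, 0, 0, []⟩))))) (.node (.node (.node (.node (.leaf ⟨45, 0, 102, 21, [458, 610, 612]⟩) (.leaf ⟨349, 4, 217, 75, [4534, 5956]⟩)) (.node (.leaf ⟨685, 5, 770, 59, [4243, 2151, 727, 690, 2030, 2224, 2219, 1079, 898, 2452, 4708]⟩) (.leaf ⟨0, 12, 0, 0, []⟩))) (.node (.node (.leaf ⟨370, 5, 397, 28, [2493, 2216, 2658]⟩) (.leaf ⟨0, 12, 0, 0, []⟩)) (.node (.leaf ⟨953, 0, 884, 69, [6741, 6748, 6756, 6724]⟩) (.leaf ⟨0, 12, 0, 0, []⟩)))) (.node (.node (.node (.leaf ⟨45, 12, 83, 35, [301,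 1637, 1481]⟩) (.leaf ⟨0, 12, 0, 0, []⟩)) (.node (.leaf ⟨516, 12, 378, 34, [5733]⟩) (.leaf ⟨0, 12, 0, 0, []⟩))) (.node (.node (.leaf ⟨379, 0, 572, 0, []⟩) (.leaf ⟨0, 12, 0, 0, []⟩)) (.node (.leaf ⟨842, 3, 1044, 148, [5083, 5114, 6118, 6556, 7542, 7539, 5682, 7226, 7778, 7780]⟩) (.leaf ⟨0, 12, 0, 0, []⟩)))))) (.node (.node (.node (.node (.node (.leaf ⟨27, 4, 59, 0, []⟩) (.leaf ⟨1086, 1, 1109, 140, [8291, 8269, 8269, 8290, 8428, 8427, 7760, 7753, 6516, 6513, 8282, 8540]⟩)) (.node (.leaf ⟨711, 2, 726, 0, []⟩) (.leaf ⟨0, 12, 0, 0, []⟩))) (.node (.node (.leaf ⟨276, 2, 360, 60, [1841, 1767, 655, 682, 1232, 1260, 1263, 968, 923, 914, 2402]⟩) (.leaf ⟨0, 12, 0, 0, []⟩)) (.node (.leaf ⟨629, 3, 922, 17, [3957, 5617, 3893, 3982, 3984, 6495, 3983, 5625, 3905, 3956, 6500]⟩) (.leaf ⟨0, 12, 0, 0, []⟩)))) (.node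 (.node (.node (.leaf ⟨103, 1, 225, 0, []⟩) (.leaf ⟨0, 12, 0, 0, []⟩)) (.node (.leaf ⟨609, 0, 918, 0, []⟩) (.leaf ⟨0, 12, 0, 0, []⟩))) (.node (.node (.leaf ⟨486, 2, 527, 29, [3197, 1857, 1894, 3384, 3387, 1888, 2404, 2407, 3428]⟩) (.leaf ⟨0, 12, 0, 0, []⟩)) (.node (.leaf ⟨888, 4, 1019, 86, [5313, 6970, 6975, 3632, 6862, 6853, 4071, 4063, 4082, 4132, 7522]⟩) (.leaf ⟨0, 12, 0, 0, []⟩))))) (.node (.node (.node (.node (.leaf ⟨102, 3, 146, 30, [613, 640, 864]⟩) (.leaf ⟨541, 1, 366, 36, [6091, 4697]⟩)) (.node (.leaf ⟨605, 2, 822, 47, [3857, 2079, 715, 690, 2030, 2033, 939, 2526, 2529, 2590, 4962]⟩) (.leaf ⟨0, 12, 0, 0, []⟩))) (.node (.node (.leaf ⟨436, 9, 444, 4, [2881, 1248, 2916]⟩) (.leaf ⟨0, 12, 0, 0, []⟩)) (.node (.leaf ⟨460, 2, 975, 0, []⟩) (.leaf ⟨0, 12, 0, 0, []⟩)))) (.node (.node (.node (.leaf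 ⟨273, 0, 284, 0, []⟩) (.leaf ⟨0, 12, 0, 0, []⟩)) (.node (.leaf ⟨827, 12, 757, 34, [5989]⟩) (.leaf ⟨0, 12, 0, 0, []⟩))) (.node (.node (.leaf ⟨568, 2, 625, 0, []⟩) (.leaf ⟨0, 12, 0, 0, []⟩)) (.node (.leaf ⟨1059, 4, 1064, 58, [7965, 5211, 8034]⟩) (.leaf ⟨0, 12, 0, 0, []⟩))))))) (.node (.node (.node (.node (.node (.node (.leaf ⟨9, 12, 2, 34, [229]⟩) (.leaf ⟨1098, 5, 1040, 56, [8421, 7739, 3763, 7594, 7608, 7615, 7595, 3762, 7738]⟩)) (.node (.leaf ⟨506, 4, 700, 0, []⟩) (.leaf ⟨0, 12, 0, 0, []⟩))) (.node (.node (.leaf ⟨332, 8, 341, 62, [2213, 1273, 1790, 2194, 2274]⟩) (.leaf ⟨0, 12, 0, 0, []⟩)) (.node (.leaf ⟨532, 5, 557, 87, [3461, 3362, 3364, 5744, 2855, 1243, 1164, 2770, 4277, 3979, 4178, 6321, 6368, 3655]⟩) (.leaf ⟨0, 12, 0, 0, []⟩)))) (.node (.node (.node (.leaf ⟨206, 2, 166, 50, [1253, 1237]⟩)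 (.leaf ⟨940, 0, 886, 77, [6662, 6730]⟩)) (.node (.leaf ⟨506, 1, 896, 11, [3307, 3330, 5348]⟩) (.leaf ⟨0, 12, 0, 0, []⟩))) (.node (.node (.leaf ⟨410, 4, 505, 0, []⟩) (.leaf ⟨0, 12, 0, 0, []⟩)) (.node (.leaf ⟨1008, 0, 1008, 92, [7389, 7387, 7396, 7395, 3653, 7016, 7019, 5307, 6731, 6663, 7150, 7384, 7388]⟩) (.leaf ⟨0, 12, 0, 0, []⟩))))) (.node (.node (.node (.node (.leaf ⟨119, 1, 127, 11, [697, 693, 738]⟩) (.leaf ⟨436, 2, 433, 38, [3720, 5754]⟩)) (.node (.leaf ⟨431, 8, 793, 40, [2898, 4836]⟩) (.leaf ⟨0, 12, 0, 0, []⟩))) (.node (.node (.leaf ⟨412, 9, 420, 5, [2763, 2189, 2786]⟩) (.leaf ⟨0, 12, 0, 0, []⟩)) (.node (.leaf ⟨575, 9, 964, 4, [5970, 4487, 6878]⟩) (.leaf ⟨0, 12, 0, 0, []⟩)))) (.node (.node (.node (.leaf ⟨112, 4, 264, 24, [660, 686, 1764]⟩) (.leaf ⟨0, 12, 0, 0, []⟩)) (.node (.leaf ⟨327,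 12, 682, 76, [2171, 5861, 4222]⟩) (.leaf ⟨0, 12, 0, 0, []⟩))) (.node (.node (.leaf ⟨306, 5, 597, 28, [2059, 3799, 3812]⟩) (.leaf ⟨0, 12, 0, 0, []⟩)) (.node (.leaf ⟨725, 4, 1055, 24, [4452, 6286, 7904]⟩) (.leaf ⟨0, 12, 0, 0, []⟩)))))) (.node (.node (.node (.node (.node (.leaf ⟨38, 3, 81, 10, [249, 237, 76, 148, 160, 163, 101, 76, 236, 248, 482]⟩) (.leaf ⟨104, 1, 257, 36, [1553, 1722]⟩)) (.node (.leaf ⟨694, 3, 750, 53, [4305, 2215, 3252, 4428, 4427, 4426, 4427, 3068, 4578]⟩) (.leaf ⟨0, 12, 0, 0, []⟩))) (.node (.node (.leaf ⟨375, 9, 376, 0, []⟩) (.leaf ⟨0, 12, 0, 0, []⟩)) (.node (.leaf ⟨420, 5, 937, 57, [2789, 2727, 1363, 1390, 2488, 3142, 6612, 6609, 6624]⟩) (.leaf ⟨0, 12, 0, 0, []⟩)))) (.node (.node (.node (.leaf ⟨249, 2, 250, 0, []⟩) (.leaf ⟨0, 12, 0, 0, []⟩)) (.node (.leaf ⟨303, 12, 613,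 38, [2043, 5605, 3899]⟩) (.leaf ⟨0, 12, 0, 0, []⟩))) (.node (.node (.leaf ⟨552, 1, 553, 0, []⟩) (.leaf ⟨0, 12, 0, 0, []⟩)) (.node (.leaf ⟨1027, 2, 1031, 0, []⟩) (.leaf ⟨0, 12, 0, 0, []⟩))))) (.node (.node (.node (.node (.leaf ⟨169, 4, 60, 6, [995, 989, 463]⟩) (.leaf ⟨647, 4, 572, 75, [5769, 4920, 5994]⟩)) (.node (.leaf ⟨389, 0, 844, 21, [2609, 4870, 5092]⟩) (.leaf ⟨0, 12, 0, 0, []⟩))) (.node (.node (.leaf ⟨407, 5, 462, 28, [2721, 1874, 3042]⟩) (.leaf ⟨0, 12, 0, 0, []⟩)) (.node (.leaf ⟨607, 9, 985, 4, [6299, 3602, 7136]⟩) (.leaf ⟨0, 12, 0, 0, []⟩)))) (.node (.node (.node (.leaf ⟨178, 1, 300, 8, [1070, 743, 2020]⟩) (.leaf ⟨0, 12, 0, 0, []⟩)) (.node (.leaf ⟨847, 12, 551, 34, [6117]⟩) (.leaf ⟨0, 12, 0, 0, []⟩))) (.node (.node (.leaf ⟨652, 3, 444, 30, [4069, 3721, 2918]⟩) (.leaf ⟨0, 12, 0, 0, []⟩))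 (.node (.leaf ⟨835, 4, 1075, 9, [5037, 5030, 7204, 6735, 6685, 3838, 6716, 6719, 6720, 7460, 8164]⟩) (.leaf ⟨0, 12, 0, 0, []⟩)))))))))

def fact20 : Arr (CFact) :=
  (.node (.node (.node (.node (.node (.node (.node (.node (.leaf ⟨5, 2, 7, 0, []⟩) (.leaf ⟨834, 5, 1080, 12, [5033, 6050, 8226]⟩)) (.node (.leaf ⟨656, 1, 663, 11, [4093, 4102, 4134]⟩) (.leaf ⟨0, 12, 0, 0, []⟩))) (.node (.node (.leaf ⟨123, 2, 311, 0, []⟩) (.leaf ⟨0, 12, 0, 0, []⟩)) (.node (.leaf ⟨720, 12, 904, 106, [4436, 4438, 6170, 5396]⟩) (.leaf ⟨0, 12, 0, 0, []⟩)))) (.node (.node (.node (.leaf ⟨177, 2, 178, 0, []⟩) (.leaf ⟨703, 2, 960, 38, [6239, 6830]⟩)) (.node (.leaf ⟨857, 9, 858, 0, []⟩) (.leaf ⟨0, 12, 0, 0, []⟩))) (.node (.node (.leaf ⟨461, 0, 471, 42, [3037, 3070, 3073, 2729, 1403, 1396, 1397, 1396, 3110]⟩) (.leaf ⟨0, 12,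 0, 0, []⟩)) (.node (.leaf ⟨537, 1, 992, 11, [3493, 7194, 7206]⟩) (.leaf ⟨0, 12, 0, 0, []⟩))))) (.node (.node (.node (.node (.leaf ⟨86, 9, 91, 5, [511, 517, 548]⟩) (.leaf ⟨257, 1, 104, 36, [1723, 1552]⟩)) (.node (.leaf ⟨389, 9, 759, 4, [2607, 2534, 4646]⟩) (.leaf ⟨0, 12, 0, 0, []⟩))) (.node (.node (.leaf ⟨374, 9, 388, 5, [2572, 2571, 2596]⟩) (.leaf ⟨0, 12, 0, 0, []⟩)) (.node (.leaf ⟨941, 5, 946, 28, [6658, 5667, 3845, 6694]⟩) (.leaf ⟨0, 12, 0, 0, []⟩)))) (.node (.node (.node (.leaf ⟨250, 12, 74, 34, [1575]⟩) (.leaf ⟨0, 12, 0, 0, []⟩)) (.node (.leaf ⟨569, 12, 598, 36, [3675, 5671, 3818]⟩) (.leaf ⟨0, 12, 0, 0, []⟩))) (.node (.node (.leaf ⟨561, 8, 457, 19, [3623, 3165]⟩) (.leaf ⟨0, 12, 0, 0, []⟩)) (.node (.leaf ⟨1037, 5, 886, 55, [7717, 7633, 3680, 3679, 2061, 742, 1717, 1878, 3604, 6780, 6779,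 5304]⟩) (.leaf ⟨0, 12, 0, 0, []⟩)))))) (.node (.node (.node (.node (.node (.leaf ⟨28, 8, 44, 40, [174, 294]⟩) (.leaf ⟨1098, 3, 1104, 27, [8419, 7260, 8432, 8437, 7735, 8358, 8486, 8487, 8486]⟩)) (.node (.leaf ⟨365, 4, 713, 0, []⟩) (.leaf ⟨0, 12, 0, 0, []⟩))) (.node (.node (.leaf ⟨347, 8, 353, 0, []⟩) (.leaf ⟨0, 12, 0, 0, []⟩)) (.node (.leaf ⟨745, 5, 511, 28, [4557, 6238, 4345, 6434]⟩) (.leaf ⟨0, 12, 0, 0, []⟩)))) (.node (.node (.node (.leaf ⟨117, 1, 215, 8, [687, 910, 1318]⟩) (.leaf ⟨0, 12, 0, 0, []⟩)) (.node (.leaf ⟨754, 1, 907, 11, [4611, 3132, 5412]⟩) (.leaf ⟨0, 12, 0, 0, []⟩))) (.node (.node (.leaf ⟨515, 2, 516, 0, []⟩) (.leaf ⟨0, 12, 0, 0, []⟩)) (.node (.leaf ⟨686, 4, 1014, 0, []⟩) (.leaf ⟨0, 12, 0, 0, []⟩))))) (.node (.node (.node (.node (.leaf ⟨73, 4, 137, 0, []⟩) (.leaf ⟨486, 8, 389,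 76, [3536, 6080]⟩)) (.node (.leaf ⟨809, 0, 811, 0, []⟩) (.leaf ⟨0, 12, 0, 0, []⟩))) (.node (.node (.leaf ⟨294, 2, 430, 52, [1977, 1253, 1246, 1247, 1246, 2666, 2665, 1939, 2854]⟩) (.leaf ⟨0, 12, 0, 0, []⟩)) (.node (.leaf ⟨969, 0, 969, 92, [6949, 4297, 5252, 6896, 6893, 5363, 2705, 1075, 1705, 2202, 4294, 6948]⟩) (.leaf ⟨0, 12, 0, 0, []⟩)))) (.node (.node (.node (.leaf ⟨251, 3, 275, 7, [1516, 1755, 1830]⟩) (.leaf ⟨0, 12, 0, 0, []⟩)) (.node (.leaf ⟨354, 12, 878, 76, [2964, 5927, 5268]⟩) (.leaf ⟨0, 12, 0, 0, []⟩))) (.node (.node (.leaf ⟨528, 8, 610, 3, [3437, 2196, 3874]⟩) (.leaf ⟨0, 12, 0, 0, []⟩)) (.node (.leaf ⟨967, 9, 1060, 5, [7950, 7968, 7972]⟩) (.leaf ⟨0, 12, 0, 0, []⟩))))))) (.node (.node (.node (.node (.node (.node (.leaf ⟨17, 3, 27, 30, [105, 50, 166]⟩) (.leaf ⟨1041, 2, 1092, 68, [7749,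 7609, 7595, 3762, 7719, 7720, 5305, 6759, 6760, 8188, 8356]⟩)) (.node (.leaf ⟨601, 8, 688, 40, [3854, 4262]⟩) (.leaf ⟨0, 12, 0, 0, []⟩))) (.node (.node (.leaf ⟨187, 5, 332, 12, [1131, 1274, 2212]⟩) (.leaf ⟨0, 12, 0, 0, []⟩)) (.node (.leaf ⟨669, 5, 802, 102, [4182, 6183, 5233, 2669, 1981, 1834, 3496, 3688, 5995, 4992, 6294, 6310]⟩) (.leaf ⟨0, 12, 0, 0, []⟩)))) (.node (.node (.node (.leaf ⟨71, 0, 198, 0, []⟩) (.leaf ⟨838, 4, 549, 75, [5108, 6086]⟩)) (.node (.leaf ⟨876, 9, 881, 4, [5253, 2676, 5282]⟩) (.leaf ⟨0, 12, 0, 0, []⟩))) (.node (.node (.leaf ⟨461, 4, 492, 24, [3035, 3092, 3236]⟩) (.leaf ⟨0, 12, 0, 0, []⟩)) (.node (.leaf ⟨593, 4, 1004, 120, [3884, 5633, 4009, 4007, 4040, 5769, 4904, 6046, 6852, 6863, 3633, 6974, 7328]⟩) (.leaf ⟨0, 12, 0, 0, []⟩))))) (.node (.node (.node (.node (.leaf ⟨116,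 0, 116, 44, [679, 665, 406, 411, 411, 411, 407, 664, 678]⟩) (.leaf ⟨392, 2, 645, 38, [4784, 5880]⟩)) (.node (.leaf ⟨776, 9, 781, 4, [4753, 2524, 4774]⟩) (.leaf ⟨0, 12, 0, 0, []⟩))) (.node (.node (.leaf ⟨229, 0, 408, 0, []⟩) (.leaf ⟨0, 12, 0, 0, []⟩)) (.node (.leaf ⟨788, 9, 959, 4, [5964, 3175, 5743, 6814]⟩) (.leaf ⟨0, 12, 0, 0, []⟩)))) (.node (.node (.node (.leaf ⟨174, 0, 131, 80, [1674, 1540, 1673, 1269, 759, 395, 792, 976, 979, 1192, 1694, 978, 1679, 1037, 850, 857, 799, 790, 1063, 1061]⟩) (.leaf ⟨0, 12, 0, 0, []⟩)) (.node (.leaf ⟨817, 12, 482, 34, [5799, 5698]⟩) (.leaf ⟨0, 12, 0, 0, []⟩))) (.node (.node (.leaf ⟨444, 0, 585, 94, [2917, 1251, 672, 677, 653, 718, 1940, 2116, 3750]⟩) (.leaf ⟨0, 12, 0, 0, []⟩)) (.node (.leaf ⟨802, 3, 1050, 10, [4873, 6078, 3197, 3204, 3215, 2560, 2553, 973,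 966, 2520, 5827, 4228, 7846]⟩) (.leaf ⟨0, 12, 0, 0, []⟩)))))) (.node (.node (.node (.node (.node (.leaf ⟨72, 4, 28, 6, [423, 395, 323]⟩) (.leaf ⟨62, 0, 103, 77, [1088, 1608]⟩)) (.node (.leaf ⟨736, 2, 737, 0, []⟩) (.leaf ⟨0, 12, 0, 0, []⟩))) (.node (.node (.leaf ⟨286, 4, 368, 49, [1905, 1856, 1855, 2470]⟩) (.leaf ⟨0, 12, 0, 0, []⟩)) (.node (.leaf ⟨923, 0, 930, 0, []⟩) (.leaf ⟨0, 12, 0, 0, []⟩)))) (.node (.node (.node (.leaf ⟨89, 0, 235, 44, [527, 566, 1436, 1433, 1432, 1433, 497, 488, 1446]⟩) (.leaf ⟨0, 12, 0, 0, []⟩)) (.node (.leaf ⟨918, 12, 191, 34, [5543]⟩) (.leaf ⟨0, 12, 0, 0, []⟩))) (.node (.node (.leaf ⟨275, 0, 538, 21, [1865, 3490, 3494]⟩) (.leaf ⟨0, 12, 0, 0, []⟩)) (.node (.leaf ⟨569, 8, 1025, 0, []⟩) (.leaf ⟨0, 12, 0, 0, []⟩))))) (.node (.node (.node (.node (.leaf ⟨73, 5, 159, 12,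 [429, 792, 934]⟩) (.leaf ⟨608, 2, 606, 38, [5681, 5391]⟩)) (.node (.leaf ⟨773, 1, 834, 11, [4739, 4670, 5030]⟩) (.leaf ⟨0, 12, 0, 0, []⟩))) (.node (.node (.leaf ⟨453, 9, 452, 4, [2983, 2517, 2980]⟩) (.leaf ⟨0, 12, 0, 0, []⟩)) (.node (.leaf ⟨734, 3, 980, 27, [4505, 2317, 3252, 4428, 4427, 3246, 7078, 7079, 7078]⟩) (.leaf ⟨0, 12, 0, 0, []⟩)))) (.node (.node (.node (.leaf ⟨262, 1, 292, 8, [1745, 1147, 1956]⟩) (.leaf ⟨0, 12, 0, 0, []⟩)) (.node (.leaf ⟨801, 12, 232, 34, [6055]⟩) (.leaf ⟨0, 12, 0, 0, []⟩))) (.node (.node (.leaf ⟨640, 4, 621, 14, [4007, 2115, 2103, 3927]⟩) (.leaf ⟨0, 12, 0, 0, []⟩)) (.node (.leaf ⟨1016, 4, 1070, 0, []⟩) (.leaf ⟨0, 12, 0, 0, []⟩)))))))) (.node (.node (.node (.node (.node (.node (.node (.leaf ⟨5, 9, 17, 4, [29, 79, 100]⟩) (.leaf ⟨1084, 3, 1087, 30, [8271, 8290, 8292]⟩))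 (.node (.leaf ⟨324, 2, 677, 0, []⟩) (.leaf ⟨0, 12, 0, 0, []⟩))) (.node (.node (.leaf ⟨317, 9, 325, 4, [2115, 724, 2150]⟩) (.leaf ⟨0, 12, 0, 0, []⟩)) (.node (.leaf ⟨695, 5, 481, 32, [4311, 4330, 6242, 3017, 5961, 4531, 4526, 6031, 5283, 5270, 5930, 2357, 1329, 433, 918, 1854, 1853, 1860, 1862, 1253, 1260, 2162, 3160]⟩) (.leaf ⟨0, 12, 0, 0, []⟩)))) (.node (.node (.node (.leaf ⟨77, 2, 187, 0, []⟩) (.leaf ⟨753, 0, 386, 77, [6035, 5011]⟩)) (.node (.leaf ⟨394, 3, 869, 30, [2629, 5002, 5220]⟩) (.leaf ⟨0, 12, 0, 0, []⟩))) (.node (.node (.leaf ⟨276, 4, 484, 0, []⟩) (.leaf ⟨0, 12, 0, 0, []⟩)) (.node (.leaf ⟨995, 9, 999, 4, [7235, 3250, 7266]⟩) (.leaf ⟨0, 12, 0, 0, []⟩))))) (.node (.node (.node (.node (.leaf ⟨78, 4, 103, 0, []⟩) (.leaf ⟨349, 8, 450, 76, [3054, 5942]⟩)) (.node (.leaf ⟨654, 2, 770, 60,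 [4083, 2151, 727, 699, 2020, 2025, 773, 778, 902, 2452, 4708]⟩) (.leaf ⟨0, 12, 0, 0, []⟩))) (.node (.node (.leaf ⟨289, 0, 398, 0, []⟩) (.leaf ⟨0, 12, 0, 0, []⟩)) (.node (.leaf ⟨953, 3, 955, 27, [6758, 5300, 6748, 6756, 6721, 6718, 6713, 6752, 6753, 6752]⟩) (.leaf ⟨0, 12, 0, 0, []⟩)))) (.node (.node (.node (.leaf ⟨83, 12, 45, 34, [1639]⟩) (.leaf ⟨0, 12, 0, 0, []⟩)) (.node (.leaf ⟨791, 12, 905, 36, [4825, 5735, 5402]⟩) (.leaf ⟨0, 12, 0, 0, []⟩))) (.node (.node (.leaf ⟨538, 2, 572, 26, [3497, 3496, 3497, 1833, 3234, 3492, 3491, 2563, 3686]⟩) (.leaf ⟨0, 12, 0, 0, []⟩)) (.node (.leaf ⟨592, 8, 1044, 54, [3966, 6364, 7782]⟩) (.leaf ⟨0, 12, 0, 0, []⟩)))))) (.node (.node (.node (.node (.node (.leaf ⟨30, 1, 59, 8, [181, 164, 358]⟩) (.leaf ⟨1087, 9, 1109, 46, [8528, 8527, 8327, 8540]⟩)) (.node (.leaf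 ⟨720, 9, 726, 5, [4435, 4390, 4454]⟩) (.leaf ⟨0, 12, 0, 0, []⟩))) (.node (.node (.leaf ⟨232, 9, 360, 4, [1425, 1017, 2402]⟩) (.leaf ⟨0, 12, 0, 0, []⟩)) (.node (.leaf ⟨635, 9, 922, 4, [6494, 3954, 6500]⟩) (.leaf ⟨0, 12, 0, 0, []⟩)))) (.node (.node (.node (.leaf ⟨175, 3, 225, 7, [1048, 1055, 1382]⟩) (.leaf ⟨0, 12, 0, 0, []⟩)) (.node (.leaf ⟨624, 5, 918, 56, [3940, 3913, 3661, 2061, 698, 714, 2078, 3868, 5478]⟩) (.leaf ⟨0, 12, 0, 0, []⟩))) (.node (.node (.leaf ⟨277, 8, 527, 3, [1847, 1838, 3428]⟩) (.leaf ⟨0, 12, 0, 0, []⟩)) (.node (.leaf ⟨589, 3, 1019, 103, [3769, 2129, 5679, 2131, 3799, 5513, 7522, 7525, 3857, 3868, 5540, 2711, 3856, 7524]⟩) (.leaf ⟨0, 12, 0, 0, []⟩))))) (.node (.node (.node (.node (.leaf ⟨146, 5, 102, 56, [871, 615, 301, 293, 169, 162, 292, 300, 614]⟩) (.leaf ⟨541, 2, 721,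 38, [6091, 4699]⟩)) (.node (.leaf ⟨822, 4, 804, 14, [4963, 2591, 2579, 4881]⟩) (.leaf ⟨0, 12, 0, 0, []⟩))) (.node (.node (.leaf ⟨437, 8, 444, 40, [2884, 2918]⟩) (.leaf ⟨0, 12, 0, 0, []⟩)) (.node (.leaf ⟨528, 4, 975, 84, [3596, 3595, 1873, 3440, 6382, 5338, 7013, 7001, 7014]⟩) (.leaf ⟨0, 12, 0, 0, []⟩)))) (.node (.node (.node (.leaf ⟨266, 2, 284, 26, [1777, 1776, 1777, 598, 1810, 1812, 1773, 1817, 1894]⟩) (.leaf ⟨0, 12, 0, 0, []⟩)) (.node (.leaf ⟨572, 12, 814, 38, [4632, 5991, 4987]⟩) (.leaf ⟨0, 12, 0, 0, []⟩))) (.node (.node (.leaf ⟨625, 9, 613, 5, [3943, 3671, 3896]⟩) (.leaf ⟨0, 12, 0, 0, []⟩)) (.node (.leaf ⟨646, 0, 1065, 0, []⟩) (.leaf ⟨0, 12, 0, 0, []⟩))))))) (.node (.node (.node (.node (.node (.node (.leaf ⟨6, 12, 11, 38, [39, 231, 68]⟩) (.leaf ⟨1098, 4, 1094, 90, [8422, 8420, 8419, 7260,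 7440, 7454, 7459, 6735, 8402, 8404, 8407]⟩)) (.node (.leaf ⟨700, 9, 699, 4, [4327, 3313, 4324]⟩) (.leaf ⟨0, 12, 0, 0, []⟩))) (.node (.node (.leaf ⟨214, 0, 342, 0, []⟩) (.leaf ⟨0, 12, 0, 0, []⟩)) (.node (.leaf ⟨530, 5, 556, 32, [3447, 3456, 6374, 6253, 6250, 3021, 3004, 5954, 2680, 2679, 1021, 1005, 1310, 1749, 2272, 2277, 1403, 1408, 2830, 3588]⟩) (.leaf ⟨0, 12, 0, 0, []⟩)))) (.node (.node (.node (.leaf ⟨206, 4, 113, 6, [1253, 1233, 679]⟩) (.leaf ⟨943, 8, 886, 76, [6665, 6730]⟩)) (.node (.leaf ⟨509, 3, 896, 7, [3327, 3314, 5350]⟩) (.leaf ⟨0, 12, 0, 0, []⟩))) (.node (.node (.leaf ⟨505, 9, 504, 4, [3303, 2747, 3300]⟩) (.leaf ⟨0, 12, 0, 0, []⟩)) (.node (.leaf ⟨1001, 8, 1008, 62, [7300, 5265, 5251, 7380, 7388]⟩) (.leaf ⟨0, 12, 0, 0, []⟩))))) (.node (.node (.node (.node (.leaf ⟨50, 3, 127, 7, [315,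 699, 742]⟩) (.leaf ⟨436, 4, 582, 75, [5757, 3734]⟩)) (.node (.leaf ⟨781, 2, 794, 0, []⟩) (.leaf ⟨0, 12, 0, 0, []⟩))) (.node (.node (.leaf ⟨411, 8, 420, 40, [2756, 2790]⟩) (.leaf ⟨0, 12, 0, 0, []⟩)) (.node (.leaf ⟨443, 8, 964, 40, [5969, 6886]⟩) (.leaf ⟨0, 12, 0, 0, []⟩)))) (.node (.node (.node (.leaf ⟨223, 1, 264, 8, [1371, 1141, 1766]⟩) (.leaf ⟨0, 12, 0, 0, []⟩)) (.node (.leaf ⟨682, 12, 327, 34, [5863]⟩) (.leaf ⟨0, 12, 0, 0, []⟩))) (.node (.node (.leaf ⟨570, 4, 598, 0, []⟩) (.leaf ⟨0, 12, 0, 0, []⟩)) (.node (.leaf ⟨981, 3, 1055, 10, [7093, 4727, 2502, 2499, 2488, 2662, 2655, 2265, 2946, 4450, 7910]⟩) (.leaf ⟨0, 12, 0, 0, []⟩)))))) (.node (.node (.node (.node (.node (.leaf ⟨42, 0, 82, 0, []⟩) (.leaf ⟨104, 8, 256, 76, [1553, 1544]⟩)) (.node (.leaf ⟨733, 8, 750, 3, [4497, 3064, 4578]⟩) (.leaf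 ⟨0, 12, 0, 0, []⟩))) (.node (.node (.leaf ⟨160, 0, 376, 21, [1267, 2530, 2534]⟩) (.leaf ⟨0, 12, 0, 0, []⟩)) (.node (.leaf ⟨912, 9, 937, 5, [5447, 2818, 6624]⟩) (.leaf ⟨0, 12, 0, 0, []⟩)))) (.node (.node (.node (.leaf ⟨90, 1, 250, 11, [547, 1508, 1510]⟩) (.leaf ⟨0, 12, 0, 0, []⟩)) (.node (.leaf ⟨613, 12, 303, 34, [5607]⟩) (.leaf ⟨0, 12, 0, 0, []⟩))) (.node (.node (.leaf ⟨278, 4, 553, 43, [3550, 3556, 3558]⟩) (.leaf ⟨0, 12, 0, 0, []⟩)) (.node (.leaf ⟨1026, 0, 1031, 44, [7601, 6451, 3758, 7594, 7595, 7594, 7608, 7611, 7654]⟩) (.leaf ⟨0, 12, 0, 0, []⟩))))) (.node (.node (.node (.node (.leaf ⟨60, 1, 170, 0, []⟩) (.leaf ⟨649, 0, 434, 77, [5809, 4902]⟩)) (.node (.leaf ⟨806, 2, 844, 29, [4889, 4659, 2429, 1918, 2598, 2605, 2614, 2611, 5094]⟩) (.leaf ⟨0, 12, 0, 0, []⟩))) (.node (.node (.leaf ⟨330,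 2, 462, 63, [2193, 2724, 3046]⟩) (.leaf ⟨0, 12, 0, 0, []⟩)) (.node (.leaf ⟨981, 8, 985, 40, [7097, 7142]⟩) (.leaf ⟨0, 12, 0, 0, []⟩)))) (.node (.node (.node (.leaf ⟨132, 5, 300, 12, [775, 1067, 2022]⟩) (.leaf ⟨0, 12, 0, 0, []⟩)) (.node (.leaf ⟨550, 12, 841, 38, [3552, 6119, 5111]⟩) (.leaf ⟨0, 12, 0, 0, []⟩))) (.node (.node (.leaf ⟨325, 2, 653, 0, []⟩) (.leaf ⟨0, 12, 0, 0, []⟩)) (.node (.leaf ⟨987, 5, 1075, 85, [7161, 4744, 4748, 6451, 5675, 3817, 3760, 4056, 7196, 7492, 7495, 8164]⟩) (.leaf ⟨0, 12, 0, 0, []⟩)))))))))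

def fact21 : Arr (CFact) :=
  (.node (.node (.node (.node (.node (.node (.node (.node (.leaf ⟨3, 1, 7, 11, [19, 30, 40]⟩) (.leaf ⟨1038, 4, 1080, 43, [7856, 7851, 8226]⟩)) (.node (.leaf ⟨596, 3, 663, 7, [3809, 4098, 4136]⟩) (.leaf ⟨0, 12, 0, 0, []⟩))) (.node (.node (.leaf ⟨304, 0, 311, 42, [2051, 1940, 2037, 2035, 729, 722, 723, 722, 2088]⟩) (.leaf ⟨0, 12, 0, 0, []⟩)) (.node (.leaf ⟨904, 12, 720, 34, [6185]⟩) (.leaf ⟨0, 12, 0, 0, []⟩)))) (.node (.node (.node (.leaf ⟨178, 4, 62, 6, [1065, 1061, 765]⟩) (.leaf ⟨703, 4, 349, 75, [6239, 4522]⟩)) (.node (.leaf ⟨392, 0, 858, 21, [5141, 5158, 5160]⟩) (.leaf ⟨0, 12, 0, 0, []⟩))) (.node (.node (.leaf ⟨372, 1, 471, 11, [2513, 2738, 3110]⟩) (.leaf ⟨0, 12, 0, 0, []⟩)) (.node (.leaf ⟨493, 1, 993, 0, []⟩) (.leaf ⟨0, 12, 0, 0, []⟩))))) (.node (.node (.node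 (.node (.leaf ⟨85, 8, 91, 40, [517, 552]⟩) (.leaf ⟨260, 1, 453, 36, [3326, 6222]⟩)) (.node (.leaf ⟨381, 8, 759, 40, [2608, 4648]⟩) (.leaf ⟨0, 12, 0, 0, []⟩))) (.node (.node (.leaf ⟨373, 8, 388, 40, [2524, 2600]⟩) (.leaf ⟨0, 12, 0, 0, []⟩)) (.node (.leaf ⟨944, 0, 947, 0, []⟩) (.leaf ⟨0, 12, 0, 0, []⟩)))) (.node (.node (.node (.leaf ⟨53, 12, 90, 36, [434, 1577, 1513]⟩) (.leaf ⟨0, 12, 0, 0, []⟩)) (.node (.leaf ⟨598, 12, 569, 34, [5673]⟩) (.leaf ⟨0, 12, 0, 0, []⟩))) (.node (.node (.leaf ⟨524, 4, 562, 0, []⟩) (.leaf ⟨0, 12, 0, 0, []⟩)) (.node (.leaf ⟨1037, 9, 998, 5, [7717, 7637, 7260]⟩) (.leaf ⟨0, 12, 0, 0, []⟩)))))) (.node (.node (.node (.node (.node (.leaf ⟨26, 3, 44, 30, [153, 178, 294]⟩) (.leaf ⟨1040, 2, 1104, 26, [7739, 7738, 7739, 7628, 8410, 8415, 7735, 8358, 8486]⟩)) (.node (.leaf ⟨647,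 5, 713, 59, [4041, 2115, 723, 728, 2159, 2632, 2641, 2253, 2288, 2446, 4392]⟩) (.leaf ⟨0, 12, 0, 0, []⟩))) (.node (.node (.leaf ⟨297, 2, 353, 18, [1999, 2308, 2344]⟩) (.leaf ⟨0, 12, 0, 0, []⟩)) (.node (.leaf ⟨560, 2, 511, 63, [6423, 6421, 6440]⟩) (.leaf ⟨0, 12, 0, 0, []⟩)))) (.node (.node (.node (.leaf ⟨74, 9, 215, 4, [433, 912, 1318]⟩) (.leaf ⟨0, 12, 0, 0, []⟩)) (.node (.leaf ⟨905, 9, 907, 5, [5399, 3138, 5412]⟩) (.leaf ⟨0, 12, 0, 0, []⟩))) (.node (.node (.leaf ⟨516, 4, 265, 6, [3369, 3365, 3353]⟩) (.leaf ⟨0, 12, 0, 0, []⟩)) (.node (.leaf ⟨843, 0, 1014, 100, [7230, 7237, 4690, 6291, 4973, 6005, 3697, 3581, 3187, 4248, 7464]⟩) (.leaf ⟨0, 12, 0, 0, []⟩))))) (.node (.node (.node (.node (.leaf ⟨67, 1, 137, 8, [395, 428, 808]⟩) (.leaf ⟨490, 1, 778, 36, [5987, 4955]⟩)) (.node (.leaf ⟨434, 9, 811,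 39, [4903, 4899, 4904]⟩) (.leaf ⟨0, 12, 0, 0, []⟩))) (.node (.node (.leaf ⟨378, 3, 430, 53, [2549, 947, 1980, 2668, 2665, 2664, 2665, 1939, 2854]⟩) (.leaf ⟨0, 12, 0, 0, []⟩)) (.node (.leaf ⟨563, 2, 970, 0, []⟩) (.leaf ⟨0, 12, 0, 0, []⟩)))) (.node (.node (.node (.leaf ⟨115, 5, 275, 12, [675, 1758, 1830]⟩) (.leaf ⟨0, 12, 0, 0, []⟩)) (.node (.leaf ⟨878, 12, 354, 34, [5929]⟩) (.leaf ⟨0, 12, 0, 0, []⟩))) (.node (.node (.leaf ⟨529, 9, 610, 39, [3441, 2194, 3874]⟩) (.leaf ⟨0, 12, 0, 0, []⟩)) (.node (.leaf ⟨924, 8, 1060, 40, [6922, 7976]⟩) (.leaf ⟨0, 12, 0, 0, []⟩))))))) (.node (.node (.node (.node (.node (.node (.leaf ⟨21, 0, 28, 0, []⟩) (.leaf ⟨998, 9, 1092, 4, [7259, 8196, 8356]⟩)) (.node (.leaf ⟨329, 5, 688, 28, [2191, 3856, 4262]⟩) (.leaf ⟨0, 12, 0, 0, []⟩))) (.node (.node (.leaf ⟨179, 4, 333,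 0, []⟩) (.leaf ⟨0, 12, 0, 0, []⟩)) (.node (.leaf ⟨578, 0, 675, 94, [3715, 1977, 1254, 2552, 3686, 5995, 4992, 6294, 6310, 6313, 4190]⟩) (.leaf ⟨0, 12, 0, 0, []⟩)))) (.node (.node (.node (.leaf ⟨196, 8, 198, 3, [1187, 420, 1192]⟩) (.leaf ⟨843, 8, 671, 76, [5089, 5856]⟩)) (.node (.leaf ⟨877, 8, 881, 40, [5265, 5288]⟩) (.leaf ⟨0, 12, 0, 0, []⟩))) (.node (.node (.leaf ⟨356, 1, 492, 8, [2365, 3030, 3240]⟩) (.leaf ⟨0, 12, 0, 0, []⟩)) (.node (.leaf ⟨990, 9, 1004, 46, [7179, 6993, 6968, 7328]⟩) (.leaf ⟨0, 12, 0, 0, []⟩))))) (.node (.node (.node (.node (.leaf ⟨110, 3, 116, 53, [654, 658, 652, 309, 664, 665, 664, 678, 680]⟩) (.leaf ⟨392, 4, 646, 75, [4790, 5892]⟩)) (.node (.leaf ⟨777, 8, 781, 40, [4756, 4776]⟩) (.leaf ⟨0, 12, 0, 0, []⟩))) (.node (.node (.leaf ⟨408, 9, 409, 0, []⟩) (.leaf ⟨0, 12, 0,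 0, []⟩)) (.node (.leaf ⟨437, 4, 960, 0, []⟩) (.leaf ⟨0, 12, 0, 0, []⟩)))) (.node (.node (.node (.leaf ⟨247, 12, 177, 81, [1497, 508, 518, 754, 1567, 1038, 1674, 1539, 524, 1664, 455, 440, 1354, 1686, 757, 746, 1559, 994, 1037, 850, 857, 799, 790, 1063]⟩) (.leaf ⟨0, 12, 0, 0, []⟩)) (.node (.leaf ⟨318, 12, 816, 76, [2154, 5797, 4934]⟩) (.leaf ⟨0, 12, 0, 0, []⟩))) (.node (.node (.leaf ⟨302, 5, 585, 57, [2035, 730, 681, 1232, 1252, 1976, 3702, 3701, 3750]⟩) (.leaf ⟨0, 12, 0, 0, []⟩)) (.node (.leaf ⟨719, 5, 1050, 59, [4429, 6798, 6789, 3706, 5742, 3137, 3088, 6229, 7070, 7069, 6425, 6314, 7846]⟩) (.leaf ⟨0, 12, 0, 0, []⟩)))))) (.node (.node (.node (.node (.node (.leaf ⟨56, 2, 73, 0, []⟩) (.leaf ⟨66, 0, 66, 77, [1190, 1702]⟩)) (.node (.leaf ⟨737, 4, 349, 6, [4521, 4519, 4509]⟩) (.leaf ⟨0, 12, 0,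 0, []⟩))) (.node (.node (.leaf ⟨230, 3, 368, 88, [1409, 1371, 1139, 1104, 1726, 2258, 2265, 1985, 2382, 2393, 2470]⟩) (.leaf ⟨0, 12, 0, 0, []⟩)) (.node (.leaf ⟨930, 9, 931, 0, []⟩) (.leaf ⟨0, 12, 0, 0, []⟩)))) (.node (.node (.node (.leaf ⟨234, 9, 235, 5, [1445, 543, 1446]⟩) (.leaf ⟨0, 12, 0, 0, []⟩)) (.node (.leaf ⟨304, 12, 624, 35, [2049, 5545, 5481]⟩) (.leaf ⟨0, 12, 0, 0, []⟩))) (.node (.node (.leaf ⟨277, 2, 539, 0, []⟩) (.leaf ⟨0, 12, 0, 0, []⟩)) (.node (.leaf ⟨586, 0, 1025, 69, [6452, 6451, 7592]⟩) (.leaf ⟨0, 12, 0, 0, []⟩))))) (.node (.node (.node (.node (.leaf ⟨159, 2, 160, 0, []⟩) (.leaf ⟨608, 4, 470, 75, [5681, 5394, 6258]⟩)) (.node (.leaf ⟨774, 5, 834, 12, [4743, 4741, 5032]⟩) (.leaf ⟨0, 12, 0, 0, []⟩))) (.node (.node (.leaf ⟨354, 2, 454, 0, []⟩) (.leaf ⟨0, 12, 0, 0, []⟩)) (.node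 (.leaf ⟨693, 2, 980, 26, [4301, 4300, 4301, 2342, 4496, 4500, 4427, 3246, 7078]⟩) (.leaf ⟨0, 12, 0, 0, []⟩)))) (.node (.node (.node (.leaf ⟨121, 9, 292, 4, [715, 720, 1956]⟩) (.leaf ⟨0, 12, 0, 0, []⟩)) (.node (.leaf ⟨360, 12, 844, 76, [2409, 6057, 5092]⟩) (.leaf ⟨0, 12, 0, 0, []⟩))) (.node (.node (.leaf ⟨640, 1, 641, 0, []⟩) (.leaf ⟨0, 12, 0, 0, []⟩)) (.node (.leaf ⟨709, 5, 1070, 59, [4464, 6477, 6748, 6756, 6722, 2813, 2808, 6684, 6734, 7458, 7494, 8104]⟩) (.leaf ⟨0, 12, 0, 0, []⟩)))))))) (.node (.node (.node (.node (.node (.node (.node (.leaf ⟨16, 0, 18, 0, []⟩) (.leaf ⟨1064, 4, 1088, 0, []⟩)) (.node (.leaf ⟨653, 1, 677, 11, [4073, 2149, 4200]⟩) (.leaf ⟨0, 12, 0, 0, []⟩))) (.node (.node (.leaf ⟨318, 8, 325, 40, [2118, 2152]⟩) (.leaf ⟨0, 12, 0, 0, []⟩)) (.node (.leaf ⟨503, 2, 460, 13, [3298,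 4330, 6242, 3018]⟩) (.leaf ⟨0, 12, 0, 0, []⟩)))) (.node (.node (.node (.leaf ⟨93, 1, 187, 11, [571, 453, 1128]⟩) (.leaf ⟨753, 1, 400, 36, [4607, 5932]⟩)) (.node (.leaf ⟨583, 2, 870, 0, []⟩) (.leaf ⟨0, 12, 0, 0, []⟩))) (.node (.node (.leaf ⟨427, 1, 484, 8, [2831, 1842, 3176]⟩) (.leaf ⟨0, 12, 0, 0, []⟩)) (.node (.leaf ⟨996, 8, 999, 40, [7249, 7272]⟩) (.leaf ⟨0, 12, 0, 0, []⟩))))) (.node (.node (.node (.node (.leaf ⟨103, 9, 100, 4, [617, 459, 608]⟩) (.leaf ⟨350, 4, 372, 75, [4572, 5918]⟩)) (.node (.leaf ⟨713, 9, 770, 4, [4393, 2450, 4708]⟩) (.leaf ⟨0, 12, 0, 0, []⟩))) (.node (.node (.leaf ⟨204, 2, 398, 29, [1247, 1260, 2530, 2596, 2599, 2164, 2167, 1938, 2664]⟩) (.leaf ⟨0, 12, 0, 0, []⟩)) (.node (.leaf ⟨930, 1, 750, 118, [6569, 6744, 6758, 6282, 4384, 6278, 2683, 2413, 2936, 2945, 2476, 2481,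 3058, 4578]⟩) (.leaf ⟨0, 12, 0, 0, []⟩)))) (.node (.node (.node (.leaf ⟨102, 12, 38, 77, [615, 1641, 493]⟩) (.leaf ⟨0, 12, 0, 0, []⟩)) (.node (.leaf ⟨905, 12, 791, 34, [5737]⟩) (.leaf ⟨0, 12, 0, 0, []⟩))) (.node (.node (.leaf ⟨572, 9, 573, 0, []⟩) (.leaf ⟨0, 12, 0, 0, []⟩)) (.node (.leaf ⟨632, 2, 1045, 0, []⟩) (.leaf ⟨0, 12, 0, 0, []⟩)))))) (.node (.node (.node (.node (.node (.leaf ⟨22, 9, 59, 4, [127, 166, 358]⟩) (.leaf ⟨1086, 8, 1109, 3, [8289, 8286, 8540]⟩)) (.node (.leaf ⟨343, 5, 726, 28, [2283, 4437, 4456]⟩) (.leaf ⟨0, 12, 0, 0, []⟩))) (.node (.node (.leaf ⟨279, 8, 360, 40, [1859, 2408]⟩) (.leaf ⟨0, 12, 0, 0, []⟩)) (.node (.leaf ⟨922, 4, 923, 0, []⟩) (.leaf ⟨0, 12, 0, 0, []⟩)))) (.node (.node (.node (.leaf ⟨77, 4, 225, 43, [452, 616, 1382]⟩) (.leaf ⟨0, 12, 0, 0, []⟩)) (.node (.leaf ⟨918,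 9, 919, 0, []⟩) (.leaf ⟨0, 12, 0, 0, []⟩))) (.node (.node (.leaf ⟨278, 9, 527, 39, [1851, 1844, 3428]⟩) (.leaf ⟨0, 12, 0, 0, []⟩)) (.node (.leaf ⟨805, 5, 1019, 85, [6301, 3347, 4448, 7236, 7235, 4580, 6049, 5217, 5058, 5502, 7522]⟩) (.leaf ⟨0, 12, 0, 0, []⟩))))) (.node (.node (.node (.node (.leaf ⟨55, 8, 147, 0, []⟩) (.leaf ⟨542, 0, 704, 77, [6101, 5696]⟩)) (.node (.leaf ⟨822, 1, 823, 0, []⟩) (.leaf ⟨0, 12, 0, 0, []⟩))) (.node (.node (.leaf ⟨396, 4, 445, 0, []⟩) (.leaf ⟨0, 12, 0, 0, []⟩)) (.node (.leaf ⟨887, 0, 975, 93, [6996, 6999, 3493, 3235, 1832, 3496, 7004, 7001, 7014]⟩) (.leaf ⟨0, 12, 0, 0, []⟩)))) (.node (.node (.node (.leaf ⟨284, 9, 285, 0, []⟩) (.leaf ⟨0, 12, 0, 0, []⟩)) (.node (.leaf ⟨814, 12, 572, 34, [5993]⟩) (.leaf ⟨0, 12, 0, 0, []⟩))) (.node (.node (.leaf ⟨314, 8, 626, 0, []⟩)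 (.leaf ⟨0, 12, 0, 0, []⟩)) (.node (.leaf ⟨933, 3, 1065, 27, [7567, 7562, 7549, 4413, 4411, 6123, 5077, 5892, 8040, 8041, 8040]⟩) (.leaf ⟨0, 12, 0, 0, []⟩))))))) (.node (.node (.node (.node (.node (.node (.leaf ⟨11, 12, 6, 34, [233]⟩) (.leaf ⟨1037, 0, 1099, 0, []⟩)) (.node (.leaf ⟨504, 2, 701, 0, []⟩) (.leaf ⟨0, 12, 0, 0, []⟩))) (.node (.node (.leaf ⟨342, 9, 343, 0, []⟩) (.leaf ⟨0, 12, 0, 0, []⟩)) (.node (.leaf ⟨443, 4, 610, 126, [2913, 4812, 5979, 6238, 4345, 4702, 6090, 3512, 6097, 2577, 4864, 5856, 4173, 2143, 2146, 5785, 2574, 6153, 3201, 1427, 1900, 1903, 3450, 6376, 3876]⟩) (.leaf ⟨0, 12, 0, 0, []⟩)))) (.node (.node (.node (.leaf ⟨206, 9, 115, 5, [1253, 1234, 672]⟩) (.leaf ⟨948, 2, 886, 38, [6704, 6730]⟩)) (.node (.leaf ⟨510, 4, 897, 0, []⟩) (.leaf ⟨0, 12, 0, 0, []⟩))) (.node (.node (.leaf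 ⟨404, 2, 506, 0, []⟩) (.leaf ⟨0, 12, 0, 0, []⟩)) (.node (.leaf ⟨1008, 8, 969, 19, [7401, 7299]⟩) (.leaf ⟨0, 12, 0, 0, []⟩))))) (.node (.node (.node (.node (.leaf ⟨51, 0, 128, 0, []⟩) (.leaf ⟨441, 0, 963, 77, [5907, 6868]⟩)) (.node (.leaf ⟨785, 9, 794, 5, [4795, 4776, 4840]⟩) (.leaf ⟨0, 12, 0, 0, []⟩))) (.node (.node (.leaf ⟨193, 3, 420, 30, [1167, 2760, 2790]⟩) (.leaf ⟨0, 12, 0, 0, []⟩)) (.node (.leaf ⟨529, 5, 964, 28, [3439, 6371, 3711, 6886]⟩) (.leaf ⟨0, 12, 0, 0, []⟩)))) (.node (.node (.node (.leaf ⟨96, 9, 264, 4, [591, 656, 1766]⟩) (.leaf ⟨0, 12, 0, 0, []⟩)) (.node (.leaf ⟨666, 12, 782, 74, [4147, 5833, 4797]⟩) (.leaf ⟨0, 12, 0, 0, []⟩))) (.node (.node (.leaf ⟨567, 1, 598, 8, [3661, 3678, 3816]⟩) (.leaf ⟨0, 12, 0, 0, []⟩)) (.node (.leaf ⟨982, 5, 1055, 59, [7906, 7911, 7246, 7241, 4089,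 3805, 5581, 3807, 4172, 7244, 7247, 7910]⟩) (.leaf ⟨0, 12, 0, 0, []⟩)))))) (.node (.node (.node (.node (.node (.leaf ⟨82, 9, 83, 0, []⟩) (.leaf ⟨106, 1, 92, 36, [629, 1554]⟩)) (.node (.leaf ⟨734, 9, 750, 39, [4505, 3062, 4578]⟩) (.leaf ⟨0, 12, 0, 0, []⟩))) (.node (.node (.leaf ⟨373, 3, 376, 27, [2521, 1262, 2530, 2533, 965, 941, 2536, 2537, 2536]⟩) (.leaf ⟨0, 12, 0, 0, []⟩)) (.node (.leaf ⟨910, 8, 937, 40, [5452, 6632]⟩) (.leaf ⟨0, 12, 0, 0, []⟩)))) (.node (.node (.node (.leaf ⟨249, 4, 251, 0, []⟩) (.leaf ⟨0, 12, 0, 0, []⟩)) (.node (.leaf ⟨591, 12, 622, 36, [3781, 5609, 3930]⟩) (.leaf ⟨0, 12, 0, 0, []⟩))) (.node (.node (.leaf ⟨545, 9, 553, 4, [3525, 1848, 3560]⟩) (.leaf ⟨0, 12, 0, 0, []⟩)) (.node (.leaf ⟨775, 9, 1031, 5, [7650, 7639, 7654]⟩) (.leaf ⟨0, 12, 0, 0, []⟩))))) (.node (.node (.node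 (.node (.leaf ⟨150, 2, 170, 13, [889, 377, 1000]⟩) (.leaf ⟨649, 4, 686, 75, [5809, 4976, 6006]⟩)) (.node (.leaf ⟨840, 4, 845, 0, []⟩) (.leaf ⟨0, 12, 0, 0, []⟩))) (.node (.node (.leaf ⟨298, 0, 463, 0, []⟩) (.leaf ⟨0, 12, 0, 0, []⟩)) (.node (.leaf ⟨985, 2, 986, 0, []⟩) (.leaf ⟨0, 12, 0, 0, []⟩)))) (.node (.node (.node (.leaf ⟨300, 2, 301, 0, []⟩) (.leaf ⟨0, 12, 0, 0, []⟩)) (.node (.leaf ⟨841, 12, 550, 34, [6121]⟩) (.leaf ⟨0, 12, 0, 0, []⟩))) (.node (.node (.leaf ⟨436, 0, 653, 94, [2881, 1247, 1252, 1256, 665, 312, 726, 2150, 4072]⟩) (.leaf ⟨0, 12, 0, 0, []⟩)) (.node (.leaf ⟨1010, 1, 1075, 11, [7421, 7456, 8164]⟩) (.leaf ⟨0, 12, 0, 0, []⟩)))))))))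

def fact22 : Arr (CFact) :=
  (.node (.node (.node (.node (.node (.node (.node (.node (.leaf ⟨4, 5, 7, 12, [25, 23, 42]⟩) (.leaf ⟨946, 0, 1080, 92, [6693, 6520, 7962, 8038, 8037, 5206, 6350, 5195, 5994, 3687, 2656, 4426, 8226]⟩)) (.node (.leaf ⟨624, 9, 664, 0, []⟩) (.leaf ⟨0, 12, 0, 0, []⟩))) (.node (.node (.leaf ⟨306, 9, 311, 5, [2065, 1943, 2088]⟩) (.leaf ⟨0, 12, 0, 0, []⟩)) (.node (.leaf ⟨473, 12, 404, 117, [3127, 3123, 5915, 4569, 4563, 5390, 5394, 6186, 4436, 2454, 4708, 4713, 5691, 5346]⟩) (.leaf ⟨0, 12, 0, 0, []⟩)))) (.node (.node (.node (.leaf ⟨178, 8, 177, 48, [1066, 796, 1063]⟩) (.leaf ⟨703, 8, 968, 76, [6239, 6938]⟩)) (.node (.leaf ⟨858, 2, 851, 2, [5163, 5141, 5139, 5130]⟩) (.leaf ⟨0, 12, 0, 0, []⟩))) (.node (.node (.leaf ⟨467, 9, 471, 5, [3089, 3075, 3110]⟩) (.leaf ⟨0, 12, 0,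 0, []⟩)) (.node (.leaf ⟨930, 3, 993, 7, [6762, 4581, 7210]⟩) (.leaf ⟨0, 12, 0, 0, []⟩))))) (.node (.node (.node (.node (.leaf ⟨85, 3, 91, 30, [554, 549, 552]⟩) (.leaf ⟨263, 2, 143, 38, [1754, 1548]⟩)) (.node (.leaf ⟨759, 2, 760, 0, []⟩) (.leaf ⟨0, 12, 0, 0, []⟩))) (.node (.node (.leaf ⟨164, 3, 388, 30, [963, 2528, 2600]⟩) (.leaf ⟨0, 12, 0, 0, []⟩)) (.node (.leaf ⟨947, 9, 948, 0, []⟩) (.leaf ⟨0, 12, 0, 0, []⟩)))) (.node (.node (.node (.leaf ⟨90, 12, 53, 34, [1579]⟩) (.leaf ⟨0, 12, 0, 0, []⟩)) (.node (.leaf ⟨124, 12, 320, 74, [1944, 5671, 3663]⟩) (.leaf ⟨0, 12, 0, 0, []⟩))) (.node (.node (.leaf ⟨521, 1, 562, 8, [3395, 3414, 3626]⟩) (.leaf ⟨0, 12, 0, 0, []⟩)) (.node (.leaf ⟨1036, 8, 1038, 0, []⟩) (.leaf ⟨0, 12, 0, 0, []⟩)))))) (.node (.node (.node (.node (.node (.leaf ⟨44, 4, 45, 0, []⟩) (.leaf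 ⟨1040, 5, 1104, 112, [7739, 7628, 8410, 8415, 8440, 8437, 7735, 8358, 8486]⟩)) (.node (.leaf ⟨640, 2, 713, 60, [4007, 2115, 723, 1183, 2066, 2068, 1739, 1744, 2291, 2446, 4392]⟩) (.leaf ⟨0, 12, 0, 0, []⟩))) (.node (.node (.leaf ⟨273, 1, 353, 11, [1815, 1994, 2346]⟩) (.leaf ⟨0, 12, 0, 0, []⟩)) (.node (.leaf ⟨531, 4, 896, 6, [6438, 3333, 5352]⟩) (.leaf ⟨0, 12, 0, 0, []⟩)))) (.node (.node (.node (.leaf ⟨158, 0, 216, 0, []⟩) (.leaf ⟨0, 12, 0, 0, []⟩)) (.node (.leaf ⟨409, 5, 907, 28, [2731, 5404, 5418]⟩) (.leaf ⟨0, 12, 0, 0, []⟩))) (.node (.node (.leaf ⟨408, 4, 517, 0, []⟩) (.leaf ⟨0, 12, 0, 0, []⟩)) (.node (.leaf ⟨705, 5, 1014, 59, [4363, 6265, 5293, 3189, 2501, 2421, 2373, 2944, 3228, 3227, 4248, 7464]⟩) (.leaf ⟨0, 12, 0, 0, []⟩))))) (.node (.node (.node (.node (.leaf ⟨133, 2, 137, 13, [781,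 759, 810]⟩) (.leaf ⟨490, 4, 653, 75, [5987, 4957, 5760]⟩)) (.node (.leaf ⟨811, 9, 812, 0, []⟩) (.leaf ⟨0, 12, 0, 0, []⟩))) (.node (.node (.leaf ⟨204, 8, 430, 3, [1247, 1238, 2854]⟩) (.leaf ⟨0, 12, 0, 0, []⟩)) (.node (.leaf ⟨452, 4, 970, 9, [2981, 2956, 2959, 3220, 3229, 2943, 1841, 2010, 2015, 3636, 6954]⟩) (.leaf ⟨0, 12, 0, 0, []⟩)))) (.node (.node (.node (.leaf ⟨99, 4, 275, 43, [606, 1756, 1830]⟩) (.leaf ⟨0, 12, 0, 0, []⟩)) (.node (.leaf ⟨455, 12, 400, 35, [2997, 5931, 5271]⟩) (.leaf ⟨0, 12, 0, 0, []⟩))) (.node (.node (.leaf ⟨593, 2, 611, 0, []⟩) (.leaf ⟨0, 12, 0, 0, []⟩)) (.node (.leaf ⟨868, 3, 1060, 30, [7706, 7701, 7976]⟩) (.leaf ⟨0, 12, 0, 0, []⟩))))))) (.node (.node (.node (.node (.node (.node (.leaf ⟨19, 2, 28, 26, [111, 110, 111, 40, 154, 156, 107, 123, 170]⟩) (.leaf ⟨1037, 8, 1092,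 40, [7722, 8362]⟩)) (.node (.leaf ⟨416, 2, 689, 0, []⟩) (.leaf ⟨0, 12, 0, 0, []⟩))) (.node (.node (.leaf ⟨177, 1, 333, 8, [1061, 1074, 2218]⟩) (.leaf ⟨0, 12, 0, 0, []⟩)) (.node (.leaf ⟨843, 4, 672, 24, [5091, 6313, 4174]⟩) (.leaf ⟨0, 12, 0, 0, []⟩)))) (.node (.node (.node (.leaf ⟨197, 9, 198, 39, [1191, 418, 1192]⟩) (.leaf ⟨849, 2, 642, 38, [5138, 5896]⟩)) (.node (.leaf ⟨485, 4, 882, 0, []⟩) (.leaf ⟨0, 12, 0, 0, []⟩))) (.node (.node (.leaf ⟨255, 9, 492, 4, [1535, 1596, 3032, 3240]⟩) (.leaf ⟨0, 12, 0, 0, []⟩)) (.node (.leaf ⟨989, 8, 1004, 3, [7169, 6976, 7328]⟩) (.leaf ⟨0, 12, 0, 0, []⟩))))) (.node (.node (.node (.node (.leaf ⟨69, 8, 116, 54, [407, 646, 682]⟩) (.leaf ⟨392, 8, 642, 76, [5141, 5896]⟩)) (.node (.leaf ⟨777, 2, 782, 0, []⟩) (.leaf ⟨0, 12, 0, 0, []⟩))) (.node (.node (.leaf ⟨187,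 0, 409, 21, [1407, 2728, 2730]⟩) (.leaf ⟨0, 12, 0, 0, []⟩)) (.node (.leaf ⟨736, 3, 960, 10, [4519, 4511, 3575, 2003, 1992, 2182, 2177, 1939, 2854, 2882, 6826]⟩) (.leaf ⟨0, 12, 0, 0, []⟩)))) (.node (.node (.node (.leaf ⟨178, 12, 248, 37, [1065, 1707, 1506]⟩) (.leaf ⟨0, 12, 0, 0, []⟩)) (.node (.leaf ⟨816, 12, 318, 34, [5803]⟩) (.leaf ⟨0, 12, 0, 0, []⟩))) (.node (.node (.leaf ⟨302, 1, 586, 0, []⟩) (.leaf ⟨0, 12, 0, 0, []⟩)) (.node (.leaf ⟨999, 2, 1050, 47, [7269, 3485, 1829, 1972, 1967, 949, 941, 2536, 2539, 5827, 4228, 7846]⟩) (.leaf ⟨0, 12, 0, 0, []⟩)))))) (.node (.node (.node (.node (.node (.leaf ⟨52, 1, 73, 11, [323, 346, 426]⟩) (.leaf ⟨67, 0, 67, 77, [1186, 1690]⟩)) (.node (.leaf ⟨349, 1, 738, 0, []⟩) (.leaf ⟨0, 12, 0, 0, []⟩))) (.node (.node (.leaf ⟨213, 4, 369, 0, []⟩) (.leaf ⟨0, 12, 0,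 0, []⟩)) (.node (.leaf ⟨417, 0, 931, 21, [6509, 6568, 6570]⟩) (.leaf ⟨0, 12, 0, 0, []⟩)))) (.node (.node (.node (.leaf ⟨233, 8, 235, 40, [1438, 1450]⟩) (.leaf ⟨0, 12, 0, 0, []⟩)) (.node (.leaf ⟨624, 12, 304, 34, [5547]⟩) (.leaf ⟨0, 12, 0, 0, []⟩))) (.node (.node (.leaf ⟨446, 0, 539, 42, [2943, 3428, 3431, 3197, 1853, 1846, 1847, 1846, 3498]⟩) (.leaf ⟨0, 12, 0, 0, []⟩)) (.node (.leaf ⟨627, 1, 1025, 140, [3974, 6359, 4016, 5897, 5139, 5142, 5198, 6356, 5881, 4787, 2599, 1921, 2034, 3756, 7594]⟩) (.leaf ⟨0, 12, 0, 0, []⟩))))) (.node (.node (.node (.node (.leaf ⟨160, 2, 57, 50, [939, 933]⟩) (.leaf ⟨608, 8, 982, 76, [5681, 7106]⟩)) (.node (.leaf ⟨763, 4, 835, 0, []⟩) (.leaf ⟨0, 12, 0, 0, []⟩))) (.node (.node (.leaf ⟨297, 0, 454, 44, [1993, 2510, 2513, 2297, 2296, 2297, 2308, 2354, 2986]⟩) (.leaf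 ⟨0, 12, 0, 0, []⟩)) (.node (.leaf ⟨935, 4, 980, 120, [6605, 2783, 5541, 3869, 2710, 2709, 2716, 2727, 1390, 3036, 3240, 7078]⟩) (.leaf ⟨0, 12, 0, 0, []⟩)))) (.node (.node (.node (.leaf ⟨126, 8, 292, 40, [736, 1962]⟩) (.leaf ⟨0, 12, 0, 0, []⟩)) (.node (.leaf ⟨844, 12, 360, 34, [6059]⟩) (.leaf ⟨0, 12, 0, 0, []⟩))) (.node (.node (.leaf ⟨316, 4, 641, 43, [2112, 4006, 4010]⟩) (.leaf ⟨0, 12, 0, 0, []⟩)) (.node (.leaf ⟨728, 2, 1070, 47, [6676, 6698, 7715, 7740, 7743, 7689, 8072, 8071, 7664, 7673, 8104]⟩) (.leaf ⟨0, 12, 0, 0, []⟩)))))))) (.node (.node (.node (.node (.node (.node (.node (.leaf ⟨18, 9, 19, 0, []⟩) (.leaf ⟨892, 0, 1088, 100, [7108, 7120, 6773, 6770, 6338, 4025, 4005, 5773, 8032, 8298]⟩)) (.node (.leaf ⟨677, 2, 678, 0, []⟩) (.leaf ⟨0, 12, 0, 0, []⟩))) (.node (.node (.leaf ⟨307, 2, 326,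 0, []⟩) (.leaf ⟨0, 12, 0, 0, []⟩)) (.node (.leaf ⟨503, 4, 557, 121, [6250, 3021, 3004, 5954, 4508, 4511, 3577, 2420, 2456, 3262, 3650, 3655]⟩) (.leaf ⟨0, 12, 0, 0, []⟩)))) (.node (.node (.node (.leaf ⟨64, 5, 187, 12, [387, 576, 1130]⟩) (.leaf ⟨753, 2, 738, 38, [5963, 5275]⟩)) (.node (.leaf ⟨790, 9, 870, 5, [4819, 3740, 5226]⟩) (.leaf ⟨0, 12, 0, 0, []⟩))) (.node (.node (.leaf ⟨275, 9, 484, 4, [1837, 1844, 3176]⟩) (.leaf ⟨0, 12, 0, 0, []⟩)) (.node (.leaf ⟨958, 4, 1000, 0, []⟩) (.leaf ⟨0, 12, 0, 0, []⟩))))) (.node (.node (.node (.node (.leaf ⟨97, 4, 104, 0, []⟩) (.leaf ⟨354, 4, 400, 75, [2996, 5932]⟩)) (.node (.leaf ⟨706, 8, 770, 40, [4398, 4714]⟩) (.leaf ⟨0, 12, 0, 0, []⟩))) (.node (.node (.leaf ⟨295, 3, 398, 41, [1981, 946, 949, 941, 2536, 2541, 2429, 1928, 2664]⟩) (.leaf ⟨0, 12, 0, 0, []⟩))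 (.node (.leaf ⟨930, 5, 862, 127, [6569, 6744, 6758, 6282, 4384, 6278, 2683, 2413, 3532, 6080, 4792, 5076, 6122, 3556, 6124, 2622, 5185]⟩) (.leaf ⟨0, 12, 0, 0, []⟩)))) (.node (.node (.node (.leaf ⟨81, 12, 146, 35, [483, 1643, 873]⟩) (.leaf ⟨0, 12, 0, 0, []⟩)) (.node (.leaf ⟨792, 12, 408, 35, [4831, 5739, 5405]⟩) (.leaf ⟨0, 12, 0, 0, []⟩))) (.node (.node (.leaf ⟨293, 0, 573, 21, [2556, 3686, 3690]⟩) (.leaf ⟨0, 12, 0, 0, []⟩)) (.node (.leaf ⟨893, 4, 1045, 86, [7121, 7117, 6284, 4417, 4412, 7708, 7699, 6340, 4025, 4012, 5682, 7786]⟩) (.leaf ⟨0, 12, 0, 0, []⟩)))))) (.node (.node (.node (.node (.node (.leaf ⟨30, 8, 59, 40, [186, 362]⟩) (.leaf ⟨1084, 1, 1110, 0, []⟩)) (.node (.leaf ⟨343, 1, 727, 0, []⟩) (.leaf ⟨0, 12, 0, 0, []⟩))) (.node (.node (.leaf ⟨360, 1, 361, 0, []⟩) (.leaf ⟨0, 12, 0, 0, []⟩))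 (.node (.leaf ⟨923, 9, 417, 4, [6507, 6497, 2776]⟩) (.leaf ⟨0, 12, 0, 0, []⟩)))) (.node (.node (.node (.leaf ⟨223, 8, 226, 0, []⟩) (.leaf ⟨0, 12, 0, 0, []⟩)) (.node (.leaf ⟨413, 0, 919, 21, [3872, 5478, 5482]⟩) (.leaf ⟨0, 12, 0, 0, []⟩))) (.node (.node (.leaf ⟨310, 0, 528, 0, []⟩) (.leaf ⟨0, 12, 0, 0, []⟩)) (.node (.leaf ⟨996, 1, 1019, 11, [7245, 4171, 5513, 7522]⟩) (.leaf ⟨0, 12, 0, 0, []⟩))))) (.node (.node (.node (.node (.leaf ⟨147, 8, 148, 0, []⟩) (.leaf ⟨542, 4, 383, 75, [3520, 6140]⟩)) (.node (.leaf ⟨385, 4, 823, 43, [2588, 4962, 4970]⟩) (.leaf ⟨0, 12, 0, 0, []⟩))) (.node (.node (.leaf ⟨326, 1, 445, 8, [2163, 2646, 2922]⟩) (.leaf ⟨0, 12, 0, 0, []⟩)) (.node (.leaf ⟨454, 5, 975, 57, [2989, 2001, 2370, 2420, 2456, 4726, 7002, 7001, 7014]⟩) (.leaf ⟨0, 12, 0, 0, []⟩)))) (.node (.node (.node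 (.leaf ⟨106, 0, 285, 21, [1819, 1894, 1898]⟩) (.leaf ⟨0, 12, 0, 0, []⟩)) (.node (.leaf ⟨379, 12, 825, 77, [3686, 5995, 4980]⟩) (.leaf ⟨0, 12, 0, 0, []⟩))) (.node (.node (.leaf ⟨626, 8, 627, 0, []⟩) (.leaf ⟨0, 12, 0, 0, []⟩)) (.node (.leaf ⟨1024, 2, 1065, 26, [7589, 7588, 7589, 7572, 7571, 4681, 4411, 6123, 5077, 5892, 8040]⟩) (.leaf ⟨0, 12, 0, 0, []⟩))))))) (.node (.node (.node (.node (.node (.node (.leaf ⟨13, 0, 37, 0, []⟩) (.leaf ⟨1086, 4, 1099, 120, [8291, 8268, 8268, 8290, 8289, 8113, 7897, 7498, 7507, 7721, 8426]⟩)) (.node (.leaf ⟨512, 0, 701, 94, [3337, 1737, 772, 777, 1116, 1144, 1732, 3300, 4330]⟩) (.leaf ⟨0, 12, 0, 0, []⟩))) (.node (.node (.leaf ⟨137, 0, 343, 21, [1314, 2280, 2282]⟩) (.leaf ⟨0, 12, 0, 0, []⟩)) (.node (.leaf ⟨610, 4, 732, 14, [6379, 2913, 5907, 3639, 4494]⟩) (.leaf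 ⟨0, 12, 0, 0, []⟩)))) (.node (.node (.node (.leaf ⟨202, 4, 207, 0, []⟩) (.leaf ⟨951, 0, 885, 77, [6757, 6749]⟩)) (.node (.leaf ⟨507, 1, 897, 8, [3317, 3330, 5354]⟩) (.leaf ⟨0, 12, 0, 0, []⟩))) (.node (.node (.leaf ⟨334, 0, 506, 44, [2231, 2740, 2743, 2239, 2238, 2239, 2246, 2698, 3306]⟩) (.leaf ⟨0, 12, 0, 0, []⟩)) (.node (.leaf ⟨525, 2, 1009, 0, []⟩) (.leaf ⟨0, 12, 0, 0, []⟩))))) (.node (.node (.node (.node (.leaf ⟨92, 5, 128, 56, [569, 493, 249, 237, 76, 100, 280, 318, 746]⟩) (.leaf ⟨441, 8, 474, 76, [5907, 3641]⟩)) (.node (.leaf ⟨380, 5, 794, 28, [2569, 4798, 4842]⟩) (.leaf ⟨0, 12, 0, 0, []⟩))) (.node (.node (.leaf ⟨308, 4, 421, 0, []⟩) (.leaf ⟨0, 12, 0, 0, []⟩)) (.node (.leaf ⟨898, 2, 965, 0, []⟩) (.leaf ⟨0, 12, 0, 0, []⟩)))) (.node (.node (.node (.leaf ⟨117, 0, 265, 0, []⟩) (.leaf ⟨0,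 12, 0, 0, []⟩)) (.node (.leaf ⟨782, 12, 666, 34, [5867]⟩) (.leaf ⟨0, 12, 0, 0, []⟩))) (.node (.node (.leaf ⟨429, 0, 599, 0, []⟩) (.leaf ⟨0, 12, 0, 0, []⟩)) (.node (.leaf ⟨628, 1, 1055, 8, [6926, 6921, 7910]⟩) (.leaf ⟨0, 12, 0, 0, []⟩)))))) (.node (.node (.node (.node (.node (.leaf ⟨38, 0, 83, 21, [278, 488, 490]⟩) (.leaf ⟨120, 0, 95, 77, [1683, 1283]⟩)) (.node (.leaf ⟨731, 2, 751, 0, []⟩) (.leaf ⟨0, 12, 0, 0, []⟩))) (.node (.node (.leaf ⟨363, 2, 376, 89, [2429, 957, 1183, 2054, 2057, 727, 314, 744, 1717, 1413, 1562, 783, 351, 941, 2536]⟩) (.leaf ⟨0, 12, 0, 0, []⟩)) (.node (.leaf ⟨426, 4, 938, 0, []⟩) (.leaf ⟨0, 12, 0, 0, []⟩)))) (.node (.node (.node (.leaf ⟨251, 1, 252, 0, []⟩) (.leaf ⟨0, 12, 0, 0, []⟩)) (.node (.leaf ⟨622, 12, 591, 34, [5611]⟩) (.leaf ⟨0, 12, 0, 0, []⟩))) (.node (.node (.leaf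 ⟨546, 8, 553, 40, [3528, 3562]⟩) (.leaf ⟨0, 12, 0, 0, []⟩)) (.node (.leaf ⟨586, 8, 1031, 40, [6452, 7658]⟩) (.leaf ⟨0, 12, 0, 0, []⟩))))) (.node (.node (.node (.node (.leaf ⟨157, 0, 170, 42, [924, 882, 921, 919, 345, 886, 887, 886, 1002]⟩) (.leaf ⟨649, 8, 383, 76, [4240, 5810]⟩)) (.node (.leaf ⟨803, 9, 845, 4, [4877, 5072, 5098]⟩) (.leaf ⟨0, 12, 0, 0, []⟩))) (.node (.node (.leaf ⟨399, 2, 463, 29, [2675, 2332, 2354, 2986, 2989, 2346, 2478, 2481, 3050]⟩) (.leaf ⟨0, 12, 0, 0, []⟩)) (.node (.leaf ⟨726, 5, 986, 85, [4459, 4362, 4364, 5693, 4327, 3315, 6221, 3123, 5915, 4569, 6489, 7138, 7146]⟩) (.leaf ⟨0, 12, 0, 0, []⟩)))) (.node (.node (.node (.leaf ⟨199, 1, 301, 11, [1199, 2022, 2026]⟩) (.leaf ⟨0, 12, 0, 0, []⟩)) (.node (.leaf ⟨552, 12, 391, 35, [3557, 6123, 5081]⟩) (.leaf ⟨0, 12, 0, 0, []⟩)))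 (.node (.node (.leaf ⟨319, 5, 653, 57, [2123, 1955, 1225, 1240, 1908, 2888, 4064, 4063, 4072]⟩) (.leaf ⟨0, 12, 0, 0, []⟩)) (.node (.leaf ⟨709, 9, 1075, 5, [4379, 7463, 8164]⟩) (.leaf ⟨0, 12, 0, 0, []⟩)))))))))

def fact23 : Arr (CFact) :=
  (.node (.node (.node (.node (.node (.node (.node (.node (.leaf ⟨5, 4, 8, 0, []⟩) (.leaf ⟨947, 8, 1080, 62, [8220, 8225, 7827, 4432, 8226]⟩)) (.node (.leaf ⟨321, 0, 664, 21, [2137, 3938, 4140]⟩) (.leaf ⟨0, 12, 0, 0, []⟩))) (.node (.node (.leaf ⟨305, 8, 311, 40, [2058, 2092]⟩) (.leaf ⟨0, 12, 0, 0, []⟩)) (.node (.leaf ⟨510, 12, 730, 36, [3331, 6189, 4478]⟩) (.leaf ⟨0, 12, 0, 0, []⟩)))) (.node (.node (.node (.leaf ⟨178, 5, 127, 28, [1068, 1061, 771]⟩) (.leaf ⟨704, 0, 542, 77, [5697, 6100]⟩)) (.node (.leaf ⟨853, 2, 859, 0, []⟩) (.leaf ⟨0, 12, 0, 0, []⟩))) (.node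 (.node (.leaf ⟨466, 8, 471, 40, [3082, 3116]⟩) (.leaf ⟨0, 12, 0, 0, []⟩)) (.node (.leaf ⟨927, 4, 993, 43, [6592, 6597, 7210]⟩) (.leaf ⟨0, 12, 0, 0, []⟩))))) (.node (.node (.node (.node (.leaf ⟨41, 5, 91, 28, [269, 515, 552]⟩) (.leaf ⟨272, 4, 501, 75, [3472, 6216]⟩)) (.node (.leaf ⟨390, 9, 760, 5, [2611, 4648, 4652]⟩) (.leaf ⟨0, 12, 0, 0, []⟩))) (.node (.node (.leaf ⟨375, 4, 389, 0, []⟩) (.leaf ⟨0, 12, 0, 0, []⟩)) (.node (.leaf ⟨424, 0, 948, 21, [6673, 6698, 6700]⟩) (.leaf ⟨0, 12, 0, 0, []⟩)))) (.node (.node (.node (.leaf ⟨54, 12, 234, 37, [337, 1581, 1444]⟩) (.leaf ⟨0, 12, 0, 0, []⟩)) (.node (.leaf ⟨320, 12, 124, 34, [5677]⟩) (.leaf ⟨0, 12, 0, 0, []⟩))) (.node (.node (.leaf ⟨482, 8, 562, 62, [3168, 3175, 3366, 3396, 3628]⟩) (.leaf ⟨0, 12, 0, 0, []⟩)) (.node (.leaf ⟨775, 4, 1038, 24, [7658,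 7710, 7724]⟩) (.leaf ⟨0, 12, 0, 0, []⟩)))))) (.node (.node (.node (.node (.node (.leaf ⟨45, 2, 46, 0, []⟩) (.leaf ⟨1099, 1, 1104, 140, [8460, 8463, 8395, 8390, 8395, 8289, 8111, 7467, 5085, 8000, 8366, 8486]⟩)) (.node (.leaf ⟨706, 9, 713, 4, [4365, 4361, 4392]⟩) (.leaf ⟨0, 12, 0, 0, []⟩))) (.node (.node (.leaf ⟨145, 9, 353, 5, [859, 1996, 2346]⟩) (.leaf ⟨0, 12, 0, 0, []⟩)) (.node (.leaf ⟨491, 4, 585, 131, [4250, 4249, 2177, 2664, 5903, 3403, 3392, 3452, 6444, 5349, 5354, 6194, 3130, 5980, 5982, 4903, 5808, 4048, 2117, 3672, 5564, 2063, 3754]⟩) (.leaf ⟨0, 12, 0, 0, []⟩)))) (.node (.node (.node (.leaf ⟨216, 9, 217, 0, []⟩) (.leaf ⟨0, 12, 0, 0, []⟩)) (.node (.leaf ⟨901, 2, 908, 0, []⟩) (.leaf ⟨0, 12, 0, 0, []⟩))) (.node (.node (.leaf ⟨517, 1, 518, 0, []⟩) (.leaf ⟨0, 12, 0, 0, []⟩)) (.node (.leaf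 ⟨729, 2, 1014, 145, [7270, 7269, 3489, 6143, 7426, 7425, 6159, 3811, 7182, 7185, 4250, 7464]⟩) (.leaf ⟨0, 12, 0, 0, []⟩))))) (.node (.node (.node (.node (.leaf ⟨54, 2, 138, 0, []⟩) (.leaf ⟨498, 4, 465, 75, [3284, 6232]⟩)) (.node (.leaf ⟨434, 8, 812, 40, [4906, 4908]⟩) (.leaf ⟨0, 12, 0, 0, []⟩))) (.node (.node (.leaf ⟨205, 9, 430, 39, [1251, 1244, 2854]⟩) (.leaf ⟨0, 12, 0, 0, []⟩)) (.node (.leaf ⟨511, 9, 970, 5, [6443, 3634, 6954]⟩) (.leaf ⟨0, 12, 0, 0, []⟩)))) (.node (.node (.node (.leaf ⟨268, 8, 276, 0, []⟩) (.leaf ⟨0, 12, 0, 0, []⟩)) (.node (.leaf ⟨743, 12, 756, 76, [4545, 5933, 4627]⟩) (.leaf ⟨0, 12, 0, 0, []⟩))) (.node (.node (.leaf ⟨597, 9, 611, 5, [3811, 3792, 3884]⟩) (.leaf ⟨0, 12, 0, 0, []⟩)) (.node (.leaf ⟨629, 5, 1060, 28, [3955, 6926, 7976]⟩) (.leaf ⟨0, 12, 0, 0, []⟩))))))) (.node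 (.node (.node (.node (.node (.node (.leaf ⟨28, 9, 29, 0, []⟩) (.leaf ⟨1062, 1, 1092, 20, [8011, 7228, 7272, 7263, 8362]⟩)) (.node (.leaf ⟨412, 1, 689, 11, [2763, 2774, 4268]⟩) (.leaf ⟨0, 12, 0, 0, []⟩))) (.node (.node (.leaf ⟨300, 3, 333, 7, [2023, 1065, 2220]⟩) (.leaf ⟨0, 12, 0, 0, []⟩)) (.node (.leaf ⟨777, 3, 672, 10, [4755, 2599, 2164, 2167, 1908, 3184, 3177, 2406, 6061, 5095, 5086, 6316]⟩) (.leaf ⟨0, 12, 0, 0, []⟩)))) (.node (.node (.node (.leaf ⟨178, 2, 199, 0, []⟩) (.leaf ⟨849, 8, 639, 76, [5124, 5772]⟩)) (.node (.leaf ⟨882, 2, 883, 0, []⟩) (.leaf ⟨0, 12, 0, 0, []⟩))) (.node (.node (.leaf ⟨397, 3, 492, 30, [2659, 2215, 3244]⟩) (.leaf ⟨0, 12, 0, 0, []⟩)) (.node (.leaf ⟨512, 4, 1005, 0, []⟩) (.leaf ⟨0, 12, 0, 0, []⟩))))) (.node (.node (.node (.node (.leaf ⟨113, 4, 117, 0, []⟩) (.leaf ⟨393,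 0, 638, 77, [5202, 6352]⟩)) (.node (.leaf ⟨782, 4, 375, 6, [4781, 4755, 2597]⟩) (.leaf ⟨0, 12, 0, 0, []⟩))) (.node (.node (.leaf ⟨355, 1, 409, 22, [2361, 1573, 1509, 1571, 819, 830, 1280, 1277, 1275, 1589, 1449, 531, 1651, 633, 1130, 2732]⟩) (.leaf ⟨0, 12, 0, 0, []⟩)) (.node (.leaf ⟨737, 2, 960, 47, [4522, 2325, 1337, 1330, 2558, 2553, 1255, 1976, 2856, 2882, 6826]⟩) (.leaf ⟨0, 12, 0, 0, []⟩)))) (.node (.node (.node (.leaf ⟨248, 12, 178, 34, [1709]⟩) (.leaf ⟨0, 12, 0, 0, []⟩)) (.node (.leaf ⟨649, 12, 810, 38, [4048, 5805, 4933]⟩) (.leaf ⟨0, 12, 0, 0, []⟩))) (.node (.node (.leaf ⟨569, 3, 586, 7, [3675, 2037, 3756]⟩) (.leaf ⟨0, 12, 0, 0, []⟩)) (.node (.leaf ⟨911, 0, 1050, 96, [5443, 4960, 6005, 3693, 1967, 2548, 2551, 3714, 6314, 7846]⟩) (.leaf ⟨0, 12, 0, 0, []⟩)))))) (.node (.node (.node (.node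 (.node (.leaf ⟨55, 3, 73, 7, [343, 330, 428]⟩) (.leaf ⟨68, 0, 100, 77, [1214, 1612]⟩)) (.node (.leaf ⟨738, 2, 739, 0, []⟩) (.leaf ⟨0, 12, 0, 0, []⟩))) (.node (.node (.leaf ⟨353, 5, 369, 59, [2353, 1319, 1014, 1011, 2206, 2205, 827, 433, 426, 1304, 2476]⟩) (.leaf ⟨0, 12, 0, 0, []⟩)) (.node (.leaf ⟨923, 2, 932, 0, []⟩) (.leaf ⟨0, 12, 0, 0, []⟩)))) (.node (.node (.node (.leaf ⟨88, 3, 235, 30, [521, 1442, 1450]⟩) (.leaf ⟨0, 12, 0, 0, []⟩)) (.node (.leaf ⟨122, 12, 617, 37, [2050, 5549, 3940]⟩) (.leaf ⟨0, 12, 0, 0, []⟩))) (.node (.node (.leaf ⟨536, 9, 539, 5, [3489, 3433, 3498]⟩) (.leaf ⟨0, 12, 0, 0, []⟩)) (.node (.leaf ⟨1025, 8, 1026, 0, []⟩) (.leaf ⟨0, 12, 0, 0, []⟩))))) (.node (.node (.node (.node (.leaf ⟨136, 1, 161, 0, []⟩) (.leaf ⟨611, 0, 822, 77, [5633, 5499]⟩)) (.node (.leaf ⟨832, 1, 835,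 8, [5015, 4670, 5036]⟩) (.leaf ⟨0, 12, 0, 0, []⟩))) (.node (.node (.leaf ⟨346, 9, 454, 5, [2966, 2965, 2986]⟩) (.leaf ⟨0, 12, 0, 0, []⟩)) (.node (.leaf ⟨888, 1, 980, 140, [6982, 6987, 6298, 3861, 3864, 5681, 6167, 5250, 5257, 4954, 5986, 3231, 3242, 7078]⟩) (.leaf ⟨0, 12, 0, 0, []⟩)))) (.node (.node (.node (.leaf ⟨161, 4, 293, 0, []⟩) (.leaf ⟨0, 12, 0, 0, []⟩)) (.node (.leaf ⟨276, 12, 806, 38, [2406, 6061, 5097]⟩) (.leaf ⟨0, 12, 0, 0, []⟩))) (.node (.node (.leaf ⟨631, 8, 642, 0, []⟩) (.leaf ⟨0, 12, 0, 0, []⟩)) (.node (.leaf ⟨1014, 1, 1070, 8, [7465, 7490, 8104]⟩) (.leaf ⟨0, 12, 0, 0, []⟩)))))))) (.node (.node (.node (.node (.node (.node (.node (.leaf ⟨5, 0, 19, 21, [97, 106, 108]⟩) (.leaf ⟨1079, 3, 1088, 10, [8219, 7809, 7988, 7991, 7552, 8046, 8049, 7964, 7967, 8038, 8298]⟩)) (.node (.leaf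 ⟨678, 2, 324, 50, [4205, 4201]⟩) (.leaf ⟨0, 12, 0, 0, []⟩))) (.node (.node (.leaf ⟨326, 4, 125, 6, [2157, 2067, 1181]⟩) (.leaf ⟨0, 12, 0, 0, []⟩)) (.node (.leaf ⟨470, 12, 720, 81, [3109, 1866, 3594, 6253, 6250, 3021, 3004, 5954, 4508, 5012, 6034, 4605, 3013, 2067, 2054, 2120, 4076, 4236, 5810, 4858, 6102, 6101, 4709, 2455, 4437]⟩) (.leaf ⟨0, 12, 0, 0, []⟩)))) (.node (.node (.node (.leaf ⟨185, 2, 188, 0, []⟩) (.leaf ⟨753, 4, 735, 75, [5963, 5278, 6026]⟩)) (.node (.leaf ⟨787, 8, 870, 40, [4820, 5228]⟩) (.leaf ⟨0, 12, 0, 0, []⟩))) (.node (.node (.leaf ⟨280, 8, 484, 40, [1864, 3180]⟩) (.leaf ⟨0, 12, 0, 0, []⟩)) (.node (.leaf ⟨519, 0, 1000, 100, [3444, 3447, 3456, 6374, 3654, 3651, 3257, 6800, 7276]⟩) (.leaf ⟨0, 12, 0, 0, []⟩))))) (.node (.node (.node (.node (.leaf ⟨104, 2, 105, 0, []⟩) (.leaf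 ⟨355, 4, 743, 75, [4622, 5936]⟩)) (.node (.leaf ⟨679, 2, 769, 13, [4209, 4712, 4707]⟩) (.leaf ⟨0, 12, 0, 0, []⟩))) (.node (.node (.leaf ⟨377, 8, 398, 3, [2543, 1936, 2664]⟩) (.leaf ⟨0, 12, 0, 0, []⟩)) (.node (.leaf ⟨955, 9, 710, 39, [6753, 6746, 6758, 6282]⟩) (.leaf ⟨0, 12, 0, 0, []⟩)))) (.node (.node (.node (.leaf ⟨146, 12, 81, 34, [1645]⟩) (.leaf ⟨0, 12, 0, 0, []⟩)) (.node (.leaf ⟨576, 12, 476, 38, [4828, 5739, 5399]⟩) (.leaf ⟨0, 12, 0, 0, []⟩))) (.node (.node (.leaf ⟨490, 3, 573, 27, [3231, 2560, 3686, 3689, 3497, 1970, 3692, 3693, 3692]⟩) (.leaf ⟨0, 12, 0, 0, []⟩)) (.node (.leaf ⟨1023, 5, 1045, 57, [7571, 6918, 6925, 7536, 7543, 6557, 6119, 7222, 7227, 7786]⟩) (.leaf ⟨0, 12, 0, 0, []⟩)))))) (.node (.node (.node (.node (.node (.leaf ⟨59, 3, 59, 30, [363, 130, 362]⟩) (.leaf ⟨1110, 5, 1110,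 12, [8557, 8274, 8556]⟩)) (.node (.leaf ⟨708, 3, 727, 7, [4377, 2286, 4460]⟩) (.leaf ⟨0, 12, 0, 0, []⟩))) (.node (.node (.leaf ⟨230, 2, 361, 13, [1842, 2406, 2412]⟩) (.leaf ⟨0, 12, 0, 0, []⟩)) (.node (.leaf ⟨913, 2, 924, 0, []⟩) (.leaf ⟨0, 12, 0, 0, []⟩)))) (.node (.node (.node (.leaf ⟨222, 4, 226, 24, [1359, 1370, 1388]⟩) (.leaf ⟨0, 12, 0, 0, []⟩)) (.node (.leaf ⟨664, 5, 919, 28, [4141, 5480, 5482]⟩) (.leaf ⟨0, 12, 0, 0, []⟩))) (.node (.node (.leaf ⟨528, 9, 529, 0, []⟩) (.leaf ⟨0, 12, 0, 0, []⟩)) (.node (.leaf ⟨1012, 2, 1020, 0, []⟩) (.leaf ⟨0, 12, 0, 0, []⟩))))) (.node (.node (.node (.node (.leaf ⟨148, 8, 55, 19, [877, 875]⟩) (.leaf ⟨542, 8, 713, 76, [6101, 4715]⟩)) (.node (.leaf ⟨814, 8, 824, 0, []⟩) (.leaf ⟨0, 12, 0, 0, []⟩))) (.node (.node (.leaf ⟨333, 9, 445, 4, [2219, 2648, 2922]⟩)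 (.leaf ⟨0, 12, 0, 0, []⟩)) (.node (.leaf ⟨732, 9, 975, 5, [4489, 3022, 7014]⟩) (.leaf ⟨0, 12, 0, 0, []⟩)))) (.node (.node (.node (.leaf ⟨271, 3, 285, 27, [1807, 1814, 1894, 1897, 1777, 630, 1900, 1901, 1900]⟩) (.leaf ⟨0, 12, 0, 0, []⟩)) (.node (.leaf ⟨825, 12, 379, 34, [5997]⟩) (.leaf ⟨0, 12, 0, 0, []⟩))) (.node (.node (.leaf ⟨627, 8, 314, 19, [3949, 3947]⟩) (.leaf ⟨0, 12, 0, 0, []⟩)) (.node (.leaf ⟨1021, 5, 1065, 112, [7555, 7534, 7539, 4688, 4683, 4413, 4411, 6123, 5077, 5892, 8040]⟩) (.leaf ⟨0, 12, 0, 0, []⟩))))))) (.node (.node (.node (.node (.node (.node (.leaf ⟨37, 1, 37, 22, [237, 81, 72, 94, 118, 125, 114, 82, 93, 83, 80, 236]⟩) (.leaf ⟨1099, 9, 1100, 0, []⟩)) (.node (.leaf ⟨336, 5, 701, 57, [2243, 777, 1116, 1144, 1738, 2238, 4312, 4311, 4330]⟩) (.leaf ⟨0, 12, 0, 0, []⟩))) (.node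 (.node (.leaf ⟨339, 3, 343, 41, [2267, 1748, 1311, 923, 914, 1306, 1305, 808, 2284]⟩) (.leaf ⟨0, 12, 0, 0, []⟩)) (.node (.leaf ⟨529, 4, 730, 24, [3882, 6380, 4493]⟩) (.leaf ⟨0, 12, 0, 0, []⟩)))) (.node (.node (.node (.leaf ⟨165, 2, 207, 71, [968, 1004, 1001, 371, 360, 460, 1008, 1015, 911, 678, 1232, 1260]⟩) (.leaf ⟨951, 8, 710, 76, [6724, 6282]⟩)) (.node (.leaf ⟨699, 2, 898, 0, []⟩) (.leaf ⟨0, 12, 0, 0, []⟩))) (.node (.node (.leaf ⟨336, 9, 506, 5, [3282, 3281, 3306]⟩) (.leaf ⟨0, 12, 0, 0, []⟩)) (.node (.leaf ⟨829, 0, 1009, 44, [4997, 5256, 7132, 7125, 7124, 7125, 5225, 5040, 6038, 7404]⟩) (.leaf ⟨0, 12, 0, 0, []⟩))))) (.node (.node (.node (.node (.leaf ⟨128, 9, 129, 0, []⟩) (.leaf ⟨442, 4, 448, 75, [4814, 5910]⟩)) (.node (.leaf ⟨384, 4, 795, 0, []⟩) (.leaf ⟨0, 12, 0, 0, []⟩))) (.node (.node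 (.leaf ⟨413, 9, 421, 4, [2765, 2189, 2796]⟩) (.leaf ⟨0, 12, 0, 0, []⟩)) (.node (.leaf ⟨805, 0, 965, 42, [4887, 5840, 5691, 5345, 5692, 4369, 5687, 5686, 5687, 6892]⟩) (.leaf ⟨0, 12, 0, 0, []⟩)))) (.node (.node (.node (.leaf ⟨265, 9, 266, 0, []⟩) (.leaf ⟨0, 12, 0, 0, []⟩)) (.node (.leaf ⟨626, 12, 855, 36, [4150, 5869, 5148]⟩) (.leaf ⟨0, 12, 0, 0, []⟩))) (.node (.node (.leaf ⟨480, 3, 599, 27, [3157, 2223, 3406, 3620, 3617, 2850, 3820, 3821, 3820]⟩) (.leaf ⟨0, 12, 0, 0, []⟩)) (.node (.leaf ⟨1055, 8, 1056, 0, []⟩) (.leaf ⟨0, 12, 0, 0, []⟩)))))) (.node (.node (.node (.node (.node (.leaf ⟨42, 4, 84, 0, []⟩) (.leaf ⟨128, 1, 232, 36, [1559, 1428]⟩)) (.node (.leaf ⟨751, 4, 354, 6, [4589, 4483, 2987]⟩) (.leaf ⟨0, 12, 0, 0, []⟩))) (.node (.node (.leaf ⟨166, 0, 377, 0, []⟩) (.leaf ⟨0, 12, 0, 0, []⟩))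 (.node (.leaf ⟨560, 0, 938, 100, [6442, 6437, 6542, 6539, 6594, 6589, 6610, 6609, 6636]⟩) (.leaf ⟨0, 12, 0, 0, []⟩)))) (.node (.node (.node (.leaf ⟨87, 4, 252, 43, [1508, 1514, 1516]⟩) (.leaf ⟨0, 12, 0, 0, []⟩)) (.node (.leaf ⟨314, 12, 612, 37, [3782, 5613, 3933]⟩) (.leaf ⟨0, 12, 0, 0, []⟩))) (.node (.node (.leaf ⟨369, 2, 554, 0, []⟩) (.leaf ⟨0, 12, 0, 0, []⟩)) (.node (.leaf ⟨1025, 3, 1031, 30, [7598, 7601, 7658]⟩) (.leaf ⟨0, 12, 0, 0, []⟩))))) (.node (.node (.node (.node (.leaf ⟨170, 2, 171, 0, []⟩) (.leaf ⟨653, 1, 374, 36, [4202, 5822]⟩)) (.node (.leaf ⟨845, 2, 846, 0, []⟩) (.leaf ⟨0, 12, 0, 0, []⟩))) (.node (.node (.leaf ⟨349, 8, 463, 3, [2325, 2008, 3050]⟩) (.leaf ⟨0, 12, 0, 0, []⟩)) (.node (.leaf ⟨940, 1, 986, 11, [6709, 7140, 7146]⟩) (.leaf ⟨0, 12, 0, 0, []⟩)))) (.node (.node (.node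 (.leaf ⟨118, 5, 301, 12, [693, 1206, 2028]⟩) (.leaf ⟨0, 12, 0, 0, []⟩)) (.node (.leaf ⟨164, 12, 553, 36, [2616, 6125, 3558]⟩) (.leaf ⟨0, 12, 0, 0, []⟩))) (.node (.node (.leaf ⟨590, 9, 653, 5, [3773, 2152, 4072]⟩) (.leaf ⟨0, 12, 0, 0, []⟩)) (.node (.leaf ⟨952, 3, 1075, 30, [6739, 4465, 8172]⟩) (.leaf ⟨0, 12, 0, 0, []⟩)))))))))

def fact24 : Arr (CFact) :=
  (.node (.node (.node (.node (.node (.node (.node (.node (.leaf ⟨6, 1, 8, 8, [35, 30, 46]⟩) (.leaf ⟨1080, 8, 948, 19, [8239, 6700]⟩)) (.node (.leaf ⟨322, 8, 665, 0, []⟩) (.leaf ⟨0, 12, 0, 0, []⟩))) (.node (.node (.leaf ⟨303, 3, 311, 30, [2039, 2062, 2092]⟩) (.leaf ⟨0, 12, 0, 0, []⟩)) (.node (.leaf ⟨730, 12, 510, 34, [6191]⟩) (.leaf ⟨0, 12, 0, 0, []⟩)))) (.node (.node (.node (.leaf ⟨132, 2, 179, 0, []⟩) (.leaf ⟨706, 8, 542, 76, [4716, 6100]⟩))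 (.node (.leaf ⟨859, 2, 849, 50, [5167, 5139]⟩) (.leaf ⟨0, 12, 0, 0, []⟩))) (.node (.node (.leaf ⟨409, 3, 471, 30, [2731, 3086, 3116]⟩) (.leaf ⟨0, 12, 0, 0, []⟩)) (.node (.leaf ⟨926, 0, 993, 125, [6531, 5449, 5743, 3709, 2855, 1243, 1170, 1174, 1370, 2690, 3092, 3248, 7210]⟩) (.leaf ⟨0, 12, 0, 0, []⟩))))) (.node (.node (.node (.node (.leaf ⟨84, 4, 91, 49, [495, 273, 270, 558]⟩) (.leaf ⟨277, 4, 163, 75, [3524, 6136]⟩)) (.node (.leaf ⟨382, 8, 760, 40, [2612, 4654]⟩) (.leaf ⟨0, 12, 0, 0, []⟩))) (.node (.node (.leaf ⟨381, 9, 389, 4, [2575, 2571, 2606]⟩) (.leaf ⟨0, 12, 0, 0, []⟩)) (.node (.leaf ⟨948, 2, 942, 2, [6703, 6673, 6671, 6662]⟩) (.leaf ⟨0, 12, 0, 0, []⟩)))) (.node (.node (.node (.leaf ⟨234, 12, 54, 34, [1583]⟩) (.leaf ⟨0, 12, 0, 0, []⟩)) (.node (.leaf ⟨903, 12, 608, 36, [5389, 5541, 3867]⟩)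 (.leaf ⟨0, 12, 0, 0, []⟩))) (.node (.node (.leaf ⟨451, 2, 563, 0, []⟩) (.leaf ⟨0, 12, 0, 0, []⟩)) (.node (.leaf ⟨998, 2, 1038, 60, [7259, 6726, 6757, 6749, 5301, 5304, 7721, 7717, 7633, 3677, 6450, 7726]⟩) (.leaf ⟨0, 12, 0, 0, []⟩)))))) (.node (.node (.node (.node (.node (.leaf ⟨46, 4, 18, 6, [303, 301, 291]⟩) (.leaf ⟨1100, 9, 1104, 46, [8437, 7735, 8358, 8486]⟩)) (.node (.leaf ⟨713, 2, 714, 0, []⟩) (.leaf ⟨0, 12, 0, 0, []⟩))) (.node (.node (.leaf ⟨215, 3, 353, 30, [1323, 862, 2350]⟩) (.leaf ⟨0, 12, 0, 0, []⟩)) (.node (.leaf ⟨503, 9, 896, 4, [3297, 6217, 3477, 6444]⟩) (.leaf ⟨0, 12, 0, 0, []⟩)))) (.node (.node (.node (.leaf ⟨74, 0, 217, 21, [931, 1324, 1326]⟩) (.leaf ⟨0, 12, 0, 0, []⟩)) (.node (.leaf ⟨508, 9, 908, 5, [3321, 5378, 5422]⟩) (.leaf ⟨0, 12, 0, 0, []⟩))) (.node (.node (.leaf ⟨265,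 4, 518, 43, [2969, 3372, 3374]⟩) (.leaf ⟨0, 12, 0, 0, []⟩)) (.node (.leaf ⟨823, 9, 1014, 4, [4973, 6005, 4244, 7464]⟩) (.leaf ⟨0, 12, 0, 0, []⟩))))) (.node (.node (.node (.node (.leaf ⟨97, 9, 138, 5, [595, 338, 814]⟩) (.leaf ⟨501, 0, 1003, 77, [6217, 7320]⟩)) (.node (.leaf ⟨383, 0, 812, 21, [4896, 4904, 4908]⟩) (.leaf ⟨0, 12, 0, 0, []⟩))) (.node (.node (.leaf ⟨398, 4, 431, 0, []⟩) (.leaf ⟨0, 12, 0, 0, []⟩)) (.node (.leaf ⟨702, 8, 970, 40, [6434, 6958]⟩) (.leaf ⟨0, 12, 0, 0, []⟩)))) (.node (.node (.node (.leaf ⟨264, 4, 276, 24, [1765, 1784, 1838]⟩) (.leaf ⟨0, 12, 0, 0, []⟩)) (.node (.leaf ⟨756, 12, 743, 34, [5935]⟩) (.leaf ⟨0, 12, 0, 0, []⟩))) (.node (.node (.leaf ⟨594, 8, 611, 40, [3812, 3886]⟩) (.leaf ⟨0, 12, 0, 0, []⟩)) (.node (.leaf ⟨933, 4, 1060, 49, [6581, 6507, 6501, 7982]⟩) (.leaf ⟨0,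 12, 0, 0, []⟩))))))) (.node (.node (.node (.node (.node (.node (.leaf ⟨8, 0, 29, 21, [121, 170, 174]⟩) (.leaf ⟨993, 8, 1093, 0, []⟩)) (.node (.leaf ⟨415, 3, 689, 7, [2771, 2760, 4270]⟩) (.leaf ⟨0, 12, 0, 0, []⟩))) (.node (.node (.leaf ⟨301, 2, 333, 13, [2029, 1205, 2220]⟩) (.leaf ⟨0, 12, 0, 0, []⟩)) (.node (.leaf ⟨790, 0, 672, 99, [4823, 2549, 945, 413, 694, 696, 700, 389, 444, 449, 1156, 2758, 4254, 5058, 5108, 6086, 3549, 6083, 2611, 5086, 6316]⟩) (.leaf ⟨0, 12, 0, 0, []⟩)))) (.node (.node (.node (.leaf ⟨178, 9, 199, 5, [1065, 1069, 1198]⟩) (.leaf ⟨851, 1, 869, 36, [6335, 5218]⟩)) (.node (.leaf ⟨883, 4, 401, 6, [5295, 5293, 3191]⟩) (.leaf ⟨0, 12, 0, 0, []⟩))) (.node (.node (.leaf ⟨468, 0, 493, 0, []⟩) (.leaf ⟨0, 12, 0, 0, []⟩)) (.node (.leaf ⟨666, 0, 1005, 100, [4176, 6321, 6366, 6247, 7040,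 7033, 7029, 6243, 4333, 7342]⟩) (.leaf ⟨0, 12, 0, 0, []⟩))))) (.node (.node (.node (.node (.leaf ⟨117, 9, 96, 4, [687, 663, 590]⟩) (.leaf ⟨393, 2, 643, 38, [5176, 6326]⟩)) (.node (.leaf ⟨392, 2, 783, 0, []⟩) (.leaf ⟨0, 12, 0, 0, []⟩))) (.node (.node (.leaf ⟨409, 2, 227, 29, [2733, 1133, 1101, 1110, 1105, 1120, 1405, 1403, 1396]⟩) (.leaf ⟨0, 12, 0, 0, []⟩)) (.node (.leaf ⟨754, 0, 960, 96, [4615, 2363, 2297, 2558, 3686, 4632, 5991, 4988, 5764, 3775, 6826]⟩) (.leaf ⟨0, 12, 0, 0, []⟩)))) (.node (.node (.node (.leaf ⟨199, 12, 246, 37, [1199, 1711, 1505]⟩) (.leaf ⟨0, 12, 0, 0, []⟩)) (.node (.leaf ⟨810, 12, 649, 34, [5807]⟩) (.leaf ⟨0, 12, 0, 0, []⟩))) (.node (.node (.leaf ⟨570, 2, 586, 13, [3679, 2063, 3756]⟩) (.leaf ⟨0, 12, 0, 0, []⟩)) (.node (.leaf ⟨1038, 1, 1050, 8, [7727, 4750, 5828, 7846]⟩)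 (.leaf ⟨0, 12, 0, 0, []⟩)))))) (.node (.node (.node (.node (.node (.leaf ⟨56, 4, 74, 0, []⟩) (.leaf ⟨71, 0, 71, 77, [1192, 1694]⟩)) (.node (.leaf ⟨735, 1, 739, 11, [4509, 4524, 4526]⟩) (.leaf ⟨0, 12, 0, 0, []⟩))) (.node (.node (.leaf ⟨298, 2, 369, 60, [2003, 1319, 1014, 1007, 1020, 1023, 859, 825, 430, 1304, 2476]⟩) (.leaf ⟨0, 12, 0, 0, []⟩)) (.node (.leaf ⟨932, 4, 925, 6, [6575, 6507, 6524]⟩) (.leaf ⟨0, 12, 0, 0, []⟩)))) (.node (.node (.node (.leaf ⟨235, 4, 236, 0, []⟩) (.leaf ⟨0, 12, 0, 0, []⟩)) (.node (.leaf ⟨617, 12, 122, 34, [5551]⟩) (.leaf ⟨0, 12, 0, 0, []⟩))) (.node (.node (.leaf ⟨535, 8, 539, 40, [3482, 3502]⟩) (.leaf ⟨0, 12, 0, 0, []⟩)) (.node (.leaf ⟨775, 2, 1026, 23, [6451, 3758, 7594, 7598]⟩) (.leaf ⟨0, 12, 0, 0, []⟩))))) (.node (.node (.node (.node (.leaf ⟨70, 3, 161, 7, [414,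 800, 942]⟩) (.leaf ⟨626, 4, 392, 75, [3962, 5778]⟩)) (.node (.leaf ⟨394, 0, 836, 0, []⟩) (.leaf ⟨0, 12, 0, 0, []⟩))) (.node (.node (.leaf ⟨345, 8, 454, 40, [2298, 2990]⟩) (.leaf ⟨0, 12, 0, 0, []⟩)) (.node (.leaf ⟨494, 9, 980, 46, [4428, 4427, 3246, 7078]⟩) (.leaf ⟨0, 12, 0, 0, []⟩)))) (.node (.node (.node (.leaf ⟨144, 1, 293, 8, [857, 942, 1966]⟩) (.leaf ⟨0, 12, 0, 0, []⟩)) (.node (.leaf ⟨806, 12, 276, 34, [6063]⟩) (.leaf ⟨0, 12, 0, 0, []⟩))) (.node (.node (.leaf ⟨627, 4, 642, 24, [3949, 3962, 4014]⟩) (.leaf ⟨0, 12, 0, 0, []⟩)) (.node (.leaf ⟨1054, 3, 1070, 7, [7899, 7477, 8110]⟩) (.leaf ⟨0, 12, 0, 0, []⟩)))))))) (.node (.node (.node (.node (.node (.node (.node (.leaf ⟨16, 2, 20, 0, []⟩) (.leaf ⟨932, 5, 1088, 59, [8202, 8205, 7589, 7572, 7790, 7795, 3787, 4000, 4002, 5773, 8032, 8298]⟩)) (.node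 (.leaf ⟨654, 1, 679, 0, []⟩) (.leaf ⟨0, 12, 0, 0, []⟩))) (.node (.node (.leaf ⟨326, 9, 301, 5, [2157, 2070, 2026]⟩) (.leaf ⟨0, 12, 0, 0, []⟩)) (.node (.leaf ⟨720, 12, 470, 34, [6255]⟩) (.leaf ⟨0, 12, 0, 0, []⟩)))) (.node (.node (.node (.leaf ⟨188, 0, 188, 44, [1135, 1117, 444, 449, 449, 449, 445, 1116, 1134]⟩) (.leaf ⟨753, 8, 830, 76, [6035, 5009]⟩)) (.node (.leaf ⟨398, 5, 870, 28, [2673, 4822, 5228]⟩) (.leaf ⟨0, 12, 0, 0, []⟩))) (.node (.node (.leaf ⟨287, 5, 484, 28, [1913, 1834, 3180]⟩) (.leaf ⟨0, 12, 0, 0, []⟩)) (.node (.leaf ⟨520, 5, 1000, 59, [3393, 5713, 2865, 2665, 1939, 1241, 1226, 1804, 2198, 3048, 6800, 7276]⟩) (.leaf ⟨0, 12, 0, 0, []⟩))))) (.node (.node (.node (.node (.leaf ⟨105, 4, 46, 6, [623, 621, 595]⟩) (.leaf ⟨360, 0, 389, 77, [3532, 6080]⟩)) (.node (.leaf ⟨769, 4, 678, 6,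 [4719, 4211, 4207]⟩) (.leaf ⟨0, 12, 0, 0, []⟩))) (.node (.node (.leaf ⟨378, 9, 398, 39, [2549, 1934, 2664]⟩) (.leaf ⟨0, 12, 0, 0, []⟩)) (.node (.leaf ⟨930, 4, 926, 14, [6764, 5460, 5455, 6532]⟩) (.leaf ⟨0, 12, 0, 0, []⟩)))) (.node (.node (.node (.leaf ⟨89, 12, 107, 76, [533, 1647, 867]⟩) (.leaf ⟨0, 12, 0, 0, []⟩)) (.node (.leaf ⟨515, 12, 430, 36, [3367, 5743, 3709]⟩) (.leaf ⟨0, 12, 0, 0, []⟩))) (.node (.node (.leaf ⟨555, 2, 573, 29, [3581, 3185, 2888, 2895, 1251, 672, 1834, 1970, 3692]⟩) (.leaf ⟨0, 12, 0, 0, []⟩)) (.node (.leaf ⟨994, 9, 1045, 5, [7225, 6365, 7786]⟩) (.leaf ⟨0, 12, 0, 0, []⟩)))))) (.node (.node (.node (.node (.node (.leaf ⟨24, 5, 59, 28, [147, 132, 362]⟩) (.leaf ⟨1110, 8, 1110, 62, [8557, 8398, 8409, 8270, 8556]⟩)) (.node (.leaf ⟨709, 2, 727, 13, [4381, 4363, 4460]⟩) (.leaf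 ⟨0, 12, 0, 0, []⟩))) (.node (.node (.leaf ⟨149, 4, 361, 43, [1012, 2402, 2412]⟩) (.leaf ⟨0, 12, 0, 0, []⟩)) (.node (.leaf ⟨868, 0, 924, 94, [5211, 5198, 6356, 5881, 4789, 2622, 5202, 6352, 4001, 4274, 5454, 6510]⟩) (.leaf ⟨0, 12, 0, 0, []⟩)))) (.node (.node (.node (.leaf ⟨158, 1, 226, 8, [929, 1366, 1390]⟩) (.leaf ⟨0, 12, 0, 0, []⟩)) (.node (.leaf ⟨609, 4, 920, 0, []⟩) (.leaf ⟨0, 12, 0, 0, []⟩))) (.node (.node (.leaf ⟨269, 0, 529, 21, [2085, 3436, 3438]⟩) (.leaf ⟨0, 12, 0, 0, []⟩)) (.node (.leaf ⟨863, 4, 1020, 9, [5189, 5176, 6326, 5895, 5163, 5779, 4032, 5893, 5082, 7224, 7221, 7217, 6534, 7446, 7534]⟩) (.leaf ⟨0, 12, 0, 0, []⟩))))) (.node (.node (.node (.node (.leaf ⟨110, 1, 148, 20, [647, 307, 108, 342, 879]⟩) (.leaf ⟨543, 0, 965, 77, [6107, 6894]⟩)) (.node (.leaf ⟨810, 4, 824, 24, [4899,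 4920, 4974]⟩) (.leaf ⟨0, 12, 0, 0, []⟩))) (.node (.node (.leaf ⟨395, 8, 445, 40, [2638, 2926]⟩) (.leaf ⟨0, 12, 0, 0, []⟩)) (.node (.leaf ⟨730, 8, 975, 40, [4492, 7022]⟩) (.leaf ⟨0, 12, 0, 0, []⟩)))) (.node (.node (.node (.leaf ⟨273, 4, 286, 0, []⟩) (.leaf ⟨0, 12, 0, 0, []⟩)) (.node (.leaf ⟨293, 12, 826, 76, [2556, 5999, 4982]⟩) (.leaf ⟨0, 12, 0, 0, []⟩))) (.node (.node (.leaf ⟨626, 0, 628, 0, []⟩) (.leaf ⟨0, 12, 0, 0, []⟩)) (.node (.leaf ⟨868, 4, 1065, 120, [7964, 7963, 6577, 6575, 6568, 7822, 7819, 5894, 6327, 5181, 4785, 5779, 4032, 8040]⟩) (.leaf ⟨0, 12, 0, 0, []⟩))))))) (.node (.node (.node (.node (.node (.node (.leaf ⟨14, 2, 37, 2, [83, 74, 77, 236]⟩) (.leaf ⟨998, 0, 1100, 21, [7723, 8426, 8430]⟩)) (.node (.leaf ⟨695, 9, 701, 5, [4309, 3304, 4330]⟩) (.leaf ⟨0, 12, 0, 0, []⟩))) (.node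 (.node (.leaf ⟨214, 2, 344, 0, []⟩) (.leaf ⟨0, 12, 0, 0, []⟩)) (.node (.leaf ⟨529, 1, 895, 106, [6382, 6192, 3331, 5347]⟩) (.leaf ⟨0, 12, 0, 0, []⟩)))) (.node (.node (.node (.leaf ⟨207, 2, 152, 50, [1263, 967]⟩) (.leaf ⟨953, 0, 710, 77, [6758, 6282]⟩)) (.node (.leaf ⟨895, 9, 898, 5, [5345, 4328, 5358]⟩) (.leaf ⟨0, 12, 0, 0, []⟩))) (.node (.node (.leaf ⟨335, 8, 506, 40, [2240, 3310]⟩) (.leaf ⟨0, 12, 0, 0, []⟩)) (.node (.leaf ⟨700, 4, 1009, 84, [7304, 7315, 4401, 5689, 7126, 7125, 5225, 5040, 6038, 7404]⟩) (.leaf ⟨0, 12, 0, 0, []⟩))))) (.node (.node (.node (.node (.leaf ⟨50, 0, 129, 21, [321, 746, 750]⟩) (.leaf ⟨444, 2, 482, 38, [4071, 5698]⟩)) (.node (.leaf ⟨381, 1, 795, 8, [2575, 2584, 4846]⟩) (.leaf ⟨0, 12, 0, 0, []⟩))) (.node (.node (.leaf ⟨421, 2, 422, 0, []⟩) (.leaf ⟨0, 12, 0, 0, []⟩))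 (.node (.leaf ⟨876, 4, 965, 86, [5257, 4996, 4999, 3852, 6173, 4445, 6170, 5432, 5435, 5965, 6245, 6892]⟩) (.leaf ⟨0, 12, 0, 0, []⟩)))) (.node (.node (.node (.leaf ⟨96, 0, 266, 21, [689, 1772, 1774]⟩) (.leaf ⟨0, 12, 0, 0, []⟩)) (.node (.leaf ⟨855, 12, 626, 34, [5871]⟩) (.leaf ⟨0, 12, 0, 0, []⟩))) (.node (.node (.leaf ⟨481, 2, 599, 26, [3161, 3160, 3161, 2632, 3412, 3614, 3617, 2850, 3820]⟩) (.leaf ⟨0, 12, 0, 0, []⟩)) (.node (.leaf ⟨986, 2, 1056, 23, [7384, 7375, 7908, 7918]⟩) (.leaf ⟨0, 12, 0, 0, []⟩)))))) (.node (.node (.node (.node (.node (.leaf ⟨42, 3, 84, 10, [273, 87, 27, 44, 52, 47, 29, 27, 86, 272, 494]⟩) (.leaf ⟨128, 2, 169, 38, [1559, 994]⟩)) (.node (.leaf ⟨458, 2, 752, 0, []⟩) (.leaf ⟨0, 12, 0, 0, []⟩))) (.node (.node (.leaf ⟨205, 2, 377, 26, [1251, 1250, 1251, 672, 1980, 1982, 1247,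 1237, 2542]⟩) (.leaf ⟨0, 12, 0, 0, []⟩)) (.node (.leaf ⟨928, 9, 938, 4, [6539, 2818, 6636]⟩) (.leaf ⟨0, 12, 0, 0, []⟩)))) (.node (.node (.node (.leaf ⟨143, 0, 252, 73, [850, 857, 799, 790, 1063, 1061, 765, 1088, 1093, 489, 494, 499, 479, 248, 486, 504, 508, 518, 1518]⟩) (.leaf ⟨0, 12, 0, 0, []⟩)) (.node (.leaf ⟨612, 12, 314, 34, [5615]⟩) (.leaf ⟨0, 12, 0, 0, []⟩))) (.node (.node (.leaf ⟨488, 1, 554, 11, [3205, 2482, 3566]⟩) (.leaf ⟨0, 12, 0, 0, []⟩)) (.node (.leaf ⟨650, 2, 1032, 0, []⟩) (.leaf ⟨0, 12, 0, 0, []⟩))))) (.node (.node (.node (.node (.leaf ⟨79, 1, 171, 11, [463, 1000, 1006]⟩) (.leaf ⟨653, 2, 383, 38, [4236, 5810]⟩)) (.node (.leaf ⟨804, 9, 846, 5, [4879, 5100, 5102]⟩) (.leaf ⟨0, 12, 0, 0, []⟩))) (.node (.node (.leaf ⟨350, 9, 463, 39, [2329, 2006, 3050]⟩) (.leaf ⟨0, 12, 0, 0, []⟩))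 (.node (.leaf ⟨903, 9, 986, 5, [5393, 7142, 7146]⟩) (.leaf ⟨0, 12, 0, 0, []⟩)))) (.node (.node (.node (.leaf ⟨160, 4, 301, 43, [980, 1208, 2028]⟩) (.leaf ⟨0, 12, 0, 0, []⟩)) (.node (.leaf ⟨553, 12, 164, 34, [6127]⟩) (.leaf ⟨0, 12, 0, 0, []⟩))) (.node (.node (.leaf ⟨585, 8, 653, 40, [3778, 4078]⟩) (.leaf ⟨0, 12, 0, 0, []⟩)) (.node (.leaf ⟨1074, 2, 1076, 0, []⟩) (.leaf ⟨0, 12, 0, 0, []⟩)))))))))

def fact25 : Arr (CFact) :=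
  (.node (.node (.node (.node (.node (.node (.node (.node (.leaf ⟨5, 3, 8, 7, [31, 38, 48]⟩) (.leaf ⟨1076, 0, 1081, 0, []⟩)) (.node (.leaf ⟨665, 8, 666, 0, []⟩) (.leaf ⟨0, 12, 0, 0, []⟩))) (.node (.node (.leaf ⟨311, 4, 312, 0, []⟩) (.leaf ⟨0, 12, 0, 0, []⟩)) (.node (.leaf ⟨897, 12, 345, 35, [5355, 6193, 4481]⟩) (.leaf ⟨0, 12, 0, 0, []⟩)))) (.node (.node (.node (.leaf ⟨131, 1, 179, 11, [765, 774, 1072]⟩) (.leaf ⟨710, 0, 953, 77, [6283, 6759]⟩)) (.node (.leaf ⟨859, 9, 783, 5, [5167, 5140, 4784]⟩) (.leaf ⟨0, 12, 0, 0, []⟩))) (.node (.node (.leaf ⟨471, 4, 472, 0, []⟩) (.leaf ⟨0, 12, 0, 0, []⟩)) (.node (.leaf ⟨893, 8, 993, 62, [5334, 5343, 7086, 7091, 7210]⟩) (.leaf ⟨0, 12, 0, 0, []⟩))))) (.node (.node (.node (.node (.leaf ⟨88, 9, 92, 0, []⟩) (.leaf ⟨278, 4, 164, 75, [3560, 6128]⟩)) (.node (.leaf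 ⟨363, 5, 760, 28, [2433, 2614, 4654]⟩) (.leaf ⟨0, 12, 0, 0, []⟩))) (.node (.node (.leaf ⟨389, 2, 390, 0, []⟩) (.leaf ⟨0, 12, 0, 0, []⟩)) (.node (.leaf ⟨944, 2, 949, 0, []⟩) (.leaf ⟨0, 12, 0, 0, []⟩)))) (.node (.node (.node (.leaf ⟨93, 12, 235, 76, [573, 1585, 1450]⟩) (.leaf ⟨0, 12, 0, 0, []⟩)) (.node (.leaf ⟨641, 4, 632, 43, [4011, 4008, 5632, 3968]⟩) (.leaf ⟨0, 12, 0, 0, []⟩))) (.node (.node (.leaf ⟨560, 9, 563, 5, [3611, 3454, 3632]⟩) (.leaf ⟨0, 12, 0, 0, []⟩)) (.node (.leaf ⟨587, 9, 1038, 4, [3763, 6452, 7726]⟩) (.leaf ⟨0, 12, 0, 0, []⟩)))))) (.node (.node (.node (.node (.node (.leaf ⟨18, 1, 47, 0, []⟩) (.leaf ⟨1099, 8, 1104, 3, [8427, 8364, 8486]⟩)) (.node (.leaf ⟨707, 9, 714, 5, [4371, 4398, 4400]⟩) (.leaf ⟨0, 12, 0, 0, []⟩))) (.node (.node (.leaf ⟨347, 0, 354, 0, []⟩) (.leaf ⟨0, 12,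 0, 0, []⟩)) (.node (.leaf ⟨569, 0, 775, 125, [3675, 1941, 1146, 1732, 3290, 3292, 6427, 3364, 5744, 2857, 3714, 6314, 5829, 4751]⟩) (.leaf ⟨0, 12, 0, 0, []⟩)))) (.node (.node (.node (.leaf ⟨158, 2, 218, 0, []⟩) (.leaf ⟨0, 12, 0, 0, []⟩)) (.node (.leaf ⟨410, 5, 908, 28, [2749, 3324, 5424]⟩) (.leaf ⟨0, 12, 0, 0, []⟩))) (.node (.node (.leaf ⟨299, 4, 519, 0, []⟩) (.leaf ⟨0, 12, 0, 0, []⟩)) (.node (.leaf ⟨764, 8, 1014, 40, [4692, 6291, 7472]⟩) (.leaf ⟨0, 12, 0, 0, []⟩))))) (.node (.node (.node (.node (.leaf ⟨53, 3, 138, 30, [335, 597, 816]⟩) (.leaf ⟨501, 8, 451, 76, [6217, 3475]⟩)) (.node (.leaf ⟨809, 2, 813, 0, []⟩) (.leaf ⟨0, 12, 0, 0, []⟩))) (.node (.node (.leaf ⟨431, 2, 432, 0, []⟩) (.leaf ⟨0, 12, 0, 0, []⟩)) (.node (.leaf ⟨451, 3, 970, 30, [3455, 6438, 6958]⟩) (.leaf ⟨0, 12, 0, 0, []⟩))))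 (.node (.node (.node (.leaf ⟨230, 1, 276, 8, [1409, 1768, 1840]⟩) (.leaf ⟨0, 12, 0, 0, []⟩)) (.node (.leaf ⟨350, 12, 772, 37, [4548, 5937, 4732]⟩) (.leaf ⟨0, 12, 0, 0, []⟩))) (.node (.node (.leaf ⟨311, 5, 611, 28, [2093, 3814, 3886]⟩) (.leaf ⟨0, 12, 0, 0, []⟩)) (.node (.leaf ⟨842, 8, 1061, 0, []⟩) (.leaf ⟨0, 12, 0, 0, []⟩))))))) (.node (.node (.node (.node (.node (.node (.leaf ⟨25, 3, 29, 27, [151, 124, 170, 173, 111, 50, 176, 177, 176]⟩) (.leaf ⟨1079, 2, 1093, 23, [8215, 6535, 7216, 8368]⟩)) (.node (.leaf ⟨591, 0, 689, 45, [3781, 2041, 693, 738, 1071, 1066, 379, 756, 1687, 1355, 1152, 2758, 4270]⟩) (.leaf ⟨0, 12, 0, 0, []⟩))) (.node (.node (.leaf ⟨159, 5, 333, 12, [935, 1063, 2220]⟩) (.leaf ⟨0, 12, 0, 0, []⟩)) (.node (.leaf ⟨842, 4, 630, 43, [5084, 6316, 4179]⟩) (.leaf ⟨0, 12, 0, 0, []⟩))))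 (.node (.node (.node (.leaf ⟨177, 8, 199, 40, [1069, 1200]⟩) (.leaf ⟨851, 2, 393, 38, [6335, 5184]⟩)) (.node (.leaf ⟨401, 1, 884, 0, []⟩) (.leaf ⟨0, 12, 0, 0, []⟩))) (.node (.node (.leaf ⟨493, 9, 494, 0, []⟩) (.leaf ⟨0, 12, 0, 0, []⟩)) (.node (.leaf ⟨583, 3, 1005, 10, [3739, 1981, 946, 949, 932, 2226, 2219, 1077, 1736, 3336, 7342]⟩) (.leaf ⟨0, 12, 0, 0, []⟩))))) (.node (.node (.node (.node (.leaf ⟨49, 2, 118, 0, []⟩) (.leaf ⟨394, 0, 525, 77, [5040, 6038]⟩)) (.node (.leaf ⟨388, 1, 783, 11, [2597, 2620, 4784]⟩) (.leaf ⟨0, 12, 0, 0, []⟩))) (.node (.node (.leaf ⟨345, 1, 227, 11, [2362, 2734, 2736]⟩) (.leaf ⟨0, 12, 0, 0, []⟩)) (.node (.leaf ⟨502, 5, 960, 133, [3293, 3296, 6252, 3595, 1875, 2758, 2761, 5529, 2765, 4266, 5060, 5057, 2627, 2604, 2599, 2932, 4594, 5694, 3699, 6826]⟩) (.leaf ⟨0, 12,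 0, 0, []⟩)))) (.node (.node (.node (.leaf ⟨246, 12, 199, 34, [1713]⟩) (.leaf ⟨0, 12, 0, 0, []⟩)) (.node (.leaf ⟨685, 12, 383, 74, [4241, 5809, 4900]⟩) (.leaf ⟨0, 12, 0, 0, []⟩))) (.node (.node (.leaf ⟨586, 4, 587, 0, []⟩) (.leaf ⟨0, 12, 0, 0, []⟩)) (.node (.leaf ⟨655, 8, 1050, 62, [4091, 3770, 3765, 7730, 7856]⟩) (.leaf ⟨0, 12, 0, 0, []⟩)))))) (.node (.node (.node (.node (.node (.leaf ⟨53, 1, 74, 8, [333, 346, 432]⟩) (.leaf ⟨72, 0, 136, 77, [1288, 1698]⟩)) (.node (.leaf ⟨738, 4, 740, 0, []⟩) (.leaf ⟨0, 12, 0, 0, []⟩))) (.node (.node (.leaf ⟨279, 1, 369, 8, [1855, 1308, 2476]⟩) (.leaf ⟨0, 12, 0, 0, []⟩)) (.node (.leaf ⟨932, 9, 926, 5, [6575, 6508, 6528]⟩) (.leaf ⟨0, 12, 0, 0, []⟩)))) (.node (.node (.node (.leaf ⟨236, 2, 237, 0, []⟩) (.leaf ⟨0, 12, 0, 0, []⟩)) (.node (.leaf ⟨49, 12, 660, 74,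 [720, 5553, 4116]⟩) (.leaf ⟨0, 12, 0, 0, []⟩))) (.node (.node (.leaf ⟨487, 3, 539, 30, [3199, 3486, 3502]⟩) (.leaf ⟨0, 12, 0, 0, []⟩)) (.node (.leaf ⟨665, 1, 1026, 11, [4193, 5829, 4751, 7600]⟩) (.leaf ⟨0, 12, 0, 0, []⟩))))) (.node (.node (.node (.node (.leaf ⟨115, 2, 161, 13, [675, 802, 942]⟩) (.leaf ⟨630, 0, 415, 77, [3978, 4276]⟩)) (.node (.leaf ⟨691, 5, 836, 56, [4540, 4543, 2477, 1305, 431, 348, 964, 2626, 5040]⟩) (.leaf ⟨0, 12, 0, 0, []⟩))) (.node (.node (.leaf ⟨217, 3, 454, 30, [1327, 2305, 2990]⟩) (.leaf ⟨0, 12, 0, 0, []⟩)) (.node (.leaf ⟨493, 8, 980, 3, [3249, 3236, 7078]⟩) (.leaf ⟨0, 12, 0, 0, []⟩)))) (.node (.node (.node (.leaf ⟨275, 3, 293, 7, [1831, 1751, 1968]⟩) (.leaf ⟨0, 12, 0, 0, []⟩)) (.node (.leaf ⟨268, 12, 807, 76, [1838, 6065, 4890]⟩) (.leaf ⟨0, 12, 0, 0, []⟩))) (.node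 (.node (.leaf ⟨316, 9, 642, 4, [2111, 3951, 4016]⟩) (.leaf ⟨0, 12, 0, 0, []⟩)) (.node (.leaf ⟨835, 8, 1070, 62, [5039, 5020, 4970, 7472, 8110]⟩) (.leaf ⟨0, 12, 0, 0, []⟩)))))))) (.node (.node (.node (.node (.node (.node (.node (.leaf ⟨20, 4, 12, 6, [113, 95, 73]⟩) (.leaf ⟨931, 9, 1088, 4, [6770, 8028, 8298]⟩)) (.node (.leaf ⟨324, 4, 679, 43, [2148, 4082, 4208]⟩) (.leaf ⟨0, 12, 0, 0, []⟩))) (.node (.node (.leaf ⟨207, 4, 326, 24, [1266, 2032, 2161]⟩) (.leaf ⟨0, 12, 0, 0, []⟩)) (.node (.leaf ⟨904, 12, 470, 34, [6186, 6256]⟩) (.leaf ⟨0, 12, 0, 0, []⟩)))) (.node (.node (.node (.leaf ⟨182, 3, 188, 53, [1104, 1111, 1100, 385, 1116, 1117, 1116, 1134, 1136]⟩) (.leaf ⟨755, 1, 743, 36, [4620, 5936]⟩)) (.node (.leaf ⟨434, 4, 871, 0, []⟩) (.leaf ⟨0, 12, 0, 0, []⟩))) (.node (.node (.leaf ⟨328, 2, 484, 63,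 [2177, 1931, 3184]⟩) (.leaf ⟨0, 12, 0, 0, []⟩)) (.node (.leaf ⟨526, 2, 1000, 145, [3458, 3461, 3362, 6426, 6834, 6833, 4611, 6878, 6891, 6802, 7276]⟩) (.leaf ⟨0, 12, 0, 0, []⟩))))) (.node (.node (.node (.node (.leaf ⟨98, 2, 106, 0, []⟩) (.leaf ⟨362, 0, 712, 77, [4638, 6276]⟩)) (.node (.leaf ⟨559, 9, 771, 0, []⟩) (.leaf ⟨0, 12, 0, 0, []⟩))) (.node (.node (.leaf ⟨351, 0, 399, 0, []⟩) (.leaf ⟨0, 12, 0, 0, []⟩)) (.node (.leaf ⟨931, 5, 852, 28, [6571, 6764, 6334, 5132]⟩) (.leaf ⟨0, 12, 0, 0, []⟩)))) (.node (.node (.node (.leaf ⟨107, 12, 89, 34, [1649]⟩) (.leaf ⟨0, 12, 0, 0, []⟩)) (.node (.leaf ⟨204, 12, 521, 76, [2860, 5745, 3396]⟩) (.leaf ⟨0, 12, 0, 0, []⟩))) (.node (.node (.leaf ⟨437, 2, 574, 0, []⟩) (.leaf ⟨0, 12, 0, 0, []⟩)) (.node (.leaf ⟨592, 3, 1045, 30, [7784, 7779, 7792]⟩) (.leaf ⟨0, 12,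 0, 0, []⟩)))))) (.node (.node (.node (.node (.node (.leaf ⟨30, 0, 60, 0, []⟩) (.leaf ⟨1110, 2, 1111, 0, []⟩)) (.node (.leaf ⟨727, 4, 728, 0, []⟩) (.leaf ⟨0, 12, 0, 0, []⟩))) (.node (.node (.leaf ⟨175, 8, 361, 62, [1048, 1562, 787, 1559, 1428, 2408, 2412]⟩) (.leaf ⟨0, 12, 0, 0, []⟩)) (.node (.leaf ⟨416, 5, 924, 57, [4279, 4016, 5897, 5158, 6331, 5206, 5168, 5130, 6335, 5460, 6361, 6510]⟩) (.leaf ⟨0, 12, 0, 0, []⟩)))) (.node (.node (.node (.leaf ⟨77, 9, 226, 4, [451, 1368, 1390]⟩) (.leaf ⟨0, 12, 0, 0, []⟩)) (.node (.leaf ⟨920, 9, 917, 4, [5489, 3873, 5476]⟩) (.leaf ⟨0, 12, 0, 0, []⟩))) (.node (.node (.leaf ⟨496, 3, 529, 41, [3269, 2086, 2081, 1173, 2750, 2753, 2079, 1794, 3440]⟩) (.leaf ⟨0, 12, 0, 0, []⟩)) (.node (.leaf ⟨641, 0, 1020, 94, [4013, 4024, 6339, 6771, 6573, 6554, 6557, 7444, 7534]⟩)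 (.leaf ⟨0, 12, 0, 0, []⟩))))) (.node (.node (.node (.node (.leaf ⟨147, 0, 149, 0, []⟩) (.leaf ⟨543, 2, 654, 38, [6107, 4887, 5840]⟩)) (.node (.leaf ⟨385, 9, 824, 4, [2587, 4901, 4976]⟩) (.leaf ⟨0, 12, 0, 0, []⟩))) (.node (.node (.leaf ⟨429, 3, 445, 30, [2847, 2222, 2926]⟩) (.leaf ⟨0, 12, 0, 0, []⟩)) (.node (.leaf ⟨503, 3, 975, 30, [6976, 6971, 7022]⟩) (.leaf ⟨0, 12, 0, 0, []⟩)))) (.node (.node (.node (.leaf ⟨286, 9, 257, 4, [1905, 1818, 1720]⟩) (.leaf ⟨0, 12, 0, 0, []⟩)) (.node (.leaf ⟨826, 12, 293, 34, [6001]⟩) (.leaf ⟨0, 12, 0, 0, []⟩))) (.node (.node (.leaf ⟨628, 9, 629, 0, []⟩) (.leaf ⟨0, 12, 0, 0, []⟩)) (.node (.leaf ⟨716, 9, 1065, 46, [4413, 4411, 6123, 5077, 5892, 8040]⟩) (.leaf ⟨0, 12, 0, 0, []⟩))))))) (.node (.node (.node (.node (.node (.node (.leaf ⟨14, 8, 37, 3, [83, 74, 236]⟩)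 (.leaf ⟨1097, 3, 1100, 53, [8411, 7629, 7738, 8420, 8419, 8418, 8419, 7260, 8432]⟩)) (.node (.leaf ⟨336, 1, 702, 0, []⟩) (.leaf ⟨0, 12, 0, 0, []⟩))) (.node (.node (.leaf ⟨344, 2, 262, 50, [2289, 1749]⟩) (.leaf ⟨0, 12, 0, 0, []⟩)) (.node (.leaf ⟨734, 5, 829, 127, [4505, 2315, 1681, 1790, 3440, 6384, 5690, 4208, 5838, 2576, 6096, 3524, 6136, 2590, 5002]⟩) (.leaf ⟨0, 12, 0, 0, []⟩)))) (.node (.node (.node (.leaf ⟨207, 9, 160, 5, [1263, 970, 938]⟩) (.leaf ⟨955, 8, 951, 76, [6751, 6756]⟩)) (.node (.leaf ⟨405, 5, 898, 28, [2703, 5347, 5360]⟩) (.leaf ⟨0, 12, 0, 0, []⟩))) (.node (.node (.leaf ⟨260, 3, 506, 30, [1735, 2245, 3310]⟩) (.leaf ⟨0, 12, 0, 0, []⟩)) (.node (.leaf ⟨561, 5, 1009, 85, [7048, 7045, 7342, 7345, 5869, 6473, 6319, 4755, 5050, 5049, 5040, 6038, 7404]⟩) (.leaf ⟨0, 12, 0, 0, []⟩)))))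 (.node (.node (.node (.node (.leaf ⟨87, 5, 129, 28, [564, 748, 750]⟩) (.leaf ⟨448, 4, 399, 75, [2970, 5952]⟩)) (.node (.leaf ⟨382, 2, 796, 0, []⟩) (.leaf ⟨0, 12, 0, 0, []⟩))) (.node (.node (.leaf ⟨414, 9, 422, 5, [2767, 2798, 2800]⟩) (.leaf ⟨0, 12, 0, 0, []⟩)) (.node (.leaf ⟨442, 5, 965, 57, [6410, 6422, 6638, 6645, 5018, 6159, 5685, 5687, 6892]⟩) (.leaf ⟨0, 12, 0, 0, []⟩)))) (.node (.node (.node (.leaf ⟨117, 2, 267, 0, []⟩) (.leaf ⟨0, 12, 0, 0, []⟩)) (.node (.leaf ⟨636, 12, 839, 38, [3988, 5873, 5147]⟩) (.leaf ⟨0, 12, 0, 0, []⟩))) (.node (.node (.leaf ⟨477, 1, 599, 70, [3141, 3079, 2693, 2728, 2968, 1813, 1811, 599, 1776, 3404, 3620, 3617, 2850, 3820]⟩) (.leaf ⟨0, 12, 0, 0, []⟩)) (.node (.leaf ⟨978, 0, 1056, 69, [7074, 7908, 7918]⟩) (.leaf ⟨0, 12, 0, 0, []⟩)))))) (.node (.node (.node (.node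 (.node (.leaf ⟨80, 2, 84, 47, [479, 237, 148, 160, 163, 101, 77, 236, 247, 272, 494]⟩) (.leaf ⟨129, 1, 172, 36, [1567, 1027]⟩)) (.node (.leaf ⟨445, 0, 752, 44, [2935, 3616, 3615, 3413, 3412, 3413, 2634, 3012, 4592]⟩) (.leaf ⟨0, 12, 0, 0, []⟩))) (.node (.node (.leaf ⟨377, 9, 378, 0, []⟩) (.leaf ⟨0, 12, 0, 0, []⟩)) (.node (.leaf ⟨721, 8, 938, 40, [6548, 6640]⟩) (.leaf ⟨0, 12, 0, 0, []⟩)))) (.node (.node (.node (.leaf ⟨92, 4, 253, 0, []⟩) (.leaf ⟨0, 12, 0, 0, []⟩)) (.node (.leaf ⟨626, 12, 637, 74, [3947, 5617, 3995]⟩) (.leaf ⟨0, 12, 0, 0, []⟩))) (.node (.node (.leaf ⟨331, 9, 554, 5, [2201, 2484, 3566]⟩) (.leaf ⟨0, 12, 0, 0, []⟩)) (.node (.leaf ⟨774, 0, 1032, 94, [5034, 7204, 7458, 7461, 6757, 6749, 6476, 7200, 7197, 7664]⟩) (.leaf ⟨0, 12, 0, 0, []⟩))))) (.node (.node (.node (.node (.leaf ⟨150,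 3, 171, 7, [889, 464, 1008]⟩) (.leaf ⟨654, 1, 381, 36, [4208, 5838]⟩)) (.node (.leaf ⟨390, 5, 846, 28, [2613, 4881, 5104]⟩) (.leaf ⟨0, 12, 0, 0, []⟩))) (.node (.node (.leaf ⟨298, 4, 464, 0, []⟩) (.leaf ⟨0, 12, 0, 0, []⟩)) (.node (.leaf ⟨982, 8, 986, 40, [7107, 7152]⟩) (.leaf ⟨0, 12, 0, 0, []⟩)))) (.node (.node (.node (.leaf ⟨125, 0, 302, 0, []⟩) (.leaf ⟨0, 12, 0, 0, []⟩)) (.node (.leaf ⟨363, 12, 546, 76, [2433, 6129, 3565]⟩) (.leaf ⟨0, 12, 0, 0, []⟩))) (.node (.node (.leaf ⟨325, 4, 654, 0, []⟩) (.leaf ⟨0, 12, 0, 0, []⟩)) (.node (.leaf ⟨953, 4, 1076, 84, [6760, 6753, 6723, 6757, 6749, 6476, 7200, 7206, 8154, 8176]⟩) (.leaf ⟨0, 12, 0, 0, []⟩)))))))))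

def fact26 : Arr (CFact) :=
  (.node (.node (.node (.node (.node (.node (.node (.node (.leaf ⟨7, 2, 8, 13, [43, 32, 48]⟩) (.leaf ⟨1073, 2, 1081, 26, [8147, 8146, 8147, 4378, 7868, 7873, 8141, 8186, 8242]⟩)) (.node (.leaf ⟨666, 8, 322, 19, [4147, 4145]⟩) (.leaf ⟨0, 12, 0, 0, []⟩))) (.node (.node (.leaf ⟨312, 2, 313, 0, []⟩) (.leaf ⟨0, 12, 0, 0, []⟩)) (.node (.leaf ⟨227, 12, 507, 36, [2739, 6195, 5357]⟩) (.leaf ⟨0, 12, 0, 0, []⟩)))) (.node (.node (.node (.leaf ⟨94, 3, 179, 7, [581, 768, 1074]⟩) (.leaf ⟨710, 1, 401, 36, [4384, 6278]⟩)) (.node (.leaf ⟨853, 4, 860, 0, []⟩) (.leaf ⟨0, 12, 0, 0, []⟩))) (.node (.node (.leaf ⟨453, 1, 472, 8, [2983, 3114, 3122]⟩) (.leaf ⟨0, 12, 0, 0, []⟩)) (.node (.leaf ⟨993, 4, 994, 0, []⟩) (.leaf ⟨0, 12, 0, 0, []⟩))))) (.node (.node (.node (.node (.leaf ⟨87, 8, 92,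 40, [520, 562]⟩) (.leaf ⟨284, 4, 204, 75, [3394, 5748]⟩)) (.node (.leaf ⟨363, 1, 761, 0, []⟩) (.leaf ⟨0, 12, 0, 0, []⟩))) (.node (.node (.leaf ⟨382, 9, 390, 5, [2577, 2608, 2610]⟩) (.leaf ⟨0, 12, 0, 0, []⟩)) (.node (.leaf ⟨949, 2, 940, 50, [6707, 6671]⟩) (.leaf ⟨0, 12, 0, 0, []⟩)))) (.node (.node (.node (.leaf ⟨235, 12, 93, 34, [1587]⟩) (.leaf ⟨0, 12, 0, 0, []⟩)) (.node (.leaf ⟨648, 4, 597, 24, [4044, 4008, 5632, 3887]⟩) (.leaf ⟨0, 12, 0, 0, []⟩))) (.node (.node (.leaf ⟨285, 5, 563, 28, [1899, 3613, 3634]⟩) (.leaf ⟨0, 12, 0, 0, []⟩)) (.node (.leaf ⟨988, 3, 1038, 30, [7636, 7629, 7730]⟩) (.leaf ⟨0, 12, 0, 0, []⟩)))))) (.node (.node (.node (.node (.node (.leaf ⟨47, 2, 48, 0, []⟩) (.leaf ⟨1039, 1, 1105, 0, []⟩)) (.node (.leaf ⟨640, 3, 714, 30, [4045, 4373, 4402]⟩) (.leaf ⟨0, 12, 0, 0, []⟩)))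 (.node (.node (.leaf ⟨217, 2, 354, 26, [1329, 1328, 1329, 820, 2300, 2304, 1325, 2311, 2354]⟩) (.leaf ⟨0, 12, 0, 0, []⟩)) (.node (.leaf ⟨586, 9, 775, 46, [3761, 3681, 3677, 6450]⟩) (.leaf ⟨0, 12, 0, 0, []⟩)))) (.node (.node (.node (.leaf ⟨218, 4, 147, 6, [1331, 929, 891]⟩) (.leaf ⟨0, 12, 0, 0, []⟩)) (.node (.leaf ⟨697, 4, 909, 0, []⟩) (.leaf ⟨0, 12, 0, 0, []⟩))) (.node (.node (.leaf ⟨449, 1, 519, 8, [2971, 2961, 3378]⟩) (.leaf ⟨0, 12, 0, 0, []⟩)) (.node (.leaf ⟨1014, 2, 1015, 0, []⟩) (.leaf ⟨0, 12, 0, 0, []⟩))))) (.node (.node (.node (.node (.leaf ⟨74, 2, 139, 0, []⟩) (.leaf ⟨504, 2, 459, 38, [4330, 6242]⟩)) (.node (.leaf ⟨813, 0, 433, 95, [4915, 4904, 4907, 2873]⟩) (.leaf ⟨0, 12, 0, 0, []⟩))) (.node (.node (.leaf ⟨432, 4, 204, 6, [2867, 2865, 2667]⟩) (.leaf ⟨0, 12, 0, 0, []⟩)) (.node (.leaf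 ⟨968, 5, 970, 28, [6937, 6440, 6958]⟩) (.leaf ⟨0, 12, 0, 0, []⟩)))) (.node (.node (.node (.leaf ⟨99, 9, 276, 4, [605, 1770, 1840]⟩) (.leaf ⟨0, 12, 0, 0, []⟩)) (.node (.leaf ⟨772, 12, 350, 34, [5939]⟩) (.leaf ⟨0, 12, 0, 0, []⟩))) (.node (.node (.leaf ⟨315, 4, 612, 0, []⟩) (.leaf ⟨0, 12, 0, 0, []⟩)) (.node (.leaf ⟨1047, 2, 1061, 18, [7807, 7783, 7986]⟩) (.leaf ⟨0, 12, 0, 0, []⟩))))))) (.node (.node (.node (.node (.node (.node (.leaf ⟨21, 4, 30, 0, []⟩) (.leaf ⟨932, 0, 1093, 69, [6578, 7216, 8368]⟩)) (.node (.leaf ⟨634, 12, 415, 53, [3979, 3959, 3952, 3985, 3983, 3982, 3983, 3784, 4274, 4273]⟩) (.leaf ⟨0, 12, 0, 0, []⟩))) (.node (.node (.leaf ⟨261, 8, 334, 0, []⟩) (.leaf ⟨0, 12, 0, 0, []⟩)) (.node (.leaf ⟨861, 12, 858, 124, [5179, 5286, 6030, 4529, 4511, 3569, 3478, 3554, 6119, 5115, 5082, 6322,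 3959, 3962, 5778, 5162]⟩) (.leaf ⟨0, 12, 0, 0, []⟩)))) (.node (.node (.node (.leaf ⟨177, 3, 199, 30, [1202, 1199, 1200]⟩) (.leaf ⟨851, 4, 930, 75, [6335, 6765]⟩)) (.node (.leaf ⟨884, 2, 885, 0, []⟩) (.leaf ⟨0, 12, 0, 0, []⟩))) (.node (.node (.leaf ⟨255, 0, 494, 21, [3099, 3248, 3250]⟩) (.leaf ⟨0, 12, 0, 0, []⟩)) (.node (.leaf ⟨870, 2, 1005, 47, [5233, 2665, 1929, 1918, 2932, 2923, 2643, 3308, 3315, 3336, 7342]⟩) (.leaf ⟨0, 12, 0, 0, []⟩))))) (.node (.node (.node (.node (.leaf ⟨68, 1, 118, 11, [399, 315, 690]⟩) (.leaf ⟨398, 4, 266, 75, [2864, 5712]⟩)) (.node (.leaf ⟨391, 3, 783, 7, [2617, 2604, 4786]⟩) (.leaf ⟨0, 12, 0, 0, []⟩))) (.node (.node (.leaf ⟨258, 0, 410, 0, []⟩) (.leaf ⟨0, 12, 0, 0, []⟩)) (.node (.leaf ⟨582, 8, 960, 48, [6422, 6430, 6834]⟩) (.leaf ⟨0, 12, 0, 0, []⟩)))) (.node (.node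 (.node (.leaf ⟨231, 0, 127, 80, [1423, 1553, 1525, 622, 709, 705, 393, 381, 764, 767, 1691, 1187, 766, 1705, 1674, 1673, 1269, 757, 378, 1067, 1070]⟩) (.leaf ⟨0, 12, 0, 0, []⟩)) (.node (.leaf ⟨797, 12, 770, 75, [4859, 5811, 4710]⟩) (.leaf ⟨0, 12, 0, 0, []⟩))) (.node (.node (.leaf ⟨587, 1, 588, 0, []⟩) (.leaf ⟨0, 12, 0, 0, []⟩)) (.node (.leaf ⟨939, 4, 1051, 0, []⟩) (.leaf ⟨0, 12, 0, 0, []⟩)))))) (.node (.node (.node (.node (.node (.leaf ⟨66, 2, 75, 0, []⟩) (.leaf ⟨75, 0, 130, 77, [1354, 1686]⟩)) (.node (.leaf ⟨740, 1, 741, 0, []⟩) (.leaf ⟨0, 12, 0, 0, []⟩))) (.node (.node (.leaf ⟨172, 9, 369, 4, [1021, 1302, 2476]⟩) (.leaf ⟨0, 12, 0, 0, []⟩)) (.node (.leaf ⟨923, 4, 933, 0, []⟩) (.leaf ⟨0, 12, 0, 0, []⟩)))) (.node (.node (.node (.leaf ⟨237, 4, 82, 6, [1459, 1457, 1447]⟩) (.leaf ⟨0, 12, 0, 0,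 []⟩)) (.node (.leaf ⟨660, 12, 49, 34, [5555]⟩) (.leaf ⟨0, 12, 0, 0, []⟩))) (.node (.node (.leaf ⟨539, 4, 540, 0, []⟩) (.leaf ⟨0, 12, 0, 0, []⟩)) (.node (.leaf ⟨762, 5, 1026, 87, [4800, 7438, 7454, 7494, 7491, 4249, 2179, 3436, 6371, 3712, 6314, 5829, 4751, 7600]⟩) (.leaf ⟨0, 12, 0, 0, []⟩))))) (.node (.node (.node (.node (.leaf ⟨57, 4, 161, 43, [350, 798, 942]⟩) (.leaf ⟨630, 4, 626, 75, [3992, 5620]⟩)) (.node (.leaf ⟨830, 8, 836, 3, [5005, 2630, 5040]⟩) (.leaf ⟨0, 12, 0, 0, []⟩))) (.node (.node (.leaf ⟨354, 4, 455, 0, []⟩) (.leaf ⟨0, 12, 0, 0, []⟩)) (.node (.leaf ⟨771, 4, 981, 0, []⟩) (.leaf ⟨0, 12, 0, 0, []⟩)))) (.node (.node (.node (.leaf ⟨251, 2, 293, 13, [1516, 1548, 850, 1968]⟩) (.leaf ⟨0, 12, 0, 0, []⟩)) (.node (.leaf ⟨807, 12, 268, 34, [6067]⟩) (.leaf ⟨0, 12, 0, 0, []⟩))) (.node (.node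 (.leaf ⟨631, 0, 643, 0, []⟩) (.leaf ⟨0, 12, 0, 0, []⟩)) (.node (.leaf ⟨961, 2, 1071, 0, []⟩) (.leaf ⟨0, 12, 0, 0, []⟩)))))))) (.node (.node (.node (.node (.node (.node (.node (.leaf ⟨20, 9, 7, 5, [113, 96, 40]⟩) (.leaf ⟨930, 8, 1088, 40, [6570, 8306]⟩)) (.node (.leaf ⟨670, 8, 680, 0, []⟩) (.leaf ⟨0, 12, 0, 0, []⟩))) (.node (.node (.leaf ⟨288, 2, 327, 0, []⟩) (.leaf ⟨0, 12, 0, 0, []⟩)) (.node (.leaf ⟨485, 12, 726, 76, [3195, 6257, 4456]⟩) (.leaf ⟨0, 12, 0, 0, []⟩)))) (.node (.node (.node (.leaf ⟨112, 1, 188, 11, [658, 1118, 1134]⟩) (.leaf ⟨757, 4, 590, 75, [5991, 4988, 5764]⟩)) (.node (.leaf ⟨431, 1, 871, 8, [2865, 2874, 5234]⟩) (.leaf ⟨0, 12, 0, 0, []⟩))) (.node (.node (.leaf ⟨371, 0, 485, 0, []⟩) (.leaf ⟨0, 12, 0, 0, []⟩)) (.node (.leaf ⟨532, 9, 1000, 4, [6374, 6808, 7276]⟩) (.leaf ⟨0, 12,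 0, 0, []⟩))))) (.node (.node (.node (.node (.leaf ⟨97, 1, 106, 11, [595, 600, 626]⟩) (.leaf ⟨366, 1, 541, 36, [4696, 6090]⟩)) (.node (.leaf ⟨558, 8, 771, 40, [3602, 4722]⟩) (.leaf ⟨0, 12, 0, 0, []⟩))) (.node (.node (.leaf ⟨399, 9, 400, 0, []⟩) (.leaf ⟨0, 12, 0, 0, []⟩)) (.node (.leaf ⟨931, 3, 893, 10, [6770, 5135, 2618, 5150, 5872, 3958, 6323, 5083, 5076, 6122, 4410, 4416, 6285, 5332]⟩) (.leaf ⟨0, 12, 0, 0, []⟩)))) (.node (.node (.node (.leaf ⟨40, 12, 142, 75, [528, 1651, 844]⟩) (.leaf ⟨0, 12, 0, 0, []⟩)) (.node (.leaf ⟨521, 12, 204, 34, [5747]⟩) (.leaf ⟨0, 12, 0, 0, []⟩))) (.node (.node (.leaf ⟨318, 0, 574, 94, [2117, 1941, 1946, 1955, 1225, 1240, 2854, 2882, 3698]⟩) (.leaf ⟨0, 12, 0, 0, []⟩)) (.node (.leaf ⟨1004, 1, 1046, 0, []⟩) (.leaf ⟨0, 12, 0, 0, []⟩)))))) (.node (.node (.node (.node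 (.node (.leaf ⟨60, 9, 61, 0, []⟩) (.leaf ⟨1108, 1, 1111, 11, [8531, 8556, 8562]⟩)) (.node (.leaf ⟨728, 1, 729, 0, []⟩) (.leaf ⟨0, 12, 0, 0, []⟩))) (.node (.node (.leaf ⟨357, 4, 362, 0, []⟩) (.leaf ⟨0, 12, 0, 0, []⟩)) (.node (.leaf ⟨688, 1, 924, 11, [4261, 5456, 6510]⟩) (.leaf ⟨0, 12, 0, 0, []⟩)))) (.node (.node (.node (.leaf ⟨223, 0, 227, 0, []⟩) (.leaf ⟨0, 12, 0, 0, []⟩)) (.node (.leaf ⟨914, 4, 921, 0, []⟩) (.leaf ⟨0, 12, 0, 0, []⟩))) (.node (.node (.leaf ⟨519, 2, 530, 0, []⟩) (.leaf ⟨0, 12, 0, 0, []⟩)) (.node (.leaf ⟨549, 1, 1020, 11, [3545, 7448, 7534]⟩) (.leaf ⟨0, 12, 0, 0, []⟩))))) (.node (.node (.node (.node (.leaf ⟨149, 9, 150, 0, []⟩) (.leaf ⟨543, 4, 513, 75, [6107, 6301]⟩)) (.node (.leaf ⟨814, 0, 825, 0, []⟩) (.leaf ⟨0, 12, 0, 0, []⟩))) (.node (.node (.leaf ⟨288, 5, 445, 28, [1923,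 2226, 2926]⟩) (.leaf ⟨0, 12, 0, 0, []⟩)) (.node (.leaf ⟨459, 2, 976, 0, []⟩) (.leaf ⟨0, 12, 0, 0, []⟩)))) (.node (.node (.node (.leaf ⟨203, 2, 287, 0, []⟩) (.leaf ⟨0, 12, 0, 0, []⟩)) (.node (.leaf ⟨573, 12, 385, 77, [3693, 6003, 4985]⟩) (.leaf ⟨0, 12, 0, 0, []⟩))) (.node (.node (.leaf ⟨314, 0, 629, 21, [3946, 3952, 3954]⟩) (.leaf ⟨0, 12, 0, 0, []⟩)) (.node (.leaf ⟨1020, 8, 1065, 3, [7539, 4035, 8040]⟩) (.leaf ⟨0, 12, 0, 0, []⟩))))))) (.node (.node (.node (.node (.node (.node (.leaf ⟨15, 9, 37, 39, [87, 79, 236]⟩) (.leaf ⟨1039, 2, 1100, 29, [7735, 7714, 6699, 6706, 7252, 8230, 8235, 7729, 8432]⟩)) (.node (.leaf ⟨501, 3, 702, 7, [3291, 2245, 4338]⟩) (.leaf ⟨0, 12, 0, 0, []⟩))) (.node (.node (.leaf ⟨344, 4, 151, 6, [2289, 1311, 923]⟩) (.leaf ⟨0, 12, 0, 0, []⟩)) (.node (.leaf ⟨579, 1, 898, 91,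 [3718, 3713, 6370, 3438, 6384, 5360]⟩) (.leaf ⟨0, 12, 0, 0, []⟩)))) (.node (.node (.node (.leaf ⟨130, 4, 208, 0, []⟩) (.leaf ⟨956, 2, 710, 38, [6779, 6282]⟩)) (.node (.leaf ⟨405, 1, 899, 0, []⟩) (.leaf ⟨0, 12, 0, 0, []⟩))) (.node (.node (.leaf ⟨404, 4, 507, 0, []⟩) (.leaf ⟨0, 12, 0, 0, []⟩)) (.node (.leaf ⟨1000, 1, 1009, 11, [7283, 3421, 7404]⟩) (.leaf ⟨0, 12, 0, 0, []⟩))))) (.node (.node (.node (.node (.leaf ⟨51, 4, 130, 0, []⟩) (.leaf ⟨450, 0, 298, 77, [5943, 3051]⟩)) (.node (.leaf ⟨796, 2, 381, 50, [4851, 2577]⟩) (.leaf ⟨0, 12, 0, 0, []⟩))) (.node (.node (.leaf ⟨193, 5, 422, 28, [1167, 2769, 2802]⟩) (.leaf ⟨0, 12, 0, 0, []⟩)) (.node (.leaf ⟨787, 1, 965, 11, [4805, 6388, 6892]⟩) (.leaf ⟨0, 12, 0, 0, []⟩)))) (.node (.node (.node (.leaf ⟨267, 4, 110, 6, [1779, 687, 667]⟩) (.leaf ⟨0, 12, 0,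 0, []⟩)) (.node (.leaf ⟨839, 12, 636, 34, [5875]⟩) (.leaf ⟨0, 12, 0, 0, []⟩))) (.node (.node (.leaf ⟨523, 9, 599, 46, [3620, 3617, 2850, 3820]⟩) (.leaf ⟨0, 12, 0, 0, []⟩)) (.node (.leaf ⟨729, 4, 1056, 24, [4475, 7910, 7918]⟩) (.leaf ⟨0, 12, 0, 0, []⟩)))))) (.node (.node (.node (.node (.node (.leaf ⟨84, 1, 84, 8, [495, 275, 494]⟩) (.leaf ⟨129, 2, 174, 38, [1567, 1038]⟩)) (.node (.leaf ⟨454, 1, 752, 11, [2987, 3014, 4592]⟩) (.leaf ⟨0, 12, 0, 0, []⟩))) (.node (.node (.leaf ⟨161, 0, 378, 21, [975, 2542, 2546]⟩) (.leaf ⟨0, 12, 0, 0, []⟩)) (.node (.leaf ⟨601, 5, 938, 28, [4264, 6546, 6640]⟩) (.leaf ⟨0, 12, 0, 0, []⟩)))) (.node (.node (.node (.leaf ⟨104, 0, 253, 73, [622, 709, 703, 398, 1206, 1209, 977, 1080, 1085, 545, 528, 527, 271, 272, 496, 560, 559, 566, 1522]⟩) (.leaf ⟨0, 12, 0, 0, []⟩)) (.node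 (.leaf ⟨637, 12, 626, 34, [5619]⟩) (.leaf ⟨0, 12, 0, 0, []⟩))) (.node (.node (.leaf ⟨359, 8, 554, 40, [2400, 3570]⟩) (.leaf ⟨0, 12, 0, 0, []⟩)) (.node (.leaf ⟨649, 1, 1032, 11, [4047, 4054, 7664]⟩) (.leaf ⟨0, 12, 0, 0, []⟩))))) (.node (.node (.node (.node (.leaf ⟨149, 1, 155, 61, [921, 919, 345, 886, 889, 464, 461, 366, 460, 1008, 1007, 1005, 923, 914]⟩) (.leaf ⟨654, 2, 542, 38, [4712, 6100]⟩)) (.node (.leaf ⟨838, 4, 846, 49, [5057, 2627, 2614, 5106]⟩) (.leaf ⟨0, 12, 0, 0, []⟩))) (.node (.node (.leaf ⟨280, 1, 464, 8, [1861, 2004, 3058]⟩) (.leaf ⟨0, 12, 0, 0, []⟩)) (.node (.leaf ⟨786, 2, 987, 0, []⟩) (.leaf ⟨0, 12, 0, 0, []⟩)))) (.node (.node (.node (.leaf ⟨302, 2, 290, 29, [2035, 730, 680, 683, 654, 1222, 1954, 1947, 1940]⟩) (.leaf ⟨0, 12, 0, 0, []⟩)) (.node (.leaf ⟨546, 12, 363, 34, [6131]⟩)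 (.leaf ⟨0, 12, 0, 0, []⟩))) (.node (.node (.leaf ⟨640, 9, 654, 4, [4007, 2152, 4082]⟩) (.leaf ⟨0, 12, 0, 0, []⟩)) (.node (.leaf ⟨933, 1, 1076, 11, [8042, 8158, 8176]⟩) (.leaf ⟨0, 12, 0, 0, []⟩)))))))))

def fact27 : Arr (CFact) :=
  (.node (.node (.node (.node (.node (.node (.node (.node (.leaf ⟨2, 0, 9, 0, []⟩) (.leaf ⟨1033, 5, 1081, 112, [7679, 4662, 4667, 4746, 5034, 5031, 8141, 8186, 8242]⟩)) (.node (.leaf ⟨626, 1, 666, 20, [3947, 2105, 724, 2140, 4149]⟩) (.leaf ⟨0, 12, 0, 0, []⟩))) (.node (.node (.leaf ⟨313, 4, 123, 6, [2101, 2099, 2089]⟩) (.leaf ⟨0, 12, 0, 0, []⟩)) (.node (.leaf ⟨507, 12, 227, 34, [6197]⟩) (.leaf ⟨0, 12, 0, 0, []⟩)))) (.node (.node (.node (.leaf ⟨137, 4, 179, 43, [811, 766, 1074]⟩) (.leaf ⟨710, 2, 885, 38, [6283, 5300]⟩)) (.node (.leaf ⟨860, 9, 784, 4, [5173, 5140, 4790]⟩)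 (.leaf ⟨0, 12, 0, 0, []⟩))) (.node (.node (.leaf ⟨472, 2, 473, 0, []⟩) (.leaf ⟨0, 12, 0, 0, []⟩)) (.node (.leaf ⟨847, 5, 994, 59, [5115, 4791, 5779, 4020, 5895, 5164, 6335, 5460, 6510, 6552, 6555, 6528, 7216, 7220]⟩) (.leaf ⟨0, 12, 0, 0, []⟩))))) (.node (.node (.node (.node (.leaf ⟨41, 0, 92, 21, [269, 522, 562]⟩) (.leaf ⟨285, 4, 205, 75, [3644, 5726]⟩)) (.node (.leaf ⟨761, 2, 762, 0, []⟩) (.leaf ⟨0, 12, 0, 0, []⟩))) (.node (.node (.leaf ⟨164, 5, 390, 28, [963, 2579, 2612]⟩) (.leaf ⟨0, 12, 0, 0, []⟩)) (.node (.leaf ⟨949, 9, 602, 5, [6707, 6672, 3838]⟩) (.leaf ⟨0, 12, 0, 0, []⟩)))) (.node (.node (.node (.leaf ⟨187, 12, 239, 36, [1131, 1589, 1466]⟩) (.leaf ⟨0, 12, 0, 0, []⟩)) (.node (.leaf ⟨898, 0, 648, 99, [5363, 2705, 1077, 579, 1132, 1374, 1381, 1047, 1010, 1015, 2444, 4356, 4364, 4369, 5684,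 3815, 2065, 2116, 4042]⟩) (.leaf ⟨0, 12, 0, 0, []⟩))) (.node (.node (.leaf ⟨346, 4, 564, 0, []⟩) (.leaf ⟨0, 12, 0, 0, []⟩)) (.node (.leaf ⟨1036, 0, 1039, 0, []⟩) (.leaf ⟨0, 12, 0, 0, []⟩)))))) (.node (.node (.node (.node (.node (.leaf ⟨44, 1, 48, 11, [291, 306, 308]⟩) (.leaf ⟨1105, 0, 1105, 92, [8501, 8436, 8441, 8412, 8434, 8441, 7735, 7812, 7809, 7813, 7734, 8500]⟩)) (.node (.leaf ⟨340, 5, 714, 28, [2269, 4375, 4402]⟩) (.leaf ⟨0, 12, 0, 0, []⟩))) (.node (.node (.leaf ⟨354, 9, 355, 0, []⟩) (.leaf ⟨0, 12, 0, 0, []⟩)) (.node (.leaf ⟨774, 8, 650, 48, [4748, 6453, 4056]⟩) (.leaf ⟨0, 12, 0, 0, []⟩)))) (.node (.node (.node (.leaf ⟨218, 9, 139, 5, [1331, 930, 820]⟩) (.leaf ⟨0, 12, 0, 0, []⟩)) (.node (.leaf ⟨505, 1, 909, 8, [3303, 4318, 5428]⟩) (.leaf ⟨0, 12, 0, 0, []⟩))) (.node (.node (.leaf ⟨519,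 9, 518, 4, [3379, 2017, 3376]⟩) (.leaf ⟨0, 12, 0, 0, []⟩)) (.node (.leaf ⟨655, 0, 1015, 42, [4168, 5857, 6305, 6290, 4691, 7236, 7231, 7466, 7467, 7466, 7476]⟩) (.leaf ⟨0, 12, 0, 0, []⟩))))) (.node (.node (.node (.node (.leaf ⟨54, 1, 139, 11, [337, 434, 820]⟩) (.leaf ⟨505, 1, 335, 36, [5430, 6404]⟩)) (.node (.leaf ⟨813, 9, 384, 5, [4915, 4897, 2582]⟩) (.leaf ⟨0, 12, 0, 0, []⟩))) (.node (.node (.leaf ⟨204, 1, 433, 0, []⟩) (.leaf ⟨0, 12, 0, 0, []⟩)) (.node (.leaf ⟨970, 1, 971, 0, []⟩) (.leaf ⟨0, 12, 0, 0, []⟩)))) (.node (.node (.node (.leaf ⟨268, 0, 277, 0, []⟩) (.leaf ⟨0, 12, 0, 0, []⟩)) (.node (.leaf ⟨463, 12, 450, 76, [3057, 5941, 4737]⟩) (.leaf ⟨0, 12, 0, 0, []⟩))) (.node (.node (.leaf ⟨312, 1, 612, 8, [2099, 2108, 3892]⟩) (.leaf ⟨0, 12, 0, 0, []⟩)) (.node (.leaf ⟨860, 4, 1061, 24, [5174,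 5082, 7986]⟩) (.leaf ⟨0, 12, 0, 0, []⟩))))))) (.node (.node (.node (.node (.node (.node (.leaf ⟨30, 4, 20, 14, [181, 119, 95, 115]⟩) (.leaf ⟨1078, 4, 1093, 24, [8201, 7214, 8368]⟩)) (.node (.leaf ⟨627, 0, 416, 51, [3950, 3782, 4274, 4269]⟩) (.leaf ⟨0, 12, 0, 0, []⟩))) (.node (.node (.leaf ⟨258, 2, 334, 18, [1725, 1738, 2228]⟩) (.leaf ⟨0, 12, 0, 0, []⟩)) (.node (.leaf ⟨861, 12, 643, 34, [6324, 5894]⟩) (.leaf ⟨0, 12, 0, 0, []⟩)))) (.node (.node (.node (.leaf ⟨68, 5, 199, 28, [401, 1067, 1200]⟩) (.leaf ⟨854, 0, 645, 77, [5198, 6356]⟩)) (.node (.leaf ⟨485, 1, 885, 11, [3191, 5298, 5300]⟩) (.leaf ⟨0, 12, 0, 0, []⟩))) (.node (.node (.leaf ⟨286, 8, 495, 0, []⟩) (.leaf ⟨0, 12, 0, 0, []⟩)) (.node (.leaf ⟨746, 5, 1005, 147, [6489, 7294, 7289, 7279, 5951, 5248, 7062, 7059, 4321, 6396, 7046, 7045, 7342]⟩)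 (.leaf ⟨0, 12, 0, 0, []⟩))))) (.node (.node (.node (.node (.leaf ⟨69, 5, 118, 12, [405, 402, 692]⟩) (.leaf ⟨399, 1, 519, 36, [5242, 5950]⟩)) (.node (.leaf ⟨392, 4, 784, 0, []⟩) (.leaf ⟨0, 12, 0, 0, []⟩))) (.node (.node (.leaf ⟨335, 2, 410, 29, [2239, 1740, 1104, 1360, 1363, 1364, 2236, 2231, 2740]⟩) (.leaf ⟨0, 12, 0, 0, []⟩)) (.node (.leaf ⟨959, 4, 961, 0, []⟩) (.leaf ⟨0, 12, 0, 0, []⟩)))) (.node (.node (.node (.leaf ⟨220, 0, 144, 82, [1348, 1422, 1716, 1071, 1711, 1503, 514, 480, 1440, 1584, 854]⟩) (.leaf ⟨0, 12, 0, 0, []⟩)) (.node (.leaf ⟨769, 12, 382, 36, [4706, 5813, 4857]⟩) (.leaf ⟨0, 12, 0, 0, []⟩))) (.node (.node (.leaf ⟨302, 4, 588, 43, [3756, 3762, 3764]⟩) (.leaf ⟨0, 12, 0, 0, []⟩)) (.node (.leaf ⟨834, 2, 1051, 145, [7204, 6735, 6679, 6647, 6716, 6719, 6713, 6736, 6735, 6679, 7860]⟩)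 (.leaf ⟨0, 12, 0, 0, []⟩)))))) (.node (.node (.node (.node (.node (.leaf ⟨72, 9, 75, 5, [423, 396, 436]⟩) (.leaf ⟨78, 0, 42, 77, [610, 1658]⟩)) (.node (.leaf ⟨349, 4, 741, 43, [4524, 4530, 4532]⟩) (.leaf ⟨0, 12, 0, 0, []⟩))) (.node (.node (.leaf ⟨351, 8, 369, 40, [2334, 2484]⟩) (.leaf ⟨0, 12, 0, 0, []⟩)) (.node (.leaf ⟨765, 9, 933, 4, [6475, 6566, 6580]⟩) (.leaf ⟨0, 12, 0, 0, []⟩)))) (.node (.node (.node (.leaf ⟨82, 1, 238, 0, []⟩) (.leaf ⟨0, 12, 0, 0, []⟩)) (.node (.leaf ⟨119, 12, 623, 38, [698, 5557, 4121]⟩) (.leaf ⟨0, 12, 0, 0, []⟩))) (.node (.node (.leaf ⟨540, 2, 541, 0, []⟩) (.leaf ⟨0, 12, 0, 0, []⟩)) (.node (.leaf ⟨569, 9, 1026, 5, [3758, 6452, 7600]⟩) (.leaf ⟨0, 12, 0, 0, []⟩))))) (.node (.node (.node (.node (.leaf ⟨70, 4, 160, 58, [944, 949, 941]⟩) (.leaf ⟨635, 8, 415, 76, [3981, 4276]⟩))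 (.node (.leaf ⟨831, 9, 836, 39, [5011, 2628, 5040]⟩) (.leaf ⟨0, 12, 0, 0, []⟩))) (.node (.node (.leaf ⟨449, 9, 455, 4, [2971, 2965, 2996]⟩) (.leaf ⟨0, 12, 0, 0, []⟩)) (.node (.leaf ⟨906, 0, 981, 143, [5407, 3149, 6203, 5377, 5362, 5359, 5688, 4400, 4407, 6273, 5325, 4728, 7092]⟩) (.leaf ⟨0, 12, 0, 0, []⟩)))) (.node (.node (.node (.leaf ⟨139, 5, 293, 12, [823, 854, 1968]⟩) (.leaf ⟨0, 12, 0, 0, []⟩)) (.node (.leaf ⟨279, 12, 800, 37, [1853, 6069, 4894]⟩) (.leaf ⟨0, 12, 0, 0, []⟩))) (.node (.node (.leaf ⟨643, 9, 644, 0, []⟩) (.leaf ⟨0, 12, 0, 0, []⟩)) (.node (.leaf ⟨707, 0, 1071, 44, [4371, 5693, 7304, 7315, 7314, 7315, 4405, 6840, 8116]⟩) (.leaf ⟨0, 12, 0, 0, []⟩)))))))) (.node (.node (.node (.node (.node (.node (.node (.leaf ⟨16, 4, 21, 0, []⟩) (.leaf ⟨1053, 1, 1088, 20, [7889, 7503, 7010, 7007,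 8306]⟩)) (.node (.leaf ⟨666, 4, 680, 24, [4147, 4164, 4212]⟩) (.leaf ⟨0, 12, 0, 0, []⟩))) (.node (.node (.leaf ⟨203, 4, 327, 9, [1241, 1226, 652, 590, 604, 1430, 1425, 1015, 1294, 1926, 2164]⟩) (.leaf ⟨0, 12, 0, 0, []⟩)) (.node (.leaf ⟨726, 12, 485, 34, [6261]⟩) (.leaf ⟨0, 12, 0, 0, []⟩)))) (.node (.node (.node (.leaf ⟨76, 8, 188, 62, [443, 294, 310, 656, 1140]⟩) (.leaf ⟨764, 1, 1035, 36, [6295, 7702]⟩)) (.node (.leaf ⟨742, 2, 872, 0, []⟩) (.leaf ⟨0, 12, 0, 0, []⟩))) (.node (.node (.leaf ⟨401, 2, 485, 29, [2683, 2688, 3078, 3140, 3143, 3026, 3029, 2500, 3188]⟩) (.leaf ⟨0, 12, 0, 0, []⟩)) (.node (.leaf ⟨530, 8, 1000, 40, [3462, 7284]⟩) (.leaf ⟨0, 12, 0, 0, []⟩))))) (.node (.node (.node (.node (.leaf ⟨96, 3, 106, 7, [593, 597, 628]⟩) (.leaf ⟨366, 4, 542, 75, [4708, 6100]⟩)) (.node (.leaf ⟨367,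 0, 771, 21, [2461, 3604, 4722]⟩) (.leaf ⟨0, 12, 0, 0, []⟩))) (.node (.node (.leaf ⟨172, 0, 400, 21, [2335, 2674, 2676]⟩) (.leaf ⟨0, 12, 0, 0, []⟩)) (.node (.leaf ⟨885, 2, 956, 0, []⟩) (.leaf ⟨0, 12, 0, 0, []⟩)))) (.node (.node (.node (.leaf ⟨142, 12, 40, 34, [1653]⟩) (.leaf ⟨0, 12, 0, 0, []⟩)) (.node (.leaf ⟨433, 12, 562, 36, [2871, 5749, 3628]⟩) (.leaf ⟨0, 12, 0, 0, []⟩))) (.node (.node (.leaf ⟨294, 5, 574, 56, [2856, 2855, 1241, 1225, 1226, 718, 1940, 2116, 3700]⟩) (.leaf ⟨0, 12, 0, 0, []⟩)) (.node (.leaf ⟨893, 3, 1046, 7, [5334, 7330, 7796]⟩) (.leaf ⟨0, 12, 0, 0, []⟩)))))) (.node (.node (.node (.node (.node (.leaf ⟨22, 0, 61, 21, [187, 370, 372]⟩) (.leaf ⟨1111, 9, 1111, 5, [8563, 8561, 8562]⟩)) (.node (.leaf ⟨343, 4, 729, 43, [4460, 4466, 4468]⟩) (.leaf ⟨0, 12, 0, 0, []⟩))) (.node (.node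 (.leaf ⟨351, 1, 362, 8, [2386, 2385, 2420]⟩) (.leaf ⟨0, 12, 0, 0, []⟩)) (.node (.leaf ⟨863, 3, 924, 7, [5187, 5061, 6516]⟩) (.leaf ⟨0, 12, 0, 0, []⟩)))) (.node (.node (.node (.leaf ⟨227, 9, 228, 0, []⟩) (.leaf ⟨0, 12, 0, 0, []⟩)) (.node (.leaf ⟨921, 0, 593, 97, [5493, 5464, 2765, 4266, 5060, 5057, 2627, 965, 349, 886, 1002, 1826, 1825, 605, 591, 408, 694, 2040, 3790]⟩) (.leaf ⟨0, 12, 0, 0, []⟩))) (.node (.node (.leaf ⟨518, 0, 530, 94, [3377, 1773, 1778, 1780, 654, 1766, 2010, 3378, 3444]⟩) (.leaf ⟨0, 12, 0, 0, []⟩)) (.node (.leaf ⟨929, 3, 1020, 7, [6551, 6543, 7540]⟩) (.leaf ⟨0, 12, 0, 0, []⟩))))) (.node (.node (.node (.node (.leaf ⟨55, 0, 150, 21, [874, 882, 884]⟩) (.leaf ⟨550, 4, 391, 75, [3556, 6124]⟩)) (.node (.leaf ⟨825, 9, 826, 0, []⟩) (.leaf ⟨0, 12, 0, 0, []⟩))) (.node (.node (.leaf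 ⟨428, 2, 445, 63, [2833, 2165, 2932]⟩) (.leaf ⟨0, 12, 0, 0, []⟩)) (.node (.leaf ⟨578, 4, 976, 86, [6314, 4192, 5585, 4197, 4190, 5829, 4753, 4741, 5022, 6470, 4530, 5960, 3016, 7028]⟩) (.leaf ⟨0, 12, 0, 0, []⟩)))) (.node (.node (.node (.leaf ⟨194, 1, 287, 11, [1171, 1242, 1908]⟩) (.leaf ⟨0, 12, 0, 0, []⟩)) (.node (.leaf ⟨824, 12, 686, 76, [4979, 6005, 4244]⟩) (.leaf ⟨0, 12, 0, 0, []⟩))) (.node (.node (.leaf ⟨626, 2, 630, 0, []⟩) (.leaf ⟨0, 12, 0, 0, []⟩)) (.node (.leaf ⟨651, 2, 1066, 0, []⟩) (.leaf ⟨0, 12, 0, 0, []⟩))))))) (.node (.node (.node (.node (.node (.node (.leaf ⟨15, 3, 37, 30, [85, 91, 244]⟩) (.leaf ⟨1087, 4, 1100, 120, [8297, 8274, 8274, 8296, 8295, 6650, 7860, 7865, 7251, 7258, 8432]⟩)) (.node (.leaf ⟨502, 2, 702, 13, [3295, 3283, 4338]⟩) (.leaf ⟨0, 12, 0, 0, []⟩))) (.node (.node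 (.leaf ⟨344, 9, 153, 5, [2289, 1315, 898]⟩) (.leaf ⟨0, 12, 0, 0, []⟩)) (.node (.leaf ⟨579, 3, 698, 7, [6388, 5359, 4323]⟩) (.leaf ⟨0, 12, 0, 0, []⟩)))) (.node (.node (.node (.leaf ⟨144, 9, 208, 4, [857, 807, 1268]⟩) (.leaf ⟨963, 0, 441, 77, [6869, 5906]⟩)) (.node (.leaf ⟨696, 3, 899, 7, [4315, 2706, 5364]⟩) (.leaf ⟨0, 12, 0, 0, []⟩))) (.node (.node (.leaf ⟨499, 9, 507, 4, [3285, 3281, 3316]⟩) (.leaf ⟨0, 12, 0, 0, []⟩)) (.node (.leaf ⟨738, 9, 1009, 5, [5274, 5962, 4609, 7404]⟩) (.leaf ⟨0, 12, 0, 0, []⟩))))) (.node (.node (.node (.node (.leaf ⟨67, 3, 130, 10, [395, 325, 160, 163, 142, 368, 359, 169, 280, 318, 756]⟩) (.leaf ⟨450, 2, 692, 38, [5943, 4298]⟩)) (.node (.leaf ⟨795, 2, 797, 0, []⟩) (.leaf ⟨0, 12, 0, 0, []⟩))) (.node (.node (.leaf ⟨193, 1, 423, 0, []⟩) (.leaf ⟨0, 12, 0, 0, []⟩)) (.node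 (.leaf ⟨699, 3, 965, 7, [4323, 6406, 4189, 6179, 6900]⟩) (.leaf ⟨0, 12, 0, 0, []⟩)))) (.node (.node (.node (.leaf ⟨267, 9, 98, 5, [1779, 688, 598]⟩) (.leaf ⟨0, 12, 0, 0, []⟩)) (.node (.leaf ⟨645, 12, 783, 75, [4028, 5877, 5067]⟩) (.leaf ⟨0, 12, 0, 0, []⟩))) (.node (.node (.leaf ⟨458, 8, 599, 3, [3013, 2848, 3820]⟩) (.leaf ⟨0, 12, 0, 0, []⟩)) (.node (.leaf ⟨985, 3, 1056, 10, [7137, 3605, 1881, 1387, 1128, 2216, 2211, 812, 2284, 4470, 7924]⟩) (.leaf ⟨0, 12, 0, 0, []⟩)))))) (.node (.node (.node (.node (.node (.leaf ⟨84, 9, 81, 5, [499, 477, 480]⟩) (.leaf ⟨130, 0, 75, 77, [1687, 1355]⟩)) (.node (.leaf ⟨480, 9, 752, 5, [3822, 3831, 4592]⟩) (.leaf ⟨0, 12, 0, 0, []⟩))) (.node (.node (.leaf ⟨294, 3, 378, 27, [1977, 1254, 2542, 2545, 1251, 944, 2548, 2549, 2548]⟩) (.leaf ⟨0, 12, 0, 0, []⟩)) (.node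 (.leaf ⟨602, 4, 939, 0, []⟩) (.leaf ⟨0, 12, 0, 0, []⟩)))) (.node (.node (.node (.leaf ⟨252, 8, 253, 3, [1521, 849, 1524]⟩) (.leaf ⟨0, 12, 0, 0, []⟩)) (.node (.leaf ⟨315, 12, 614, 37, [2107, 5617, 3900]⟩) (.leaf ⟨0, 12, 0, 0, []⟩))) (.node (.node (.leaf ⟨298, 3, 554, 30, [2007, 2204, 3570]⟩) (.leaf ⟨0, 12, 0, 0, []⟩)) (.node (.leaf ⟨571, 3, 1032, 7, [3685, 4049, 7668]⟩) (.leaf ⟨0, 12, 0, 0, []⟩))))) (.node (.node (.node (.node (.leaf ⟨154, 0, 171, 45, [911, 665, 307, 290, 300, 608, 997, 998, 371, 360, 460, 1008]⟩) (.leaf ⟨654, 4, 594, 75, [4132, 5512]⟩)) (.node (.leaf ⟨841, 2, 847, 0, []⟩) (.leaf ⟨0, 12, 0, 0, []⟩))) (.node (.node (.leaf ⟨348, 9, 464, 4, [2323, 2006, 3058]⟩) (.leaf ⟨0, 12, 0, 0, []⟩)) (.node (.leaf ⟨527, 1, 987, 11, [3431, 6079, 4802, 7156]⟩) (.leaf ⟨0, 12, 0, 0, []⟩)))) (.node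 (.node (.node (.leaf ⟨302, 9, 303, 0, []⟩) (.leaf ⟨0, 12, 0, 0, []⟩)) (.node (.leaf ⟨163, 12, 545, 76, [2430, 6133, 3528]⟩) (.leaf ⟨0, 12, 0, 0, []⟩))) (.node (.node (.leaf ⟨648, 8, 654, 40, [4044, 4084]⟩) (.leaf ⟨0, 12, 0, 0, []⟩)) (.node (.leaf ⟨952, 9, 1076, 5, [8174, 8163, 8176]⟩) (.leaf ⟨0, 12, 0, 0, []⟩)))))))))

def fact28 : Arr (CFact) :=
  (.node (.node (.node (.node (.node (.node (.node (.node (.leaf ⟨6, 4, 10, 0, []⟩) (.leaf ⟨947, 4, 1081, 150, [6699, 6671, 6654, 6748, 6756, 7460, 7459, 7205, 8232, 8237, 6691, 6742, 6758, 6282, 4383, 4462, 7200, 7199, 6703, 2809, 2812, 6752, 8137, 8186, 8242]⟩)) (.node (.leaf ⟨665, 0, 667, 0, []⟩) (.leaf ⟨0, 12, 0, 0, []⟩))) (.node (.node (.leaf ⟨123, 1, 314, 0, []⟩) (.leaf ⟨0, 12, 0, 0, []⟩)) (.node (.leaf ⟨228, 12, 901, 76, [1399, 6199, 5378]⟩)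 (.leaf ⟨0, 12, 0, 0, []⟩)))) (.node (.node (.node (.leaf ⟨135, 0, 180, 0, []⟩) (.leaf ⟨710, 4, 886, 75, [6283, 5304]⟩)) (.node (.leaf ⟨393, 2, 861, 0, []⟩) (.leaf ⟨0, 12, 0, 0, []⟩))) (.node (.node (.leaf ⟨473, 4, 227, 6, [3127, 3123, 3111]⟩) (.leaf ⟨0, 12, 0, 0, []⟩)) (.node (.leaf ⟨842, 2, 994, 47, [6322, 3978, 4276, 5653, 4285, 4268, 6532, 6769, 7212, 7217, 6534, 7214, 7220]⟩) (.leaf ⟨0, 12, 0, 0, []⟩))))) (.node (.node (.node (.node (.leaf ⟨83, 3, 92, 30, [491, 525, 562]⟩) (.leaf ⟨293, 0, 385, 77, [3692, 6004]⟩)) (.node (.leaf ⟨376, 1, 762, 11, [2541, 4660, 4662]⟩) (.leaf ⟨0, 12, 0, 0, []⟩))) (.node (.node (.leaf ⟨164, 1, 391, 0, []⟩) (.leaf ⟨0, 12, 0, 0, []⟩)) (.node (.leaf ⟨425, 2, 950, 0, []⟩) (.leaf ⟨0, 12, 0, 0, []⟩)))) (.node (.node (.node (.leaf ⟨239, 12, 187, 34, [1591]⟩) (.leaf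 ⟨0, 12, 0, 0, []⟩)) (.node (.leaf ⟨699, 0, 713, 100, [5358, 5686, 4368, 4365, 4355, 2267, 2291, 2446, 4392]⟩) (.leaf ⟨0, 12, 0, 0, []⟩))) (.node (.node (.leaf ⟨474, 9, 564, 4, [3131, 2298, 3638]⟩) (.leaf ⟨0, 12, 0, 0, []⟩)) (.node (.leaf ⟨1039, 9, 1040, 0, []⟩) (.leaf ⟨0, 12, 0, 0, []⟩)))))) (.node (.node (.node (.node (.node (.leaf ⟨47, 4, 49, 0, []⟩) (.leaf ⟨1105, 8, 1105, 62, [8501, 7736, 8480, 8485, 8500]⟩)) (.node (.leaf ⟨340, 1, 715, 0, []⟩) (.leaf ⟨0, 12, 0, 0, []⟩))) (.node (.node (.leaf ⟨145, 0, 355, 21, [2313, 2354, 2358]⟩) (.leaf ⟨0, 12, 0, 0, []⟩)) (.node (.leaf ⟨762, 8, 571, 54, [4746, 6454, 4053]⟩) (.leaf ⟨0, 12, 0, 0, []⟩)))) (.node (.node (.node (.leaf ⟨158, 4, 219, 0, []⟩) (.leaf ⟨0, 12, 0, 0, []⟩)) (.node (.leaf ⟨419, 2, 910, 0, []⟩) (.leaf ⟨0, 12, 0, 0, []⟩))) (.node (.node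 (.leaf ⟨284, 2, 520, 0, []⟩) (.leaf ⟨0, 12, 0, 0, []⟩)) (.node (.leaf ⟨985, 4, 1015, 86, [7139, 6488, 7350, 7347, 3739, 5899, 2877, 2872, 4903, 4976, 6006, 7464, 7476]⟩) (.leaf ⟨0, 12, 0, 0, []⟩))))) (.node (.node (.node (.node (.leaf ⟨55, 5, 139, 12, [343, 340, 822]⟩) (.leaf ⟨505, 4, 667, 75, [6397, 4320, 6406]⟩)) (.node (.leaf ⟨809, 4, 814, 0, []⟩) (.leaf ⟨0, 12, 0, 0, []⟩))) (.node (.node (.leaf ⟨433, 2, 434, 0, []⟩) (.leaf ⟨0, 12, 0, 0, []⟩)) (.node (.leaf ⟨452, 3, 971, 7, [2979, 6962, 6966]⟩) (.leaf ⟨0, 12, 0, 0, []⟩)))) (.node (.node (.node (.leaf ⟨277, 9, 278, 0, []⟩) (.leaf ⟨0, 12, 0, 0, []⟩)) (.node (.leaf ⟨530, 12, 874, 36, [3449, 5943, 5246]⟩) (.leaf ⟨0, 12, 0, 0, []⟩))) (.node (.node (.leaf ⟨313, 2, 613, 0, []⟩) (.leaf ⟨0, 12, 0, 0, []⟩)) (.node (.leaf ⟨1045, 0, 1061, 100, [7795,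 6363, 3966, 5683, 7578, 7571, 4677, 7548, 7990]⟩) (.leaf ⟨0, 12, 0, 0, []⟩))))))) (.node (.node (.node (.node (.node (.node (.leaf ⟨30, 2, 30, 15, [181, 125, 183]⟩) (.leaf ⟨1088, 3, 1093, 10, [8299, 8033, 5772, 4004, 2111, 2106, 3970, 5683, 4688, 7588, 8204, 8374]⟩)) (.node (.leaf ⟨628, 8, 416, 3, [3953, 3948, 4278]⟩) (.leaf ⟨0, 12, 0, 0, []⟩))) (.node (.node (.leaf ⟨165, 1, 334, 11, [967, 1728, 2230]⟩) (.leaf ⟨0, 12, 0, 0, []⟩)) (.node (.leaf ⟨857, 12, 867, 74, [5160, 5894, 6327, 5209]⟩) (.leaf ⟨0, 12, 0, 0, []⟩)))) (.node (.node (.node (.leaf ⟨167, 4, 199, 49, [979, 417, 402, 1206]⟩) (.leaf ⟨854, 2, 857, 38, [5204, 6330]⟩)) (.node (.leaf ⟨884, 4, 886, 0, []⟩) (.leaf ⟨0, 12, 0, 0, []⟩))) (.node (.node (.leaf ⟨462, 2, 495, 18, [3045, 2824, 3254]⟩) (.leaf ⟨0, 12, 0, 0, []⟩)) (.node (.leaf ⟨745,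 1, 1005, 8, [6440, 3334, 7342]⟩) (.leaf ⟨0, 12, 0, 0, []⟩))))) (.node (.node (.node (.node (.leaf ⟨118, 2, 119, 0, []⟩) (.leaf ⟨399, 2, 450, 38, [3052, 5942]⟩)) (.node (.leaf ⟨389, 1, 784, 8, [2607, 2620, 4790]⟩) (.leaf ⟨0, 12, 0, 0, []⟩))) (.node (.node (.leaf ⟨405, 3, 410, 41, [2705, 1077, 579, 385, 1116, 1121, 1104, 1726, 2740]⟩) (.leaf ⟨0, 12, 0, 0, []⟩)) (.node (.leaf ⟨640, 0, 961, 100, [4396, 5689, 5358, 6244, 4809, 6410, 6421, 6816, 6838]⟩) (.leaf ⟨0, 12, 0, 0, []⟩)))) (.node (.node (.node (.leaf ⟨106, 4, 257, 0, []⟩) (.leaf ⟨0, 12, 0, 0, []⟩)) (.node (.leaf ⟨163, 12, 678, 35, [2579, 5815, 4720]⟩) (.leaf ⟨0, 12, 0, 0, []⟩))) (.node (.node (.leaf ⟨319, 4, 589, 0, []⟩) (.leaf ⟨0, 12, 0, 0, []⟩)) (.node (.leaf ⟨997, 5, 1051, 133, [7251, 7258, 7440, 7443, 7454, 7494, 7493, 7199, 7192, 7628,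 7635, 4059, 7670, 7667, 5034, 7204, 6735, 6679, 7860]⟩) (.leaf ⟨0, 12, 0, 0, []⟩)))))) (.node (.node (.node (.node (.node (.leaf ⟨29, 5, 75, 28, [175, 425, 438]⟩) (.leaf ⟨79, 4, 128, 75, [988, 1558]⟩)) (.node (.leaf ⟨463, 4, 742, 0, []⟩) (.leaf ⟨0, 12, 0, 0, []⟩))) (.node (.node (.leaf ⟨226, 2, 370, 0, []⟩) (.leaf ⟨0, 12, 0, 0, []⟩)) (.node (.leaf ⟨929, 8, 933, 40, [6559, 6582]⟩) (.leaf ⟨0, 12, 0, 0, []⟩)))) (.node (.node (.node (.leaf ⟨238, 2, 239, 0, []⟩) (.leaf ⟨0, 12, 0, 0, []⟩)) (.node (.leaf ⟨623, 12, 119, 34, [5559]⟩) (.leaf ⟨0, 12, 0, 0, []⟩))) (.node (.node (.leaf ⟨541, 4, 277, 6, [3511, 3509, 3499]⟩) (.leaf ⟨0, 12, 0, 0, []⟩)) (.node (.leaf ⟨1025, 2, 1027, 0, []⟩) (.leaf ⟨0, 12, 0, 0, []⟩))))) (.node (.node (.node (.node (.leaf ⟨152, 8, 162, 0, []⟩) (.leaf ⟨636, 1, 777, 36, [5877,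 5069]⟩)) (.node (.leaf ⟨394, 2, 837, 0, []⟩) (.leaf ⟨0, 12, 0, 0, []⟩))) (.node (.node (.leaf ⟨455, 2, 456, 0, []⟩) (.leaf ⟨0, 12, 0, 0, []⟩)) (.node (.leaf ⟨607, 8, 981, 3, [6169, 5410, 7094]⟩) (.leaf ⟨0, 12, 0, 0, []⟩)))) (.node (.node (.node (.leaf ⟨206, 0, 294, 0, []⟩) (.leaf ⟨0, 12, 0, 0, []⟩)) (.node (.leaf ⟨800, 12, 279, 34, [6071]⟩) (.leaf ⟨0, 12, 0, 0, []⟩))) (.node (.node (.leaf ⟨316, 0, 644, 21, [3965, 4020, 4022]⟩) (.leaf ⟨0, 12, 0, 0, []⟩)) (.node (.leaf ⟨739, 4, 1071, 84, [4527, 6471, 5023, 5262, 7310, 7315, 4405, 6840, 8116]⟩) (.leaf ⟨0, 12, 0, 0, []⟩)))))))) (.node (.node (.node (.node (.node (.node (.node (.leaf ⟨21, 9, 8, 4, [119, 96, 46]⟩) (.leaf ⟨1081, 2, 1089, 0, []⟩)) (.node (.leaf ⟨631, 1, 680, 8, [3963, 4150, 4214]⟩) (.leaf ⟨0, 12, 0, 0, []⟩))) (.node (.node (.leaf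 ⟨195, 1, 327, 11, [1181, 1920, 2164]⟩) (.leaf ⟨0, 12, 0, 0, []⟩)) (.node (.leaf ⟨882, 12, 343, 35, [5293, 6263, 4459]⟩) (.leaf ⟨0, 12, 0, 0, []⟩)))) (.node (.node (.node (.leaf ⟨185, 4, 189, 0, []⟩) (.leaf ⟨764, 2, 1018, 38, [6295, 7510]⟩)) (.node (.leaf ⟨872, 4, 399, 6, [5239, 4537, 3053]⟩) (.leaf ⟨0, 12, 0, 0, []⟩))) (.node (.node (.leaf ⟨469, 8, 485, 3, [3103, 2508, 3188]⟩) (.leaf ⟨0, 12, 0, 0, []⟩)) (.node (.leaf ⟨1000, 2, 1001, 0, []⟩) (.leaf ⟨0, 12, 0, 0, []⟩))))) (.node (.node (.node (.node (.leaf ⟨93, 0, 107, 0, []⟩) (.leaf ⟨373, 4, 675, 75, [4752, 5828]⟩)) (.node (.leaf ⟨402, 3, 771, 30, [2685, 3606, 4722]⟩) (.leaf ⟨0, 12, 0, 0, []⟩))) (.node (.node (.leaf ⟨349, 3, 400, 41, [2325, 2330, 2386, 2381, 883, 925, 1004, 1020, 2678]⟩) (.leaf ⟨0, 12, 0, 0, []⟩)) (.node (.leaf ⟨956, 0, 956,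 44, [6775, 6748, 6756, 6721, 6719, 6719, 6719, 6720, 6757, 6749, 6774]⟩) (.leaf ⟨0, 12, 0, 0, []⟩)))) (.node (.node (.node (.leaf ⟨42, 12, 101, 76, [277, 1655, 839]⟩) (.leaf ⟨0, 12, 0, 0, []⟩)) (.node (.leaf ⟨562, 12, 433, 34, [5751]⟩) (.leaf ⟨0, 12, 0, 0, []⟩))) (.node (.node (.leaf ⟨294, 1, 575, 0, []⟩) (.leaf ⟨0, 12, 0, 0, []⟩)) (.node (.leaf ⟨931, 2, 1046, 13, [7006, 7332, 7796]⟩) (.leaf ⟨0, 12, 0, 0, []⟩)))))) (.node (.node (.node (.node (.node (.leaf ⟨60, 3, 61, 41, [371, 184, 181, 125, 150, 178, 177, 126, 374]⟩) (.leaf ⟨1107, 4, 1111, 43, [8517, 8534, 8564]⟩)) (.node (.leaf ⟨724, 9, 729, 4, [4449, 2282, 4470]⟩) (.leaf ⟨0, 12, 0, 0, []⟩))) (.node (.node (.leaf ⟨175, 9, 362, 4, [1047, 2376, 2420]⟩) (.leaf ⟨0, 12, 0, 0, []⟩)) (.node (.leaf ⟨629, 2, 925, 0, []⟩) (.leaf ⟨0, 12, 0, 0, []⟩))))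 (.node (.node (.node (.leaf ⟨77, 0, 228, 21, [1373, 1396, 1398]⟩) (.leaf ⟨0, 12, 0, 0, []⟩)) (.node (.leaf ⟨687, 0, 620, 79, [4260, 4267, 2764, 5465, 5492, 5494, 3791, 2043, 2103, 3927, 3925]⟩) (.leaf ⟨0, 12, 0, 0, []⟩))) (.node (.node (.leaf ⟨450, 1, 530, 11, [2973, 3380, 3444]⟩) (.leaf ⟨0, 12, 0, 0, []⟩)) (.node (.leaf ⟨550, 5, 1020, 12, [3551, 3548, 7540]⟩) (.leaf ⟨0, 12, 0, 0, []⟩))))) (.node (.node (.node (.node (.leaf ⟨61, 1, 150, 22, [375, 129, 62, 60, 22, 11, 14, 231, 55, 30, 110, 342, 886]⟩) (.leaf ⟨551, 2, 646, 38, [6119, 5115, 5892]⟩)) (.node (.leaf ⟨385, 0, 826, 21, [4923, 4980, 4982]⟩) (.leaf ⟨0, 12, 0, 0, []⟩))) (.node (.node (.leaf ⟨360, 2, 446, 0, []⟩) (.leaf ⟨0, 12, 0, 0, []⟩)) (.node (.leaf ⟨976, 0, 976, 94, [7031, 6314, 4192, 5833, 4799, 2537, 2032, 3008, 3016, 7028]⟩) (.leaf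 ⟨0, 12, 0, 0, []⟩)))) (.node (.node (.node (.leaf ⟨115, 9, 287, 5, [673, 1244, 1908]⟩) (.leaf ⟨0, 12, 0, 0, []⟩)) (.node (.leaf ⟨821, 12, 555, 38, [4960, 6005, 3697]⟩) (.leaf ⟨0, 12, 0, 0, []⟩))) (.node (.node (.leaf ⟨630, 9, 315, 5, [3959, 3947, 2106]⟩) (.leaf ⟨0, 12, 0, 0, []⟩)) (.node (.leaf ⟨709, 4, 1066, 86, [7868, 7873, 4669, 4662, 7604, 7644, 7651, 6451, 3682, 4058, 8054]⟩) (.leaf ⟨0, 12, 0, 0, []⟩))))))) (.node (.node (.node (.node (.node (.node (.leaf ⟨37, 4, 38, 0, []⟩) (.leaf ⟨1039, 5, 1100, 56, [8436, 8433, 7259, 6667, 2808, 3844, 5666, 6666, 7258, 8432]⟩)) (.node (.leaf ⟨702, 4, 703, 0, []⟩) (.leaf ⟨0, 12, 0, 0, []⟩))) (.node (.node (.leaf ⟨218, 0, 345, 0, []⟩) (.leaf ⟨0, 12, 0, 0, []⟩)) (.node (.leaf ⟨579, 4, 899, 43, [6388, 5363, 5364]⟩) (.leaf ⟨0, 12, 0, 0, []⟩)))) (.node (.node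 (.node (.leaf ⟨105, 8, 208, 40, [852, 1270]⟩) (.leaf ⟨965, 0, 543, 77, [6895, 6106]⟩)) (.node (.leaf ⟨697, 2, 899, 13, [4319, 2745, 5364]⟩) (.leaf ⟨0, 12, 0, 0, []⟩))) (.node (.node (.leaf ⟨507, 2, 508, 0, []⟩) (.leaf ⟨0, 12, 0, 0, []⟩)) (.node (.leaf ⟨984, 8, 1009, 40, [7135, 7414]⟩) (.leaf ⟨0, 12, 0, 0, []⟩))))) (.node (.node (.node (.node (.leaf ⟨72, 2, 130, 47, [424, 171, 119, 112, 183, 181, 125, 150, 282, 318, 756]⟩) (.leaf ⟨450, 8, 350, 76, [4736, 5940]⟩)) (.node (.leaf ⟨382, 1, 797, 11, [2577, 4848, 4854]⟩) (.leaf ⟨0, 12, 0, 0, []⟩))) (.node (.node (.leaf ⟨423, 2, 424, 0, []⟩) (.leaf ⟨0, 12, 0, 0, []⟩)) (.node (.leaf ⟨754, 2, 966, 0, []⟩) (.leaf ⟨0, 12, 0, 0, []⟩)))) (.node (.node (.node (.leaf ⟨117, 4, 268, 0, []⟩) (.leaf ⟨0, 12, 0, 0, []⟩)) (.node (.leaf ⟨783, 12, 645, 34, [5879]⟩)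 (.leaf ⟨0, 12, 0, 0, []⟩))) (.node (.node (.leaf ⟨420, 4, 600, 0, []⟩) (.leaf ⟨0, 12, 0, 0, []⟩)) (.node (.leaf ⟨986, 5, 1056, 59, [7920, 7925, 7270, 7852, 7847, 4192, 5585, 4197, 6312, 7264, 7271, 7924]⟩) (.leaf ⟨0, 12, 0, 0, []⟩)))))) (.node (.node (.node (.node (.node (.leaf ⟨81, 4, 85, 0, []⟩) (.leaf ⟨134, 1, 175, 36, [1563, 1049]⟩)) (.node (.leaf ⟨524, 8, 752, 40, [3417, 4598]⟩) (.leaf ⟨0, 12, 0, 0, []⟩))) (.node (.node (.leaf ⟨166, 4, 379, 0, []⟩) (.leaf ⟨0, 12, 0, 0, []⟩)) (.node (.leaf ⟨600, 1, 939, 8, [3833, 3840, 6646]⟩) (.leaf ⟨0, 12, 0, 0, []⟩)))) (.node (.node (.node (.leaf ⟨88, 1, 254, 0, []⟩) (.leaf ⟨0, 12, 0, 0, []⟩)) (.node (.leaf ⟨614, 12, 315, 34, [5623]⟩) (.leaf ⟨0, 12, 0, 0, []⟩))) (.node (.node (.leaf ⟨357, 5, 554, 28, [2377, 2206, 3570]⟩) (.leaf ⟨0, 12, 0, 0, []⟩)) (.node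 (.leaf ⟨1016, 5, 1032, 12, [7491, 6007, 4977, 5808, 7668]⟩) (.leaf ⟨0, 12, 0, 0, []⟩))))) (.node (.node (.node (.node (.leaf ⟨155, 8, 171, 62, [1013, 884, 889, 466, 1008]⟩) (.leaf ⟨665, 4, 376, 75, [4164, 5834]⟩)) (.node (.leaf ⟨840, 1, 847, 11, [5071, 5078, 5110]⟩) (.leaf ⟨0, 12, 0, 0, []⟩))) (.node (.node (.leaf ⟨352, 8, 464, 40, [2340, 3062]⟩) (.leaf ⟨0, 12, 0, 0, []⟩)) (.node (.leaf ⟨761, 5, 987, 12, [4661, 6133, 3527, 7158]⟩) (.leaf ⟨0, 12, 0, 0, []⟩)))) (.node (.node (.node (.leaf ⟨118, 0, 303, 21, [733, 2034, 2038]⟩) (.leaf ⟨0, 12, 0, 0, []⟩)) (.node (.leaf ⟨545, 12, 163, 34, [6135]⟩) (.leaf ⟨0, 12, 0, 0, []⟩))) (.node (.node (.leaf ⟨595, 4, 655, 0, []⟩) (.leaf ⟨0, 12, 0, 0, []⟩)) (.node (.leaf ⟨727, 8, 1076, 40, [6738, 8182]⟩) (.leaf ⟨0, 12, 0, 0, []⟩)))))))))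

def fact29 : Arr (CFact) :=
  (.node (.node (.node (.node (.node (.node (.node (.node (.leaf ⟨10, 9, 10, 4, [57, 36, 56]⟩) (.leaf ⟨867, 1, 1081, 70, [5205, 5198, 6356, 5881, 4785, 5779, 4020, 6327, 5179, 5049, 5040, 5260, 5263, 5032, 5031, 8141, 8186, 8242]⟩)) (.node (.leaf ⟨667, 9, 668, 0, []⟩) (.leaf ⟨0, 12, 0, 0, []⟩))) (.node (.node (.leaf ⟨314, 2, 315, 0, []⟩) (.leaf ⟨0, 12, 0, 0, []⟩)) (.node (.leaf ⟨901, 12, 228, 34, [6201]⟩) (.leaf ⟨0, 12, 0, 0, []⟩)))) (.node (.node (.node (.leaf ⟨129, 3, 180, 65, [755, 519, 479, 237, 100, 142, 324, 792, 1080]⟩) (.leaf ⟨712, 0, 362, 77, [6277, 4639]⟩)) (.node (.leaf ⟨837, 1, 861, 11, [5049, 2625, 5176]⟩) (.leaf ⟨0, 12, 0, 0, []⟩))) (.node (.node (.leaf ⟨345, 4, 474, 0, []⟩) (.leaf ⟨0, 12, 0, 0, []⟩)) (.node (.leaf ⟨632, 0, 994, 96, [3971, 3784, 4274,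 6532, 7216, 7213, 6768, 7216, 7220]⟩) (.leaf ⟨0, 12, 0, 0, []⟩))))) (.node (.node (.node (.node (.leaf ⟨78, 2, 93, 0, []⟩) (.leaf ⟨295, 1, 436, 36, [3728, 5756]⟩)) (.node (.leaf ⟨762, 0, 762, 45, [4665, 2537, 980, 987, 798, 856, 851, 1036, 1678, 981, 2536, 4664]⟩) (.leaf ⟨0, 12, 0, 0, []⟩))) (.node (.node (.leaf ⟨391, 2, 392, 0, []⟩) (.leaf ⟨0, 12, 0, 0, []⟩)) (.node (.leaf ⟨937, 1, 950, 11, [6625, 2815, 6712]⟩) (.leaf ⟨0, 12, 0, 0, []⟩)))) (.node (.node (.node (.leaf ⟨224, 12, 254, 37, [1375, 1593, 1532]⟩) (.leaf ⟨0, 12, 0, 0, []⟩)) (.node (.leaf ⟨895, 0, 654, 69, [5360, 5686, 4086]⟩) (.leaf ⟨0, 12, 0, 0, []⟩))) (.node (.node (.leaf ⟨564, 1, 565, 0, []⟩) (.leaf ⟨0, 12, 0, 0, []⟩)) (.node (.leaf ⟨587, 0, 1040, 21, [7713, 7734, 7736]⟩) (.leaf ⟨0, 12, 0, 0, []⟩)))))) (.node (.node (.node (.node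 (.node (.leaf ⟨49, 1, 50, 0, []⟩) (.leaf ⟨1105, 2, 1106, 0, []⟩)) (.node (.leaf ⟨550, 0, 715, 45, [3551, 1851, 606, 1613, 1217, 749, 1555, 620, 1349, 1345, 1354, 1686, 780, 2270, 4408]⟩) (.leaf ⟨0, 12, 0, 0, []⟩))) (.node (.node (.leaf ⟨345, 3, 355, 27, [2297, 2308, 2354, 2357, 1329, 862, 2360, 2361, 2360]⟩) (.leaf ⟨0, 12, 0, 0, []⟩)) (.node (.leaf ⟨651, 9, 786, 4, [4059, 6457, 4800]⟩) (.leaf ⟨0, 12, 0, 0, []⟩)))) (.node (.node (.node (.leaf ⟨219, 9, 140, 4, [1337, 930, 826]⟩) (.leaf ⟨0, 12, 0, 0, []⟩)) (.node (.leaf ⟨483, 0, 910, 94, [3171, 1401, 1128, 1133, 1101, 1160, 2708, 2782, 5432]⟩) (.leaf ⟨0, 12, 0, 0, []⟩))) (.node (.node (.leaf ⟨270, 0, 520, 44, [1799, 2010, 2013, 1807, 1806, 1807, 1814, 1894, 3384]⟩) (.leaf ⟨0, 12, 0, 0, []⟩)) (.node (.leaf ⟨537, 5, 1015, 57, [3491, 1862, 1976,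 3714, 4818, 6320, 6317, 7466, 7476]⟩) (.leaf ⟨0, 12, 0, 0, []⟩))))) (.node (.node (.node (.node (.leaf ⟨74, 4, 140, 0, []⟩) (.leaf ⟨510, 0, 894, 77, [6193, 5338]⟩)) (.node (.leaf ⟨814, 9, 385, 4, [4921, 4897, 2586]⟩) (.leaf ⟨0, 12, 0, 0, []⟩))) (.node (.node (.leaf ⟨398, 1, 434, 11, [2667, 2870, 2872]⟩) (.leaf ⟨0, 12, 0, 0, []⟩)) (.node (.leaf ⟨732, 2, 971, 13, [4491, 6954, 6966]⟩) (.leaf ⟨0, 12, 0, 0, []⟩)))) (.node (.node (.node (.leaf ⟨99, 0, 278, 21, [1787, 1846, 1848]⟩) (.leaf ⟨0, 12, 0, 0, []⟩)) (.node (.leaf ⟨874, 12, 530, 34, [5945]⟩) (.leaf ⟨0, 12, 0, 0, []⟩))) (.node (.node (.leaf ⟨613, 2, 312, 50, [3897, 2101]⟩) (.leaf ⟨0, 12, 0, 0, []⟩)) (.node (.leaf ⟨633, 5, 1061, 59, [7766, 7769, 6350, 6340, 7802, 7799, 5333, 6284, 4417, 4412, 7548, 7990]⟩) (.leaf ⟨0, 12, 0, 0, []⟩))))))) (.node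 (.node (.node (.node (.node (.node (.leaf ⟨30, 9, 22, 4, [181, 120, 126]⟩) (.leaf ⟨1062, 5, 1093, 59, [8003, 7811, 7936, 7947, 6494, 7934, 7939, 7119, 7800, 8206, 8374]⟩)) (.node (.leaf ⟨629, 9, 416, 39, [3957, 3951, 4278]⟩) (.leaf ⟨0, 12, 0, 0, []⟩))) (.node (.node (.leaf ⟨132, 9, 334, 5, [773, 1730, 2230]⟩) (.leaf ⟨0, 12, 0, 0, []⟩)) (.node (.leaf ⟨867, 12, 857, 34, [6329]⟩) (.leaf ⟨0, 12, 0, 0, []⟩)))) (.node (.node (.node (.leaf ⟨181, 9, 200, 0, []⟩) (.leaf ⟨857, 0, 642, 77, [5159, 5896]⟩)) (.node (.leaf ⟨886, 1, 887, 0, []⟩) (.leaf ⟨0, 12, 0, 0, []⟩))) (.node (.node (.leaf ⟨283, 4, 495, 24, [1887, 1904, 3254]⟩) (.leaf ⟨0, 12, 0, 0, []⟩)) (.node (.leaf ⟨668, 9, 1005, 4, [6247, 3338, 7342]⟩) (.leaf ⟨0, 12, 0, 0, []⟩))))) (.node (.node (.node (.node (.leaf ⟨119, 2, 49, 50, [697, 691]⟩) (.leaf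 ⟨400, 1, 753, 36, [5272, 5962]⟩)) (.node (.leaf ⟨776, 2, 785, 0, []⟩) (.leaf ⟨0, 12, 0, 0, []⟩))) (.node (.node (.leaf ⟨259, 8, 410, 3, [1733, 1724, 2740]⟩) (.leaf ⟨0, 12, 0, 0, []⟩)) (.node (.leaf ⟨704, 2, 961, 47, [6041, 6471, 5025, 3834, 6644, 6637, 6796, 6789, 3706, 6814, 6838]⟩) (.leaf ⟨0, 12, 0, 0, []⟩)))) (.node (.node (.node (.leaf ⟨253, 1, 257, 8, [1523, 1555, 628, 1720]⟩) (.leaf ⟨0, 12, 0, 0, []⟩)) (.node (.leaf ⟨678, 12, 163, 34, [5817]⟩) (.leaf ⟨0, 12, 0, 0, []⟩))) (.node (.node (.leaf ⟨589, 9, 588, 4, [3769, 2127, 3766]⟩) (.leaf ⟨0, 12, 0, 0, []⟩)) (.node (.leaf ⟨833, 1, 1051, 8, [5025, 6648, 7860]⟩) (.leaf ⟨0, 12, 0, 0, []⟩)))))) (.node (.node (.node (.node (.node (.leaf ⟨29, 1, 76, 0, []⟩) (.leaf ⟨81, 0, 54, 77, [1440, 1584]⟩)) (.node (.leaf ⟨742, 9, 741, 4, [4537, 3055, 4534]⟩)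 (.leaf ⟨0, 12, 0, 0, []⟩))) (.node (.node (.leaf ⟨218, 1, 370, 11, [1331, 1392, 2488]⟩) (.leaf ⟨0, 12, 0, 0, []⟩)) (.node (.leaf ⟨912, 2, 934, 0, []⟩) (.leaf ⟨0, 12, 0, 0, []⟩)))) (.node (.node (.node (.leaf ⟨235, 1, 239, 11, [1447, 1462, 1464]⟩) (.leaf ⟨0, 12, 0, 0, []⟩)) (.node (.leaf ⟨306, 12, 568, 77, [2061, 5561, 3935]⟩) (.leaf ⟨0, 12, 0, 0, []⟩))) (.node (.node (.leaf ⟨277, 1, 542, 0, []⟩) (.leaf ⟨0, 12, 0, 0, []⟩)) (.node (.leaf ⟨1027, 0, 1027, 44, [7609, 7595, 3761, 3681, 3681, 3681, 3760, 7594, 7608]⟩) (.leaf ⟨0, 12, 0, 0, []⟩))))) (.node (.node (.node (.node (.leaf ⟨148, 4, 162, 24, [877, 894, 952]⟩) (.leaf ⟨638, 0, 393, 77, [6353, 5203]⟩)) (.node (.leaf ⟨388, 5, 837, 57, [2599, 1927, 2382, 2387, 2394, 4288, 5042, 5041, 5048]⟩) (.leaf ⟨0, 12, 0, 0, []⟩))) (.node (.node (.leaf ⟨450,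 9, 456, 5, [2973, 2998, 3000]⟩) (.leaf ⟨0, 12, 0, 0, []⟩)) (.node (.leaf ⟨981, 2, 982, 0, []⟩) (.leaf ⟨0, 12, 0, 0, []⟩)))) (.node (.node (.node (.leaf ⟨294, 9, 295, 0, []⟩) (.leaf ⟨0, 12, 0, 0, []⟩)) (.node (.leaf ⟨486, 12, 759, 77, [3197, 6073, 4867]⟩) (.leaf ⟨0, 12, 0, 0, []⟩))) (.node (.node (.leaf ⟨631, 2, 645, 0, []⟩) (.leaf ⟨0, 12, 0, 0, []⟩)) (.node (.leaf ⟨751, 5, 1071, 85, [4590, 2357, 3020, 7000, 7005, 3688, 5995, 4921, 5768, 4394, 4397, 6840, 8116]⟩) (.leaf ⟨0, 12, 0, 0, []⟩)))))))) (.node (.node (.node (.node (.node (.node (.node (.leaf ⟨21, 2, 16, 18, [120, 51, 97]⟩) (.leaf ⟨1075, 0, 1089, 44, [8165, 7494, 7489, 8154, 8155, 8154, 8176, 8242, 8312]⟩)) (.node (.leaf ⟨324, 9, 680, 4, [2147, 4149, 4214]⟩) (.leaf ⟨0, 12, 0, 0, []⟩))) (.node (.node (.leaf ⟨160, 9, 327, 5, [939, 1922,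 2164]⟩) (.leaf ⟨0, 12, 0, 0, []⟩)) (.node (.leaf ⟨447, 12, 889, 76, [2955, 6265, 5318]⟩) (.leaf ⟨0, 12, 0, 0, []⟩)))) (.node (.node (.node (.leaf ⟨122, 1, 189, 8, [719, 1118, 1144]⟩) (.leaf ⟨767, 0, 671, 77, [6291, 6304, 5856]⟩)) (.node (.leaf ⟨399, 1, 873, 0, []⟩) (.leaf ⟨0, 12, 0, 0, []⟩))) (.node (.node (.leaf ⟨470, 9, 485, 39, [3109, 2506, 3188]⟩) (.leaf ⟨0, 12, 0, 0, []⟩)) (.node (.leaf ⟨1001, 0, 1001, 44, [7289, 7279, 5951, 6950, 6953, 6953, 6953, 6951, 5950, 7278, 7288]⟩) (.leaf ⟨0, 12, 0, 0, []⟩))))) (.node (.node (.node (.node (.leaf ⟨107, 9, 108, 0, []⟩) (.leaf ⟨374, 1, 653, 36, [4764, 5760]⟩)) (.node (.leaf ⟨469, 2, 771, 25, [3105, 4728]⟩) (.leaf ⟨0, 12, 0, 0, []⟩))) (.node (.node (.leaf ⟨361, 0, 401, 0, []⟩) (.leaf ⟨0, 12, 0, 0, []⟩)) (.node (.leaf ⟨884, 3, 956, 53, [6759, 6760,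 6753, 6723, 6757, 6749, 6748, 6749, 6774, 6776]⟩) (.leaf ⟨0, 12, 0, 0, []⟩)))) (.node (.node (.node (.leaf ⟨101, 12, 42, 34, [1657]⟩) (.leaf ⟨0, 12, 0, 0, []⟩)) (.node (.leaf ⟨580, 12, 433, 34, [5702, 5752]⟩) (.leaf ⟨0, 12, 0, 0, []⟩))) (.node (.node (.leaf ⟨575, 2, 576, 0, []⟩) (.leaf ⟨0, 12, 0, 0, []⟩)) (.node (.leaf ⟨644, 5, 1046, 12, [6337, 7334, 7796]⟩) (.leaf ⟨0, 12, 0, 0, []⟩)))))) (.node (.node (.node (.node (.node (.leaf ⟨51, 2, 62, 0, []⟩) (.leaf ⟨1111, 0, 1111, 92, [8565, 8529, 8438, 8441, 8414, 8534, 8527, 8331, 7967, 8330, 8526, 8564]⟩)) (.node (.leaf ⟨725, 8, 729, 40, [4452, 4472]⟩) (.leaf ⟨0, 12, 0, 0, []⟩))) (.node (.node (.leaf ⟨361, 8, 362, 40, [2419, 2424]⟩) (.leaf ⟨0, 12, 0, 0, []⟩)) (.node (.leaf ⟨636, 0, 925, 44, [3987, 3978, 4276, 4272, 4275, 4274, 4275, 3783, 3956,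 6520]⟩) (.leaf ⟨0, 12, 0, 0, []⟩)))) (.node (.node (.node (.leaf ⟨223, 2, 229, 0, []⟩) (.leaf ⟨0, 12, 0, 0, []⟩)) (.node (.leaf ⟨822, 0, 621, 93, [4965, 3849, 2753, 2079, 1154, 2758, 4254, 5496, 3924]⟩) (.leaf ⟨0, 12, 0, 0, []⟩))) (.node (.node (.leaf ⟨271, 5, 530, 12, [2306, 2975, 3448]⟩) (.leaf ⟨0, 12, 0, 0, []⟩)) (.node (.leaf ⟨716, 8, 1020, 62, [4415, 2450, 4696, 6090, 3546, 7540]⟩) (.leaf ⟨0, 12, 0, 0, []⟩))))) (.node (.node (.node (.node (.leaf ⟨147, 2, 151, 0, []⟩) (.leaf ⟨555, 1, 829, 36, [6009, 5000]⟩)) (.node (.leaf ⟨814, 2, 827, 0, []⟩) (.leaf ⟨0, 12, 0, 0, []⟩))) (.node (.node (.leaf ⟨368, 1, 446, 11, [2465, 2413, 2936]⟩) (.leaf ⟨0, 12, 0, 0, []⟩)) (.node (.leaf ⟨975, 1, 976, 11, [7015, 3019, 7028]⟩) (.leaf ⟨0, 12, 0, 0, []⟩)))) (.node (.node (.node (.leaf ⟨206, 8, 287, 40, [1258,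 1912]⟩) (.leaf ⟨0, 12, 0, 0, []⟩)) (.node (.leaf ⟨744, 1, 870, 106, [5982, 2875, 5232]⟩) (.leaf ⟨0, 12, 0, 0, []⟩))) (.node (.node (.leaf ⟨626, 4, 631, 0, []⟩) (.leaf ⟨0, 12, 0, 0, []⟩)) (.node (.leaf ⟨786, 0, 1066, 78, [7162, 7653, 7651, 4749, 7666, 7671, 3683, 3676, 7632, 7635, 8054]⟩) (.leaf ⟨0, 12, 0, 0, []⟩))))))) (.node (.node (.node (.node (.node (.node (.leaf ⟨38, 1, 38, 8, [249, 239, 248]⟩) (.leaf ⟨1068, 8, 1101, 0, []⟩)) (.node (.leaf ⟨703, 1, 704, 0, []⟩) (.leaf ⟨0, 12, 0, 0, []⟩))) (.node (.node (.leaf ⟨345, 9, 346, 0, []⟩) (.leaf ⟨0, 12, 0, 0, []⟩)) (.node (.leaf ⟨505, 12, 696, 10, [3303, 2741, 2230, 2852, 2851, 2833, 2167, 1908, 2888, 3716, 6392, 5367]⟩) (.leaf ⟨0, 12, 0, 0, []⟩)))) (.node (.node (.node (.leaf ⟨93, 5, 208, 28, [573, 854, 1270]⟩) (.leaf ⟨965, 1, 674, 36, [6901,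 6178]⟩)) (.node (.leaf ⟨899, 0, 899, 45, [5365, 2705, 1075, 769, 756, 1268, 1672, 1675, 1704, 1074, 2704, 5364]⟩) (.leaf ⟨0, 12, 0, 0, []⟩))) (.node (.node (.leaf ⟨500, 9, 508, 5, [3287, 3318, 3320]⟩) (.leaf ⟨0, 12, 0, 0, []⟩)) (.node (.leaf ⟨877, 3, 1009, 30, [5290, 6030, 4527, 7414]⟩) (.leaf ⟨0, 12, 0, 0, []⟩))))) (.node (.node (.node (.node (.leaf ⟨130, 9, 120, 5, [761, 438, 706]⟩) (.leaf ⟨453, 1, 260, 36, [3124, 6220]⟩)) (.node (.leaf ⟨383, 5, 797, 12, [2581, 2579, 4856]⟩) (.leaf ⟨0, 12, 0, 0, []⟩))) (.node (.node (.leaf ⟨308, 1, 424, 11, [2075, 2806, 2808]⟩) (.leaf ⟨0, 12, 0, 0, []⟩)) (.node (.leaf ⟨475, 4, 966, 84, [6882, 6881, 6599, 5435, 5965, 5979, 6830, 6833, 6904]⟩) (.leaf ⟨0, 12, 0, 0, []⟩)))) (.node (.node (.node (.leaf ⟨268, 9, 99, 4, [1785, 688, 604]⟩) (.leaf ⟨0, 12, 0, 0, []⟩))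 (.node (.leaf ⟨595, 12, 781, 76, [4195, 5829, 4776]⟩) (.leaf ⟨0, 12, 0, 0, []⟩))) (.node (.node (.leaf ⟨600, 2, 601, 0, []⟩) (.leaf ⟨0, 12, 0, 0, []⟩)) (.node (.leaf ⟨944, 1, 1056, 8, [6677, 4468, 7924]⟩) (.leaf ⟨0, 12, 0, 0, []⟩)))))) (.node (.node (.node (.node (.node (.leaf ⟨85, 1, 85, 8, [505, 485, 504]⟩) (.leaf ⟨134, 2, 231, 38, [1563, 1412]⟩)) (.node (.leaf ⟨457, 3, 752, 30, [3164, 3159, 4598]⟩) (.leaf ⟨0, 12, 0, 0, []⟩))) (.node (.node (.leaf ⟨328, 9, 379, 4, [2177, 1937, 2552]⟩) (.leaf ⟨0, 12, 0, 0, []⟩)) (.node (.leaf ⟨835, 2, 939, 13, [5039, 5017, 6648]⟩) (.leaf ⟨0, 12, 0, 0, []⟩)))) (.node (.node (.node (.leaf ⟨238, 3, 254, 7, [1463, 525, 1528]⟩) (.leaf ⟨0, 12, 0, 0, []⟩)) (.node (.leaf ⟨311, 12, 313, 36, [2108, 5625, 3903]⟩) (.leaf ⟨0, 12, 0, 0, []⟩))) (.node (.node (.leaf ⟨492,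 4, 554, 49, [3241, 3029, 2421, 3576]⟩) (.leaf ⟨0, 12, 0, 0, []⟩)) (.node (.leaf ⟨761, 8, 1032, 62, [4661, 2431, 2580, 5811, 4241, 7668]⟩) (.leaf ⟨0, 12, 0, 0, []⟩))))) (.node (.node (.node (.node (.leaf ⟨171, 8, 156, 19, [1017, 916]⟩) (.leaf ⟨666, 4, 375, 75, [4214, 5782]⟩)) (.node (.leaf ⟨784, 3, 847, 7, [4793, 5074, 5112]⟩) (.leaf ⟨0, 12, 0, 0, []⟩))) (.node (.node (.leaf ⟨364, 5, 464, 28, [2441, 2320, 3062]⟩) (.leaf ⟨0, 12, 0, 0, []⟩)) (.node (.leaf ⟨786, 4, 988, 0, []⟩) (.leaf ⟨0, 12, 0, 0, []⟩)))) (.node (.node (.node (.leaf ⟨123, 3, 303, 30, [1942, 2037, 2038]⟩) (.leaf ⟨0, 12, 0, 0, []⟩)) (.node (.leaf ⟨383, 12, 544, 36, [2581, 6137, 3523]⟩) (.leaf ⟨0, 12, 0, 0, []⟩))) (.node (.node (.leaf ⟨589, 1, 655, 8, [3769, 3802, 4088]⟩) (.leaf ⟨0, 12, 0, 0, []⟩)) (.node (.leaf ⟨1072, 3, 1076,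 30, [8134, 7459, 8182]⟩) (.leaf ⟨0, 12, 0, 0, []⟩)))))))))

def fact30 : Arr (CFact) :=
  (.node (.node (.node (.node (.node (.node (.node (.node (.leaf ⟨10, 4, 3, 14, [57, 35, 15, 23]⟩) (.leaf ⟨834, 9, 1081, 46, [5031, 8141, 8186, 8242]⟩)) (.node (.leaf ⟨322, 0, 668, 21, [4144, 4152, 4154]⟩) (.leaf ⟨0, 12, 0, 0, []⟩))) (.node (.node (.leaf ⟨311, 1, 315, 11, [2089, 2104, 2106]⟩) (.leaf ⟨0, 12, 0, 0, []⟩)) (.node (.leaf ⟨466, 12, 908, 37, [3081, 6203, 5422]⟩) (.leaf ⟨0, 12, 0, 0, []⟩)))) (.node (.node (.node (.leaf ⟨90, 4, 180, 16, [545, 264, 271, 87, 28, 110, 352, 790, 1080]⟩) (.leaf ⟨712, 1, 935, 36, [6277, 6602]⟩)) (.node (.leaf ⟨783, 5, 861, 12, [4787, 5050, 5178]⟩) (.leaf ⟨0, 12, 0, 0, []⟩))) (.node (.node (.leaf ⟨474, 1, 475, 0, []⟩) (.leaf ⟨0, 12, 0, 0, []⟩)) (.node (.leaf ⟨994, 1, 995,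 0, []⟩) (.leaf ⟨0, 12, 0, 0, []⟩))))) (.node (.node (.node (.node (.leaf ⟨54, 9, 93, 5, [337, 456, 570]⟩) (.leaf ⟨298, 0, 450, 77, [3050, 5942]⟩)) (.node (.leaf ⟨761, 4, 763, 0, []⟩) (.leaf ⟨0, 12, 0, 0, []⟩))) (.node (.node (.leaf ⟨375, 1, 392, 11, [2533, 2616, 2618]⟩) (.leaf ⟨0, 12, 0, 0, []⟩)) (.node (.leaf ⟨602, 5, 950, 12, [3841, 6630, 6714]⟩) (.leaf ⟨0, 12, 0, 0, []⟩)))) (.node (.node (.node (.leaf ⟨254, 12, 224, 34, [1595]⟩) (.leaf ⟨0, 12, 0, 0, []⟩)) (.node (.leaf ⟨700, 0, 706, 100, [5344, 5690, 4712, 4709, 3344, 3343, 2442, 4356, 4364]⟩) (.leaf ⟨0, 12, 0, 0, []⟩))) (.node (.node (.leaf ⟨285, 4, 565, 43, [2302, 3638, 3642]⟩) (.leaf ⟨0, 12, 0, 0, []⟩)) (.node (.leaf ⟨1036, 2, 1041, 0, []⟩) (.leaf ⟨0, 12, 0, 0, []⟩)))))) (.node (.node (.node (.node (.node (.leaf ⟨18, 4, 50, 43, [306,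 312, 314]⟩) (.leaf ⟨1100, 1, 1106, 11, [8437, 8500, 8506]⟩)) (.node (.leaf ⟨715, 2, 716, 0, []⟩) (.leaf ⟨0, 12, 0, 0, []⟩))) (.node (.node (.leaf ⟨347, 4, 356, 0, []⟩) (.leaf ⟨0, 12, 0, 0, []⟩)) (.node (.leaf ⟨734, 4, 910, 132, [6386, 5003, 2591, 961, 972, 2542, 4807, 6178, 4188, 6407, 4321, 6396, 3303, 2745, 5362, 6244, 5979, 6238, 4345, 4702, 4699, 6170, 5432]⟩) (.leaf ⟨0, 12, 0, 0, []⟩)))) (.node (.node (.node (.leaf ⟨105, 2, 220, 0, []⟩) (.leaf ⟨0, 12, 0, 0, []⟩)) (.node (.leaf ⟨411, 5, 910, 57, [2751, 1174, 1137, 1370, 1402, 2728, 5404, 5401, 5432]⟩) (.leaf ⟨0, 12, 0, 0, []⟩))) (.node (.node (.leaf ⟨272, 9, 520, 5, [3362, 3361, 3384]⟩) (.leaf ⟨0, 12, 0, 0, []⟩)) (.node (.leaf ⟨911, 9, 1015, 5, [5445, 7472, 7476]⟩) (.leaf ⟨0, 12, 0, 0, []⟩))))) (.node (.node (.node (.node (.leaf ⟨140,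 1, 141, 0, []⟩) (.leaf ⟨510, 4, 345, 75, [5354, 6194]⟩)) (.node (.leaf ⟨780, 2, 815, 0, []⟩) (.leaf ⟨0, 12, 0, 0, []⟩))) (.node (.node (.leaf ⟨433, 4, 435, 0, []⟩) (.leaf ⟨0, 12, 0, 0, []⟩)) (.node (.leaf ⟨556, 5, 971, 12, [6934, 6964, 6966]⟩) (.leaf ⟨0, 12, 0, 0, []⟩)))) (.node (.node (.node (.leaf ⟨268, 2, 279, 0, []⟩) (.leaf ⟨0, 12, 0, 0, []⟩)) (.node (.leaf ⟨519, 12, 873, 38, [3444, 5947, 5245]⟩) (.leaf ⟨0, 12, 0, 0, []⟩))) (.node (.node (.leaf ⟨612, 2, 614, 0, []⟩) (.leaf ⟨0, 12, 0, 0, []⟩)) (.node (.leaf ⟨1041, 1, 1061, 8, [7743, 7693, 7990]⟩) (.leaf ⟨0, 12, 0, 0, []⟩))))))) (.node (.node (.node (.node (.node (.node (.leaf ⟨9, 1, 33, 0, []⟩) (.leaf ⟨1077, 1, 1093, 8, [8189, 8210, 8374]⟩)) (.node (.leaf ⟨416, 4, 690, 0, []⟩) (.leaf ⟨0, 12, 0, 0, []⟩))) (.node (.node (.leaf ⟨183, 5, 334,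 28, [1098, 776, 2234]⟩) (.leaf ⟨0, 12, 0, 0, []⟩)) (.node (.leaf ⟨851, 12, 862, 37, [5165, 5894, 6327, 5182]⟩) (.leaf ⟨0, 12, 0, 0, []⟩)))) (.node (.node (.node (.leaf ⟨180, 8, 200, 40, [1086, 1210]⟩) (.leaf ⟨857, 1, 1081, 36, [6331, 8250]⟩)) (.node (.leaf ⟨401, 4, 887, 43, [5298, 5304, 5306]⟩) (.leaf ⟨0, 12, 0, 0, []⟩))) (.node (.node (.leaf ⟨468, 1, 495, 8, [3093, 2695, 3258]⟩) (.leaf ⟨0, 12, 0, 0, []⟩)) (.node (.leaf ⟨667, 8, 1005, 40, [4154, 7354]⟩) (.leaf ⟨0, 12, 0, 0, []⟩))))) (.node (.node (.node (.node (.leaf ⟨119, 5, 65, 55, [697, 695, 410, 405, 155, 43, 64, 234, 48, 176, 442, 445, 388]⟩) (.leaf ⟨400, 4, 739, 75, [5282, 6030]⟩)) (.node (.leaf ⟨782, 9, 785, 5, [4781, 4756, 4794]⟩) (.leaf ⟨0, 12, 0, 0, []⟩))) (.node (.node (.leaf ⟨260, 9, 410, 39, [1737, 1730, 2740]⟩) (.leaf ⟨0, 12,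 0, 0, []⟩)) (.node (.leaf ⟨498, 5, 961, 133, [3275, 3300, 6246, 4157, 2146, 5785, 2567, 2175, 955, 2000, 2346, 2478, 2477, 2372, 2371, 2000, 2988, 4482, 6818, 6838]⟩) (.leaf ⟨0, 12, 0, 0, []⟩)))) (.node (.node (.node (.leaf ⟨189, 8, 258, 0, []⟩) (.leaf ⟨0, 12, 0, 0, []⟩)) (.node (.leaf ⟨374, 12, 677, 38, [2529, 5819, 4205]⟩) (.leaf ⟨0, 12, 0, 0, []⟩))) (.node (.node (.leaf ⟨317, 2, 590, 0, []⟩) (.leaf ⟨0, 12, 0, 0, []⟩)) (.node (.leaf ⟨709, 0, 1051, 124, [4381, 4357, 2439, 1976, 3704, 6788, 6791, 6722, 6736, 6735, 6679, 7860]⟩) (.leaf ⟨0, 12, 0, 0, []⟩)))))) (.node (.node (.node (.node (.node (.leaf ⟨63, 3, 76, 7, [383, 178, 442]⟩) (.leaf ⟨84, 0, 46, 77, [1432, 1628]⟩)) (.node (.leaf ⟨691, 2, 743, 0, []⟩) (.leaf ⟨0, 12, 0, 0, []⟩))) (.node (.node (.leaf ⟨187, 9, 370, 5, [1129, 1394, 2488]⟩)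 (.leaf ⟨0, 12, 0, 0, []⟩)) (.node (.leaf ⟨443, 0, 934, 42, [5966, 5434, 5433, 5400, 5399, 5448, 5449, 5448, 6586]⟩) (.leaf ⟨0, 12, 0, 0, []⟩)))) (.node (.node (.node (.leaf ⟨238, 4, 240, 0, []⟩) (.leaf ⟨0, 12, 0, 0, []⟩)) (.node (.leaf ⟨568, 12, 306, 34, [5563]⟩) (.leaf ⟨0, 12, 0, 0, []⟩))) (.node (.node (.leaf ⟨542, 2, 543, 0, []⟩) (.leaf ⟨0, 12, 0, 0, []⟩)) (.node (.leaf ⟨633, 1, 1027, 11, [3975, 7596, 7608]⟩) (.leaf ⟨0, 12, 0, 0, []⟩))))) (.node (.node (.node (.node (.leaf ⟨114, 1, 162, 8, [669, 880, 954]⟩) (.leaf ⟨639, 0, 1064, 77, [5773, 8032]⟩)) (.node (.leaf ⟨778, 9, 837, 5, [4759, 2628, 5048]⟩) (.leaf ⟨0, 12, 0, 0, []⟩))) (.node (.node (.leaf ⟨217, 5, 456, 28, [1327, 2975, 3002]⟩) (.leaf ⟨0, 12, 0, 0, []⟩)) (.node (.leaf ⟨747, 0, 982, 44, [4565, 4563, 5390, 6167, 6166, 6167, 6163,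 7094, 7098]⟩) (.leaf ⟨0, 12, 0, 0, []⟩)))) (.node (.node (.node (.leaf ⟨115, 0, 295, 21, [1259, 1976, 1978]⟩) (.leaf ⟨0, 12, 0, 0, []⟩)) (.node (.leaf ⟨684, 12, 486, 34, [5837, 6075]⟩) (.leaf ⟨0, 12, 0, 0, []⟩))) (.node (.node (.leaf ⟨645, 4, 636, 6, [4027, 3963, 3989]⟩) (.leaf ⟨0, 12, 0, 0, []⟩)) (.node (.leaf ⟨736, 1, 1071, 11, [6828, 6846, 8116]⟩) (.leaf ⟨0, 12, 0, 0, []⟩)))))))) (.node (.node (.node (.node (.node (.node (.node (.leaf ⟨20, 2, 21, 25, [113, 123]⟩) (.leaf ⟨1064, 1, 1089, 11, [8037, 8250, 8312]⟩)) (.node (.leaf ⟨670, 0, 681, 0, []⟩) (.leaf ⟨0, 12, 0, 0, []⟩))) (.node (.node (.leaf ⟨207, 8, 327, 40, [1266, 2170]⟩) (.leaf ⟨0, 12, 0, 0, []⟩)) (.node (.leaf ⟨889, 12, 447, 34, [6267]⟩) (.leaf ⟨0, 12, 0, 0, []⟩)))) (.node (.node (.node (.leaf ⟨94, 8, 189, 62, [581, 320, 315, 720,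 1146]⟩) (.leaf ⟨767, 1, 822, 36, [6291, 4971]⟩)) (.node (.leaf ⟨873, 2, 874, 0, []⟩) (.leaf ⟨0, 12, 0, 0, []⟩))) (.node (.node (.leaf ⟨279, 0, 486, 0, []⟩) (.leaf ⟨0, 12, 0, 0, []⟩)) (.node (.leaf ⟨526, 3, 1001, 53, [3458, 3457, 3446, 3445, 7278, 7279, 7278, 7288, 7290]⟩) (.leaf ⟨0, 12, 0, 0, []⟩))))) (.node (.node (.node (.node (.leaf ⟨46, 0, 108, 21, [574, 632, 634]⟩) (.leaf ⟨374, 4, 595, 75, [4774, 5884]⟩)) (.node (.leaf ⟨756, 2, 772, 0, []⟩) (.leaf ⟨0, 12, 0, 0, []⟩))) (.node (.node (.leaf ⟨401, 9, 402, 0, []⟩) (.leaf ⟨0, 12, 0, 0, []⟩)) (.node (.leaf ⟨559, 1, 956, 11, [3609, 5302, 6774]⟩) (.leaf ⟨0, 12, 0, 0, []⟩)))) (.node (.node (.node (.leaf ⟨84, 12, 108, 38, [497, 1659, 640]⟩) (.leaf ⟨0, 12, 0, 0, []⟩)) (.node (.leaf ⟨581, 12, 436, 38, [3731, 5755, 3721]⟩) (.leaf ⟨0, 12, 0, 0, []⟩)))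 (.node (.node (.leaf ⟨430, 1, 576, 11, [2857, 3704, 3706]⟩) (.leaf ⟨0, 12, 0, 0, []⟩)) (.node (.leaf ⟨592, 4, 1046, 43, [3788, 7336, 7796]⟩) (.leaf ⟨0, 12, 0, 0, []⟩)))))) (.node (.node (.node (.node (.node (.leaf ⟨62, 4, 25, 6, [379, 319, 283]⟩) (.leaf ⟨1087, 1, 1112, 0, []⟩)) (.node (.leaf ⟨453, 2, 730, 0, []⟩) (.leaf ⟨0, 12, 0, 0, []⟩))) (.node (.node (.leaf ⟨162, 0, 363, 0, []⟩) (.leaf ⟨0, 12, 0, 0, []⟩)) (.node (.leaf ⟨922, 3, 925, 53, [6499, 3975, 4278, 2773, 4277, 3979, 3978, 3979, 3986, 6522]⟩) (.leaf ⟨0, 12, 0, 0, []⟩)))) (.node (.node (.node (.leaf ⟨229, 4, 185, 6, [1403, 1371, 1135]⟩) (.leaf ⟨0, 12, 0, 0, []⟩)) (.node (.leaf ⟨600, 0, 661, 21, [4258, 5496, 4124]⟩) (.leaf ⟨0, 12, 0, 0, []⟩))) (.node (.node (.leaf ⟨520, 4, 531, 0, []⟩) (.leaf ⟨0, 12, 0, 0, []⟩)) (.node (.leaf ⟨716,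 0, 860, 21, [7546, 7539, 6493]⟩) (.leaf ⟨0, 12, 0, 0, []⟩))))) (.node (.node (.node (.node (.leaf ⟨151, 9, 56, 5, [891, 875, 344]⟩) (.leaf ⟨555, 2, 385, 38, [3696, 6004]⟩)) (.node (.leaf ⟨827, 4, 818, 6, [4987, 4921, 4945]⟩) (.leaf ⟨0, 12, 0, 0, []⟩))) (.node (.node (.leaf ⟨274, 9, 446, 5, [1821, 2408, 2936]⟩) (.leaf ⟨0, 12, 0, 0, []⟩)) (.node (.leaf ⟨752, 5, 976, 87, [5694, 3699, 6826, 6833, 5416, 5415, 2779, 6572, 7006, 7001, 3019, 7028]⟩) (.leaf ⟨0, 12, 0, 0, []⟩)))) (.node (.node (.node (.leaf ⟨112, 5, 287, 28, [657, 676, 1912]⟩) (.leaf ⟨0, 12, 0, 0, []⟩)) (.node (.leaf ⟨736, 4, 812, 24, [4552, 5982, 4910]⟩) (.leaf ⟨0, 12, 0, 0, []⟩))) (.node (.node (.leaf ⟨631, 9, 316, 4, [3963, 3947, 2110]⟩) (.leaf ⟨0, 12, 0, 0, []⟩)) (.node (.leaf ⟨706, 1, 1066, 11, [4369, 4060, 8054]⟩) (.leaf ⟨0, 12,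 0, 0, []⟩))))))) (.node (.node (.node (.node (.node (.node (.leaf ⟨38, 2, 39, 0, []⟩) (.leaf ⟨1069, 2, 1101, 23, [8097, 8082, 8081, 8442]⟩)) (.node (.leaf ⟨336, 4, 704, 43, [4338, 4344, 4346]⟩) (.leaf ⟨0, 12, 0, 0, []⟩))) (.node (.node (.leaf ⟨139, 0, 346, 21, [1335, 2296, 2298]⟩) (.leaf ⟨0, 12, 0, 0, []⟩)) (.node (.leaf ⟨696, 12, 505, 34, [6395]⟩) (.leaf ⟨0, 12, 0, 0, []⟩)))) (.node (.node (.node (.leaf ⟨208, 2, 209, 0, []⟩) (.leaf ⟨969, 2, 519, 38, [6951, 5950]⟩)) (.node (.leaf ⟨899, 4, 900, 0, []⟩) (.leaf ⟨0, 12, 0, 0, []⟩))) (.node (.node (.leaf ⟨260, 5, 508, 28, [1735, 3289, 3322]⟩) (.leaf ⟨0, 12, 0, 0, []⟩)) (.node (.leaf ⟨1003, 2, 1010, 0, []⟩) (.leaf ⟨0, 12, 0, 0, []⟩))))) (.node (.node (.node (.node (.leaf ⟨62, 2, 131, 0, []⟩) (.leaf ⟨453, 2, 510, 38, [4476, 6192]⟩)) (.node (.leaf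 ⟨795, 4, 798, 0, []⟩) (.leaf ⟨0, 12, 0, 0, []⟩))) (.node (.node (.leaf ⟨423, 4, 425, 0, []⟩) (.leaf ⟨0, 12, 0, 0, []⟩)) (.node (.leaf ⟨895, 5, 966, 85, [5346, 2701, 3336, 4332, 6242, 3017, 3010, 6018, 6013, 6828, 6833, 6904]⟩) (.leaf ⟨0, 12, 0, 0, []⟩)))) (.node (.node (.node (.leaf ⟨257, 2, 269, 0, []⟩) (.leaf ⟨0, 12, 0, 0, []⟩)) (.node (.leaf ⟨781, 12, 595, 34, [5883]⟩) (.leaf ⟨0, 12, 0, 0, []⟩))) (.node (.node (.leaf ⟨601, 4, 308, 6, [3835, 3833, 2787]⟩) (.leaf ⟨0, 12, 0, 0, []⟩)) (.node (.leaf ⟨606, 9, 1056, 4, [6287, 4472, 7924]⟩) (.leaf ⟨0, 12, 0, 0, []⟩)))))) (.node (.node (.node (.node (.node (.leaf ⟨85, 4, 80, 14, [505, 483, 249, 478]⟩) (.leaf ⟨135, 0, 141, 77, [1080, 1670]⟩)) (.node (.leaf ⟨458, 4, 753, 0, []⟩) (.leaf ⟨0, 12, 0, 0, []⟩))) (.node (.node (.leaf ⟨293, 8, 379, 40, [2180,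 2554]⟩) (.leaf ⟨0, 12, 0, 0, []⟩)) (.node (.leaf ⟨423, 8, 940, 0, []⟩) (.leaf ⟨0, 12, 0, 0, []⟩)))) (.node (.node (.node (.leaf ⟨239, 2, 254, 13, [1467, 1455, 1528]⟩) (.leaf ⟨0, 12, 0, 0, []⟩)) (.node (.leaf ⟨313, 12, 311, 34, [5627]⟩) (.leaf ⟨0, 12, 0, 0, []⟩))) (.node (.node (.leaf ⟨484, 0, 555, 0, []⟩) (.leaf ⟨0, 12, 0, 0, []⟩)) (.node (.leaf ⟨1028, 2, 1033, 0, []⟩) (.leaf ⟨0, 12, 0, 0, []⟩))))) (.node (.node (.node (.node (.leaf ⟨170, 4, 172, 0, []⟩) (.leaf ⟨667, 1, 699, 36, [6407, 4322]⟩)) (.node (.leaf ⟨807, 9, 848, 0, []⟩) (.leaf ⟨0, 12, 0, 0, []⟩))) (.node (.node (.leaf ⟨397, 2, 464, 63, [2655, 2442, 3066]⟩) (.leaf ⟨0, 12, 0, 0, []⟩)) (.node (.leaf ⟨802, 1, 988, 8, [4873, 4802, 7162]⟩) (.leaf ⟨0, 12, 0, 0, []⟩)))) (.node (.node (.node (.leaf ⟨195, 8, 304, 0, []⟩) (.leaf ⟨0, 12, 0,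 0, []⟩)) (.node (.leaf ⟨544, 12, 383, 34, [6139]⟩) (.leaf ⟨0, 12, 0, 0, []⟩))) (.node (.node (.leaf ⟨321, 2, 656, 0, []⟩) (.leaf ⟨0, 12, 0, 0, []⟩)) (.node (.leaf ⟨955, 4, 1077, 0, []⟩) (.leaf ⟨0, 12, 0, 0, []⟩)))))))))

def fact31 : Arr (CFact) :=
  (.node (.node (.node (.node (.node (.node (.node (.node (.leaf ⟨10, 2, 10, 15, [57, 33, 61]⟩) (.leaf ⟨991, 8, 1081, 3, [7201, 8184, 8242]⟩)) (.node (.leaf ⟨557, 1, 668, 22, [3595, 1869, 1348, 1422, 1421, 463, 1032, 1566, 753, 315, 726, 2140, 4156]⟩) (.leaf ⟨0, 12, 0, 0, []⟩))) (.node (.node (.leaf ⟨314, 4, 316, 0, []⟩) (.leaf ⟨0, 12, 0, 0, []⟩)) (.node (.leaf ⟨908, 12, 466, 34, [6205]⟩) (.leaf ⟨0, 12, 0, 0, []⟩)))) (.node (.node (.node (.leaf ⟨180, 9, 181, 0, []⟩) (.leaf ⟨712, 2, 470, 38, [4434, 6256]⟩)) (.node (.leaf ⟨861, 2, 862, 0, []⟩) (.leaf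 ⟨0, 12, 0, 0, []⟩))) (.node (.node (.leaf ⟨227, 4, 475, 43, [2739, 3130, 3132]⟩) (.leaf ⟨0, 12, 0, 0, []⟩)) (.node (.leaf ⟨843, 2, 995, 13, [5085, 7224, 7228]⟩) (.leaf ⟨0, 12, 0, 0, []⟩))))) (.node (.node (.node (.node (.leaf ⟨46, 8, 93, 40, [338, 572]⟩) (.leaf ⟨305, 4, 124, 75, [2130, 5678]⟩)) (.node (.leaf ⟨387, 1, 763, 8, [2593, 4660, 4668]⟩) (.leaf ⟨0, 12, 0, 0, []⟩))) (.node (.node (.leaf ⟨391, 4, 393, 0, []⟩) (.leaf ⟨0, 12, 0, 0, []⟩)) (.node (.leaf ⟨950, 0, 950, 45, [6715, 6627, 3133, 4610, 4615, 4622, 5936, 4541, 4550, 5981, 3132, 6626, 6714]⟩) (.leaf ⟨0, 12, 0, 0, []⟩)))) (.node (.node (.node (.leaf ⟨77, 12, 238, 37, [1378, 1597, 1531]⟩) (.leaf ⟨0, 12, 0, 0, []⟩)) (.node (.leaf ⟨752, 4, 574, 16, [4595, 2931, 2853, 3308, 4326, 5692, 4367, 4048, 3700]⟩) (.leaf ⟨0, 12, 0, 0, []⟩))) (.node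 (.node (.leaf ⟨515, 8, 565, 62, [3367, 3138, 3133, 3640, 3642]⟩) (.leaf ⟨0, 12, 0, 0, []⟩)) (.node (.leaf ⟨1034, 4, 1041, 86, [7691, 7434, 7441, 7728, 7727, 4749, 4745, 7678, 7687, 7710, 7740]⟩) (.leaf ⟨0, 12, 0, 0, []⟩)))))) (.node (.node (.node (.node (.node (.leaf ⟨43, 4, 51, 0, []⟩) (.leaf ⟨1106, 9, 1106, 5, [8507, 8505, 8506]⟩)) (.node (.leaf ⟨365, 1, 716, 11, [2449, 4408, 4412]⟩) (.leaf ⟨0, 12, 0, 0, []⟩))) (.node (.node (.leaf ⟨356, 9, 251, 4, [2365, 2312, 1573, 1514]⟩) (.leaf ⟨0, 12, 0, 0, []⟩)) (.node (.leaf ⟨693, 5, 655, 133, [4506, 6460, 5437, 2751, 1174, 1136, 1139, 1741, 2069, 2156, 2163, 1261, 1237, 2542, 4807, 6178, 4187, 3806, 5580, 3804, 4088]⟩) (.leaf ⟨0, 12, 0, 0, []⟩)))) (.node (.node (.node (.leaf ⟨209, 9, 220, 5, [1277, 1273, 1340]⟩) (.leaf ⟨0, 12, 0, 0, []⟩)) (.node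 (.leaf ⟨607, 4, 911, 0, []⟩) (.leaf ⟨0, 12, 0, 0, []⟩))) (.node (.node (.leaf ⟨271, 8, 520, 40, [1808, 3388]⟩) (.leaf ⟨0, 12, 0, 0, []⟩)) (.node (.leaf ⟨729, 3, 1015, 30, [4473, 6296, 7484]⟩) (.leaf ⟨0, 12, 0, 0, []⟩))))) (.node (.node (.node (.node (.leaf ⟨53, 4, 141, 43, [434, 826, 828]⟩) (.leaf ⟨510, 8, 975, 76, [6193, 7024]⟩)) (.node (.leaf ⟨794, 1, 815, 11, [4841, 4773, 4924]⟩) (.leaf ⟨0, 12, 0, 0, []⟩))) (.node (.node (.leaf ⟨435, 1, 436, 0, []⟩) (.leaf ⟨0, 12, 0, 0, []⟩)) (.node (.leaf ⟨451, 4, 971, 43, [2978, 6956, 6966]⟩) (.leaf ⟨0, 12, 0, 0, []⟩)))) (.node (.node (.node (.leaf ⟨156, 4, 279, 86, [919, 426, 936, 938, 951, 413, 407, 664, 686, 1784, 1852]⟩) (.leaf ⟨0, 12, 0, 0, []⟩)) (.node (.leaf ⟨873, 12, 519, 34, [5949]⟩) (.leaf ⟨0, 12, 0, 0, []⟩))) (.node (.node (.leaf ⟨313, 1, 614,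 11, [2101, 3894, 3900]⟩) (.leaf ⟨0, 12, 0, 0, []⟩)) (.node (.leaf ⟨632, 9, 1061, 4, [5683, 6493, 7990]⟩) (.leaf ⟨0, 12, 0, 0, []⟩))))))) (.node (.node (.node (.node (.node (.node (.leaf ⟨33, 2, 34, 0, []⟩) (.leaf ⟨893, 9, 1093, 4, [5333, 6284, 8212, 8374]⟩)) (.node (.leaf ⟨413, 1, 690, 8, [2765, 2774, 4284]⟩) (.leaf ⟨0, 12, 0, 0, []⟩))) (.node (.node (.leaf ⟨261, 0, 335, 0, []⟩) (.leaf ⟨0, 12, 0, 0, []⟩)) (.node (.leaf ⟨862, 12, 851, 34, [6333]⟩) (.leaf ⟨0, 12, 0, 0, []⟩)))) (.node (.node (.node (.leaf ⟨68, 0, 200, 21, [401, 1088, 1210]⟩) (.leaf ⟨857, 2, 1064, 38, [6331, 8036]⟩)) (.node (.leaf ⟨758, 4, 888, 0, []⟩) (.leaf ⟨0, 12, 0, 0, []⟩))) (.node (.node (.leaf ⟨367, 5, 495, 55, [2457, 3028, 3112, 3115, 2511, 1321, 1772, 2969, 2729, 1800, 1888, 3258]⟩) (.leaf ⟨0, 12, 0, 0, []⟩)) (.node (.leaf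 ⟨977, 2, 1006, 0, []⟩) (.leaf ⟨0, 12, 0, 0, []⟩))))) (.node (.node (.node (.node (.leaf ⟨50, 4, 120, 0, []⟩) (.leaf ⟨401, 1, 710, 36, [5298, 6282]⟩)) (.node (.leaf ⟨376, 5, 785, 28, [2535, 4783, 4796]⟩) (.leaf ⟨0, 12, 0, 0, []⟩))) (.node (.node (.leaf ⟨194, 0, 411, 0, []⟩) (.leaf ⟨0, 12, 0, 0, []⟩)) (.node (.leaf ⟨960, 1, 961, 8, [6827, 6822, 6838]⟩) (.leaf ⟨0, 12, 0, 0, []⟩)))) (.node (.node (.node (.leaf ⟨184, 4, 258, 24, [1112, 1144, 1724]⟩) (.leaf ⟨0, 12, 0, 0, []⟩)) (.node (.leaf ⟨677, 12, 374, 34, [5821]⟩) (.leaf ⟨0, 12, 0, 0, []⟩))) (.node (.node (.leaf ⟨437, 0, 590, 94, [2883, 2855, 1908, 1917, 655, 668, 722, 2114, 3772]⟩) (.leaf ⟨0, 12, 0, 0, []⟩)) (.node (.leaf ⟨992, 9, 1051, 46, [7207, 7201, 4465, 7868]⟩) (.leaf ⟨0, 12, 0, 0, []⟩)))))) (.node (.node (.node (.node (.node (.leaf ⟨64,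 2, 76, 13, [387, 285, 442]⟩) (.leaf ⟨85, 0, 177, 77, [1496, 1706]⟩)) (.node (.leaf ⟨369, 0, 743, 44, [2481, 3050, 3053, 2675, 2674, 2675, 2394, 4288, 4540]⟩) (.leaf ⟨0, 12, 0, 0, []⟩))) (.node (.node (.leaf ⟨229, 8, 370, 40, [1406, 2492]⟩) (.leaf ⟨0, 12, 0, 0, []⟩)) (.node (.leaf ⟨548, 4, 934, 9, [3541, 6115, 5075, 6081, 3533, 2405, 3258, 3267, 2193, 2184, 2762, 5450, 6586]⟩) (.leaf ⟨0, 12, 0, 0, []⟩)))) (.node (.node (.node (.leaf ⟨181, 1, 240, 8, [1093, 1462, 1468]⟩) (.leaf ⟨0, 12, 0, 0, []⟩)) (.node (.leaf ⟨302, 12, 625, 37, [2062, 5565, 3942]⟩) (.leaf ⟨0, 12, 0, 0, []⟩))) (.node (.node (.leaf ⟨539, 1, 543, 11, [3499, 3514, 3516]⟩) (.leaf ⟨0, 12, 0, 0, []⟩)) (.node (.leaf ⟨1025, 5, 1027, 12, [7597, 6358, 7612]⟩) (.leaf ⟨0, 12, 0, 0, []⟩))))) (.node (.node (.node (.node (.leaf ⟨57, 9, 162,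 4, [349, 879, 954]⟩) (.leaf ⟨639, 4, 864, 75, [5773, 5192]⟩)) (.node (.leaf ⟨773, 8, 837, 40, [4760, 5052]⟩) (.leaf ⟨0, 12, 0, 0, []⟩))) (.node (.node (.leaf ⟨217, 1, 457, 0, []⟩) (.leaf ⟨0, 12, 0, 0, []⟩)) (.node (.leaf ⟨469, 5, 982, 85, [5316, 6268, 2949, 4392, 5689, 4325, 2742, 6209, 3151, 7064, 7057, 7094, 7098]⟩) (.leaf ⟨0, 12, 0, 0, []⟩)))) (.node (.node (.node (.leaf ⟨295, 2, 204, 29, [1981, 677, 653, 659, 655, 666, 1257, 1253, 1246]⟩) (.leaf ⟨0, 12, 0, 0, []⟩)) (.node (.leaf ⟨759, 12, 486, 34, [5836, 6076]⟩) (.leaf ⟨0, 12, 0, 0, []⟩))) (.node (.node (.leaf ⟨645, 9, 638, 5, [4027, 3964, 3996]⟩) (.leaf ⟨0, 12, 0, 0, []⟩)) (.node (.leaf ⟨965, 9, 1071, 5, [6893, 6848, 8116]⟩) (.leaf ⟨0, 12, 0, 0, []⟩)))))))) (.node (.node (.node (.node (.node (.node (.node (.leaf ⟨8, 4, 22, 0, []⟩) (.leaf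 ⟨1051, 9, 1089, 5, [7863, 8252, 8312]⟩)) (.node (.leaf ⟨681, 9, 682, 0, []⟩) (.leaf ⟨0, 12, 0, 0, []⟩))) (.node (.node (.leaf ⟨162, 3, 327, 30, [959, 941, 2170]⟩) (.leaf ⟨0, 12, 0, 0, []⟩)) (.node (.leaf ⟨340, 12, 890, 37, [2950, 6269, 5320]⟩) (.leaf ⟨0, 12, 0, 0, []⟩)))) (.node (.node (.node (.leaf ⟨65, 2, 190, 0, []⟩) (.leaf ⟨767, 2, 911, 38, [6291, 5444]⟩)) (.node (.leaf ⟨463, 1, 874, 11, [3053, 5242, 5244]⟩) (.leaf ⟨0, 12, 0, 0, []⟩))) (.node (.node (.leaf ⟨486, 9, 487, 0, []⟩) (.leaf ⟨0, 12, 0, 0, []⟩)) (.node (.leaf ⟨755, 4, 1001, 84, [6483, 7100, 7099, 7095, 6944, 6953, 6951, 5950, 7278, 7288]⟩) (.leaf ⟨0, 12, 0, 0, []⟩))))) (.node (.node (.node (.node (.leaf ⟨101, 4, 108, 16, [611, 570, 577, 281, 162, 292, 300, 302, 636]⟩) (.leaf ⟨375, 8, 324, 76, [2570, 5784]⟩)) (.node (.leaf ⟨456,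 9, 772, 5, [3001, 4627, 4732]⟩) (.leaf ⟨0, 12, 0, 0, []⟩))) (.node (.node (.leaf ⟨175, 0, 402, 21, [2418, 2682, 2684]⟩) (.leaf ⟨0, 12, 0, 0, []⟩)) (.node (.leaf ⟨950, 8, 956, 62, [6715, 6635, 6303, 3602, 6780]⟩) (.leaf ⟨0, 12, 0, 0, []⟩)))) (.node (.node (.node (.leaf ⟨108, 12, 84, 34, [1661]⟩) (.leaf ⟨0, 12, 0, 0, []⟩)) (.node (.leaf ⟨653, 12, 779, 77, [4075, 5757, 4768]⟩) (.leaf ⟨0, 12, 0, 0, []⟩))) (.node (.node (.leaf ⟨575, 4, 577, 0, []⟩) (.leaf ⟨0, 12, 0, 0, []⟩)) (.node (.leaf ⟨1044, 8, 1047, 0, []⟩) (.leaf ⟨0, 12, 0, 0, []⟩)))))) (.node (.node (.node (.node (.node (.leaf ⟨25, 1, 63, 0, []⟩) (.leaf ⟨1110, 3, 1112, 7, [8557, 8296, 8572]⟩)) (.node (.leaf ⟨473, 1, 730, 11, [3127, 3125, 4476]⟩) (.leaf ⟨0, 12, 0, 0, []⟩))) (.node (.node (.leaf ⟨163, 8, 363, 3, [961, 952, 2428]⟩) (.leaf ⟨0,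 12, 0, 0, []⟩)) (.node (.leaf ⟨689, 8, 925, 3, [4275, 3991, 6522]⟩) (.leaf ⟨0, 12, 0, 0, []⟩)))) (.node (.node (.node (.leaf ⟨229, 9, 187, 5, [1403, 1372, 1128]⟩) (.leaf ⟨0, 12, 0, 0, []⟩)) (.node (.leaf ⟨838, 0, 662, 93, [5059, 4255, 2763, 2185, 2724, 2788, 3832, 5500, 4126]⟩) (.leaf ⟨0, 12, 0, 0, []⟩))) (.node (.node (.leaf ⟨531, 9, 451, 4, [3453, 3391, 2976]⟩) (.leaf ⟨0, 12, 0, 0, []⟩)) (.node (.leaf ⟨550, 8, 1021, 0, []⟩) (.leaf ⟨0, 12, 0, 0, []⟩))))) (.node (.node (.node (.node (.leaf ⟨147, 4, 152, 0, []⟩) (.leaf ⟨558, 2, 712, 38, [4640, 6276]⟩)) (.node (.leaf ⟨827, 9, 820, 5, [4987, 4922, 4952]⟩) (.leaf ⟨0, 12, 0, 0, []⟩))) (.node (.node (.leaf ⟨276, 3, 446, 30, [1845, 1824, 2940]⟩) (.leaf ⟨0, 12, 0, 0, []⟩)) (.node (.leaf ⟨899, 9, 976, 5, [5369, 6400, 4336, 6242, 7028]⟩) (.leaf ⟨0,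 12, 0, 0, []⟩)))) (.node (.node (.node (.leaf ⟨162, 2, 288, 0, []⟩) (.leaf ⟨0, 12, 0, 0, []⟩)) (.node (.leaf ⟨437, 3, 812, 10, [2883, 2855, 1908, 3184, 3218, 3221, 2478, 3566, 4510, 4518, 6012]⟩) (.leaf ⟨0, 12, 0, 0, []⟩))) (.node (.node (.leaf ⟨592, 2, 632, 0, []⟩) (.leaf ⟨0, 12, 0, 0, []⟩)) (.node (.leaf ⟨1032, 5, 1066, 87, [7673, 7489, 7498, 7876, 7881, 6523, 5877, 5069, 6409, 6388, 5686, 4060, 8054]⟩) (.leaf ⟨0, 12, 0, 0, []⟩))))))) (.node (.node (.node (.node (.node (.node (.leaf ⟨39, 1, 39, 11, [253, 251, 252]⟩) (.leaf ⟨1101, 0, 1101, 69, [8443, 8081, 8442]⟩)) (.node (.leaf ⟨699, 9, 704, 4, [4325, 2240, 4348]⟩) (.leaf ⟨0, 12, 0, 0, []⟩))) (.node (.node (.leaf ⟨285, 1, 346, 22, [1901, 629, 596, 608, 1756, 1751, 855, 1585, 1441, 485, 1647, 869, 822, 2300]⟩) (.leaf ⟨0, 12, 0, 0, []⟩)) (.node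 (.leaf ⟨695, 12, 697, 37, [4309, 6397, 4316]⟩) (.leaf ⟨0, 12, 0, 0, []⟩)))) (.node (.node (.node (.leaf ⟨209, 4, 72, 6, [1277, 1269, 761]⟩) (.leaf ⟨979, 4, 467, 75, [7071, 6228]⟩)) (.node (.leaf ⟨900, 1, 901, 0, []⟩) (.leaf ⟨0, 12, 0, 0, []⟩))) (.node (.node (.leaf ⟨260, 1, 509, 0, []⟩) (.leaf ⟨0, 12, 0, 0, []⟩)) (.node (.leaf ⟨970, 0, 1010, 44, [6955, 6419, 4698, 4703, 4702, 4703, 4341, 6217, 7320, 7420]⟩) (.leaf ⟨0, 12, 0, 0, []⟩))))) (.node (.node (.node (.node (.leaf ⟨67, 4, 131, 9, [395, 331, 111, 46, 126, 131, 127, 176, 179, 381, 764]⟩) (.leaf ⟨453, 4, 511, 75, [6223, 3332]⟩)) (.node (.leaf ⟨798, 1, 799, 0, []⟩) (.leaf ⟨0, 12, 0, 0, []⟩))) (.node (.node (.leaf ⟨425, 1, 426, 0, []⟩) (.leaf ⟨0, 12, 0, 0, []⟩)) (.node (.leaf ⟨964, 1, 966, 11, [6885, 5417, 6904]⟩) (.leaf ⟨0, 12, 0, 0, []⟩))))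 (.node (.node (.node (.leaf ⟨105, 1, 269, 11, [623, 1553, 1722, 1788]⟩) (.leaf ⟨0, 12, 0, 0, []⟩)) (.node (.leaf ⟨804, 12, 768, 75, [4880, 5815, 4705]⟩) (.leaf ⟨0, 12, 0, 0, []⟩))) (.node (.node (.leaf ⟨424, 2, 602, 0, []⟩) (.leaf ⟨0, 12, 0, 0, []⟩)) (.node (.leaf ⟨628, 2, 1057, 0, []⟩) (.leaf ⟨0, 12, 0, 0, []⟩)))))) (.node (.node (.node (.node (.node (.leaf ⟨85, 2, 86, 0, []⟩) (.leaf ⟨136, 0, 72, 77, [1699, 1289]⟩)) (.node (.leaf ⟨455, 1, 753, 8, [2997, 3014, 4604]⟩) (.leaf ⟨0, 12, 0, 0, []⟩))) (.node (.node (.leaf ⟨218, 5, 379, 28, [1998, 2182, 2554]⟩) (.leaf ⟨0, 12, 0, 0, []⟩)) (.node (.leaf ⟨940, 4, 885, 24, [6653, 2812, 6478]⟩) (.leaf ⟨0, 12, 0, 0, []⟩)))) (.node (.node (.node (.leaf ⟨254, 4, 255, 0, []⟩) (.leaf ⟨0, 12, 0, 0, []⟩)) (.node (.leaf ⟨611, 12, 621, 75, [3891, 5629, 3927]⟩)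 (.leaf ⟨0, 12, 0, 0, []⟩))) (.node (.node (.leaf ⟨490, 2, 555, 29, [3231, 3214, 3478, 3530, 3533, 2936, 3228, 3219, 3580]⟩) (.leaf ⟨0, 12, 0, 0, []⟩)) (.node (.leaf ⟨761, 0, 1033, 93, [4662, 7604, 7601, 6451, 3758, 7594, 7618, 7627, 7676]⟩) (.leaf ⟨0, 12, 0, 0, []⟩))))) (.node (.node (.node (.node (.leaf ⟨145, 5, 172, 55, [859, 825, 886, 889, 375, 129, 211, 203, 128, 374, 888, 1002, 1020]⟩) (.leaf ⟨667, 2, 579, 38, [6407, 6391]⟩)) (.node (.leaf ⟨390, 0, 848, 21, [2613, 4892, 5116]⟩) (.leaf ⟨0, 12, 0, 0, []⟩))) (.node (.node (.leaf ⟨226, 0, 465, 0, []⟩) (.leaf ⟨0, 12, 0, 0, []⟩)) (.node (.leaf ⟨972, 2, 989, 0, []⟩) (.leaf ⟨0, 12, 0, 0, []⟩)))) (.node (.node (.node (.leaf ⟨291, 2, 304, 18, [1953, 1180, 2044]⟩) (.leaf ⟨0, 12, 0, 0, []⟩)) (.node (.leaf ⟨760, 12, 527, 75, [4659, 6133, 3527]⟩) (.leaf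 ⟨0, 12, 0, 0, []⟩))) (.node (.node (.leaf ⟨613, 9, 656, 5, [3897, 2136, 4092]⟩) (.leaf ⟨0, 12, 0, 0, []⟩)) (.node (.leaf ⟨947, 2, 1077, 145, [6699, 6674, 6709, 6785, 7500, 7876, 7879, 6697, 6742, 6760, 8188]⟩) (.leaf ⟨0, 12, 0, 0, []⟩)))))))))

def fact : Arr (CFact) :=
  (.node (.node (.node (.node (.node fact0 fact16) (.node fact8 fact24)) (.node (.node fact4 fact20) (.node fact12 fact28))) (.node (.node (.node fact2 fact18) (.node fact10 fact26)) (.node (.node fact6 fact22) (.node fact14 fact30)))) (.node (.node (.node (.node fact1 fact17) (.node fact9 fact25)) (.node (.node fact5 fact21) (.node fact13 fact29))) (.node (.node (.node fact3 fact19) (.node fact11 fact27)) (.node (.node fact7 fact23) (.node fact15 fact31)))))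

def par0 : Arr (ℕ × ℕ) :=
  (.node (.node (.node (.node (.node (.node (.node (.node (.leaf (0, 0)) (.leaf (1022, 4))) (.node (.leaf (511, 1)) (.leaf (0, 0)))) (.node (.node (.leaf (255, 1)) (.leaf (0, 0))) (.node (.leaf (366, 1)) (.leaf (0, 0))))) (.node (.node (.node (.leaf (51, 0)) (.leaf (0, 0))) (.node (.leaf (317, 4)) (.leaf (0, 0)))) (.node (.node (.leaf (383, 2)) (.leaf (0, 0))) (.node (.leaf (510, 2)) (.leaf (0, 0)))))) (.node (.node (.node (.node (.leaf (63, 2)) (.leaf (1064, 4))) (.node (.leaf (575, 2)) (.leaf (0, 0)))) (.node (.node (.leaf (305, 4)) (.leaf (0, 0))) (.node (.leaf (387, 4)) (.leaf (0, 0))))) (.node (.node (.node (.leaf (186, 0)) (.leaf (0, 0))) (.node (.leaf (703, 1)) (.leaf (0, 0)))) (.node (.node (.leaf (216, 2)) (.leaf (0, 0))) (.node (.leaf (437, 4)) (.leaf (0,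 0))))))) (.node (.node (.node (.node (.node (.leaf (31, 2)) (.leaf (1055, 8))) (.node (.leaf (542, 4)) (.leaf (0, 0)))) (.node (.node (.leaf (162, 2)) (.leaf (0, 0))) (.node (.leaf (759, 0)) (.leaf (0, 0))))) (.node (.node (.node (.leaf (159, 2)) (.leaf (0, 0))) (.node (.leaf (669, 8)) (.leaf (0, 0)))) (.node (.node (.leaf (415, 2)) (.leaf (0, 0))) (.node (.leaf (418, 4)) (.leaf (0, 0)))))) (.node (.node (.node (.node (.leaf (48, 4)) (.leaf (0, 0))) (.node (.leaf (606, 4)) (.leaf (0, 0)))) (.node (.node (.leaf (219, 4)) (.leaf (0, 0))) (.node (.leaf (854, 8)) (.leaf (0, 0))))) (.node (.node (.node (.leaf (187, 2)) (.leaf (0, 0))) (.node (.leaf (735, 4)) (.leaf (0, 0)))) (.node (.node (.leaf (228, 1)) (.leaf (0, 0))) (.node (.leaf (991, 2)) (.leaf (0, 0)))))))) (.node (.node (.node (.node (.node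 (.node (.leaf (12, 4)) (.leaf (1039, 9))) (.node (.leaf (310, 0)) (.leaf (0, 0)))) (.node (.node (.leaf (271, 9)) (.leaf (0, 0))) (.node (.leaf (392, 4)) (.leaf (0, 0))))) (.node (.node (.node (.leaf (143, 2)) (.leaf (0, 0))) (.node (.leaf (321, 2)) (.leaf (0, 0)))) (.node (.node (.leaf (399, 9)) (.leaf (0, 0))) (.node (.leaf (418, 2)) (.leaf (0, 0)))))) (.node (.node (.node (.node (.leaf (42, 2)) (.leaf (1092, 0))) (.node (.leaf (591, 4)) (.leaf (0, 0)))) (.node (.node (.leaf (335, 9)) (.leaf (0, 0))) (.node (.leaf (807, 9)) (.leaf (0, 0))))) (.node (.node (.node (.leaf (130, 4)) (.leaf (0, 0))) (.node (.leaf (712, 2)) (.leaf (0, 0)))) (.node (.node (.leaf (298, 4)) (.leaf (0, 0))) (.node (.leaf (459, 2)) (.leaf (0, 0))))))) (.node (.node (.node (.node (.node (.leaf (47, 2)) (.leaf (708,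 8))) (.node (.leaf (531, 2)) (.leaf (0, 0)))) (.node (.node (.leaf (195, 8)) (.leaf (0, 0))) (.node (.leaf (813, 8)) (.leaf (0, 0))))) (.node (.node (.node (.leaf (175, 1)) (.leaf (0, 0))) (.node (.leaf (687, 2)) (.leaf (0, 0)))) (.node (.node (.leaf (431, 2)) (.leaf (0, 0))) (.node (.leaf (940, 2)) (.leaf (0, 0)))))) (.node (.node (.node (.node (.leaf (110, 0)) (.leaf (0, 0))) (.node (.leaf (623, 9)) (.leaf (0, 0)))) (.node (.node (.leaf (361, 2)) (.leaf (0, 0))) (.node (.leaf (879, 4)) (.leaf (0, 0))))) (.node (.node (.node (.leaf (238, 4)) (.leaf (0, 0))) (.node (.leaf (458, 2)) (.leaf (0, 0)))) (.node (.node (.leaf (286, 0)) (.leaf (0, 0))) (.node (.leaf (1007, 1)) (.leaf (0, 0))))))))) (.node (.node (.node (.node (.node (.node (.node (.leaf (5, 4)) (.leaf (650, 2))) (.node (.leaf (284,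 2)) (.leaf (0, 0)))) (.node (.node (.leaf (117, 8)) (.leaf (0, 0))) (.node (.leaf (775, 1)) (.leaf (0, 0))))) (.node (.node (.node (.leaf (58, 4)) (.leaf (0, 0))) (.node (.leaf (318, 4)) (.leaf (0, 0)))) (.node (.node (.leaf (391, 2)) (.leaf (0, 0))) (.node (.leaf (903, 4)) (.leaf (0, 0)))))) (.node (.node (.node (.node (.leaf (67, 2)) (.leaf (1084, 9))) (.node (.leaf (565, 2)) (.leaf (0, 0)))) (.node (.node (.leaf (289, 4)) (.leaf (0, 0))) (.node (.leaf (390, 2)) (.leaf (0, 0))))) (.node (.node (.node (.leaf (181, 9)) (.leaf (0, 0))) (.node (.leaf (513, 4)) (.leaf (0, 0)))) (.node (.node (.leaf (455, 2)) (.leaf (0, 0))) (.node (.leaf (963, 2)) (.leaf (0, 0))))))) (.node (.node (.node (.node (.node (.leaf (14, 4)) (.leaf (852, 9))) (.node (.leaf (550, 4)) (.leaf (0, 0)))) (.node (.node (.leaf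 (212, 4)) (.leaf (0, 0))) (.node (.leaf (760, 2)) (.leaf (0, 0))))) (.node (.node (.node (.leaf (79, 4)) (.leaf (0, 0))) (.node (.leaf (670, 8)) (.leaf (0, 0)))) (.node (.node (.leaf (423, 2)) (.leaf (0, 0))) (.node (.leaf (426, 0)) (.leaf (0, 0)))))) (.node (.node (.node (.node (.leaf (97, 4)) (.leaf (0, 0))) (.node (.leaf (615, 1)) (.leaf (0, 0)))) (.node (.node (.leaf (155, 4)) (.leaf (0, 0))) (.node (.leaf (742, 2)) (.leaf (0, 0))))) (.node (.node (.node (.leaf (171, 4)) (.leaf (0, 0))) (.node (.leaf (691, 4)) (.leaf (0, 0)))) (.node (.node (.leaf (279, 2)) (.leaf (0, 0))) (.node (.leaf (958, 4)) (.leaf (0, 0)))))))) (.node (.node (.node (.node (.node (.node (.leaf (20, 8)) (.leaf (1044, 4))) (.node (.leaf (535, 9)) (.leaf (0, 0)))) (.node (.node (.leaf (268, 4)) (.leaf (0, 0))) (.node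 (.leaf (791, 4)) (.leaf (0, 0))))) (.node (.node (.node (.leaf (147, 4)) (.leaf (0, 0))) (.node (.leaf (624, 9)) (.leaf (0, 0)))) (.node (.node (.leaf (229, 0)) (.leaf (0, 0))) (.node (.leaf (609, 4)) (.leaf (0, 0)))))) (.node (.node (.node (.node (.leaf (87, 9)) (.leaf (1087, 1))) (.node (.leaf (420, 4)) (.leaf (0, 0)))) (.node (.node (.leaf (214, 2)) (.leaf (0, 0))) (.node (.leaf (853, 8)) (.leaf (0, 0))))) (.node (.node (.node (.leaf (158, 0)) (.leaf (0, 0))) (.node (.leaf (727, 4)) (.leaf (0, 0)))) (.node (.node (.leaf (471, 4)) (.leaf (0, 0))) (.node (.leaf (830, 2)) (.leaf (0, 0))))))) (.node (.node (.node (.node (.node (.leaf (55, 2)) (.leaf (719, 1))) (.node (.leaf (567, 2)) (.leaf (0, 0)))) (.node (.node (.leaf (311, 4)) (.leaf (0, 0))) (.node (.leaf (814, 8)) (.leaf (0, 0))))) (.node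 (.node (.node (.leaf (182, 0)) (.leaf (0, 0))) (.node (.leaf (335, 1)) (.leaf (0, 0)))) (.node (.node (.leaf (439, 2)) (.leaf (0, 0))) (.node (.leaf (938, 1)) (.leaf (0, 0)))))) (.node (.node (.node (.node (.leaf (50, 4)) (.leaf (0, 0))) (.node (.leaf (592, 2)) (.leaf (0, 0)))) (.node (.node (.leaf (375, 9)) (.leaf (0, 0))) (.node (.leaf (758, 4)) (.leaf (0, 0))))) (.node (.node (.node (.leaf (247, 9)) (.leaf (0, 0))) (.node (.leaf (759, 2)) (.leaf (0, 0)))) (.node (.node (.leaf (503, 1)) (.leaf (0, 0))) (.node (.leaf (992, 2)) (.leaf (0, 0))))))))))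

def par1 : Arr (ℕ × ℕ) :=
  (.node (.node (.node (.node (.node (.node (.node (.node (.leaf (0, 0)) (.leaf (569, 8))) (.node (.leaf (338, 0)) (.leaf (0, 0)))) (.node (.node (.leaf (106, 4)) (.leaf (0, 0))) (.node (.leaf (768, 4)) (.leaf (0, 0))))) (.node (.node (.node (.leaf (128, 9)) (.leaf (0, 0))) (.node (.leaf (640, 1)) (.leaf (0, 0)))) (.node (.node (.leaf (383, 4)) (.leaf (0, 0))) (.node (.leaf (510, 4)) (.leaf (0, 0)))))) (.node (.node (.node (.node (.leaf (63, 4)) (.leaf (1081, 2))) (.node (.leaf (575, 4)) (.leaf (0, 0)))) (.node (.node (.leaf (320, 2)) (.leaf (0, 0))) (.node (.leaf (773, 2)) (.leaf (0, 0))))) (.node (.node (.node (.leaf (192, 9)) (.leaf (0, 0))) (.node (.leaf (339, 2)) (.leaf (0, 0)))) (.node (.node (.leaf (448, 4)) (.leaf (0, 0))) (.node (.leaf (959, 4)) (.leaf (0,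 0))))))) (.node (.node (.node (.node (.node (.leaf (9, 1)) (.leaf (628, 2))) (.node (.leaf (544, 1)) (.leaf (0, 0)))) (.node (.node (.leaf (162, 4)) (.leaf (0, 0))) (.node (.leaf (800, 9)) (.leaf (0, 0))))) (.node (.node (.node (.leaf (136, 1)) (.leaf (0, 0))) (.node (.leaf (669, 0)) (.leaf (0, 0)))) (.node (.node (.leaf (415, 4)) (.leaf (0, 0))) (.node (.leaf (928, 1)) (.leaf (0, 0)))))) (.node (.node (.node (.node (.leaf (46, 2)) (.leaf (0, 0))) (.node (.leaf (608, 1)) (.leaf (0, 0)))) (.node (.node (.leaf (347, 8)) (.leaf (0, 0))) (.node (.leaf (854, 0)) (.leaf (0, 0))))) (.node (.node (.node (.leaf (103, 1)) (.leaf (0, 0))) (.node (.leaf (736, 2)) (.leaf (0, 0)))) (.node (.node (.leaf (480, 2)) (.leaf (0, 0))) (.node (.leaf (493, 1)) (.leaf (0, 0)))))))) (.node (.node (.node (.node (.node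 (.node (.leaf (16, 8)) (.leaf (1036, 2))) (.node (.leaf (528, 9)) (.leaf (0, 0)))) (.node (.node (.leaf (267, 2)) (.leaf (0, 0))) (.node (.leaf (776, 2)) (.leaf (0, 0))))) (.node (.node (.node (.leaf (139, 2)) (.leaf (0, 0))) (.node (.leaf (596, 2)) (.leaf (0, 0)))) (.node (.node (.leaf (361, 0)) (.leaf (0, 0))) (.node (.leaf (689, 4)) (.leaf (0, 0)))))) (.node (.node (.node (.node (.leaf (39, 2)) (.leaf (1039, 1))) (.node (.leaf (592, 1)) (.leaf (0, 0)))) (.node (.node (.leaf (261, 2)) (.leaf (0, 0))) (.node (.leaf (391, 8)) (.leaf (0, 0))))) (.node (.node (.node (.leaf (208, 2)) (.leaf (0, 0))) (.node (.leaf (342, 1)) (.leaf (0, 0)))) (.node (.node (.leaf (226, 0)) (.leaf (0, 0))) (.node (.leaf (695, 8)) (.leaf (0, 0))))))) (.node (.node (.node (.node (.node (.leaf (47, 4)) (.leaf (763,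 9))) (.node (.leaf (524, 2)) (.leaf (0, 0)))) (.node (.node (.leaf (195, 0)) (.leaf (0, 0))) (.node (.leaf (433, 9)) (.leaf (0, 0))))) (.node (.node (.node (.leaf (131, 4)) (.leaf (0, 0))) (.node (.leaf (416, 2)) (.leaf (0, 0)))) (.node (.node (.leaf (204, 1)) (.leaf (0, 0))) (.node (.leaf (939, 2)) (.leaf (0, 0)))))) (.node (.node (.node (.node (.leaf (112, 9)) (.leaf (0, 0))) (.node (.leaf (568, 2)) (.leaf (0, 0)))) (.node (.node (.leaf (213, 4)) (.leaf (0, 0))) (.node (.leaf (880, 1)) (.leaf (0, 0))))) (.node (.node (.node (.leaf (233, 4)) (.leaf (0, 0))) (.node (.leaf (458, 4)) (.leaf (0, 0)))) (.node (.node (.leaf (496, 9)) (.leaf (0, 0))) (.node (.leaf (525, 2)) (.leaf (0, 0))))))))) (.node (.node (.node (.node (.node (.node (.node (.leaf (2, 0)) (.leaf (1028, 2))) (.node (.leaf (284,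 4)) (.leaf (0, 0)))) (.node (.node (.leaf (117, 0)) (.leaf (0, 0))) (.node (.leaf (388, 4)) (.leaf (0, 0))))) (.node (.node (.node (.leaf (73, 4)) (.leaf (0, 0))) (.node (.leaf (585, 2)) (.leaf (0, 0)))) (.node (.node (.leaf (391, 4)) (.leaf (0, 0))) (.node (.leaf (476, 2)) (.leaf (0, 0)))))) (.node (.node (.node (.node (.leaf (56, 2)) (.leaf (1029, 0))) (.node (.leaf (318, 2)) (.leaf (0, 0)))) (.node (.node (.leaf (292, 0)) (.leaf (0, 0))) (.node (.leaf (784, 2)) (.leaf (0, 0))))) (.node (.node (.node (.leaf (116, 8)) (.leaf (0, 0))) (.node (.leaf (365, 4)) (.leaf (0, 0)))) (.node (.node (.leaf (217, 1)) (.leaf (0, 0))) (.node (.leaf (530, 2)) (.leaf (0, 0))))))) (.node (.node (.node (.node (.node (.leaf (40, 2)) (.leaf (646, 0))) (.node (.leaf (552, 1)) (.leaf (0, 0)))) (.node (.node (.leaf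 (215, 2)) (.leaf (0, 0))) (.node (.leaf (383, 8)) (.leaf (0, 0))))) (.node (.node (.node (.leaf (168, 2)) (.leaf (0, 0))) (.node (.leaf (670, 0)) (.leaf (0, 0)))) (.node (.node (.leaf (423, 4)) (.leaf (0, 0))) (.node (.leaf (426, 2)) (.leaf (0, 0)))))) (.node (.node (.node (.node (.leaf (104, 2)) (.leaf (0, 0))) (.node (.leaf (567, 0)) (.leaf (0, 0)))) (.node (.node (.leaf (360, 1)) (.leaf (0, 0))) (.node (.leaf (399, 1)) (.leaf (0, 0))))) (.node (.node (.node (.leaf (84, 0)) (.leaf (0, 0))) (.node (.leaf (744, 2)) (.leaf (0, 0)))) (.node (.node (.leaf (356, 8)) (.leaf (0, 0))) (.node (.leaf (1000, 2)) (.leaf (0, 0)))))))) (.node (.node (.node (.node (.node (.node (.leaf (20, 0)) (.leaf (611, 2))) (.node (.leaf (280, 0)) (.leaf (0, 0)))) (.node (.node (.leaf (225, 4)) (.leaf (0, 0))) (.node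 (.leaf (792, 1)) (.leaf (0, 0))))) (.node (.node (.node (.leaf (137, 2)) (.leaf (0, 0))) (.node (.leaf (322, 8)) (.leaf (0, 0)))) (.node (.node (.leaf (408, 9)) (.leaf (0, 0))) (.node (.leaf (914, 4)) (.leaf (0, 0)))))) (.node (.node (.node (.node (.leaf (41, 2)) (.leaf (0, 0))) (.node (.leaf (600, 2)) (.leaf (0, 0)))) (.node (.node (.leaf (218, 0)) (.leaf (0, 0))) (.node (.leaf (853, 0)) (.leaf (0, 0))))) (.node (.node (.node (.leaf (216, 9)) (.leaf (0, 0))) (.node (.leaf (728, 1)) (.leaf (0, 0)))) (.node (.node (.leaf (472, 2)) (.leaf (0, 0))) (.node (.leaf (559, 4)) (.leaf (0, 0))))))) (.node (.node (.node (.node (.node (.leaf (55, 4)) (.leaf (1076, 0))) (.node (.leaf (290, 1)) (.leaf (0, 0)))) (.node (.node (.leaf (312, 2)) (.leaf (0, 0))) (.node (.leaf (814, 0)) (.leaf (0, 0))))) (.node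 (.node (.node (.leaf (184, 9)) (.leaf (0, 0))) (.node (.leaf (696, 2)) (.leaf (0, 0)))) (.node (.node (.leaf (205, 1)) (.leaf (0, 0))) (.node (.leaf (885, 8)) (.leaf (0, 0)))))) (.node (.node (.node (.node (.leaf (120, 1)) (.leaf (0, 0))) (.node (.leaf (630, 8)) (.leaf (0, 0)))) (.node (.node (.leaf (166, 0)) (.leaf (0, 0))) (.node (.leaf (469, 4)) (.leaf (0, 0))))) (.node (.node (.node (.leaf (87, 1)) (.leaf (0, 0))) (.node (.leaf (363, 1)) (.leaf (0, 0)))) (.node (.node (.leaf (410, 4)) (.leaf (0, 0))) (.node (.leaf (992, 4)) (.leaf (0, 0))))))))))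

def par2 : Arr (ℕ × ℕ) :=
  (.node (.node (.node (.node (.node (.node (.node (.node (.leaf (1, 4)) (.leaf (1025, 8))) (.node (.leaf (265, 2)) (.leaf (0, 0)))) (.node (.node (.leaf (189, 8)) (.leaf (0, 0))) (.node (.leaf (769, 1)) (.leaf (0, 0))))) (.node (.node (.node (.leaf (51, 4)) (.leaf (0, 0))) (.node (.leaf (631, 8)) (.leaf (0, 0)))) (.node (.node (.leaf (385, 1)) (.leaf (0, 0))) (.node (.leaf (699, 2)) (.leaf (0, 0)))))) (.node (.node (.node (.node (.leaf (65, 1)) (.leaf (1085, 2))) (.node (.leaf (577, 1)) (.leaf (0, 0)))) (.node (.node (.leaf (124, 1)) (.leaf (0, 0))) (.node (.leaf (763, 2)) (.leaf (0, 0))))) (.node (.node (.node (.leaf (186, 2)) (.leaf (0, 0))) (.node (.leaf (705, 4)) (.leaf (0, 0)))) (.node (.node (.leaf (449, 2)) (.leaf (0, 0))) (.node (.leaf (444, 4)) (.leaf (0,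 0))))))) (.node (.node (.node (.node (.node (.leaf (33, 2)) (.leaf (1057, 4))) (.node (.leaf (527, 4)) (.leaf (0, 0)))) (.node (.node (.leaf (122, 0)) (.leaf (0, 0))) (.node (.leaf (759, 4)) (.leaf (0, 0))))) (.node (.node (.node (.leaf (152, 8)) (.leaf (0, 0))) (.node (.leaf (673, 9)) (.leaf (0, 0)))) (.node (.node (.leaf (417, 1)) (.leaf (0, 0))) (.node (.leaf (923, 0)) (.leaf (0, 0)))))) (.node (.node (.node (.node (.leaf (96, 2)) (.leaf (0, 0))) (.node (.leaf (330, 0)) (.leaf (0, 0)))) (.node (.node (.leaf (347, 0)) (.leaf (0, 0))) (.node (.leaf (865, 9)) (.leaf (0, 0))))) (.node (.node (.node (.leaf (223, 8)) (.leaf (0, 0))) (.node (.leaf (349, 1)) (.leaf (0, 0)))) (.node (.node (.leaf (480, 4)) (.leaf (0, 0))) (.node (.leaf (993, 4)) (.leaf (0, 0)))))))) (.node (.node (.node (.node (.node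 (.node (.leaf (16, 0)) (.leaf (597, 2))) (.node (.leaf (519, 2)) (.leaf (0, 0)))) (.node (.node (.leaf (232, 2)) (.leaf (0, 0))) (.node (.leaf (762, 4)) (.leaf (0, 0))))) (.node (.node (.node (.leaf (108, 9)) (.leaf (0, 0))) (.node (.leaf (596, 4)) (.leaf (0, 0)))) (.node (.node (.leaf (401, 9)) (.leaf (0, 0))) (.node (.leaf (414, 2)) (.leaf (0, 0)))))) (.node (.node (.node (.node (.leaf (42, 0)) (.leaf (1105, 2))) (.node (.leaf (589, 2)) (.leaf (0, 0)))) (.node (.node (.leaf (262, 8)) (.leaf (0, 0))) (.node (.leaf (849, 8)) (.leaf (0, 0))))) (.node (.node (.node (.leaf (95, 0)) (.leaf (0, 0))) (.node (.leaf (721, 2)) (.leaf (0, 0)))) (.node (.node (.leaf (403, 0)) (.leaf (0, 0))) (.node (.leaf (906, 2)) (.leaf (0, 0))))))) (.node (.node (.node (.node (.node (.leaf (49, 1)) (.leaf (1072, 2)))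 (.node (.leaf (524, 4)) (.leaf (0, 0)))) (.node (.node (.leaf (305, 9)) (.leaf (0, 0))) (.node (.leaf (813, 2)) (.leaf (0, 0))))) (.node (.node (.node (.leaf (177, 2)) (.leaf (0, 0))) (.node (.leaf (416, 4)) (.leaf (0, 0)))) (.node (.node (.leaf (433, 2)) (.leaf (0, 0))) (.node (.leaf (944, 8)) (.leaf (0, 0)))))) (.node (.node (.node (.node (.leaf (110, 4)) (.leaf (0, 0))) (.node (.leaf (314, 8)) (.leaf (0, 0)))) (.node (.node (.leaf (226, 2)) (.leaf (0, 0))) (.node (.leaf (485, 4)) (.leaf (0, 0))))) (.node (.node (.node (.leaf (241, 2)) (.leaf (0, 0))) (.node (.leaf (474, 2)) (.leaf (0, 0)))) (.node (.node (.leaf (259, 2)) (.leaf (0, 0))) (.node (.leaf (1003, 2)) (.leaf (0, 0))))))))) (.node (.node (.node (.node (.node (.node (.node (.leaf (6, 4)) (.leaf (1028, 4))) (.node (.leaf (521, 2))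 (.leaf (0, 0)))) (.node (.node (.leaf (265, 9)) (.leaf (0, 0))) (.node (.leaf (386, 2)) (.leaf (0, 0))))) (.node (.node (.node (.leaf (54, 2)) (.leaf (0, 0))) (.node (.leaf (571, 2)) (.leaf (0, 0)))) (.node (.node (.leaf (393, 1)) (.leaf (0, 0))) (.node (.leaf (477, 4)) (.leaf (0, 0)))))) (.node (.node (.node (.node (.leaf (56, 4)) (.leaf (1097, 9))) (.node (.leaf (302, 1)) (.leaf (0, 0)))) (.node (.node (.leaf (292, 4)) (.leaf (0, 0))) (.node (.leaf (784, 4)) (.leaf (0, 0))))) (.node (.node (.node (.leaf (116, 4)) (.leaf (0, 0))) (.node (.leaf (713, 2)) (.leaf (0, 0)))) (.node (.node (.leaf (457, 2)) (.leaf (0, 0))) (.node (.leaf (563, 2)) (.leaf (0, 0))))))) (.node (.node (.node (.node (.node (.leaf (15, 4)) (.leaf (651, 2))) (.node (.leaf (369, 2)) (.leaf (0, 0)))) (.node (.node (.leaf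 (215, 4)) (.leaf (0, 0))) (.node (.leaf (809, 8)) (.leaf (0, 0))))) (.node (.node (.node (.leaf (60, 1)) (.leaf (0, 0))) (.node (.leaf (681, 9)) (.leaf (0, 0)))) (.node (.node (.leaf (425, 1)) (.leaf (0, 0))) (.node (.leaf (426, 4)) (.leaf (0, 0)))))) (.node (.node (.node (.node (.leaf (98, 2)) (.leaf (0, 0))) (.node (.leaf (617, 9)) (.leaf (0, 0)))) (.node (.node (.leaf (357, 4)) (.leaf (0, 0))) (.node (.leaf (873, 2)) (.leaf (0, 0))))) (.node (.node (.node (.leaf (233, 9)) (.leaf (0, 0))) (.node (.leaf (350, 1)) (.leaf (0, 0)))) (.node (.node (.leaf (356, 0)) (.leaf (0, 0))) (.node (.leaf (496, 1)) (.leaf (0, 0)))))))) (.node (.node (.node (.node (.node (.node (.leaf (25, 9)) (.leaf (675, 4))) (.node (.leaf (537, 9)) (.leaf (0, 0)))) (.node (.node (.leaf (257, 4)) (.leaf (0, 0))) (.node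 (.leaf (781, 2)) (.leaf (0, 0))))) (.node (.node (.node (.leaf (151, 8)) (.leaf (0, 0))) (.node (.leaf (665, 8)) (.leaf (0, 0)))) (.node (.node (.leaf (258, 0)) (.leaf (0, 0))) (.node (.leaf (415, 8)) (.leaf (0, 0)))))) (.node (.node (.node (.node (.leaf (83, 9)) (.leaf (0, 0))) (.node (.leaf (424, 2)) (.leaf (0, 0)))) (.node (.node (.leaf (345, 9)) (.leaf (0, 0))) (.node (.leaf (857, 9)) (.leaf (0, 0))))) (.node (.node (.node (.leaf (158, 2)) (.leaf (0, 0))) (.node (.leaf (453, 2)) (.leaf (0, 0)))) (.node (.node (.leaf (345, 4)) (.leaf (0, 0))) (.node (.leaf (985, 2)) (.leaf (0, 0))))))) (.node (.node (.node (.node (.node (.leaf (57, 1)) (.leaf (1076, 4))) (.node (.leaf (569, 2)) (.leaf (0, 0)))) (.node (.node (.leaf (123, 1)) (.leaf (0, 0))) (.node (.leaf (825, 9)) (.leaf (0, 0))))) (.node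 (.node (.node (.leaf (182, 4)) (.leaf (0, 0))) (.node (.leaf (696, 4)) (.leaf (0, 0)))) (.node (.node (.leaf (441, 2)) (.leaf (0, 0))) (.node (.leaf (885, 0)) (.leaf (0, 0)))))) (.node (.node (.node (.node (.leaf (114, 8)) (.leaf (0, 0))) (.node (.leaf (630, 0)) (.leaf (0, 0)))) (.node (.node (.leaf (377, 9)) (.leaf (0, 0))) (.node (.leaf (889, 2)) (.leaf (0, 0))))) (.node (.node (.node (.leaf (249, 2)) (.leaf (0, 0))) (.node (.leaf (761, 2)) (.leaf (0, 0)))) (.node (.node (.leaf (404, 2)) (.leaf (0, 0))) (.node (.leaf (828, 2)) (.leaf (0, 0))))))))))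

def par3 : Arr (ℕ × ℕ) :=
  (.node (.node (.node (.node (.node (.node (.node (.node (.leaf (2, 2)) (.leaf (1025, 2))) (.node (.leaf (514, 4)) (.leaf (0, 0)))) (.node (.node (.leaf (189, 0)) (.leaf (0, 0))) (.node (.leaf (559, 9)) (.leaf (0, 0))))) (.node (.node (.node (.leaf (62, 2)) (.leaf (0, 0))) (.node (.leaf (631, 0)) (.leaf (0, 0)))) (.node (.node (.leaf (363, 4)) (.leaf (0, 0))) (.node (.leaf (405, 1)) (.leaf (0, 0)))))) (.node (.node (.node (.node (.leaf (52, 4)) (.leaf (953, 2))) (.node (.leaf (438, 4)) (.leaf (0, 0)))) (.node (.node (.leaf (322, 2)) (.leaf (0, 0))) (.node (.leaf (763, 4)) (.leaf (0, 0))))) (.node (.node (.node (.leaf (186, 4)) (.leaf (0, 0))) (.node (.leaf (706, 2)) (.leaf (0, 0)))) (.node (.node (.leaf (271, 4)) (.leaf (0, 0))) (.node (.leaf (744, 9)) (.leaf (0,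 0))))))) (.node (.node (.node (.node (.node (.leaf (33, 4)) (.leaf (925, 4))) (.node (.leaf (535, 2)) (.leaf (0, 0)))) (.node (.node (.leaf (122, 2)) (.leaf (0, 0))) (.node (.leaf (796, 4)) (.leaf (0, 0))))) (.node (.node (.node (.leaf (152, 0)) (.leaf (0, 0))) (.node (.leaf (669, 2)) (.leaf (0, 0)))) (.node (.node (.leaf (406, 4)) (.leaf (0, 0))) (.node (.leaf (930, 9)) (.leaf (0, 0)))))) (.node (.node (.node (.node (.leaf (96, 4)) (.leaf (0, 0))) (.node (.leaf (593, 2)) (.leaf (0, 0)))) (.node (.node (.leaf (354, 9)) (.leaf (0, 0))) (.node (.leaf (854, 2)) (.leaf (0, 0))))) (.node (.node (.node (.leaf (223, 0)) (.leaf (0, 0))) (.node (.leaf (738, 2)) (.leaf (0, 0)))) (.node (.node (.leaf (482, 1)) (.leaf (0, 0))) (.node (.leaf (994, 1)) (.leaf (0, 0)))))))) (.node (.node (.node (.node (.node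 (.node (.leaf (18, 9)) (.leaf (636, 8))) (.node (.leaf (520, 4)) (.leaf (0, 0)))) (.node (.node (.leaf (263, 1)) (.leaf (0, 0))) (.node (.leaf (579, 2)) (.leaf (0, 0))))) (.node (.node (.node (.leaf (55, 8)) (.leaf (0, 0))) (.node (.leaf (658, 1)) (.leaf (0, 0)))) (.node (.node (.leaf (361, 4)) (.leaf (0, 0))) (.node (.leaf (690, 2)) (.leaf (0, 0)))))) (.node (.node (.node (.node (.leaf (82, 9)) (.leaf (1105, 4))) (.node (.leaf (323, 2)) (.leaf (0, 0)))) (.node (.node (.leaf (262, 0)) (.leaf (0, 0))) (.node (.leaf (849, 0)) (.leaf (0, 0))))) (.node (.node (.node (.leaf (210, 9)) (.leaf (0, 0))) (.node (.leaf (721, 4)) (.leaf (0, 0)))) (.node (.node (.leaf (466, 9)) (.leaf (0, 0))) (.node (.leaf (517, 2)) (.leaf (0, 0))))))) (.node (.node (.node (.node (.node (.leaf (43, 4)) (.leaf (1074, 8)))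 (.node (.leaf (451, 2)) (.leaf (0, 0)))) (.node (.node (.leaf (195, 4)) (.leaf (0, 0))) (.node (.leaf (813, 4)) (.leaf (0, 0))))) (.node (.node (.node (.leaf (132, 2)) (.leaf (0, 0))) (.node (.leaf (359, 0)) (.leaf (0, 0)))) (.node (.node (.leaf (433, 4)) (.leaf (0, 0))) (.node (.leaf (944, 0)) (.leaf (0, 0)))))) (.node (.node (.node (.node (.leaf (70, 2)) (.leaf (0, 0))) (.node (.leaf (626, 8)) (.leaf (0, 0)))) (.node (.node (.leaf (226, 4)) (.leaf (0, 0))) (.node (.leaf (882, 2)) (.leaf (0, 0))))) (.node (.node (.node (.leaf (83, 1)) (.leaf (0, 0))) (.node (.leaf (409, 4)) (.leaf (0, 0)))) (.node (.node (.leaf (498, 4)) (.leaf (0, 0))) (.node (.leaf (987, 2)) (.leaf (0, 0))))))))) (.node (.node (.node (.node (.node (.node (.node (.leaf (3, 0)) (.leaf (864, 4))) (.node (.leaf (266, 1)) (.leaf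 (0, 0)))) (.node (.node (.leaf (117, 2)) (.leaf (0, 0))) (.node (.leaf (374, 1)) (.leaf (0, 0))))) (.node (.node (.node (.leaf (74, 2)) (.leaf (0, 0))) (.node (.leaf (571, 4)) (.leaf (0, 0)))) (.node (.node (.leaf (326, 2)) (.leaf (0, 0))) (.node (.leaf (475, 2)) (.leaf (0, 0)))))) (.node (.node (.node (.node (.leaf (66, 2)) (.leaf (1037, 0))) (.node (.leaf (586, 4)) (.leaf (0, 0)))) (.node (.node (.leaf (172, 2)) (.leaf (0, 0))) (.node (.leaf (842, 1)) (.leaf (0, 0))))) (.node (.node (.node (.leaf (202, 8)) (.leaf (0, 0))) (.node (.leaf (340, 1)) (.leaf (0, 0)))) (.node (.node (.leaf (457, 4)) (.leaf (0, 0))) (.node (.leaf (970, 1)) (.leaf (0, 0))))))) (.node (.node (.node (.node (.node (.leaf (17, 0)) (.leaf (761, 9))) (.node (.leaf (484, 0)) (.leaf (0, 0)))) (.node (.node (.leaf (264, 0))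 (.leaf (0, 0))) (.node (.leaf (809, 0)) (.leaf (0, 0))))) (.node (.node (.node (.leaf (170, 2)) (.leaf (0, 0))) (.node (.leaf (670, 2)) (.leaf (0, 0)))) (.node (.node (.leaf (310, 2)) (.leaf (0, 0))) (.node (.leaf (602, 4)) (.leaf (0, 0)))))) (.node (.node (.node (.node (.leaf (93, 0)) (.leaf (0, 0))) (.node (.leaf (567, 4)) (.leaf (0, 0)))) (.node (.node (.leaf (162, 0)) (.leaf (0, 0))) (.node (.leaf (873, 4)) (.leaf (0, 0))))) (.node (.node (.node (.leaf (82, 2)) (.leaf (0, 0))) (.node (.leaf (746, 2)) (.leaf (0, 0)))) (.node (.node (.leaf (490, 9)) (.leaf (0, 0))) (.node (.leaf (548, 9)) (.leaf (0, 0)))))))) (.node (.node (.node (.node (.node (.node (.leaf (21, 8)) (.leaf (939, 4))) (.node (.leaf (277, 2)) (.leaf (0, 0)))) (.node (.node (.leaf (273, 8)) (.leaf (0, 0))) (.node (.leaf (384,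 4)) (.leaf (0, 0))))) (.node (.node (.node (.leaf (151, 0)) (.leaf (0, 0))) (.node (.leaf (665, 0)) (.leaf (0, 0)))) (.node (.node (.leaf (194, 0)) (.leaf (0, 0))) (.node (.leaf (922, 4)) (.leaf (0, 0)))))) (.node (.node (.node (.node (.leaf (86, 2)) (.leaf (0, 0))) (.node (.leaf (424, 4)) (.leaf (0, 0)))) (.node (.node (.leaf (218, 2)) (.leaf (0, 0))) (.node (.leaf (853, 2)) (.leaf (0, 0))))) (.node (.node (.node (.leaf (158, 4)) (.leaf (0, 0))) (.node (.leaf (454, 4)) (.leaf (0, 0)))) (.node (.node (.leaf (474, 1)) (.leaf (0, 0))) (.node (.leaf (786, 2)) (.leaf (0, 0))))))) (.node (.node (.node (.node (.node (.leaf (27, 4)) (.leaf (1082, 0))) (.node (.leaf (569, 4)) (.leaf (0, 0)))) (.node (.node (.leaf (314, 2)) (.leaf (0, 0))) (.node (.leaf (814, 2)) (.leaf (0, 0))))) (.node (.node (.node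 (.leaf (77, 2)) (.leaf (0, 0))) (.node (.leaf (698, 1)) (.leaf (0, 0)))) (.node (.node (.leaf (441, 4)) (.leaf (0, 0))) (.node (.leaf (954, 9)) (.leaf (0, 0)))))) (.node (.node (.node (.node (.leaf (114, 0)) (.leaf (0, 0))) (.node (.leaf (634, 9)) (.leaf (0, 0)))) (.node (.node (.leaf (166, 4)) (.leaf (0, 0))) (.node (.leaf (402, 1)) (.leaf (0, 0))))) (.node (.node (.node (.leaf (249, 4)) (.leaf (0, 0))) (.node (.leaf (761, 4)) (.leaf (0, 0)))) (.node (.node (.leaf (404, 4)) (.leaf (0, 0))) (.node (.leaf (662, 2)) (.leaf (0, 0))))))))))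

def par4 : Arr (ℕ × ℕ) :=
  (.node (.node (.node (.node (.node (.node (.node (.node (.leaf (1, 1)) (.leaf (1025, 4))) (.node (.leaf (515, 2)) (.leaf (0, 0)))) (.node (.node (.leaf (259, 9)) (.leaf (0, 0))) (.node (.leaf (756, 2)) (.leaf (0, 0))))) (.node (.node (.node (.leaf (94, 2)) (.leaf (0, 0))) (.node (.leaf (643, 9)) (.leaf (0, 0)))) (.node (.node (.leaf (375, 2)) (.leaf (0, 0))) (.node (.leaf (899, 4)) (.leaf (0, 0)))))) (.node (.node (.node (.node (.leaf (50, 2)) (.leaf (1077, 4))) (.node (.leaf (436, 2)) (.leaf (0, 0)))) (.node (.node (.leaf (322, 4)) (.leaf (0, 0))) (.node (.leaf (394, 0)) (.leaf (0, 0))))) (.node (.node (.node (.leaf (67, 0)) (.leaf (0, 0))) (.node (.leaf (339, 1)) (.leaf (0, 0)))) (.node (.node (.leaf (451, 1)) (.leaf (0, 0))) (.node (.leaf (474, 4)) (.leaf (0,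 0))))))) (.node (.node (.node (.node (.node (.leaf (10, 0)) (.leaf (1059, 2))) (.node (.leaf (535, 4)) (.leaf (0, 0)))) (.node (.node (.leaf (122, 4)) (.leaf (0, 0))) (.node (.leaf (803, 2)) (.leaf (0, 0))))) (.node (.node (.node (.leaf (163, 9)) (.leaf (0, 0))) (.node (.leaf (669, 4)) (.leaf (0, 0)))) (.node (.node (.leaf (308, 2)) (.leaf (0, 0))) (.node (.leaf (923, 2)) (.leaf (0, 0)))))) (.node (.node (.node (.node (.leaf (99, 1)) (.leaf (0, 0))) (.node (.leaf (315, 4)) (.leaf (0, 0)))) (.node (.node (.leaf (347, 4)) (.leaf (0, 0))) (.node (.leaf (854, 4)) (.leaf (0, 0))))) (.node (.node (.node (.leaf (227, 9)) (.leaf (0, 0))) (.node (.leaf (738, 4)) (.leaf (0, 0)))) (.node (.node (.leaf (276, 4)) (.leaf (0, 0))) (.node (.leaf (980, 4)) (.leaf (0, 0)))))))) (.node (.node (.node (.node (.node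 (.node (.leaf (16, 2)) (.leaf (636, 4))) (.node (.leaf (518, 2)) (.leaf (0, 0)))) (.node (.node (.leaf (268, 8)) (.leaf (0, 0))) (.node (.leaf (442, 2)) (.leaf (0, 0))))) (.node (.node (.node (.leaf (147, 8)) (.leaf (0, 0))) (.node (.leaf (618, 9)) (.leaf (0, 0)))) (.node (.node (.leaf (337, 0)) (.leaf (0, 0))) (.node (.leaf (690, 4)) (.leaf (0, 0)))))) (.node (.node (.node (.node (.leaf (42, 4)) (.leaf (1090, 0))) (.node (.leaf (323, 4)) (.leaf (0, 0)))) (.node (.node (.leaf (339, 9)) (.leaf (0, 0))) (.node (.leaf (851, 9)) (.leaf (0, 0))))) (.node (.node (.node (.leaf (157, 8)) (.leaf (0, 0))) (.node (.leaf (723, 1)) (.leaf (0, 0)))) (.node (.node (.leaf (403, 4)) (.leaf (0, 0))) (.node (.leaf (492, 0)) (.leaf (0, 0))))))) (.node (.node (.node (.node (.node (.leaf (28, 2)) (.leaf (1074,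 2))) (.node (.leaf (346, 4)) (.leaf (0, 0)))) (.node (.node (.leaf (126, 0)) (.leaf (0, 0))) (.node (.leaf (385, 2)) (.leaf (0, 0))))) (.node (.node (.node (.leaf (135, 0)) (.leaf (0, 0))) (.node (.leaf (691, 9)) (.leaf (0, 0)))) (.node (.node (.leaf (435, 1)) (.leaf (0, 0))) (.node (.leaf (947, 9)) (.leaf (0, 0)))))) (.node (.node (.node (.node (.leaf (113, 2)) (.leaf (0, 0))) (.node (.leaf (626, 0)) (.leaf (0, 0)))) (.node (.node (.leaf (215, 0)) (.leaf (0, 0))) (.node (.leaf (401, 1)) (.leaf (0, 0))))) (.node (.node (.node (.leaf (243, 2)) (.leaf (0, 0))) (.node (.leaf (755, 1)) (.leaf (0, 0)))) (.node (.node (.leaf (499, 2)) (.leaf (0, 0))) (.node (.leaf (551, 4)) (.leaf (0, 0))))))))) (.node (.node (.node (.node (.node (.node (.node (.leaf (4, 8)) (.leaf (1031, 4))) (.node (.leaf (523,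 2)) (.leaf (0, 0)))) (.node (.node (.leaf (117, 4)) (.leaf (0, 0))) (.node (.leaf (779, 4)) (.leaf (0, 0))))) (.node (.node (.node (.leaf (74, 4)) (.leaf (0, 0))) (.node (.leaf (325, 0)) (.leaf (0, 0)))) (.node (.node (.leaf (334, 2)) (.leaf (0, 0))) (.node (.leaf (901, 2)) (.leaf (0, 0)))))) (.node (.node (.node (.node (.leaf (29, 1)) (.leaf (1099, 9))) (.node (.leaf (587, 1)) (.leaf (0, 0)))) (.node (.node (.leaf (133, 4)) (.leaf (0, 0))) (.node (.leaf (801, 9)) (.leaf (0, 0))))) (.node (.node (.node (.leaf (202, 0)) (.leaf (0, 0))) (.node (.leaf (715, 2)) (.leaf (0, 0)))) (.node (.node (.leaf (459, 1)) (.leaf (0, 0))) (.node (.leaf (453, 0)) (.leaf (0, 0))))))) (.node (.node (.node (.node (.node (.leaf (18, 2)) (.leaf (1066, 2))) (.node (.leaf (427, 0)) (.leaf (0, 0)))) (.node (.node (.leaf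 (119, 4)) (.leaf (0, 0))) (.node (.leaf (811, 9)) (.leaf (0, 0))))) (.node (.node (.node (.leaf (170, 4)) (.leaf (0, 0))) (.node (.leaf (670, 4)) (.leaf (0, 0)))) (.node (.node (.leaf (327, 4)) (.leaf (0, 0))) (.node (.leaf (423, 8)) (.leaf (0, 0)))))) (.node (.node (.node (.node (.leaf (107, 9)) (.leaf (0, 0))) (.node (.leaf (613, 4)) (.leaf (0, 0)))) (.node (.node (.leaf (344, 8)) (.leaf (0, 0))) (.node (.leaf (875, 1)) (.leaf (0, 0))))) (.node (.node (.node (.leaf (235, 4)) (.leaf (0, 0))) (.node (.leaf (746, 4)) (.leaf (0, 0)))) (.node (.node (.leaf (468, 8)) (.leaf (0, 0))) (.node (.leaf (971, 0)) (.leaf (0, 0)))))))) (.node (.node (.node (.node (.node (.node (.leaf (21, 0)) (.leaf (949, 8))) (.node (.leaf (539, 4)) (.leaf (0, 0)))) (.node (.node (.leaf (273, 0)) (.leaf (0, 0))) (.node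 (.leaf (382, 2)) (.leaf (0, 0))))) (.node (.node (.node (.leaf (155, 9)) (.leaf (0, 0))) (.node (.leaf (667, 9)) (.leaf (0, 0)))) (.node (.node (.leaf (411, 9)) (.leaf (0, 0))) (.node (.leaf (913, 2)) (.leaf (0, 0)))))) (.node (.node (.node (.node (.leaf (88, 9)) (.leaf (0, 0))) (.node (.leaf (411, 4)) (.leaf (0, 0)))) (.node (.node (.leaf (209, 1)) (.leaf (0, 0))) (.node (.leaf (853, 4)) (.leaf (0, 0))))) (.node (.node (.node (.leaf (105, 2)) (.leaf (0, 0))) (.node (.leaf (452, 2)) (.leaf (0, 0)))) (.node (.node (.leaf (465, 4)) (.leaf (0, 0))) (.node (.leaf (786, 4)) (.leaf (0, 0))))))) (.node (.node (.node (.node (.node (.leaf (30, 0)) (.leaf (1083, 9))) (.node (.leaf (379, 0)) (.leaf (0, 0)))) (.node (.node (.leaf (314, 4)) (.leaf (0, 0))) (.node (.leaf (814, 4)) (.leaf (0, 0))))) (.node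 (.node (.node (.leaf (185, 2)) (.leaf (0, 0))) (.node (.leaf (506, 4)) (.leaf (0, 0)))) (.node (.node (.leaf (443, 1)) (.leaf (0, 0))) (.node (.leaf (885, 2)) (.leaf (0, 0)))))) (.node (.node (.node (.node (.leaf (123, 9)) (.leaf (0, 0))) (.node (.leaf (630, 2)) (.leaf (0, 0)))) (.node (.node (.leaf (163, 2)) (.leaf (0, 0))) (.node (.leaf (891, 2)) (.leaf (0, 0))))) (.node (.node (.node (.leaf (251, 1)) (.leaf (0, 0))) (.node (.leaf (725, 2)) (.leaf (0, 0)))) (.node (.node (.leaf (507, 2)) (.leaf (0, 0))) (.node (.leaf (1012, 2)) (.leaf (0, 0))))))))))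

def par5 : Arr (ℕ × ℕ) :=
  (.node (.node (.node (.node (.node (.node (.node (.node (.leaf (4, 4)) (.leaf (587, 2))) (.node (.leaf (408, 4)) (.leaf (0, 0)))) (.node (.node (.leaf (189, 2)) (.leaf (0, 0))) (.node (.leaf (387, 2)) (.leaf (0, 0))))) (.node (.node (.node (.leaf (94, 4)) (.leaf (0, 0))) (.node (.leaf (631, 2)) (.leaf (0, 0)))) (.node (.node (.leaf (375, 4)) (.leaf (0, 0))) (.node (.leaf (900, 1)) (.leaf (0, 0)))))) (.node (.node (.node (.node (.leaf (26, 1)) (.leaf (993, 8))) (.node (.leaf (295, 1)) (.leaf (0, 0)))) (.node (.node (.leaf (324, 1)) (.leaf (0, 0))) (.node (.leaf (394, 2)) (.leaf (0, 0))))) (.node (.node (.node (.leaf (196, 9)) (.leaf (0, 0))) (.node (.leaf (708, 2)) (.leaf (0, 0)))) (.node (.node (.leaf (372, 4)) (.leaf (0, 0))) (.node (.leaf (898, 2)) (.leaf (0,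 0))))))) (.node (.node (.node (.node (.node (.leaf (13, 0)) (.leaf (842, 8))) (.node (.leaf (548, 2)) (.leaf (0, 0)))) (.node (.node (.leaf (161, 4)) (.leaf (0, 0))) (.node (.leaf (797, 2)) (.leaf (0, 0))))) (.node (.node (.node (.leaf (152, 2)) (.leaf (0, 0))) (.node (.leaf (324, 2)) (.leaf (0, 0)))) (.node (.node (.leaf (308, 4)) (.leaf (0, 0))) (.node (.leaf (923, 4)) (.leaf (0, 0)))))) (.node (.node (.node (.node (.leaf (78, 0)) (.leaf (0, 0))) (.node (.leaf (313, 2)) (.leaf (0, 0)))) (.node (.node (.leaf (148, 0)) (.leaf (0, 0))) (.node (.leaf (837, 2)) (.leaf (0, 0))))) (.node (.node (.node (.leaf (223, 2)) (.leaf (0, 0))) (.node (.leaf (740, 1)) (.leaf (0, 0)))) (.node (.node (.leaf (371, 0)) (.leaf (0, 0))) (.node (.leaf (943, 2)) (.leaf (0, 0)))))))) (.node (.node (.node (.node (.node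 (.node (.leaf (16, 4)) (.leaf (632, 2))) (.node (.leaf (467, 4)) (.leaf (0, 0)))) (.node (.node (.leaf (268, 0)) (.leaf (0, 0))) (.node (.leaf (442, 4)) (.leaf (0, 0))))) (.node (.node (.node (.leaf (147, 0)) (.leaf (0, 0))) (.node (.leaf (656, 4)) (.leaf (0, 0)))) (.node (.node (.leaf (404, 9)) (.leaf (0, 0))) (.node (.leaf (916, 1)) (.leaf (0, 0)))))) (.node (.node (.node (.node (.leaf (81, 4)) (.leaf (1085, 0))) (.node (.leaf (588, 2)) (.leaf (0, 0)))) (.node (.node (.leaf (262, 4)) (.leaf (0, 0))) (.node (.leaf (849, 2)) (.leaf (0, 0))))) (.node (.node (.node (.leaf (170, 9)) (.leaf (0, 0))) (.node (.leaf (447, 4)) (.leaf (0, 0)))) (.node (.node (.leaf (230, 0)) (.leaf (0, 0))) (.node (.leaf (771, 4)) (.leaf (0, 0))))))) (.node (.node (.node (.node (.node (.leaf (28, 4)) (.leaf (955, 4)))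 (.node (.leaf (564, 1)) (.leaf (0, 0)))) (.node (.node (.leaf (308, 9)) (.leaf (0, 0))) (.node (.leaf (820, 2)) (.leaf (0, 0))))) (.node (.node (.node (.leaf (180, 9)) (.leaf (0, 0))) (.node (.leaf (341, 0)) (.leaf (0, 0)))) (.node (.node (.leaf (430, 4)) (.leaf (0, 0))) (.node (.leaf (944, 2)) (.leaf (0, 0)))))) (.node (.node (.node (.node (.leaf (113, 4)) (.leaf (0, 0))) (.node (.leaf (628, 9)) (.leaf (0, 0)))) (.node (.node (.leaf (165, 0)) (.leaf (0, 0))) (.node (.leaf (884, 2)) (.leaf (0, 0))))) (.node (.node (.node (.leaf (243, 4)) (.leaf (0, 0))) (.node (.leaf (489, 0)) (.leaf (0, 0)))) (.node (.node (.leaf (259, 1)) (.leaf (0, 0))) (.node (.leaf (1011, 4)) (.leaf (0, 0))))))))) (.node (.node (.node (.node (.node (.node (.node (.leaf (12, 8)) (.leaf (1029, 2))) (.node (.leaf (523, 4))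 (.leaf (0, 0)))) (.node (.node (.leaf (257, 2)) (.leaf (0, 0))) (.node (.leaf (780, 1)) (.leaf (0, 0))))) (.node (.node (.node (.leaf (140, 1)) (.leaf (0, 0))) (.node (.leaf (325, 2)) (.leaf (0, 0)))) (.node (.node (.leaf (338, 4)) (.leaf (0, 0))) (.node (.leaf (697, 4)) (.leaf (0, 0)))))) (.node (.node (.node (.node (.leaf (76, 4)) (.leaf (1068, 8))) (.node (.leaf (319, 4)) (.leaf (0, 0)))) (.node (.node (.leaf (179, 4)) (.leaf (0, 0))) (.node (.leaf (840, 4)) (.leaf (0, 0))))) (.node (.node (.node (.leaf (204, 9)) (.leaf (0, 0))) (.node (.leaf (715, 4)) (.leaf (0, 0)))) (.node (.node (.leaf (370, 2)) (.leaf (0, 0))) (.node (.leaf (972, 9)) (.leaf (0, 0))))))) (.node (.node (.node (.node (.node (.leaf (44, 4)) (.leaf (987, 9))) (.node (.leaf (556, 9)) (.leaf (0, 0)))) (.node (.node (.leaf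 (300, 2)) (.leaf (0, 0))) (.node (.leaf (809, 2)) (.leaf (0, 0))))) (.node (.node (.node (.leaf (172, 1)) (.leaf (0, 0))) (.node (.leaf (653, 2)) (.leaf (0, 0)))) (.node (.node (.leaf (304, 4)) (.leaf (0, 0))) (.node (.leaf (940, 8)) (.leaf (0, 0)))))) (.node (.node (.node (.node (.leaf (93, 2)) (.leaf (0, 0))) (.node (.leaf (620, 2)) (.leaf (0, 0)))) (.node (.node (.leaf (344, 0)) (.leaf (0, 0))) (.node (.leaf (743, 4)) (.leaf (0, 0))))) (.node (.node (.node (.leaf (236, 2)) (.leaf (0, 0))) (.node (.leaf (748, 1)) (.leaf (0, 0)))) (.node (.node (.leaf (468, 0)) (.leaf (0, 0))) (.node (.leaf (512, 4)) (.leaf (0, 0)))))))) (.node (.node (.node (.node (.node (.node (.leaf (28, 9)) (.leaf (997, 9))) (.node (.leaf (540, 2)) (.leaf (0, 0)))) (.node (.node (.leaf (284, 9)) (.leaf (0, 0))) (.node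 (.leaf (795, 2)) (.leaf (0, 0))))) (.node (.node (.node (.leaf (151, 2)) (.leaf (0, 0))) (.node (.leaf (665, 2)) (.leaf (0, 0)))) (.node (.node (.leaf (329, 4)) (.leaf (0, 0))) (.node (.leaf (629, 2)) (.leaf (0, 0)))))) (.node (.node (.node (.node (.leaf (78, 2)) (.leaf (0, 0))) (.node (.leaf (604, 2)) (.leaf (0, 0)))) (.node (.node (.leaf (219, 0)) (.leaf (0, 0))) (.node (.leaf (393, 2)) (.leaf (0, 0))))) (.node (.node (.node (.leaf (211, 9)) (.leaf (0, 0))) (.node (.leaf (352, 0)) (.leaf (0, 0)))) (.node (.node (.leaf (466, 2)) (.leaf (0, 0))) (.node (.leaf (972, 2)) (.leaf (0, 0))))))) (.node (.node (.node (.node (.node (.leaf (60, 9)) (.leaf (1082, 2))) (.node (.leaf (572, 9)) (.leaf (0, 0)))) (.node (.node (.leaf (316, 1)) (.leaf (0, 0))) (.node (.leaf (778, 2)) (.leaf (0, 0))))) (.node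 (.node (.node (.leaf (185, 4)) (.leaf (0, 0))) (.node (.leaf (504, 2)) (.leaf (0, 0)))) (.node (.node (.leaf (396, 4)) (.leaf (0, 0))) (.node (.leaf (937, 2)) (.leaf (0, 0)))))) (.node (.node (.node (.node (.leaf (114, 2)) (.leaf (0, 0))) (.node (.leaf (630, 4)) (.leaf (0, 0)))) (.node (.node (.leaf (380, 4)) (.leaf (0, 0))) (.node (.leaf (891, 4)) (.leaf (0, 0))))) (.node (.node (.node (.leaf (92, 4)) (.leaf (0, 0))) (.node (.leaf (716, 2)) (.leaf (0, 0)))) (.node (.node (.leaf (260, 1)) (.leaf (0, 0))) (.node (.leaf (550, 8)) (.leaf (0, 0))))))))))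

def par6 : Arr (ℕ × ℕ) :=
  (.node (.node (.node (.node (.node (.node (.node (.node (.leaf (3, 2)) (.leaf (1027, 8))) (.node (.leaf (517, 1)) (.leaf (0, 0)))) (.node (.node (.leaf (189, 4)) (.leaf (0, 0))) (.node (.leaf (373, 1)) (.leaf (0, 0))))) (.node (.node (.node (.leaf (58, 0)) (.leaf (0, 0))) (.node (.leaf (631, 4)) (.leaf (0, 0)))) (.node (.node (.leaf (389, 2)) (.leaf (0, 0))) (.node (.leaf (609, 2)) (.leaf (0, 0)))))) (.node (.node (.node (.node (.leaf (69, 4)) (.leaf (1054, 0))) (.node (.leaf (581, 4)) (.leaf (0, 0)))) (.node (.node (.leaf (307, 2)) (.leaf (0, 0))) (.node (.leaf (394, 4)) (.leaf (0, 0))))) (.node (.node (.node (.leaf (71, 0)) (.leaf (0, 0))) (.node (.leaf (708, 4)) (.leaf (0, 0)))) (.node (.node (.leaf (354, 2)) (.leaf (0, 0))) (.node (.leaf (754, 2)) (.leaf (0,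 0))))))) (.node (.node (.node (.node (.node (.leaf (37, 4)) (.leaf (842, 0))) (.node (.leaf (278, 1)) (.leaf (0, 0)))) (.node (.node (.leaf (206, 0)) (.leaf (0, 0))) (.node (.leaf (760, 0)) (.leaf (0, 0))))) (.node (.node (.node (.leaf (152, 4)) (.leaf (0, 0))) (.node (.leaf (677, 2)) (.leaf (0, 0)))) (.node (.node (.leaf (421, 2)) (.leaf (0, 0))) (.node (.leaf (912, 2)) (.leaf (0, 0)))))) (.node (.node (.node (.node (.leaf (101, 9)) (.leaf (0, 0))) (.node (.leaf (612, 2)) (.leaf (0, 0)))) (.node (.node (.leaf (149, 2)) (.leaf (0, 0))) (.node (.leaf (583, 2)) (.leaf (0, 0))))) (.node (.node (.node (.leaf (223, 4)) (.leaf (0, 0))) (.node (.leaf (463, 4)) (.leaf (0, 0)))) (.node (.node (.leaf (279, 0)) (.leaf (0, 0))) (.node (.leaf (943, 4)) (.leaf (0, 0)))))))) (.node (.node (.node (.node (.node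 (.node (.leaf (8, 4)) (.leaf (1004, 1))) (.node (.leaf (533, 1)) (.leaf (0, 0)))) (.node (.node (.leaf (277, 9)) (.leaf (0, 0))) (.node (.leaf (578, 2)) (.leaf (0, 0))))) (.node (.node (.node (.leaf (149, 9)) (.leaf (0, 0))) (.node (.leaf (661, 2)) (.leaf (0, 0)))) (.node (.node (.leaf (191, 0)) (.leaf (0, 0))) (.node (.leaf (609, 0)) (.leaf (0, 0)))))) (.node (.node (.node (.node (.leaf (85, 2)) (.leaf (1084, 1))) (.node (.leaf (570, 4)) (.leaf (0, 0)))) (.node (.node (.leaf (214, 0)) (.leaf (0, 0))) (.node (.leaf (849, 4)) (.leaf (0, 0))))) (.node (.node (.node (.leaf (157, 4)) (.leaf (0, 0))) (.node (.leaf (711, 2)) (.leaf (0, 0)))) (.node (.node (.leaf (469, 9)) (.leaf (0, 0))) (.node (.leaf (981, 2)) (.leaf (0, 0))))))) (.node (.node (.node (.node (.node (.leaf (53, 2)) (.leaf (927, 8)))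 (.node (.leaf (495, 0)) (.leaf (0, 0)))) (.node (.node (.leaf (126, 4)) (.leaf (0, 0))) (.node (.leaf (386, 4)) (.leaf (0, 0))))) (.node (.node (.node (.leaf (63, 8)) (.leaf (0, 0))) (.node (.leaf (693, 9)) (.leaf (0, 0)))) (.node (.node (.leaf (377, 2)) (.leaf (0, 0))) (.node (.leaf (425, 2)) (.leaf (0, 0)))))) (.node (.node (.node (.node (.leaf (49, 2)) (.leaf (0, 0))) (.node (.leaf (626, 2)) (.leaf (0, 0)))) (.node (.node (.leaf (373, 9)) (.leaf (0, 0))) (.node (.leaf (884, 4)) (.leaf (0, 0))))) (.node (.node (.node (.leaf (91, 0)) (.leaf (0, 0))) (.node (.leaf (362, 0)) (.leaf (0, 0)))) (.node (.node (.leaf (501, 2)) (.leaf (0, 0))) (.node (.leaf (686, 4)) (.leaf (0, 0))))))))) (.node (.node (.node (.node (.node (.node (.node (.leaf (12, 0)) (.leaf (1036, 8))) (.node (.leaf (525, 1)) (.leaf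 (0, 0)))) (.node (.node (.leaf (267, 8)) (.leaf (0, 0))) (.node (.leaf (777, 2)) (.leaf (0, 0))))) (.node (.node (.node (.leaf (102, 9)) (.leaf (0, 0))) (.node (.leaf (325, 4)) (.leaf (0, 0)))) (.node (.node (.leaf (289, 0)) (.leaf (0, 0))) (.node (.leaf (419, 2)) (.leaf (0, 0)))))) (.node (.node (.node (.node (.leaf (77, 1)) (.leaf (1041, 0))) (.node (.leaf (317, 2)) (.leaf (0, 0)))) (.node (.node (.leaf (261, 8)) (.leaf (0, 0))) (.node (.leaf (845, 2)) (.leaf (0, 0))))) (.node (.node (.node (.leaf (202, 2)) (.leaf (0, 0))) (.node (.leaf (717, 1)) (.leaf (0, 0)))) (.node (.node (.leaf (371, 4)) (.leaf (0, 0))) (.node (.leaf (460, 0)) (.leaf (0, 0))))))) (.node (.node (.node (.node (.node (.leaf (45, 2)) (.leaf (1016, 4))) (.node (.leaf (368, 0)) (.leaf (0, 0)))) (.node (.node (.leaf (125,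 0)) (.leaf (0, 0))) (.node (.leaf (809, 4)) (.leaf (0, 0))))) (.node (.node (.node (.leaf (173, 2)) (.leaf (0, 0))) (.node (.leaf (573, 9)) (.leaf (0, 0)))) (.node (.node (.leaf (203, 0)) (.leaf (0, 0))) (.node (.leaf (940, 0)) (.leaf (0, 0)))))) (.node (.node (.node (.node (.leaf (47, 8)) (.leaf (0, 0))) (.node (.leaf (614, 2)) (.leaf (0, 0)))) (.node (.node (.leaf (365, 9)) (.leaf (0, 0))) (.node (.leaf (741, 2)) (.leaf (0, 0))))) (.node (.node (.node (.leaf (82, 1)) (.leaf (0, 0))) (.node (.leaf (464, 0)) (.leaf (0, 0)))) (.node (.node (.leaf (493, 9)) (.leaf (0, 0))) (.node (.leaf (977, 2)) (.leaf (0, 0)))))))) (.node (.node (.node (.node (.node (.node (.leaf (21, 4)) (.leaf (949, 4))) (.node (.leaf (277, 1)) (.leaf (0, 0)))) (.node (.node (.leaf (273, 4)) (.leaf (0, 0))) (.node (.leaf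 (795, 4)) (.leaf (0, 0))))) (.node (.node (.node (.leaf (151, 4)) (.leaf (0, 0))) (.node (.leaf (665, 4)) (.leaf (0, 0)))) (.node (.node (.leaf (413, 2)) (.leaf (0, 0))) (.node (.leaf (417, 2)) (.leaf (0, 0)))))) (.node (.node (.node (.node (.leaf (64, 4)) (.leaf (0, 0))) (.node (.leaf (309, 1)) (.leaf (0, 0)))) (.node (.node (.leaf (349, 9)) (.leaf (0, 0))) (.node (.leaf (861, 2)) (.leaf (0, 0))))) (.node (.node (.node (.leaf (188, 8)) (.leaf (0, 0))) (.node (.leaf (733, 9)) (.leaf (0, 0)))) (.node (.node (.leaf (466, 4)) (.leaf (0, 0))) (.node (.leaf (973, 2)) (.leaf (0, 0))))))) (.node (.node (.node (.node (.node (.leaf (51, 2)) (.leaf (1070, 0))) (.node (.leaf (437, 2)) (.leaf (0, 0)))) (.node (.node (.leaf (290, 4)) (.leaf (0, 0))) (.node (.leaf (387, 0)) (.leaf (0, 0))))) (.node (.node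 (.node (.leaf (65, 2)) (.leaf (0, 0))) (.node (.leaf (336, 1)) (.leaf (0, 0)))) (.node (.node (.leaf (360, 2)) (.leaf (0, 0))) (.node (.leaf (462, 0)) (.leaf (0, 0)))))) (.node (.node (.node (.node (.leaf (114, 4)) (.leaf (0, 0))) (.node (.leaf (316, 2)) (.leaf (0, 0)))) (.node (.node (.leaf (381, 2)) (.leaf (0, 0))) (.node (.leaf (893, 1)) (.leaf (0, 0))))) (.node (.node (.node (.leaf (88, 1)) (.leaf (0, 0))) (.node (.leaf (716, 4)) (.leaf (0, 0)))) (.node (.node (.leaf (509, 2)) (.leaf (0, 0))) (.node (.leaf (1021, 2)) (.leaf (0, 0))))))))))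

def par7 : Arr (ℕ × ℕ) :=
  (.node (.node (.node (.node (.node (.node (.node (.node (.leaf (5, 2)) (.leaf (1027, 2))) (.node (.leaf (299, 4)) (.leaf (0, 0)))) (.node (.node (.leaf (144, 2)) (.leaf (0, 0))) (.node (.leaf (774, 4)) (.leaf (0, 0))))) (.node (.node (.node (.leaf (58, 2)) (.leaf (0, 0))) (.node (.leaf (590, 2)) (.leaf (0, 0)))) (.node (.node (.leaf (164, 1)) (.leaf (0, 0))) (.node (.leaf (406, 1)) (.leaf (0, 0)))))) (.node (.node (.node (.node (.leaf (70, 1)) (.leaf (1094, 9))) (.node (.leaf (582, 1)) (.leaf (0, 0)))) (.node (.node (.leaf (288, 2)) (.leaf (0, 0))) (.node (.leaf (783, 4)) (.leaf (0, 0))))) (.node (.node (.node (.leaf (178, 2)) (.leaf (0, 0))) (.node (.leaf (710, 1)) (.leaf (0, 0)))) (.node (.node (.leaf (354, 4)) (.leaf (0, 0))) (.node (.leaf (765, 4)) (.leaf (0,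 0))))))) (.node (.node (.node (.node (.node (.leaf (38, 2)) (.leaf (777, 4))) (.node (.leaf (550, 2)) (.leaf (0, 0)))) (.node (.node (.leaf (294, 9)) (.leaf (0, 0))) (.node (.leaf (806, 9)) (.leaf (0, 0))))) (.node (.node (.node (.leaf (135, 2)) (.leaf (0, 0))) (.node (.leaf (654, 1)) (.leaf (0, 0)))) (.node (.node (.leaf (193, 1)) (.leaf (0, 0))) (.node (.leaf (910, 2)) (.leaf (0, 0)))))) (.node (.node (.node (.node (.leaf (78, 4)) (.leaf (0, 0))) (.node (.leaf (612, 4)) (.leaf (0, 0)))) (.node (.node (.leaf (351, 2)) (.leaf (0, 0))) (.node (.leaf (434, 4)) (.leaf (0, 0))))) (.node (.node (.node (.leaf (176, 2)) (.leaf (0, 0))) (.node (.leaf (691, 2)) (.leaf (0, 0)))) (.node (.node (.leaf (486, 9)) (.leaf (0, 0))) (.node (.leaf (998, 1)) (.leaf (0, 0)))))))) (.node (.node (.node (.node (.node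 (.node (.leaf (6, 0)) (.leaf (1044, 8))) (.node (.leaf (488, 0)) (.leaf (0, 0)))) (.node (.node (.leaf (268, 2)) (.leaf (0, 0))) (.node (.leaf (378, 1)) (.leaf (0, 0))))) (.node (.node (.node (.leaf (147, 2)) (.leaf (0, 0))) (.node (.leaf (657, 2)) (.leaf (0, 0)))) (.node (.node (.leaf (191, 2)) (.leaf (0, 0))) (.node (.leaf (918, 9)) (.leaf (0, 0)))))) (.node (.node (.node (.node (.leaf (80, 0)) (.leaf (1110, 2))) (.node (.leaf (429, 0)) (.leaf (0, 0)))) (.node (.node (.leaf (342, 9)) (.leaf (0, 0))) (.node (.leaf (839, 2)) (.leaf (0, 0))))) (.node (.node (.node (.leaf (158, 8)) (.leaf (0, 0))) (.node (.leaf (343, 1)) (.leaf (0, 0)))) (.node (.node (.leaf (227, 2)) (.leaf (0, 0))) (.node (.leaf (892, 2)) (.leaf (0, 0))))))) (.node (.node (.node (.node (.node (.leaf (19, 1)) (.leaf (927, 0)))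 (.node (.leaf (306, 4)) (.leaf (0, 0)))) (.node (.node (.leaf (123, 2)) (.leaf (0, 0))) (.node (.leaf (822, 1)) (.leaf (0, 0))))) (.node (.node (.node (.leaf (182, 8)) (.leaf (0, 0))) (.node (.leaf (505, 2)) (.leaf (0, 0)))) (.node (.node (.leaf (377, 4)) (.leaf (0, 0))) (.node (.leaf (950, 2)) (.leaf (0, 0)))))) (.node (.node (.node (.node (.leaf (118, 2)) (.leaf (0, 0))) (.node (.leaf (626, 4)) (.leaf (0, 0)))) (.node (.node (.leaf (207, 0)) (.leaf (0, 0))) (.node (.leaf (886, 1)) (.leaf (0, 0))))) (.node (.node (.node (.leaf (246, 9)) (.leaf (0, 0))) (.node (.leaf (376, 4)) (.leaf (0, 0)))) (.node (.node (.leaf (501, 4)) (.leaf (0, 0))) (.node (.leaf (1014, 2)) (.leaf (0, 0))))))))) (.node (.node (.node (.node (.node (.node (.node (.leaf (14, 9)) (.leaf (1036, 0))) (.node (.leaf (276, 0))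 (.leaf (0, 0)))) (.node (.node (.leaf (267, 0)) (.leaf (0, 0))) (.node (.leaf (392, 2)) (.leaf (0, 0))))) (.node (.node (.node (.leaf (138, 4)) (.leaf (0, 0))) (.node (.leaf (595, 4)) (.leaf (0, 0)))) (.node (.node (.leaf (351, 0)) (.leaf (0, 0))) (.node (.leaf (607, 4)) (.leaf (0, 0)))))) (.node (.node (.node (.node (.leaf (59, 0)) (.leaf (1038, 0))) (.node (.leaf (303, 1)) (.leaf (0, 0)))) (.node (.node (.leaf (261, 0)) (.leaf (0, 0))) (.node (.leaf (841, 2)) (.leaf (0, 0))))) (.node (.node (.node (.leaf (202, 4)) (.leaf (0, 0))) (.node (.leaf (397, 0)) (.leaf (0, 0)))) (.node (.node (.leaf (298, 0)) (.leaf (0, 0))) (.node (.leaf (460, 2)) (.leaf (0, 0))))))) (.node (.node (.node (.node (.node (.leaf (18, 1)) (.leaf (961, 2))) (.node (.leaf (558, 9)) (.leaf (0, 0)))) (.node (.node (.leaf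 (302, 9)) (.leaf (0, 0))) (.node (.leaf (780, 2)) (.leaf (0, 0))))) (.node (.node (.node (.leaf (150, 4)) (.leaf (0, 0))) (.node (.leaf (412, 4)) (.leaf (0, 0)))) (.node (.node (.leaf (398, 4)) (.leaf (0, 0))) (.node (.leaf (942, 9)) (.leaf (0, 0)))))) (.node (.node (.node (.node (.leaf (110, 8)) (.leaf (0, 0))) (.node (.leaf (568, 0)) (.leaf (0, 0)))) (.node (.node (.leaf (362, 2)) (.leaf (0, 0))) (.node (.leaf (400, 1)) (.leaf (0, 0))))) (.node (.node (.node (.leaf (238, 2)) (.leaf (0, 0))) (.node (.leaf (731, 2)) (.leaf (0, 0)))) (.node (.node (.leaf (286, 8)) (.leaf (0, 0))) (.node (.leaf (979, 2)) (.leaf (0, 0)))))))) (.node (.node (.node (.node (.node (.node (.leaf (23, 4)) (.leaf (606, 8))) (.node (.leaf (542, 2)) (.leaf (0, 0)))) (.node (.node (.leaf (203, 2)) (.leaf (0, 0))) (.node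 (.leaf (798, 1)) (.leaf (0, 0))))) (.node (.node (.node (.leaf (57, 2)) (.leaf (0, 0))) (.node (.leaf (655, 2)) (.leaf (0, 0)))) (.node (.node (.leaf (192, 1)) (.leaf (0, 0))) (.node (.leaf (926, 2)) (.leaf (0, 0)))))) (.node (.node (.node (.node (.leaf (71, 2)) (.leaf (0, 0))) (.node (.leaf (606, 2)) (.leaf (0, 0)))) (.node (.node (.leaf (219, 2)) (.leaf (0, 0))) (.node (.leaf (838, 1)) (.leaf (0, 0))))) (.node (.node (.node (.leaf (188, 4)) (.leaf (0, 0))) (.node (.leaf (349, 2)) (.leaf (0, 0)))) (.node (.node (.leaf (478, 2)) (.leaf (0, 0))) (.node (.leaf (491, 1)) (.leaf (0, 0))))))) (.node (.node (.node (.node (.node (.leaf (25, 1)) (.leaf (1086, 9))) (.node (.leaf (294, 1)) (.leaf (0, 0)))) (.node (.node (.leaf (305, 2)) (.leaf (0, 0))) (.node (.leaf (830, 9)) (.leaf (0, 0))))) (.node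 (.node (.node (.leaf (186, 8)) (.leaf (0, 0))) (.node (.leaf (702, 4)) (.leaf (0, 0)))) (.node (.node (.leaf (296, 0)) (.leaf (0, 0))) (.node (.leaf (576, 4)) (.leaf (0, 0)))))) (.node (.node (.node (.node (.leaf (68, 2)) (.leaf (0, 0))) (.node (.leaf (638, 2)) (.leaf (0, 0)))) (.node (.node (.leaf (163, 1)) (.leaf (0, 0))) (.node (.leaf (700, 2)) (.leaf (0, 0))))) (.node (.node (.node (.leaf (254, 4)) (.leaf (0, 0))) (.node (.leaf (724, 2)) (.leaf (0, 0)))) (.node (.node (.leaf (509, 4)) (.leaf (0, 0))) (.node (.leaf (1022, 8)) (.leaf (0, 0))))))))))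

def par : Arr (ℕ × ℕ) :=
  (.node (.node (.node par0 par4) (.node par2 par6)) (.node (.node par1 par5) (.node par3 par7)))

def words0 : Arr (ℕ × ℕ × Bool) :=
  (.node (.node (.node (.node (.node (.node (.node (.node (.leaf (20, 1, true)) (.leaf (6, 9, true))) (.node (.leaf (19, 4, true)) (.leaf (0, 0, false)))) (.node (.node (.leaf (26, 0, true)) (.leaf (0, 0, false))) (.node (.leaf (15, 10, true)) (.leaf (0, 0, false))))) (.node (.node (.node (.leaf (23, 1, true)) (.leaf (25, 2, true))) (.node (.leaf (12, 0, true)) (.leaf (0, 0, false)))) (.node (.node (.leaf (2, 1, true)) (.leaf (0, 0, false))) (.node (.leaf (14, 15, true)) (.leaf (0, 0, false)))))) (.node (.node (.node (.node (.leaf (9, 2, true)) (.leaf (10, 7, true))) (.node (.leaf (34, 0, false)) (.leaf (0, 0, false)))) (.node (.node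 (.leaf (5, 6, true)) (.leaf (0, 0, false))) (.node (.leaf (17, 0, true)) (.leaf (0, 0, false))))) (.node (.node (.node (.leaf (5, 1, true)) (.leaf (0, 0, false))) (.node (.leaf (10, 3, true)) (.leaf (0, 0, false)))) (.node (.node (.leaf (4, 3, true)) (.leaf (0, 0, false))) (.node (.leaf (11, 8, true)) (.leaf (0, 0, false))))))) (.node (.node (.node (.node (.node (.leaf (4, 1, true)) (.leaf (7, 0, true))) (.node (.leaf (18, 0, true)) (.leaf (0, 0, false)))) (.node (.node (.leaf (29, 0, false)) (.leaf (0, 0, false))) (.node (.leaf (12, 6, true)) (.leaf (0, 0, false))))) (.node (.node (.node (.leaf (19, 2, true)) (.leaf (15, 6, true))) (.node (.leaf (9, 1, true)) (.leaf (0, 0, false)))) (.node (.node (.leaf (23, 0, true)) (.leaf (0, 0, false))) (.node (.leaf (19, 6, true)) (.leaf (0, 0, false))))))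 (.node (.node (.node (.node (.leaf (3, 1, true)) (.leaf (14, 4, true))) (.node (.leaf (9, 5, true)) (.leaf (0, 0, false)))) (.node (.node (.leaf (20, 4, true)) (.leaf (0, 0, false))) (.node (.leaf (9, 4, true)) (.leaf (0, 0, false))))) (.node (.node (.node (.leaf (23, 3, true)) (.leaf (0, 0, false))) (.node (.leaf (12, 2, true)) (.leaf (0, 0, false)))) (.node (.node (.leaf (25, 5, true)) (.leaf (0, 0, false))) (.node (.leaf (13, 5, true)) (.leaf (0, 0, false)))))))) (.node (.node (.node (.node (.node (.node (.leaf (24, 2, true)) (.leaf (14, 16, true))) (.node (.leaf (11, 3, true)) (.leaf (0, 0, false)))) (.node (.node (.leaf (28, 0, false)) (.leaf (0, 0, false))) (.node (.leaf (7, 8, true)) (.leaf (0, 0, false))))) (.node (.node (.node (.leaf (25, 0, true)) (.leaf (7, 5, true))) (.node (.leaf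 (7, 4, true)) (.leaf (0, 0, false)))) (.node (.node (.leaf (5, 3, true)) (.leaf (0, 0, false))) (.node (.leaf (14, 1, true)) (.leaf (0, 0, false)))))) (.node (.node (.node (.node (.leaf (17, 3, true)) (.leaf (19, 0, true))) (.node (.leaf (33, 0, false)) (.leaf (0, 0, false)))) (.node (.node (.leaf (5, 4, true)) (.leaf (0, 0, false))) (.node (.leaf (13, 8, true)) (.leaf (0, 0, false))))) (.node (.node (.node (.leaf (24, 3, true)) (.leaf (0, 0, false))) (.node (.leaf (19, 1, true)) (.leaf (0, 0, false)))) (.node (.node (.leaf (11, 10, true)) (.leaf (0, 0, false))) (.node (.leaf (19, 7, true)) (.leaf (0, 0, false))))))) (.node (.node (.node (.node (.node (.leaf (17, 2, true)) (.leaf (13, 18, true))) (.node (.leaf (10, 9, true)) (.leaf (0, 0, false)))) (.node (.node (.leaf (21, 2, true)) (.leaf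 (0, 0, false))) (.node (.leaf (14, 11, true)) (.leaf (0, 0, false))))) (.node (.node (.node (.leaf (24, 1, true)) (.leaf (18, 11, true))) (.node (.leaf (9, 9, true)) (.leaf (0, 0, false)))) (.node (.node (.leaf (12, 4, true)) (.leaf (0, 0, false))) (.node (.leaf (10, 5, true)) (.leaf (0, 0, false)))))) (.node (.node (.node (.node (.leaf (12, 1, true)) (.leaf (16, 0, true))) (.node (.leaf (14, 2, true)) (.leaf (0, 0, false)))) (.node (.node (.leaf (24, 0, true)) (.leaf (0, 0, false))) (.node (.leaf (7, 9, true)) (.leaf (0, 0, false))))) (.node (.node (.node (.leaf (13, 11, true)) (.leaf (0, 0, false))) (.node (.leaf (12, 5, true)) (.leaf (0, 0, false)))) (.node (.node (.leaf (3, 3, true)) (.leaf (0, 0, false))) (.node (.leaf (12, 7, true)) (.leaf (0, 0, false))))))))) (.node (.node (.node (.node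 (.node (.node (.node (.leaf (22, 0, true)) (.leaf (13, 4, true))) (.node (.leaf (18, 14, true)) (.leaf (0, 0, false)))) (.node (.node (.leaf (32, 0, false)) (.leaf (0, 0, false))) (.node (.leaf (13, 12, true)) (.leaf (0, 0, false))))) (.node (.node (.node (.leaf (21, 1, true)) (.leaf (11, 4, true))) (.node (.leaf (6, 1, true)) (.leaf (0, 0, false)))) (.node (.node (.leaf (20, 0, true)) (.leaf (0, 0, false))) (.node (.leaf (3, 2, true)) (.leaf (0, 0, false)))))) (.node (.node (.node (.node (.leaf (16, 2, true)) (.leaf (15, 1, true))) (.node (.leaf (31, 0, false)) (.leaf (0, 0, false)))) (.node (.node (.leaf (17, 1, true)) (.leaf (0, 0, false))) (.node (.leaf (18, 3, true)) (.leaf (0, 0, false))))) (.node (.node (.node (.leaf (5, 7, true)) (.leaf (0, 0, false))) (.node (.leaf (25, 4, true))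 (.leaf (0, 0, false)))) (.node (.node (.leaf (9, 3, true)) (.leaf (0, 0, false))) (.node (.leaf (11, 5, true)) (.leaf (0, 0, false))))))) (.node (.node (.node (.node (.node (.leaf (16, 3, true)) (.leaf (25, 3, true))) (.node (.leaf (19, 9, true)) (.leaf (0, 0, false)))) (.node (.node (.leaf (22, 2, true)) (.leaf (0, 0, false))) (.node (.leaf (9, 11, true)) (.leaf (0, 0, false))))) (.node (.node (.node (.leaf (20, 3, true)) (.leaf (13, 13, true))) (.node (.leaf (19, 11, true)) (.leaf (0, 0, false)))) (.node (.node (.leaf (19, 10, true)) (.leaf (0, 0, false))) (.node (.leaf (14, 19, true)) (.leaf (0, 0, false)))))) (.node (.node (.node (.node (.leaf (4, 2, true)) (.leaf (10, 6, true))) (.node (.leaf (10, 0, true)) (.leaf (0, 0, false)))) (.node (.node (.leaf (10, 8, true)) (.leaf (0, 0, false)))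 (.node (.leaf (15, 17, true)) (.leaf (0, 0, false))))) (.node (.node (.node (.leaf (13, 1, true)) (.leaf (0, 0, false))) (.node (.leaf (20, 2, true)) (.leaf (0, 0, false)))) (.node (.node (.leaf (4, 0, true)) (.leaf (0, 0, false))) (.node (.leaf (19, 8, true)) (.leaf (0, 0, false)))))))) (.node (.node (.node (.node (.node (.node (.leaf (23, 2, true)) (.leaf (13, 16, true))) (.node (.leaf (22, 1, true)) (.leaf (0, 0, false)))) (.node (.node (.leaf (30, 0, false)) (.leaf (0, 0, false))) (.node (.leaf (15, 18, true)) (.leaf (0, 0, false))))) (.node (.node (.node (.leaf (22, 3, true)) (.leaf (18, 1, true))) (.node (.leaf (10, 10, true)) (.leaf (0, 0, false)))) (.node (.node (.leaf (5, 5, true)) (.leaf (0, 0, false))) (.node (.leaf (11, 11, true)) (.leaf (0, 0, false)))))) (.node (.node (.node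 (.node (.leaf (16, 1, true)) (.leaf (9, 7, true))) (.node (.leaf (27, 0, false)) (.leaf (0, 0, false)))) (.node (.node (.leaf (19, 3, true)) (.leaf (0, 0, false))) (.node (.leaf (25, 1, true)) (.leaf (0, 0, false))))) (.node (.node (.node (.leaf (7, 1, true)) (.leaf (0, 0, false))) (.node (.leaf (7, 6, true)) (.leaf (0, 0, false)))) (.node (.node (.leaf (18, 10, true)) (.leaf (0, 0, false))) (.node (.leaf (19, 5, true)) (.leaf (0, 0, false))))))) (.node (.node (.node (.node (.node (.leaf (9, 8, true)) (.leaf (13, 17, true))) (.node (.leaf (13, 10, true)) (.leaf (0, 0, false)))) (.node (.node (.leaf (7, 7, true)) (.leaf (0, 0, false))) (.node (.leaf (13, 2, true)) (.leaf (0, 0, false))))) (.node (.node (.node (.leaf (2, 2, true)) (.leaf (0, 0, false))) (.node (.leaf (18, 2, true)) (.leaf (0,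 0, false)))) (.node (.node (.leaf (12, 8, true)) (.leaf (0, 0, false))) (.node (.leaf (9, 10, true)) (.leaf (0, 0, false)))))) (.node (.node (.node (.node (.leaf (12, 3, true)) (.leaf (11, 1, true))) (.node (.leaf (14, 13, true)) (.leaf (0, 0, false)))) (.node (.node (.leaf (3, 4, true)) (.leaf (0, 0, false))) (.node (.leaf (9, 6, true)) (.leaf (0, 0, false))))) (.node (.node (.node (.leaf (15, 2, true)) (.leaf (0, 0, false))) (.node (.leaf (14, 10, true)) (.leaf (0, 0, false)))) (.node (.node (.leaf (12, 9, true)) (.leaf (0, 0, false))) (.node (.leaf (13, 7, true)) (.leaf (0, 0, false))))))))))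

def words : Arr (ℕ × ℕ × Bool) :=
  words0

def rels : List (List ℕ) :=
  [[0, 0],
   [1, 1],
   [2, 2, 2],
   [4, 4, 4, 4, 4],
   [2, 4, 2, 4],
   [0, 2, 0, 2, 0, 3, 0, 3, 0, 0],
   [0, 2, 0, 2, 2, 3, 0, 3, 0, 3],
   [0, 2, 0, 2, 4, 3, 0, 3, 0, 5],
   [0, 2, 0, 2, 0, 2, 0, 2, 0, 2, 0, 2],
   [0, 4, 3, 5, 5, 0, 3, 4, 4, 3, 4, 3],
   [0, 2, 4, 4, 3, 4, 0, 5, 2, 5, 5, 3],
   [0, 2, 5, 2, 5, 5, 2, 0, 4, 4, 2, 5],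
   [0, 4, 0, 3, 5, 0, 5, 0, 5, 3],
   [0, 4, 0, 2, 4, 4, 3, 4, 4, 3, 0, 5, 0, 5, 5, 2, 5, 5, 2, 5],
   [0, 4, 0, 4, 4, 3, 4, 4, 3, 4, 0, 5, 0, 4, 3, 4, 4, 3, 4, 3],
   [2, 4, 0, 5, 2, 0, 4, 0, 2, 4, 0, 5, 2, 0, 4, 0, 2, 4, 0, 5, 2, 0, 4, 0],
   [1, 2, 1, 3],
   [1, 4, 1, 5],
   [1, 0, 2, 0, 2, 1, 0, 2, 0, 2, 1, 0, 2, 0, 2],
   [1, 0, 1, 0, 1, 0, 1, 0, 5, 2, 5, 5, 3],
   [0, 2, 0, 2, 9],
   [8, 8, 8],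
   [8, 0, 9, 0],
   [8, 2, 9, 3],
   [8, 4, 9, 5],
   [1, 8, 1, 8, 1, 8],
   [],
   [0, 0],
   [1, 1],
   [2, 3],
   [3, 2],
   [4, 5],
   [5, 4],
   [8, 9],
   [9, 8]]

def log : Log :=
  ⟨rels, [1, 2, 4, 8], words, 4750, fact, par⟩

end Cfsg.Agent.Lie.J2Unique
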