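import Cfsg.Agent.Lib.Lead.JankoOne.Coset.Engine

/-!
Generated certificate: the coset table of the Hall-Janko group on the cosets of `A4 × A5`.
The final table and the certificate of primitivity.
-/

set_option autoImplicit false
set_option maxRecDepth 100000
set_option maxHeartbeats 0

namespace Cfsg.Agent.Lie.J2Unique

open Cfsg.Agent.Lead.JankoOne.Coset

def live0 : Arr (ℕ) :=
  (.node (.node (.node (.node (.node (.node (.node (.node (.leaf 0) (.leaf 641)) (.node (.leaf 310) (.leaf 1041))) (.node (.node (.leaf 149) (.leaf 894)) (.node (.leaf 458) (.leaf 0)))) (.node (.node (.node (.leaf 73) (.leaf 739)) (.node (.leaf 378) (.leaf 1105))) (.node (.node (.leaf 225) (.leaf 977)) (.node (.leaf 539) (.leaf 0))))) (.node (.node (.node (.node (.leaf 41) (.leaf 695)) (.node (.leaf 346) (.leaf 1073))) (.node (.node (.leaf 186) (.leaf 944)) (.node (.leaf 496) (.leaf 0)))) (.node (.node (.node (.leaf 114) (.leaf 812)) (.node (.leaf 416) (.leaf 0))) (.node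 (.node (.leaf 278) (.leaf 1009)) (.node (.leaf 588) (.leaf 0)))))) (.node (.node (.node (.node (.node (.leaf 18) (.leaf 667)) (.node (.leaf 330) (.leaf 1057))) (.node (.node (.leaf 165) (.leaf 927)) (.node (.leaf 477) (.leaf 0)))) (.node (.node (.node (.leaf 92) (.leaf 764)) (.node (.leaf 398) (.leaf 0))) (.node (.node (.leaf 262) (.leaf 993)) (.node (.leaf 561) (.leaf 0))))) (.node (.node (.node (.node (.leaf 57) (.leaf 716)) (.node (.leaf 362) (.leaf 1089))) (.node (.node (.leaf 206) (.leaf 961)) (.node (.leaf 519) (.leaf 0)))) (.node (.node (.node (.leaf 130) (.leaf 857)) (.node (.leaf 437) (.leaf 0))) (.node (.node (.leaf 294) (.leaf 1025)) (.node (.leaf 607) (.leaf 0))))))) (.node (.node (.node (.node (.node (.node (.leaf 8) (.leaf 649)) (.node (.leaf 322) (.leaf 1049))) (.node (.node (.leaf 157) (.leaf 911)) (.node (.leaf 467) (.leaf 0)))) (.node (.node (.node (.leaf 81) (.leaf 752)) (.node (.leaf 389) (.leaf 0))) (.node (.node (.leaf 251) (.leaf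 985)) (.node (.leaf 551) (.leaf 0))))) (.node (.node (.node (.node (.leaf 49) (.leaf 707)) (.node (.leaf 354) (.leaf 1081))) (.node (.node (.leaf 194) (.leaf 952)) (.node (.leaf 506) (.leaf 0)))) (.node (.node (.node (.leaf 122) (.leaf 837)) (.node (.leaf 426) (.leaf 0))) (.node (.node (.leaf 286) (.leaf 1017)) (.node (.leaf 597) (.leaf 0)))))) (.node (.node (.node (.node (.node (.leaf 27) (.leaf 686)) (.node (.leaf 338) (.leaf 1065))) (.node (.node (.leaf 175) (.leaf 935)) (.node (.leaf 488) (.leaf 0)))) (.node (.node (.node (.leaf 103) (.leaf 777)) (.node (.leaf 406) (.leaf 0))) (.node (.node (.leaf 270) (.leaf 1001)) (.node (.leaf 575) (.leaf 0))))) (.node (.node (.node (.node (.leaf 65) (.leaf 729)) (.node (.leaf 370) (.leaf 1097))) (.node (.node (.leaf 216) (.leaf 969)) (.node (.leaf 529) (.leaf 0)))) (.node (.node (.node (.leaf 139) (.leaf 876)) (.node (.leaf 447) (.leaf 0))) (.node (.node (.leaf 302) (.leaf 1033)) (.node (.leaf 630) (.leaf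 0)))))))) (.node (.node (.node (.node (.node (.node (.node (.leaf 4) (.leaf 645)) (.node (.leaf 316) (.leaf 1045))) (.node (.node (.leaf 153) (.leaf 899)) (.node (.leaf 462) (.leaf 0)))) (.node (.node (.node (.leaf 77) (.leaf 746)) (.node (.leaf 385) (.leaf 1109))) (.node (.node (.leaf 229) (.leaf 981)) (.node (.leaf 543) (.leaf 0))))) (.node (.node (.node (.node (.leaf 45) (.leaf 703)) (.node (.leaf 350) (.leaf 1077))) (.node (.node (.leaf 190) (.leaf 948)) (.node (.leaf 502) (.leaf 0)))) (.node (.node (.node (.leaf 118) (.leaf 832)) (.node (.leaf 420) (.leaf 0))) (.node (.node (.leaf 282) (.leaf 1013)) (.node (.leaf 592) (.leaf 0)))))) (.node (.node (.node (.node (.node (.leaf 22) (.leaf 672)) (.node (.leaf 334) (.leaf 1061))) (.node (.node (.leaf 170) (.leaf 931)) (.node (.leaf 483) (.leaf 0)))) (.node (.node (.node (.leaf 96) (.leaf 771)) (.node (.leaf 402) (.leaf 0))) (.node (.node (.leaf 266) (.leaf 997)) (.node (.leaf 570) (.leaf 0))))) (.node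 (.node (.node (.node (.leaf 61) (.leaf 724)) (.node (.leaf 366) (.leaf 1093))) (.node (.node (.leaf 212) (.leaf 965)) (.node (.leaf 525) (.leaf 0)))) (.node (.node (.node (.leaf 134) (.leaf 864)) (.node (.leaf 443) (.leaf 0))) (.node (.node (.leaf 298) (.leaf 1029)) (.node (.leaf 626) (.leaf 0))))))) (.node (.node (.node (.node (.node (.node (.leaf 14) (.leaf 654)) (.node (.leaf 326) (.leaf 1053))) (.node (.node (.leaf 161) (.leaf 923)) (.node (.leaf 471) (.leaf 0)))) (.node (.node (.node (.leaf 87) (.leaf 757)) (.node (.leaf 394) (.leaf 0))) (.node (.node (.leaf 258) (.leaf 989)) (.node (.leaf 557) (.leaf 0))))) (.node (.node (.node (.node (.leaf 53) (.leaf 712)) (.node (.leaf 358) (.leaf 1085))) (.node (.node (.leaf 202) (.leaf 957)) (.node (.leaf 513) (.leaf 0)))) (.node (.node (.node (.leaf 126) (.leaf 849)) (.node (.leaf 430) (.leaf 0))) (.node (.node (.leaf 290) (.leaf 1021)) (.node (.leaf 602) (.leaf 0)))))) (.node (.node (.node (.node (.node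 (.leaf 37) (.leaf 691)) (.node (.leaf 342) (.leaf 1069))) (.node (.node (.leaf 182) (.leaf 939)) (.node (.leaf 492) (.leaf 0)))) (.node (.node (.node (.leaf 110) (.leaf 790)) (.node (.leaf 410) (.leaf 0))) (.node (.node (.leaf 274) (.leaf 1005)) (.node (.leaf 583) (.leaf 0))))) (.node (.node (.node (.node (.leaf 69) (.leaf 734)) (.node (.leaf 374) (.leaf 1101))) (.node (.node (.leaf 220) (.leaf 973)) (.node (.leaf 535) (.leaf 0)))) (.node (.node (.node (.leaf 144) (.leaf 887)) (.node (.leaf 452) (.leaf 0))) (.node (.node (.leaf 306) (.leaf 1037)) (.node (.leaf 636) (.leaf 0)))))))))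

def live1 : Arr (ℕ) :=
  (.node (.node (.node (.node (.node (.node (.node (.node (.leaf 1) (.leaf 642)) (.node (.leaf 311) (.leaf 1042))) (.node (.node (.leaf 150) (.leaf 895)) (.node (.leaf 459) (.leaf 0)))) (.node (.node (.node (.leaf 74) (.leaf 743)) (.node (.leaf 379) (.leaf 1106))) (.node (.node (.leaf 226) (.leaf 978)) (.node (.leaf 540) (.leaf 0))))) (.node (.node (.node (.node (.leaf 42) (.leaf 699)) (.node (.leaf 347) (.leaf 1074))) (.node (.node (.leaf 187) (.leaf 945)) (.node (.leaf 497) (.leaf 0)))) (.node (.node (.node (.leaf 115) (.leaf 822)) (.node (.leaf 417) (.leaf 0))) (.node (.node (.leaf 279) (.leaf 1010)) (.node (.leaf 589) (.leaf 0)))))) (.node (.node (.node (.node (.node (.leaf 19) (.leaf 668)) (.node (.leaf 331) (.leaf 1058))) (.node (.node (.leaf 166) (.leaf 928)) (.node (.leaf 480) (.leaf 0)))) (.node (.node (.node (.leaf 93) (.leaf 765)) (.node (.leaf 399) (.leaf 0))) (.node (.node (.leaf 263) (.leaf 994)) (.node (.leaf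 563) (.leaf 0))))) (.node (.node (.node (.node (.leaf 58) (.leaf 717)) (.node (.leaf 363) (.leaf 1090))) (.node (.node (.leaf 207) (.leaf 962)) (.node (.leaf 520) (.leaf 0)))) (.node (.node (.node (.leaf 131) (.leaf 859)) (.node (.leaf 438) (.leaf 0))) (.node (.node (.leaf 295) (.leaf 1026)) (.node (.leaf 608) (.leaf 0))))))) (.node (.node (.node (.node (.node (.node (.leaf 10) (.leaf 650)) (.node (.leaf 323) (.leaf 1050))) (.node (.node (.leaf 158) (.leaf 912)) (.node (.leaf 468) (.leaf 0)))) (.node (.node (.node (.leaf 84) (.leaf 753)) (.node (.leaf 391) (.leaf 0))) (.node (.node (.leaf 255) (.leaf 986)) (.node (.leaf 554) (.leaf 0))))) (.node (.node (.node (.node (.leaf 50) (.leaf 708)) (.node (.leaf 355) (.leaf 1082))) (.node (.node (.leaf 195) (.leaf 953)) (.node (.leaf 510) (.leaf 0)))) (.node (.node (.node (.leaf 123) (.leaf 838)) (.node (.leaf 427) (.leaf 0))) (.node (.node (.leaf 287) (.leaf 1018)) (.node (.leaf 599) (.leaf 0)))))) (.node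 (.node (.node (.node (.node (.leaf 28) (.leaf 687)) (.node (.leaf 339) (.leaf 1066))) (.node (.node (.leaf 177) (.leaf 936)) (.node (.leaf 489) (.leaf 0)))) (.node (.node (.node (.leaf 104) (.leaf 778)) (.node (.leaf 407) (.leaf 0))) (.node (.node (.leaf 271) (.leaf 1002)) (.node (.leaf 578) (.leaf 0))))) (.node (.node (.node (.node (.leaf 66) (.leaf 731)) (.node (.leaf 371) (.leaf 1098))) (.node (.node (.leaf 217) (.leaf 970)) (.node (.leaf 530) (.leaf 0)))) (.node (.node (.node (.leaf 140) (.leaf 877)) (.node (.leaf 448) (.leaf 0))) (.node (.node (.leaf 303) (.leaf 1034)) (.node (.leaf 632) (.leaf 0)))))))) (.node (.node (.node (.node (.node (.node (.node (.leaf 5) (.leaf 646)) (.node (.leaf 317) (.leaf 1046))) (.node (.node (.leaf 154) (.leaf 906)) (.node (.leaf 464) (.leaf 0)))) (.node (.node (.node (.leaf 78) (.leaf 747)) (.node (.leaf 386) (.leaf 1110))) (.node (.node (.leaf 230) (.leaf 982)) (.node (.leaf 548) (.leaf 0))))) (.node (.node (.node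 (.node (.leaf 46) (.leaf 704)) (.node (.leaf 351) (.leaf 1078))) (.node (.node (.leaf 191) (.leaf 949)) (.node (.leaf 503) (.leaf 0)))) (.node (.node (.node (.leaf 119) (.leaf 833)) (.node (.leaf 423) (.leaf 0))) (.node (.node (.leaf 283) (.leaf 1014)) (.node (.leaf 593) (.leaf 0)))))) (.node (.node (.node (.node (.node (.leaf 24) (.leaf 673)) (.node (.leaf 335) (.leaf 1062))) (.node (.node (.leaf 171) (.leaf 932)) (.node (.leaf 484) (.leaf 0)))) (.node (.node (.node (.leaf 98) (.leaf 773)) (.node (.leaf 403) (.leaf 0))) (.node (.node (.leaf 267) (.leaf 998)) (.node (.leaf 571) (.leaf 0))))) (.node (.node (.node (.node (.leaf 62) (.leaf 725)) (.node (.leaf 367) (.leaf 1094))) (.node (.node (.leaf 213) (.leaf 966)) (.node (.leaf 526) (.leaf 0)))) (.node (.node (.node (.leaf 135) (.leaf 868)) (.node (.leaf 444) (.leaf 0))) (.node (.node (.leaf 299) (.leaf 1030)) (.node (.leaf 627) (.leaf 0))))))) (.node (.node (.node (.node (.node (.node (.leaf 15)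 (.leaf 655)) (.node (.leaf 327) (.leaf 1054))) (.node (.node (.leaf 162) (.leaf 924)) (.node (.leaf 474) (.leaf 0)))) (.node (.node (.node (.leaf 88) (.leaf 761)) (.node (.leaf 395) (.leaf 0))) (.node (.node (.leaf 259) (.leaf 990)) (.node (.leaf 558) (.leaf 0))))) (.node (.node (.node (.node (.leaf 54) (.leaf 713)) (.node (.leaf 359) (.leaf 1086))) (.node (.node (.leaf 203) (.leaf 958)) (.node (.leaf 514) (.leaf 0)))) (.node (.node (.node (.leaf 127) (.leaf 851)) (.node (.leaf 433) (.leaf 0))) (.node (.node (.leaf 291) (.leaf 1022)) (.node (.leaf 604) (.leaf 0)))))) (.node (.node (.node (.node (.node (.leaf 38) (.leaf 692)) (.node (.leaf 343) (.leaf 1070))) (.node (.node (.leaf 183) (.leaf 940)) (.node (.leaf 493) (.leaf 0)))) (.node (.node (.node (.leaf 111) (.leaf 791)) (.node (.leaf 411) (.leaf 0))) (.node (.node (.leaf 275) (.leaf 1006)) (.node (.leaf 585) (.leaf 0))))) (.node (.node (.node (.node (.leaf 70) (.leaf 735)) (.node (.leaf 375) (.leaf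 1102))) (.node (.node (.leaf 222) (.leaf 974)) (.node (.leaf 536) (.leaf 0)))) (.node (.node (.node (.leaf 145) (.leaf 888)) (.node (.leaf 453) (.leaf 0))) (.node (.node (.leaf 307) (.leaf 1038)) (.node (.leaf 638) (.leaf 0)))))))))

def live2 : Arr (ℕ) :=
  (.node (.node (.node (.node (.node (.node (.node (.node (.leaf 2) (.leaf 643)) (.node (.leaf 314) (.leaf 1043))) (.node (.node (.leaf 151) (.leaf 896)) (.node (.leaf 460) (.leaf 0)))) (.node (.node (.node (.leaf 75) (.leaf 744)) (.node (.leaf 381) (.leaf 1107))) (.node (.node (.leaf 227) (.leaf 979)) (.node (.leaf 541) (.leaf 0))))) (.node (.node (.node (.node (.leaf 43) (.leaf 700)) (.node (.leaf 348) (.leaf 1075))) (.node (.node (.leaf 188) (.leaf 946)) (.node (.leaf 498) (.leaf 0)))) (.node (.node (.node (.leaf 116) (.leaf 829)) (.node (.leaf 418) (.leaf 0))) (.node (.node (.leaf 280) (.leaf 1011)) (.node (.leaf 590) (.leaf 0)))))) (.node (.node (.node (.node (.node (.leaf 20) (.leaf 669))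 (.node (.leaf 332) (.leaf 1059))) (.node (.node (.leaf 167) (.leaf 929)) (.node (.leaf 481) (.leaf 0)))) (.node (.node (.node (.leaf 94) (.leaf 766)) (.node (.leaf 400) (.leaf 0))) (.node (.node (.leaf 264) (.leaf 995)) (.node (.leaf 566) (.leaf 0))))) (.node (.node (.node (.node (.leaf 59) (.leaf 719)) (.node (.leaf 364) (.leaf 1091))) (.node (.node (.leaf 208) (.leaf 963)) (.node (.leaf 523) (.leaf 0)))) (.node (.node (.node (.leaf 132) (.leaf 860)) (.node (.leaf 441) (.leaf 0))) (.node (.node (.leaf 296) (.leaf 1027)) (.node (.leaf 610) (.leaf 0))))))) (.node (.node (.node (.node (.node (.node (.leaf 12) (.leaf 651)) (.node (.leaf 324) (.leaf 1051))) (.node (.node (.leaf 159) (.leaf 913)) (.node (.leaf 469) (.leaf 0)))) (.node (.node (.node (.leaf 85) (.leaf 754)) (.node (.leaf 392) (.leaf 0))) (.node (.node (.leaf 256) (.leaf 987)) (.node (.leaf 555) (.leaf 0))))) (.node (.node (.node (.node (.leaf 51) (.leaf 709)) (.node (.leaf 356) (.leaf 1083)))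 (.node (.node (.leaf 199) (.leaf 955)) (.node (.leaf 511) (.leaf 0)))) (.node (.node (.node (.leaf 124) (.leaf 842)) (.node (.leaf 428) (.leaf 0))) (.node (.node (.leaf 288) (.leaf 1019)) (.node (.leaf 600) (.leaf 0)))))) (.node (.node (.node (.node (.node (.leaf 29) (.leaf 688)) (.node (.leaf 340) (.leaf 1067))) (.node (.node (.leaf 178) (.leaf 937)) (.node (.leaf 490) (.leaf 0)))) (.node (.node (.node (.leaf 105) (.leaf 786)) (.node (.leaf 408) (.leaf 0))) (.node (.node (.leaf 272) (.leaf 1003)) (.node (.leaf 579) (.leaf 0))))) (.node (.node (.node (.node (.leaf 67) (.leaf 732)) (.node (.leaf 372) (.leaf 1099))) (.node (.node (.leaf 218) (.leaf 971)) (.node (.leaf 531) (.leaf 0)))) (.node (.node (.node (.leaf 141) (.leaf 885)) (.node (.leaf 450) (.leaf 0))) (.node (.node (.leaf 304) (.leaf 1035)) (.node (.leaf 633) (.leaf 0)))))))) (.node (.node (.node (.node (.node (.node (.node (.leaf 6) (.leaf 647)) (.node (.leaf 318) (.leaf 1047))) (.node (.node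 (.leaf 155) (.leaf 907)) (.node (.leaf 465) (.leaf 0)))) (.node (.node (.node (.leaf 79) (.leaf 750)) (.node (.leaf 387) (.leaf 1111))) (.node (.node (.leaf 231) (.leaf 983)) (.node (.leaf 549) (.leaf 0))))) (.node (.node (.node (.node (.leaf 47) (.leaf 705)) (.node (.leaf 352) (.leaf 1079))) (.node (.node (.leaf 192) (.leaf 950)) (.node (.leaf 504) (.leaf 0)))) (.node (.node (.node (.leaf 120) (.leaf 834)) (.node (.leaf 424) (.leaf 0))) (.node (.node (.leaf 284) (.leaf 1015)) (.node (.leaf 594) (.leaf 0)))))) (.node (.node (.node (.node (.node (.leaf 25) (.leaf 674)) (.node (.leaf 336) (.leaf 1063))) (.node (.node (.leaf 172) (.leaf 933)) (.node (.leaf 485) (.leaf 0)))) (.node (.node (.node (.leaf 99) (.leaf 774)) (.node (.leaf 404) (.leaf 0))) (.node (.node (.leaf 268) (.leaf 999)) (.node (.leaf 572) (.leaf 0))))) (.node (.node (.node (.node (.leaf 63) (.leaf 727)) (.node (.leaf 368) (.leaf 1095))) (.node (.node (.leaf 214) (.leaf 967)) (.node (.leaf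 527) (.leaf 0)))) (.node (.node (.node (.leaf 136) (.leaf 869)) (.node (.leaf 445) (.leaf 0))) (.node (.node (.leaf 300) (.leaf 1031)) (.node (.leaf 628) (.leaf 0))))))) (.node (.node (.node (.node (.node (.node (.leaf 16) (.leaf 665)) (.node (.leaf 328) (.leaf 1055))) (.node (.node (.leaf 163) (.leaf 925)) (.node (.leaf 475) (.leaf 0)))) (.node (.node (.node (.leaf 89) (.leaf 762)) (.node (.leaf 396) (.leaf 0))) (.node (.node (.leaf 260) (.leaf 991)) (.node (.leaf 559) (.leaf 0))))) (.node (.node (.node (.node (.leaf 55) (.leaf 714)) (.node (.leaf 360) (.leaf 1087))) (.node (.node (.leaf 204) (.leaf 959)) (.node (.leaf 517) (.leaf 0)))) (.node (.node (.node (.leaf 128) (.leaf 852)) (.node (.leaf 434) (.leaf 0))) (.node (.node (.leaf 292) (.leaf 1023)) (.node (.leaf 605) (.leaf 0)))))) (.node (.node (.node (.node (.node (.leaf 39) (.leaf 693)) (.node (.leaf 344) (.leaf 1071))) (.node (.node (.leaf 184) (.leaf 941)) (.node (.leaf 494) (.leaf 0))))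 (.node (.node (.node (.leaf 112) (.leaf 802)) (.node (.leaf 412) (.leaf 0))) (.node (.node (.leaf 276) (.leaf 1007)) (.node (.leaf 586) (.leaf 0))))) (.node (.node (.node (.node (.leaf 71) (.leaf 736)) (.node (.leaf 376) (.leaf 1103))) (.node (.node (.leaf 223) (.leaf 975)) (.node (.leaf 537) (.leaf 0)))) (.node (.node (.node (.leaf 147) (.leaf 892)) (.node (.leaf 454) (.leaf 0))) (.node (.node (.leaf 308) (.leaf 1039)) (.node (.leaf 639) (.leaf 0)))))))))

def live3 : Arr (ℕ) :=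
  (.node (.node (.node (.node (.node (.node (.node (.node (.leaf 3) (.leaf 644)) (.node (.leaf 315) (.leaf 1044))) (.node (.node (.leaf 152) (.leaf 898)) (.node (.leaf 461) (.leaf 0)))) (.node (.node (.node (.leaf 76) (.leaf 745)) (.node (.leaf 383) (.leaf 1108))) (.node (.node (.leaf 228) (.leaf 980)) (.node (.leaf 542) (.leaf 0))))) (.node (.node (.node (.node (.leaf 44) (.leaf 702)) (.node (.leaf 349) (.leaf 1076))) (.node (.node (.leaf 189) (.leaf 947)) (.node (.leaf 501) (.leaf 0)))) (.node (.node (.node (.leaf 117) (.leaf 830)) (.node (.leaf 419) (.leaf 0))) (.node (.node (.leaf 281) (.leaf 1012)) (.node (.leaf 591) (.leaf 0)))))) (.node (.node (.node (.node (.node (.leaf 21) (.leaf 671)) (.node (.leaf 333) (.leaf 1060))) (.node (.node (.leaf 169) (.leaf 930)) (.node (.leaf 482) (.leaf 0)))) (.node (.node (.node (.leaf 95) (.leaf 767)) (.node (.leaf 401) (.leaf 0))) (.node (.node (.leaf 265) (.leaf 996)) (.node (.leaf 569) (.leaf 0))))) (.node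 (.node (.node (.node (.leaf 60) (.leaf 721)) (.node (.leaf 365) (.leaf 1092))) (.node (.node (.leaf 209) (.leaf 964)) (.node (.leaf 524) (.leaf 0)))) (.node (.node (.node (.leaf 133) (.leaf 863)) (.node (.leaf 442) (.leaf 0))) (.node (.node (.leaf 297) (.leaf 1028)) (.node (.leaf 611) (.leaf 0))))))) (.node (.node (.node (.node (.node (.node (.leaf 13) (.leaf 653)) (.node (.leaf 325) (.leaf 1052))) (.node (.node (.leaf 160) (.leaf 922)) (.node (.leaf 470) (.leaf 0)))) (.node (.node (.node (.leaf 86) (.leaf 755)) (.node (.leaf 393) (.leaf 0))) (.node (.node (.leaf 257) (.leaf 988)) (.node (.leaf 556) (.leaf 0))))) (.node (.node (.node (.node (.leaf 52) (.leaf 710)) (.node (.leaf 357) (.leaf 1084))) (.node (.node (.leaf 201) (.leaf 956)) (.node (.leaf 512) (.leaf 0)))) (.node (.node (.node (.leaf 125) (.leaf 843)) (.node (.leaf 429) (.leaf 0))) (.node (.node (.leaf 289) (.leaf 1020)) (.node (.leaf 601) (.leaf 0)))))) (.node (.node (.node (.node (.node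 (.leaf 30) (.leaf 689)) (.node (.leaf 341) (.leaf 1068))) (.node (.node (.leaf 179) (.leaf 938)) (.node (.leaf 491) (.leaf 0)))) (.node (.node (.node (.leaf 106) (.leaf 788)) (.node (.leaf 409) (.leaf 0))) (.node (.node (.leaf 273) (.leaf 1004)) (.node (.leaf 582) (.leaf 0))))) (.node (.node (.node (.node (.leaf 68) (.leaf 733)) (.node (.leaf 373) (.leaf 1100))) (.node (.node (.leaf 219) (.leaf 972)) (.node (.leaf 532) (.leaf 0)))) (.node (.node (.node (.leaf 143) (.leaf 886)) (.node (.leaf 451) (.leaf 0))) (.node (.node (.leaf 305) (.leaf 1036)) (.node (.leaf 635) (.leaf 0)))))))) (.node (.node (.node (.node (.node (.node (.node (.leaf 7) (.leaf 648)) (.node (.leaf 319) (.leaf 1048))) (.node (.node (.leaf 156) (.leaf 910)) (.node (.leaf 466) (.leaf 0)))) (.node (.node (.node (.leaf 80) (.leaf 751)) (.node (.leaf 388) (.leaf 1112))) (.node (.node (.leaf 232) (.leaf 984)) (.node (.leaf 550) (.leaf 0))))) (.node (.node (.node (.node (.leaf 48) (.leaf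 706)) (.node (.leaf 353) (.leaf 1080))) (.node (.node (.leaf 193) (.leaf 951)) (.node (.leaf 505) (.leaf 0)))) (.node (.node (.node (.leaf 121) (.leaf 835)) (.node (.leaf 425) (.leaf 0))) (.node (.node (.leaf 285) (.leaf 1016)) (.node (.leaf 595) (.leaf 0)))))) (.node (.node (.node (.node (.node (.leaf 26) (.leaf 675)) (.node (.leaf 337) (.leaf 1064))) (.node (.node (.leaf 174) (.leaf 934)) (.node (.leaf 486) (.leaf 0)))) (.node (.node (.node (.leaf 100) (.leaf 775)) (.node (.leaf 405) (.leaf 0))) (.node (.node (.leaf 269) (.leaf 1000)) (.node (.leaf 574) (.leaf 0))))) (.node (.node (.node (.node (.leaf 64) (.leaf 728)) (.node (.leaf 369) (.leaf 1096))) (.node (.node (.leaf 215) (.leaf 968)) (.node (.leaf 528) (.leaf 0)))) (.node (.node (.node (.leaf 137) (.leaf 875)) (.node (.leaf 446) (.leaf 0))) (.node (.node (.leaf 301) (.leaf 1032)) (.node (.leaf 629) (.leaf 0))))))) (.node (.node (.node (.node (.node (.node (.leaf 17) (.leaf 666)) (.node (.leaf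 329) (.leaf 1056))) (.node (.node (.leaf 164) (.leaf 926)) (.node (.leaf 476) (.leaf 0)))) (.node (.node (.node (.leaf 91) (.leaf 763)) (.node (.leaf 397) (.leaf 0))) (.node (.node (.leaf 261) (.leaf 992)) (.node (.leaf 560) (.leaf 0))))) (.node (.node (.node (.node (.leaf 56) (.leaf 715)) (.node (.leaf 361) (.leaf 1088))) (.node (.node (.leaf 205) (.leaf 960)) (.node (.leaf 518) (.leaf 0)))) (.node (.node (.node (.leaf 129) (.leaf 854)) (.node (.leaf 436) (.leaf 0))) (.node (.node (.leaf 293) (.leaf 1024)) (.node (.leaf 606) (.leaf 0)))))) (.node (.node (.node (.node (.node (.leaf 40) (.leaf 694)) (.node (.leaf 345) (.leaf 1072))) (.node (.node (.leaf 185) (.leaf 943)) (.node (.leaf 495) (.leaf 0)))) (.node (.node (.node (.leaf 113) (.leaf 811)) (.node (.leaf 415) (.leaf 0))) (.node (.node (.leaf 277) (.leaf 1008)) (.node (.leaf 587) (.leaf 0))))) (.node (.node (.node (.node (.leaf 72) (.leaf 738)) (.node (.leaf 377) (.leaf 1104))) (.node (.node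 (.leaf 224) (.leaf 976)) (.node (.leaf 538) (.leaf 0)))) (.node (.node (.node (.leaf 148) (.leaf 893)) (.node (.leaf 457) (.leaf 0))) (.node (.node (.leaf 309) (.leaf 1040)) (.node (.leaf 640) (.leaf 0)))))))))

def live : Arr (ℕ) :=
  (.node (.node live0 live2) (.node live1 live3))

def edge0 : Arr (ℕ × ℕ) :=
  (.node (.node (.node (.node (.node (.node (.node (.node (.leaf (1, 8)) (.leaf (789, 8367))) (.node (.leaf (375, 3229)) (.leaf (0, 0)))) (.node (.node (.leaf (82, 1731)) (.leaf (0, 0))) (.node (.leaf (778, 7862)) (.leaf (0, 0))))) (.node (.node (.node (.leaf (57, 705)) (.leaf (0, 0))) (.node (.leaf (747, 7538)) (.leaf (0, 0)))) (.node (.node (.leaf (560, 4414)) (.leaf (0, 0))) (.node (.leaf (731, 7340)) (.leaf (0, 0)))))) (.node (.node (.node (.node (.leaf (148, 1000)) (.leaf (0, 0))) (.node (.leaf (459, 3593)) (.leaf (0, 0)))) (.node (.node (.leaf (439, 3436)) (.leaf (0, 0))) (.node (.leaf (400, 6613)) (.leaf (0, 0))))) (.node (.node (.node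 (.leaf (117, 1062)) (.leaf (0, 0))) (.node (.leaf (284, 4439)) (.leaf (0, 0)))) (.node (.node (.leaf (492, 3838)) (.leaf (0, 0))) (.node (.leaf (829, 8458)) (.leaf (0, 0))))))) (.node (.node (.node (.node (.node (.leaf (44, 332)) (.leaf (0, 0))) (.node (.leaf (230, 3415)) (.leaf (0, 0)))) (.node (.node (.leaf (433, 3384)) (.leaf (0, 0))) (.node (.leaf (425, 9430)) (.leaf (0, 0))))) (.node (.node (.node (.leaf (126, 883)) (.leaf (0, 0))) (.node (.leaf (630, 5216)) (.leaf (0, 0)))) (.node (.node (.leaf (325, 2629)) (.leaf (0, 0))) (.node (.leaf (568, 7487)) (.leaf (0, 0)))))) (.node (.node (.node (.node (.leaf (80, 564)) (.leaf (0, 0))) (.node (.leaf (746, 9114)) (.leaf (0, 0)))) (.node (.node (.leaf (339, 8800)) (.leaf (0, 0))) (.node (.leaf (693, 6910)) (.leaf (0, 0))))) (.node (.node (.node (.leaf (290, 2314)) (.leaf (0, 0))) (.node (.leaf (411, 4635)) (.leaf (0, 0)))) (.node (.node (.leaf (253, 3013)) (.leaf (0, 0))) (.node (.leaf (759, 8063)) (.leaf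 (0, 0)))))))) (.node (.node (.node (.node (.node (.node (.leaf (28, 242)) (.leaf (832, 8502))) (.node (.leaf (385, 9012)) (.leaf (0, 0)))) (.node (.node (.leaf (379, 2976)) (.leaf (0, 0))) (.node (.leaf (617, 5187)) (.leaf (0, 0))))) (.node (.node (.node (.leaf (112, 781)) (.leaf (0, 0))) (.node (.leaf (511, 4085)) (.leaf (0, 0)))) (.node (.node (.leaf (140, 2549)) (.leaf (0, 0))) (.node (.leaf (586, 7309)) (.leaf (0, 0)))))) (.node (.node (.node (.node (.leaf (181, 1304)) (.leaf (0, 0))) (.node (.leaf (703, 7030)) (.leaf (0, 0)))) (.node (.node (.leaf (362, 2838)) (.leaf (0, 0))) (.node (.leaf (679, 6720)) (.leaf (0, 0))))) (.node (.node (.node (.leaf (271, 2186)) (.leaf (0, 0))) (.node (.leaf (616, 9306)) (.leaf (0, 0)))) (.node (.node (.leaf (319, 2911)) (.leaf (0, 0))) (.node (.leaf (724, 7887)) (.leaf (0, 0))))))) (.node (.node (.node (.node (.node (.leaf (39, 308)) (.leaf (0, 0))) (.node (.leaf (375, 3501)) (.leaf (0, 0)))) (.node (.node (.leaf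 (213, 1995)) (.leaf (0, 0))) (.node (.leaf (638, 6567)) (.leaf (0, 0))))) (.node (.node (.node (.leaf (145, 975)) (.leaf (0, 0))) (.node (.leaf (285, 4363)) (.leaf (0, 0)))) (.node (.node (.leaf (189, 2727)) (.leaf (0, 0))) (.node (.leaf (513, 7621)) (.leaf (0, 0)))))) (.node (.node (.node (.node (.leaf (198, 1422)) (.leaf (0, 0))) (.node (.leaf (505, 3968)) (.leaf (0, 0)))) (.node (.node (.leaf (393, 3100)) (.leaf (0, 0))) (.node (.leaf (423, 7047)) (.leaf (0, 0))))) (.node (.node (.node (.leaf (395, 3108)) (.leaf (0, 0))) (.node (.leaf (316, 4763)) (.leaf (0, 0)))) (.node (.node (.leaf (392, 3117)) (.leaf (0, 0))) (.node (.leaf (820, 8370)) (.leaf (0, 0))))))))) (.node (.node (.node (.node (.node (.node (.node (.leaf (2, 39)) (.leaf (821, 8424))) (.node (.leaf (232, 3269)) (.leaf (0, 0)))) (.node (.node (.leaf (346, 2969)) (.leaf (0, 0))) (.node (.leaf (510, 9390)) (.leaf (0, 0))))) (.node (.node (.node (.leaf (238, 1964)) (.leaf (0, 0))) (.node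 (.leaf (261, 4041)) (.leaf (0, 0)))) (.node (.node (.leaf (388, 3038)) (.leaf (0, 0))) (.node (.leaf (746, 7532)) (.leaf (0, 0)))))) (.node (.node (.node (.node (.leaf (109, 740)) (.leaf (0, 0))) (.node (.leaf (236, 3675)) (.leaf (0, 0)))) (.node (.node (.leaf (477, 3750)) (.leaf (0, 0))) (.node (.leaf (675, 6698)) (.leaf (0, 0))))) (.node (.node (.node (.leaf (166, 1164)) (.leaf (0, 0))) (.node (.leaf (472, 5971)) (.leaf (0, 0)))) (.node (.node (.leaf (175, 2863)) (.leaf (0, 0))) (.node (.leaf (788, 7988)) (.leaf (0, 0))))))) (.node (.node (.node (.node (.node (.leaf (80, 566)) (.leaf (0, 0))) (.node (.leaf (217, 3451)) (.leaf (0, 0)))) (.node (.node (.leaf (106, 1945)) (.leaf (0, 0))) (.node (.leaf (691, 6884)) (.leaf (0, 0))))) (.node (.node (.node (.leaf (299, 2374)) (.leaf (0, 0))) (.node (.leaf (422, 4311)) (.leaf (0, 0)))) (.node (.node (.leaf (555, 8894)) (.leaf (0, 0))) (.node (.leaf (594, 7559)) (.leaf (0, 0)))))) (.node (.node (.node (.node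 (.leaf (97, 674)) (.leaf (0, 0))) (.node (.leaf (677, 6711)) (.leaf (0, 0)))) (.node (.node (.leaf (120, 2301)) (.leaf (0, 0))) (.node (.leaf (695, 6965)) (.leaf (0, 0))))) (.node (.node (.node (.leaf (386, 3020)) (.leaf (0, 0))) (.node (.leaf (609, 9340)) (.leaf (0, 0)))) (.node (.node (.leaf (392, 3088)) (.leaf (0, 0))) (.node (.leaf (553, 8147)) (.leaf (0, 0)))))))) (.node (.node (.node (.node (.node (.node (.leaf (24, 164)) (.leaf (839, 8576))) (.node (.leaf (282, 3349)) (.leaf (0, 0)))) (.node (.node (.leaf (86, 1851)) (.leaf (0, 0))) (.node (.leaf (729, 7310)) (.leaf (0, 0))))) (.node (.node (.node (.leaf (290, 2322)) (.leaf (0, 0))) (.node (.leaf (486, 4171)) (.leaf (0, 0)))) (.node (.node (.leaf (597, 4738)) (.leaf (0, 0))) (.node (.leaf (610, 7407)) (.leaf (0, 0)))))) (.node (.node (.node (.node (.leaf (52, 465)) (.leaf (0, 0))) (.node (.leaf (493, 5504)) (.leaf (0, 0)))) (.node (.node (.leaf (153, 2221)) (.leaf (0, 0))) (.node (.leaf (663,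 6793)) (.leaf (0, 0))))) (.node (.node (.node (.leaf (173, 1238)) (.leaf (0, 0))) (.node (.leaf (543, 4583)) (.leaf (0, 0)))) (.node (.node (.leaf (337, 8946)) (.leaf (0, 0))) (.node (.leaf (809, 8260)) (.leaf (0, 0))))))) (.node (.node (.node (.node (.node (.leaf (36, 335)) (.leaf (0, 0))) (.node (.leaf (657, 6542)) (.leaf (0, 0)))) (.node (.node (.leaf (485, 3790)) (.leaf (0, 0))) (.node (.leaf (582, 6762)) (.leaf (0, 0))))) (.node (.node (.node (.leaf (220, 1822)) (.leaf (0, 0))) (.node (.leaf (340, 9282)) (.leaf (0, 0)))) (.node (.node (.leaf (501, 4279)) (.leaf (0, 0))) (.node (.leaf (768, 7742)) (.leaf (0, 0)))))) (.node (.node (.node (.node (.leaf (105, 722)) (.leaf (0, 0))) (.node (.leaf (259, 3971)) (.leaf (0, 0)))) (.node (.node (.leaf (181, 2389)) (.leaf (0, 0))) (.node (.leaf (561, 9472)) (.leaf (0, 0))))) (.node (.node (.node (.leaf (88, 1419)) (.leaf (0, 0))) (.node (.leaf (323, 4913)) (.leaf (0, 0)))) (.node (.node (.leaf (404, 3168))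 (.leaf (0, 0))) (.node (.leaf (615, 8285)) (.leaf (0, 0))))))))))

def edge1 : Arr (ℕ × ℕ) :=
  (.node (.node (.node (.node (.node (.node (.node (.node (.leaf (0, 0)) (.leaf (763, 8359))) (.node (.leaf (200, 3225)) (.leaf (0, 0)))) (.node (.node (.leaf (163, 1733)) (.leaf (0, 0))) (.node (.leaf (598, 5035)) (.leaf (0, 0))))) (.node (.node (.node (.leaf (90, 708)) (.leaf (0, 0))) (.node (.leaf (511, 4011)) (.leaf (0, 0)))) (.node (.node (.leaf (376, 2948)) (.leaf (0, 0))) (.node (.leaf (642, 7181)) (.leaf (0, 0)))))) (.node (.node (.node (.node (.leaf (70, 462)) (.leaf (0, 0))) (.node (.leaf (310, 3599)) (.leaf (0, 0)))) (.node (.node (.leaf (270, 2178)) (.leaf (0, 0))) (.node (.leaf (646, 6619)) (.leaf (0, 0))))) (.node (.node (.node (.leaf (170, 1202)) (.leaf (0, 0))) (.node (.leaf (449, 9292)) (.leaf (0, 0)))) (.node (.node (.leaf (357, 8916)) (.leaf (0, 0))) (.node (.leaf (788, 7996)) (.leaf (0, 0))))))) (.node (.node (.node (.node (.node (.leaf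 (35, 296)) (.leaf (0, 0))) (.node (.leaf (464, 3614)) (.leaf (0, 0)))) (.node (.node (.leaf (174, 8756)) (.leaf (0, 0))) (.node (.leaf (639, 5335)) (.leaf (0, 0))))) (.node (.node (.node (.leaf (134, 1012)) (.leaf (0, 0))) (.node (.leaf (493, 4257)) (.leaf (0, 0)))) (.node (.node (.leaf (435, 3412)) (.leaf (0, 0))) (.node (.leaf (446, 7483)) (.leaf (0, 0)))))) (.node (.node (.node (.node (.leaf (30, 523)) (.leaf (0, 0))) (.node (.leaf (251, 3798)) (.leaf (0, 0)))) (.node (.node (.leaf (428, 3350)) (.leaf (0, 0))) (.node (.leaf (398, 6883)) (.leaf (0, 0))))) (.node (.node (.node (.leaf (202, 1676)) (.leaf (0, 0))) (.node (.leaf (760, 7678)) (.leaf (0, 0)))) (.node (.node (.leaf (296, 3015)) (.leaf (0, 0))) (.node (.leaf (796, 8094)) (.leaf (0, 0)))))))) (.node (.node (.node (.node (.node (.node (.leaf (4, 87)) (.leaf (766, 8501))) (.node (.leaf (529, 6246)) (.leaf (0, 0)))) (.node (.node (.leaf (433, 3390)) (.leaf (0, 0))) (.node (.leaf (650, 5458))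 (.leaf (0, 0))))) (.node (.node (.node (.leaf (119, 812)) (.leaf (0, 0))) (.node (.leaf (742, 7478)) (.leaf (0, 0)))) (.node (.node (.leaf (605, 4824)) (.leaf (0, 0))) (.node (.leaf (798, 8128)) (.leaf (0, 0)))))) (.node (.node (.node (.node (.leaf (43, 429)) (.leaf (0, 0))) (.node (.leaf (474, 3719)) (.leaf (0, 0)))) (.node (.node (.leaf (266, 8794)) (.leaf (0, 0))) (.node (.leaf (492, 6717)) (.leaf (0, 0))))) (.node (.node (.node (.leaf (354, 2780)) (.leaf (0, 0))) (.node (.leaf (573, 4529)) (.leaf (0, 0)))) (.node (.node (.leaf (603, 4808)) (.leaf (0, 0))) (.node (.leaf (821, 8384)) (.leaf (0, 0))))))) (.node (.node (.node (.node (.node (.leaf (40, 312)) (.leaf (0, 0))) (.node (.leaf (452, 3518)) (.leaf (0, 0)))) (.node (.node (.leaf (295, 2346)) (.leaf (0, 0))) (.node (.leaf (629, 6513)) (.leaf (0, 0))))) (.node (.node (.node (.leaf (305, 2428)) (.leaf (0, 0))) (.node (.leaf (551, 4364)) (.leaf (0, 0)))) (.node (.node (.leaf (164, 2721)) (.leaf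 (0, 0))) (.node (.leaf (760, 7676)) (.leaf (0, 0)))))) (.node (.node (.node (.node (.leaf (202, 8680)) (.leaf (0, 0))) (.node (.leaf (776, 7830)) (.leaf (0, 0)))) (.node (.node (.leaf (286, 2338)) (.leaf (0, 0))) (.node (.leaf (442, 7053)) (.leaf (0, 0))))) (.node (.node (.node (.leaf (88, 1383)) (.leaf (0, 0))) (.node (.leaf (597, 4761)) (.leaf (0, 0)))) (.node (.node (.leaf (578, 5980)) (.leaf (0, 0))) (.node (.leaf (624, 8217)) (.leaf (0, 0))))))))) (.node (.node (.node (.node (.node (.node (.node (.leaf (9, 56)) (.leaf (824, 8417))) (.node (.leaf (729, 7302)) (.leaf (0, 0)))) (.node (.node (.leaf (429, 3352)) (.leaf (0, 0))) (.node (.leaf (620, 5131)) (.leaf (0, 0))))) (.node (.node (.node (.leaf (198, 1717)) (.leaf (0, 0))) (.node (.leaf (470, 9190)) (.leaf (0, 0)))) (.node (.node (.leaf (192, 2507)) (.leaf (0, 0))) (.node (.leaf (525, 7241)) (.leaf (0, 0)))))) (.node (.node (.node (.node (.leaf (58, 397)) (.leaf (0, 0))) (.node (.leaf (468,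 3676)) (.leaf (0, 0)))) (.node (.node (.leaf (519, 4042)) (.leaf (0, 0))) (.node (.leaf (783, 7930)) (.leaf (0, 0))))) (.node (.node (.node (.leaf (173, 1242)) (.leaf (0, 0))) (.node (.leaf (370, 9298)) (.leaf (0, 0)))) (.node (.node (.leaf (261, 8920)) (.leaf (0, 0))) (.node (.leaf (806, 8218)) (.leaf (0, 0))))))) (.node (.node (.node (.node (.node (.leaf (32, 266)) (.leaf (0, 0))) (.node (.leaf (727, 7286)) (.leaf (0, 0)))) (.node (.node (.leaf (263, 2122)) (.leaf (0, 0))) (.node (.leaf (347, 5421)) (.leaf (0, 0))))) (.node (.node (.node (.leaf (302, 2402)) (.leaf (0, 0))) (.node (.leaf (348, 9246)) (.leaf (0, 0)))) (.node (.node (.leaf (406, 3190)) (.leaf (0, 0))) (.node (.leaf (662, 7566)) (.leaf (0, 0)))))) (.node (.node (.node (.node (.leaf (118, 802)) (.leaf (0, 0))) (.node (.leaf (480, 5505)) (.leaf (0, 0)))) (.node (.node (.leaf (231, 2303)) (.leaf (0, 0))) (.node (.leaf (426, 6959)) (.leaf (0, 0))))) (.node (.node (.node (.leaf (184, 1327))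 (.leaf (0, 0))) (.node (.leaf (648, 9342)) (.leaf (0, 0)))) (.node (.node (.leaf (399, 3136)) (.leaf (0, 0))) (.node (.leaf (623, 8149)) (.leaf (0, 0)))))))) (.node (.node (.node (.node (.node (.node (.leaf (14, 122)) (.leaf (839, 8580))) (.node (.leaf (229, 3355)) (.leaf (0, 0)))) (.node (.node (.leaf (455, 3550)) (.leaf (0, 0))) (.node (.leaf (576, 9422)) (.leaf (0, 0))))) (.node (.node (.node (.leaf (187, 1339)) (.leaf (0, 0))) (.node (.leaf (723, 7244)) (.leaf (0, 0)))) (.node (.node (.leaf (612, 5014)) (.leaf (0, 0))) (.node (.leaf (727, 7413)) (.leaf (0, 0)))))) (.node (.node (.node (.node (.leaf (110, 8632)) (.leaf (0, 0))) (.node (.leaf (479, 3765)) (.leaf (0, 0)))) (.node (.node (.leaf (246, 2223)) (.leaf (0, 0))) (.node (.leaf (388, 6801)) (.leaf (0, 0))))) (.node (.node (.node (.leaf (364, 2854)) (.leaf (0, 0))) (.node (.leaf (649, 6465)) (.leaf (0, 0)))) (.node (.node (.leaf (297, 2963)) (.leaf (0, 0))) (.node (.leaf (629, 7981)) (.leaf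 (0, 0))))))) (.node (.node (.node (.node (.node (.leaf (72, 8608)) (.leaf (0, 0))) (.node (.leaf (224, 3549)) (.leaf (0, 0)))) (.node (.node (.leaf (248, 2039)) (.leaf (0, 0))) (.node (.leaf (775, 7822)) (.leaf (0, 0))))) (.node (.node (.node (.leaf (87, 996)) (.leaf (0, 0))) (.node (.leaf (545, 5689)) (.leaf (0, 0)))) (.node (.node (.leaf (271, 2775)) (.leaf (0, 0))) (.node (.leaf (602, 7695)) (.leaf (0, 0)))))) (.node (.node (.node (.node (.leaf (141, 956)) (.leaf (0, 0))) (.node (.leaf (618, 6364)) (.leaf (0, 0)))) (.node (.node (.leaf (540, 4288)) (.leaf (0, 0))) (.node (.leaf (784, 7938)) (.leaf (0, 0))))) (.node (.node (.node (.leaf (70, 1421)) (.leaf (0, 0))) (.node (.leaf (583, 6021)) (.leaf (0, 0)))) (.node (.node (.leaf (607, 8988)) (.leaf (0, 0))) (.node (.leaf (797, 8289)) (.leaf (0, 0))))))))))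

def edge2 : Arr (ℕ × ℕ) :=
  (.node (.node (.node (.node (.node (.node (.node (.node (.leaf (0, 2)) (.leaf (828, 8448))) (.node (.leaf (298, 3231)) (.leaf (0, 0)))) (.node (.node (.leaf (419, 3290)) (.leaf (0, 0))) (.node (.leaf (718, 7202)) (.leaf (0, 0))))) (.node (.node (.node (.leaf (112, 763)) (.leaf (0, 0))) (.node (.leaf (594, 4688)) (.leaf (0, 0)))) (.node (.node (.leaf (557, 4392)) (.leaf (0, 0))) (.node (.leaf (676, 7191)) (.leaf (0, 0)))))) (.node (.node (.node (.node (.leaf (111, 8612)) (.leaf (0, 0))) (.node (.leaf (647, 6302)) (.leaf (0, 0)))) (.node (.node (.leaf (361, 2822)) (.leaf (0, 0))) (.node (.leaf (398, 6627)) (.leaf (0, 0))))) (.node (.node (.node (.leaf (75, 8724)) (.leaf (0, 0))) (.node (.leaf (494, 9294)) (.leaf (0, 0)))) (.node (.node (.leaf (672, 6673)) (.leaf (0, 0))) (.node (.leaf (819, 8360)) (.leaf (0, 0))))))) (.node (.node (.node (.node (.node (.leaf (8, 177)) (.leaf (0, 0))) (.node (.leaf (365, 9034)) (.leaf (0,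 0)))) (.node (.node (.leaf (429, 3360)) (.leaf (0, 0))) (.node (.leaf (701, 7013)) (.leaf (0, 0))))) (.node (.node (.node (.leaf (300, 2380)) (.leaf (0, 0))) (.node (.leaf (769, 7752)) (.leaf (0, 0)))) (.node (.node (.leaf (363, 2844)) (.leaf (0, 0))) (.node (.leaf (648, 7485)) (.leaf (0, 0)))))) (.node (.node (.node (.node (.leaf (191, 8648)) (.leaf (0, 0))) (.node (.leaf (499, 3888)) (.leaf (0, 0)))) (.node (.node (.leaf (115, 2271)) (.leaf (0, 0))) (.node (.leaf (440, 6891)) (.leaf (0, 0))))) (.node (.node (.node (.leaf (63, 1278)) (.leaf (0, 0))) (.node (.leaf (305, 4661)) (.leaf (0, 0)))) (.node (.node (.leaf (584, 4592)) (.leaf (0, 0))) (.node (.leaf (521, 8071)) (.leaf (0, 0)))))))) (.node (.node (.node (.node (.node (.node (.leaf (13, 88)) (.leaf (833, 8506))) (.node (.leaf (423, 3305)) (.leaf (0, 0)))) (.node (.node (.leaf (85, 1811)) (.leaf (0, 0))) (.node (.leaf (747, 7536)) (.leaf (0, 0))))) (.node (.node (.node (.leaf (274, 2210)) (.leaf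 (0, 0))) (.node (.leaf (481, 4091)) (.leaf (0, 0)))) (.node (.node (.leaf (240, 2551)) (.leaf (0, 0))) (.node (.leaf (419, 9484)) (.leaf (0, 0)))))) (.node (.node (.node (.node (.leaf (46, 431)) (.leaf (0, 0))) (.node (.leaf (600, 6408)) (.leaf (0, 0)))) (.node (.node (.leaf (169, 2169)) (.leaf (0, 0))) (.node (.leaf (683, 6782)) (.leaf (0, 0))))) (.node (.node (.node (.leaf (344, 2712)) (.leaf (0, 0))) (.node (.leaf (585, 9308)) (.leaf (0, 0)))) (.node (.node (.leaf (377, 8942)) (.leaf (0, 0))) (.node (.leaf (742, 7899)) (.leaf (0, 0))))))) (.node (.node (.node (.node (.node (.leaf (92, 646)) (.leaf (0, 0))) (.node (.leaf (322, 9052)) (.leaf (0, 0)))) (.node (.node (.leaf (127, 2001)) (.leaf (0, 0))) (.node (.leaf (538, 6517)) (.leaf (0, 0))))) (.node (.node (.node (.leaf (96, 957)) (.leaf (0, 0))) (.node (.leaf (308, 4359)) (.leaf (0, 0)))) (.node (.node (.leaf (196, 2729)) (.leaf (0, 0))) (.node (.leaf (761, 7688)) (.leaf (0, 0)))))) (.node (.node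 (.node (.node (.leaf (179, 1680)) (.leaf (0, 0))) (.node (.leaf (257, 3891)) (.leaf (0, 0)))) (.node (.node (.leaf (389, 3064)) (.leaf (0, 0))) (.node (.leaf (733, 7358)) (.leaf (0, 0))))) (.node (.node (.node (.leaf (152, 1385)) (.leaf (0, 0))) (.node (.leaf (793, 8058)) (.leaf (0, 0)))) (.node (.node (.leaf (398, 3132)) (.leaf (0, 0))) (.node (.leaf (773, 8223)) (.leaf (0, 0))))))))) (.node (.node (.node (.node (.node (.node (.node (.leaf (6, 37)) (.leaf (764, 8427))) (.node (.leaf (685, 6804)) (.leaf (0, 0)))) (.node (.node (.leaf (431, 3376)) (.leaf (0, 0))) (.node (.leaf (630, 9392)) (.leaf (0, 0))))) (.node (.node (.node (.leaf (101, 743)) (.leaf (0, 0))) (.node (.leaf (520, 4051)) (.leaf (0, 0)))) (.node (.node (.leaf (183, 2511)) (.leaf (0, 0))) (.node (.leaf (448, 9482)) (.leaf (0, 0)))))) (.node (.node (.node (.node (.leaf (58, 8620)) (.leaf (0, 0))) (.node (.leaf (469, 3682)) (.leaf (0, 0)))) (.node (.node (.leaf (267, 2154)) (.leaf (0,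 0))) (.node (.leaf (677, 6706)) (.leaf (0, 0))))) (.node (.node (.node (.leaf (168, 1170)) (.leaf (0, 0))) (.node (.leaf (637, 5312)) (.leaf (0, 0)))) (.node (.node (.leaf (174, 2871)) (.leaf (0, 0))) (.node (.leaf (484, 7815)) (.leaf (0, 0))))))) (.node (.node (.node (.node (.node (.leaf (78, 526)) (.leaf (0, 0))) (.node (.leaf (449, 9046)) (.leaf (0, 0)))) (.node (.node (.leaf (207, 1949)) (.leaf (0, 0))) (.node (.leaf (605, 9438)) (.leaf (0, 0))))) (.node (.node (.node (.leaf (149, 1016)) (.leaf (0, 0))) (.node (.leaf (644, 9248)) (.leaf (0, 0)))) (.node (.node (.leaf (636, 5308)) (.leaf (0, 0))) (.node (.leaf (828, 8454)) (.leaf (0, 0)))))) (.node (.node (.node (.node (.leaf (35, 589)) (.leaf (0, 0))) (.node (.leaf (648, 5440)) (.leaf (0, 0)))) (.node (.node (.leaf (184, 2304)) (.leaf (0, 0))) (.node (.leaf (731, 7328)) (.leaf (0, 0))))) (.node (.node (.node (.leaf (287, 2296)) (.leaf (0, 0))) (.node (.leaf (308, 4695)) (.leaf (0, 0)))) (.node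 (.node (.leaf (195, 3077)) (.leaf (0, 0))) (.node (.leaf (808, 8244)) (.leaf (0, 0)))))))) (.node (.node (.node (.node (.node (.node (.leaf (27, 180)) (.leaf (838, 8567))) (.node (.leaf (390, 3357)) (.leaf (0, 0)))) (.node (.node (.leaf (444, 3480)) (.leaf (0, 0))) (.node (.leaf (679, 9424)) (.leaf (0, 0))))) (.node (.node (.node (.leaf (117, 8704)) (.leaf (0, 0))) (.node (.leaf (265, 4173)) (.leaf (0, 0)))) (.node (.node (.leaf (332, 2630)) (.leaf (0, 0))) (.node (.leaf (633, 7419)) (.leaf (0, 0)))))) (.node (.node (.node (.node (.leaf (52, 467)) (.leaf (0, 0))) (.node (.leaf (488, 3810)) (.leaf (0, 0)))) (.node (.node (.leaf (138, 2227)) (.leaf (0, 0))) (.node (.leaf (546, 6813)) (.leaf (0, 0))))) (.node (.node (.node (.leaf (160, 1243)) (.leaf (0, 0))) (.node (.leaf (572, 4587)) (.leaf (0, 0)))) (.node (.node (.leaf (244, 8948)) (.leaf (0, 0))) (.node (.leaf (503, 7983)) (.leaf (0, 0))))))) (.node (.node (.node (.node (.node (.leaf (120, 822))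 (.leaf (0, 0))) (.node (.leaf (450, 3547)) (.leaf (0, 0)))) (.node (.node (.leaf (257, 2090)) (.leaf (0, 0))) (.node (.leaf (655, 6768)) (.leaf (0, 0))))) (.node (.node (.node (.leaf (51, 998)) (.leaf (0, 0))) (.node (.leaf (594, 4684)) (.leaf (0, 0)))) (.node (.node (.leaf (539, 4268)) (.leaf (0, 0))) (.node (.leaf (787, 7974)) (.leaf (0, 0)))))) (.node (.node (.node (.node (.leaf (107, 728)) (.leaf (0, 0))) (.node (.leaf (651, 6498)) (.leaf (0, 0)))) (.node (.node (.leaf (309, 2458)) (.leaf (0, 0))) (.node (.leaf (655, 7113)) (.leaf (0, 0))))) (.node (.node (.node (.leaf (151, 1415)) (.leaf (0, 0))) (.node (.leaf (368, 6015)) (.leaf (0, 0)))) (.node (.node (.leaf (369, 8990)) (.leaf (0, 0))) (.node (.leaf (836, 8550)) (.leaf (0, 0))))))))))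

def edge3 : Arr (ℕ × ℕ) :=
  (.node (.node (.node (.node (.node (.node (.node (.node (.leaf (0, 4)) (.leaf (725, 8363))) (.node (.leaf (601, 9002)) (.leaf (0, 0)))) (.node (.node (.leaf (418, 3274)) (.leaf (0, 0))) (.node (.leaf (814, 8294)) (.leaf (0, 0))))) (.node (.node (.node (.leaf (255, 2078)) (.leaf (0, 0))) (.node (.leaf (505, 5682)) (.leaf (0, 0)))) (.node (.node (.leaf (550, 4360)) (.leaf (0, 0))) (.node (.leaf (636, 7189)) (.leaf (0, 0)))))) (.node (.node (.node (.node (.leaf (70, 468)) (.leaf (0, 0))) (.node (.leaf (556, 9086)) (.leaf (0, 0)))) (.node (.node (.leaf (213, 2082)) (.leaf (0, 0))) (.node (.leaf (678, 6714)) (.leaf (0, 0))))) (.node (.node (.node (.leaf (246, 2022)) (.leaf (0, 0))) (.node (.leaf (667, 6642)) (.leaf (0, 0)))) (.node (.node (.leaf (682, 6752)) (.leaf (0, 0))) (.node (.leaf (754, 7749)) (.leaf (0, 0))))))) (.node (.node (.node (.node (.node (.leaf (67, 442)) (.leaf (0, 0))) (.node (.leaf (584, 4600)) (.leaf (0,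 0)))) (.node (.node (.leaf (91, 1901)) (.leaf (0, 0))) (.node (.leaf (776, 7834)) (.leaf (0, 0))))) (.node (.node (.node (.leaf (303, 2416)) (.leaf (0, 0))) (.node (.leaf (653, 6516)) (.leaf (0, 0)))) (.node (.node (.leaf (253, 2634)) (.leaf (0, 0))) (.node (.leaf (740, 7495)) (.leaf (0, 0)))))) (.node (.node (.node (.node (.leaf (69, 8650)) (.leaf (0, 0))) (.node (.leaf (476, 9116)) (.leaf (0, 0)))) (.node (.node (.leaf (559, 4408)) (.leaf (0, 0))) (.node (.leaf (472, 6887)) (.leaf (0, 0))))) (.node (.node (.node (.leaf (209, 1762)) (.leaf (0, 0))) (.node (.leaf (590, 4662)) (.leaf (0, 0)))) (.node (.node (.leaf (585, 4604)) (.leaf (0, 0))) (.node (.leaf (620, 8075)) (.leaf (0, 0)))))))) (.node (.node (.node (.node (.node (.node (.leaf (12, 90)) (.leaf (834, 8514))) (.node (.leaf (704, 7046)) (.leaf (0, 0)))) (.node (.node (.leaf (392, 3090)) (.leaf (0, 0))) (.node (.leaf (629, 5213)) (.leaf (0, 0))))) (.node (.node (.node (.leaf (208, 1747)) (.leaf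 (0, 0))) (.node (.leaf (531, 4168)) (.leaf (0, 0)))) (.node (.node (.leaf (211, 8836)) (.leaf (0, 0))) (.node (.leaf (740, 7456)) (.leaf (0, 0)))))) (.node (.node (.node (.node (.leaf (119, 808)) (.leaf (0, 0))) (.node (.leaf (643, 6388)) (.leaf (0, 0)))) (.node (.node (.leaf (141, 2175)) (.leaf (0, 0))) (.node (.leaf (634, 9452)) (.leaf (0, 0))))) (.node (.node (.node (.leaf (56, 1169)) (.leaf (0, 0))) (.node (.leaf (798, 8120)) (.leaf (0, 0)))) (.node (.node (.leaf (586, 6024)) (.leaf (0, 0))) (.node (.leaf (567, 7901)) (.leaf (0, 0))))))) (.node (.node (.node (.node (.node (.leaf (93, 653)) (.leaf (0, 0))) (.node (.leaf (449, 3508)) (.leaf (0, 0)))) (.node (.node (.leaf (120, 1997)) (.leaf (0, 0))) (.node (.leaf (627, 6519)) (.leaf (0, 0))))) (.node (.node (.node (.leaf (234, 1918)) (.leaf (0, 0))) (.node (.leaf (546, 5693)) (.leaf (0, 0)))) (.node (.node (.leaf (211, 2968)) (.leaf (0, 0))) (.node (.leaf (590, 7623)) (.leaf (0, 0)))))) (.node (.node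 (.node (.node (.leaf (215, 1790)) (.leaf (0, 0))) (.node (.leaf (488, 3887)) (.leaf (0, 0)))) (.node (.node (.leaf (377, 2958)) (.leaf (0, 0))) (.node (.leaf (424, 7051)) (.leaf (0, 0))))) (.node (.node (.node (.leaf (227, 1866)) (.leaf (0, 0))) (.node (.leaf (407, 9354)) (.leaf (0, 0)))) (.node (.node (.leaf (586, 4610)) (.leaf (0, 0))) (.node (.leaf (674, 8237)) (.leaf (0, 0))))))))) (.node (.node (.node (.node (.node (.node (.node (.leaf (23, 154)) (.leaf (831, 8494))) (.node (.leaf (646, 6467)) (.leaf (0, 0)))) (.node (.node (.leaf (245, 2016)) (.leaf (0, 0))) (.node (.leaf (331, 9394)) (.leaf (0, 0))))) (.node (.node (.node (.leaf (41, 745)) (.leaf (0, 0))) (.node (.leaf (643, 5687)) (.leaf (0, 0)))) (.node (.node (.leaf (396, 3114)) (.leaf (0, 0))) (.node (.leaf (726, 7274)) (.leaf (0, 0)))))) (.node (.node (.node (.node (.leaf (119, 810)) (.leaf (0, 0))) (.node (.leaf (752, 7592)) (.leaf (0, 0)))) (.node (.node (.leaf (237, 2123)) (.leaf (0,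 0))) (.node (.leaf (669, 6674)) (.leaf (0, 0))))) (.node (.node (.node (.leaf (169, 1178)) (.leaf (0, 0))) (.node (.leaf (465, 4491)) (.leaf (0, 0)))) (.node (.node (.leaf (366, 2872)) (.leaf (0, 0))) (.node (.leaf (561, 7821)) (.leaf (0, 0))))))) (.node (.node (.node (.node (.node (.leaf (13, 271)) (.leaf (0, 0))) (.node (.leaf (704, 7052)) (.leaf (0, 0)))) (.node (.node (.leaf (250, 2046)) (.leaf (0, 0))) (.node (.leaf (404, 5435)) (.leaf (0, 0))))) (.node (.node (.node (.leaf (47, 919)) (.leaf (0, 0))) (.node (.leaf (277, 4313)) (.leaf (0, 0)))) (.node (.node (.leaf (556, 8896)) (.leaf (0, 0))) (.node (.leaf (626, 7562)) (.leaf (0, 0)))))) (.node (.node (.node (.node (.leaf (66, 585)) (.leaf (0, 0))) (.node (.leaf (494, 3852)) (.leaf (0, 0)))) (.node (.node (.leaf (370, 8804)) (.leaf (0, 0))) (.node (.leaf (697, 6967)) (.leaf (0, 0))))) (.node (.node (.node (.leaf (312, 2490)) (.leaf (0, 0))) (.node (.leaf (592, 4693)) (.leaf (0, 0)))) (.node (.node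 (.leaf (341, 3079)) (.leaf (0, 0))) (.node (.leaf (812, 8278)) (.leaf (0, 0)))))))) (.node (.node (.node (.node (.node (.node (.leaf (24, 158)) (.leaf (837, 8582))) (.node (.leaf (218, 3363)) (.leaf (0, 0)))) (.node (.node (.leaf (143, 8754)) (.leaf (0, 0))) (.node (.leaf (406, 5303)) (.leaf (0, 0))))) (.node (.node (.node (.leaf (121, 829)) (.leaf (0, 0))) (.node (.leaf (606, 9222)) (.leaf (0, 0)))) (.node (.node (.leaf (234, 2599)) (.leaf (0, 0))) (.node (.leaf (464, 7411)) (.leaf (0, 0)))))) (.node (.node (.node (.node (.leaf (76, 518)) (.leaf (0, 0))) (.node (.leaf (717, 7182)) (.leaf (0, 0)))) (.node (.node (.leaf (333, 2639)) (.leaf (0, 0))) (.node (.leaf (440, 6803)) (.leaf (0, 0))))) (.node (.node (.node (.leaf (233, 1908)) (.leaf (0, 0))) (.node (.leaf (689, 6854)) (.leaf (0, 0)))) (.node (.node (.leaf (441, 3448)) (.leaf (0, 0))) (.node (.leaf (694, 7977)) (.leaf (0, 0))))))) (.node (.node (.node (.node (.node (.leaf (76, 8610)) (.leaf (0,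 0))) (.node (.leaf (559, 4410)) (.leaf (0, 0)))) (.node (.node (.leaf (279, 2248)) (.leaf (0, 0))) (.node (.leaf (815, 8308)) (.leaf (0, 0))))) (.node (.node (.node (.leaf (198, 1416)) (.leaf (0, 0))) (.node (.leaf (558, 4400)) (.leaf (0, 0)))) (.node (.node (.leaf (351, 8910)) (.leaf (0, 0))) (.node (.leaf (592, 9492)) (.leaf (0, 0)))))) (.node (.node (.node (.node (.leaf (108, 734)) (.leaf (0, 0))) (.node (.leaf (754, 7612)) (.leaf (0, 0)))) (.node (.node (.leaf (187, 2396)) (.leaf (0, 0))) (.node (.leaf (630, 7125)) (.leaf (0, 0))))) (.node (.node (.node (.leaf (322, 8736)) (.leaf (0, 0))) (.node (.leaf (384, 6019)) (.leaf (0, 0)))) (.node (.node (.leaf (365, 8992)) (.leaf (0, 0))) (.node (.leaf (810, 8291)) (.leaf (0, 0))))))))))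

def edge4 : Arr (ℕ × ℕ) :=
  (.node (.node (.node (.node (.node (.node (.node (.node (.leaf (0, 6)) (.leaf (661, 8373))) (.node (.leaf (458, 3582)) (.leaf (0, 0)))) (.node (.node (.leaf (422, 3300)) (.leaf (0, 0))) (.node (.leaf (612, 5039)) (.leaf (0, 0))))) (.node (.node (.node (.leaf (102, 711)) (.leaf (0, 0))) (.node (.leaf (517, 4035)) (.leaf (0, 0)))) (.node (.node (.leaf (132, 2453)) (.leaf (0, 0))) (.node (.leaf (411, 7185)) (.leaf (0, 0)))))) (.node (.node (.node (.node (.leaf (20, 375)) (.leaf (0, 0))) (.node (.leaf (496, 6298)) (.leaf (0, 0)))) (.node (.node (.leaf (272, 2196)) (.leaf (0, 0))) (.node (.leaf (684, 6786)) (.leaf (0, 0))))) (.node (.node (.node (.leaf (170, 1198)) (.leaf (0, 0))) (.node (.leaf (722, 7236)) (.leaf (0, 0)))) (.node (.node (.leaf (360, 2814)) (.leaf (0, 0))) (.node (.leaf (715, 7745)) (.leaf (0, 0))))))) (.node (.node (.node (.node (.node (.leaf (22, 179)) (.leaf (0, 0))) (.node (.leaf (332, 9036)) (.leaf (0,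 0)))) (.node (.node (.leaf (288, 2302)) (.leaf (0, 0))) (.node (.leaf (636, 5341)) (.leaf (0, 0))))) (.node (.node (.node (.leaf (299, 2378)) (.leaf (0, 0))) (.node (.leaf (617, 5060)) (.leaf (0, 0)))) (.node (.node (.leaf (144, 2636)) (.leaf (0, 0))) (.node (.leaf (536, 7491)) (.leaf (0, 0)))))) (.node (.node (.node (.node (.leaf (202, 1538)) (.leaf (0, 0))) (.node (.leaf (263, 3803)) (.leaf (0, 0)))) (.node (.node (.leaf (307, 2448)) (.leaf (0, 0))) (.node (.leaf (452, 9464)) (.leaf (0, 0))))) (.node (.node (.node (.leaf (300, 2382)) (.leaf (0, 0))) (.node (.leaf (591, 4668)) (.leaf (0, 0)))) (.node (.node (.leaf (489, 3830)) (.leaf (0, 0))) (.node (.leaf (755, 8073)) (.leaf (0, 0)))))))) (.node (.node (.node (.node (.node (.node (.leaf (33, 272)) (.leaf (832, 8504))) (.node (.leaf (277, 9014)) (.leaf (0, 0)))) (.node (.node (.leaf (211, 1812)) (.leaf (0, 0))) (.node (.leaf (625, 6351)) (.leaf (0, 0))))) (.node (.node (.node (.leaf (49, 783)) (.leaf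 (0, 0))) (.node (.leaf (542, 6463)) (.leaf (0, 0)))) (.node (.node (.leaf (319, 2547)) (.leaf (0, 0))) (.node (.leaf (737, 7420)) (.leaf (0, 0)))))) (.node (.node (.node (.node (.leaf (136, 927)) (.leaf (0, 0))) (.node (.leaf (534, 9102)) (.leaf (0, 0)))) (.node (.node (.leaf (362, 2832)) (.leaf (0, 0))) (.node (.leaf (684, 6790)) (.leaf (0, 0))))) (.node (.node (.node (.leaf (357, 2806)) (.leaf (0, 0))) (.node (.leaf (632, 9310)) (.leaf (0, 0)))) (.node (.node (.leaf (663, 6588)) (.leaf (0, 0))) (.node (.leaf (719, 7897)) (.leaf (0, 0))))))) (.node (.node (.node (.node (.node (.leaf (35, 311)) (.leaf (0, 0))) (.node (.leaf (445, 3503)) (.leaf (0, 0)))) (.node (.node (.leaf (378, 8764)) (.leaf (0, 0))) (.node (.leaf (352, 6515)) (.leaf (0, 0))))) (.node (.node (.node (.leaf (235, 1928)) (.leaf (0, 0))) (.node (.leaf (793, 8060)) (.leaf (0, 0)))) (.node (.node (.leaf (390, 3072)) (.leaf (0, 0))) (.node (.leaf (824, 8410)) (.leaf (0, 0)))))) (.node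 (.node (.node (.node (.leaf (188, 1340)) (.leaf (0, 0))) (.node (.leaf (502, 3952)) (.leaf (0, 0)))) (.node (.node (.leaf (219, 2349)) (.leaf (0, 0))) (.node (.leaf (385, 7055)) (.leaf (0, 0))))) (.node (.node (.node (.leaf (197, 1411)) (.leaf (0, 0))) (.node (.leaf (714, 7156)) (.leaf (0, 0)))) (.node (.node (.leaf (691, 6878)) (.leaf (0, 0))) (.node (.leaf (562, 8227)) (.leaf (0, 0))))))))) (.node (.node (.node (.node (.node (.node (.node (.leaf (3, 43)) (.leaf (829, 8460))) (.node (.leaf (466, 3656)) (.leaf (0, 0)))) (.node (.node (.leaf (84, 1777)) (.leaf (0, 0))) (.node (.leaf (659, 9396)) (.leaf (0, 0))))) (.node (.node (.node (.leaf (154, 1071)) (.leaf (0, 0))) (.node (.leaf (522, 4060)) (.leaf (0, 0)))) (.node (.node (.leaf (297, 2515)) (.leaf (0, 0))) (.node (.leaf (677, 7253)) (.leaf (0, 0)))))) (.node (.node (.node (.node (.leaf (63, 422)) (.leaf (0, 0))) (.node (.leaf (468, 3680)) (.leaf (0, 0)))) (.node (.node (.leaf (487, 3802)) (.leaf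 (0, 0))) (.node (.leaf (674, 6688)) (.leaf (0, 0))))) (.node (.node (.node (.leaf (165, 1158)) (.leaf (0, 0))) (.node (.leaf (698, 6970)) (.leaf (0, 0)))) (.node (.node (.leaf (241, 8922)) (.leaf (0, 0))) (.node (.leaf (543, 7827)) (.leaf (0, 0))))))) (.node (.node (.node (.node (.node (.leaf (30, 269)) (.leaf (0, 0))) (.node (.leaf (463, 3610)) (.leaf (0, 0)))) (.node (.node (.leaf (171, 1955)) (.leaf (0, 0))) (.node (.leaf (461, 6303)) (.leaf (0, 0))))) (.node (.node (.node (.leaf (181, 1308)) (.leaf (0, 0))) (.node (.leaf (704, 7042)) (.leaf (0, 0)))) (.node (.node (.leaf (152, 2687)) (.leaf (0, 0))) (.node (.leaf (751, 7582)) (.leaf (0, 0)))))) (.node (.node (.node (.node (.leaf (212, 1776)) (.leaf (0, 0))) (.node (.leaf (610, 4998)) (.leaf (0, 0)))) (.node (.node (.leaf (287, 2299)) (.leaf (0, 0))) (.node (.leaf (380, 6969)) (.leaf (0, 0))))) (.node (.node (.node (.leaf (289, 2308)) (.leaf (0, 0))) (.node (.leaf (309, 4727)) (.leaf (0, 0))))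 (.node (.node (.leaf (402, 3162)) (.leaf (0, 0))) (.node (.leaf (591, 8143)) (.leaf (0, 0)))))))) (.node (.node (.node (.node (.node (.node (.leaf (52, 374)) (.leaf (814, 8573))) (.node (.leaf (364, 9028)) (.leaf (0, 0)))) (.node (.node (.leaf (223, 1849)) (.leaf (0, 0))) (.node (.leaf (683, 6774)) (.leaf (0, 0))))) (.node (.node (.node (.leaf (111, 8706)) (.leaf (0, 0))) (.node (.leaf (604, 6321)) (.leaf (0, 0)))) (.node (.node (.leaf (516, 8862)) (.leaf (0, 0))) (.node (.leaf (575, 7415)) (.leaf (0, 0)))))) (.node (.node (.node (.node (.leaf (71, 472)) (.leaf (0, 0))) (.node (.leaf (481, 3771)) (.leaf (0, 0)))) (.node (.node (.leaf (424, 3308)) (.leaf (0, 0))) (.node (.leaf (727, 7276)) (.leaf (0, 0))))) (.node (.node (.node (.leaf (269, 2166)) (.leaf (0, 0))) (.node (.leaf (608, 6020)) (.leaf (0, 0)))) (.node (.node (.leaf (541, 8950)) (.leaf (0, 0))) (.node (.leaf (772, 7993)) (.leaf (0, 0))))))) (.node (.node (.node (.node (.node (.leaf (17,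 341)) (.leaf (0, 0))) (.node (.leaf (224, 3551)) (.leaf (0, 0)))) (.node (.node (.leaf (104, 2051)) (.leaf (0, 0))) (.node (.leaf (353, 6573)) (.leaf (0, 0))))) (.node (.node (.node (.leaf (136, 1005)) (.leaf (0, 0))) (.node (.leaf (518, 4395)) (.leaf (0, 0)))) (.node (.node (.leaf (503, 4283)) (.leaf (0, 0))) (.node (.leaf (785, 7954)) (.leaf (0, 0)))))) (.node (.node (.node (.node (.leaf (104, 716)) (.leaf (0, 0))) (.node (.leaf (770, 7766)) (.leaf (0, 0)))) (.node (.node (.leaf (128, 2398)) (.leaf (0, 0))) (.node (.leaf (705, 7131)) (.leaf (0, 0))))) (.node (.node (.node (.leaf (110, 8738)) (.leaf (0, 0))) (.node (.leaf (607, 4909)) (.leaf (0, 0)))) (.node (.node (.leaf (647, 5434)) (.leaf (0, 0))) (.node (.leaf (826, 8428)) (.leaf (0, 0))))))))))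

def edge5 : Arr (ℕ × ℕ) :=
  (.node (.node (.node (.node (.node (.node (.node (.node (.leaf (0, 9)) (.leaf (804, 8381))) (.node (.leaf (523, 9004)) (.leaf (0, 0)))) (.node (.node (.leaf (348, 2746)) (.leaf (0, 0))) (.node (.leaf (668, 6650)) (.leaf (0, 0))))) (.node (.node (.node (.leaf (56, 713)) (.leaf (0, 0))) (.node (.leaf (624, 9156)) (.leaf (0, 0)))) (.node (.node (.leaf (450, 8820)) (.leaf (0, 0))) (.node (.leaf (716, 7187)) (.leaf (0, 0)))))) (.node (.node (.node (.node (.leaf (129, 888)) (.leaf (0, 0))) (.node (.leaf (596, 4724)) (.leaf (0, 0)))) (.node (.node (.leaf (250, 2091)) (.leaf (0, 0))) (.node (.leaf (356, 6631)) (.leaf (0, 0))))) (.node (.node (.node (.leaf (53, 1066)) (.leaf (0, 0))) (.node (.leaf (494, 9296)) (.leaf (0, 0)))) (.node (.node (.leaf (678, 6712)) (.leaf (0, 0))) (.node (.leaf (538, 7753)) (.leaf (0, 0))))))) (.node (.node (.node (.node (.node (.leaf (69, 454)) (.leaf (0, 0))) (.node (.leaf (437, 3420)) (.leaf (0,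 0)))) (.node (.node (.leaf (217, 1903)) (.leaf (0, 0))) (.node (.leaf (524, 5690)) (.leaf (0, 0))))) (.node (.node (.node (.leaf (46, 887)) (.leaf (0, 0))) (.node (.leaf (271, 4267)) (.leaf (0, 0)))) (.node (.node (.leaf (374, 2928)) (.leaf (0, 0))) (.node (.leaf (718, 7493)) (.leaf (0, 0)))))) (.node (.node (.node (.node (.leaf (76, 521)) (.leaf (0, 0))) (.node (.leaf (264, 3805)) (.leaf (0, 0)))) (.node (.node (.leaf (340, 8802)) (.leaf (0, 0))) (.node (.leaf (534, 9466)) (.leaf (0, 0))))) (.node (.node (.node (.leaf (98, 1297)) (.leaf (0, 0))) (.node (.leaf (759, 7674)) (.leaf (0, 0)))) (.node (.node (.leaf (427, 8960)) (.leaf (0, 0))) (.node (.leaf (800, 8150)) (.leaf (0, 0)))))))) (.node (.node (.node (.node (.node (.node (.leaf (12, 85)) (.leaf (834, 8524))) (.node (.leaf (544, 4308)) (.leaf (0, 0)))) (.node (.node (.leaf (419, 8750)) (.leaf (0, 0))) (.node (.leaf (470, 9412)) (.leaf (0, 0))))) (.node (.node (.node (.leaf (152, 8696)) (.leaf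 (0, 0))) (.node (.leaf (777, 7858)) (.leaf (0, 0)))) (.node (.node (.leaf (470, 3686)) (.leaf (0, 0))) (.node (.leaf (684, 7323)) (.leaf (0, 0)))))) (.node (.node (.node (.node (.leaf (185, 1328)) (.leaf (0, 0))) (.node (.leaf (644, 6392)) (.leaf (0, 0)))) (.node (.node (.leaf (139, 2171)) (.leaf (0, 0))) (.node (.leaf (359, 6722)) (.leaf (0, 0))))) (.node (.node (.node (.leaf (254, 2074)) (.leaf (0, 0))) (.node (.leaf (311, 4543)) (.leaf (0, 0)))) (.node (.node (.leaf (373, 2914)) (.leaf (0, 0))) (.node (.leaf (817, 8334)) (.leaf (0, 0))))))) (.node (.node (.node (.node (.node (.leaf (60, 408)) (.leaf (0, 0))) (.node (.leaf (442, 9054)) (.leaf (0, 0)))) (.node (.node (.leaf (214, 2005)) (.leaf (0, 0))) (.node (.leaf (787, 7978)) (.leaf (0, 0))))) (.node (.node (.node (.leaf (48, 959)) (.leaf (0, 0))) (.node (.leaf (552, 4370)) (.leaf (0, 0)))) (.node (.node (.leaf (430, 3372)) (.leaf (0, 0))) (.node (.leaf (488, 7631)) (.leaf (0, 0)))))) (.node (.node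 (.node (.node (.leaf (37, 624)) (.leaf (0, 0))) (.node (.leaf (527, 4150)) (.leaf (0, 0)))) (.node (.node (.leaf (183, 2353)) (.leaf (0, 0))) (.node (.leaf (783, 7922)) (.leaf (0, 0))))) (.node (.node (.node (.leaf (390, 3070)) (.leaf (0, 0))) (.node (.leaf (715, 7162)) (.leaf (0, 0)))) (.node (.node (.leaf (569, 4486)) (.leaf (0, 0))) (.node (.leaf (671, 8229)) (.leaf (0, 0))))))))) (.node (.node (.node (.node (.node (.node (.node (.leaf (8, 52)) (.leaf (830, 8479))) (.node (.leaf (203, 3273)) (.leaf (0, 0)))) (.node (.node (.leaf (434, 3404)) (.leaf (0, 0))) (.node (.leaf (791, 8030)) (.leaf (0, 0))))) (.node (.node (.node (.leaf (113, 770)) (.leaf (0, 0))) (.node (.leaf (551, 4368)) (.leaf (0, 0)))) (.node (.node (.leaf (381, 2982)) (.leaf (0, 0))) (.node (.leaf (571, 7257)) (.leaf (0, 0)))))) (.node (.node (.node (.node (.leaf (113, 766)) (.leaf (0, 0))) (.node (.leaf (252, 3679)) (.leaf (0, 0)))) (.node (.node (.leaf (106, 2129)) (.leaf (0, 0)))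 (.node (.leaf (823, 8402)) (.leaf (0, 0))))) (.node (.node (.node (.leaf (347, 2732)) (.leaf (0, 0))) (.node (.leaf (288, 4495)) (.leaf (0, 0)))) (.node (.node (.leaf (471, 8924)) (.leaf (0, 0))) (.node (.leaf (720, 7825)) (.leaf (0, 0))))))) (.node (.node (.node (.node (.node (.leaf (69, 8598)) (.leaf (0, 0))) (.node (.leaf (642, 6444)) (.leaf (0, 0)))) (.node (.node (.leaf (100, 1951)) (.leaf (0, 0))) (.node (.leaf (664, 6598)) (.leaf (0, 0))))) (.node (.node (.node (.leaf (128, 920)) (.leaf (0, 0))) (.node (.leaf (557, 5688)) (.leaf (0, 0)))) (.node (.node (.leaf (561, 8898)) (.leaf (0, 0))) (.node (.leaf (750, 7568)) (.leaf (0, 0)))))) (.node (.node (.node (.node (.leaf (36, 593)) (.leaf (0, 0))) (.node (.leaf (490, 3851)) (.leaf (0, 0)))) (.node (.node (.leaf (296, 2354)) (.leaf (0, 0))) (.node (.leaf (459, 6973)) (.leaf (0, 0))))) (.node (.node (.node (.leaf (126, 1332)) (.leaf (0, 0))) (.node (.leaf (710, 7110)) (.leaf (0, 0)))) (.node (.node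 (.leaf (400, 3140)) (.leaf (0, 0))) (.node (.leaf (719, 8155)) (.leaf (0, 0)))))))) (.node (.node (.node (.node (.node (.node (.leaf (9, 129)) (.leaf (837, 8575))) (.node (.leaf (231, 3359)) (.leaf (0, 0)))) (.node (.node (.leaf (407, 3196)) (.leaf (0, 0))) (.node (.leaf (566, 6476)) (.leaf (0, 0))))) (.node (.node (.node (.leaf (179, 1280)) (.leaf (0, 0))) (.node (.leaf (504, 4179)) (.leaf (0, 0)))) (.node (.node (.leaf (143, 2605)) (.leaf (0, 0))) (.node (.leaf (697, 7423)) (.leaf (0, 0)))))) (.node (.node (.node (.node (.leaf (73, 498)) (.leaf (0, 0))) (.node (.leaf (490, 9108)) (.leaf (0, 0)))) (.node (.node (.leaf (144, 2233)) (.leaf (0, 0))) (.node (.leaf (460, 6809)) (.leaf (0, 0))))) (.node (.node (.node (.leaf (61, 1245)) (.leaf (0, 0))) (.node (.leaf (686, 6820)) (.leaf (0, 0)))) (.node (.node (.leaf (184, 2974)) (.leaf (0, 0))) (.node (.leaf (768, 7997)) (.leaf (0, 0))))))) (.node (.node (.node (.node (.node (.leaf (37, 339)) (.leaf (0,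 0))) (.node (.leaf (456, 3552)) (.leaf (0, 0)))) (.node (.node (.leaf (363, 2842)) (.leaf (0, 0))) (.node (.leaf (701, 7006)) (.leaf (0, 0))))) (.node (.node (.node (.leaf (51, 1001)) (.leaf (0, 0))) (.node (.leaf (551, 4399)) (.leaf (0, 0)))) (.node (.node (.leaf (660, 6572)) (.leaf (0, 0))) (.node (.leaf (560, 7709)) (.leaf (0, 0)))))) (.node (.node (.node (.node (.leaf (241, 1980)) (.leaf (0, 0))) (.node (.leaf (501, 6359)) (.leaf (0, 0)))) (.node (.node (.leaf (457, 3572)) (.leaf (0, 0))) (.node (.leaf (632, 7133)) (.leaf (0, 0))))) (.node (.node (.node (.leaf (220, 1820)) (.leaf (0, 0))) (.node (.leaf (499, 9368)) (.leaf (0, 0)))) (.node (.node (.leaf (403, 3169)) (.leaf (0, 0))) (.node (.leaf (836, 8554)) (.leaf (0, 0))))))))))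

def edge6 : Arr (ℕ × ℕ) :=
  (.node (.node (.node (.node (.node (.node (.node (.node (.leaf (4, 24)) (.leaf (815, 8377))) (.node (.leaf (588, 4636)) (.leaf (0, 0)))) (.node (.node (.leaf (82, 1737)) (.leaf (0, 0))) (.node (.leaf (802, 8166)) (.leaf (0, 0))))) (.node (.node (.node (.leaf (215, 1794)) (.leaf (0, 0))) (.node (.leaf (755, 7620)) (.leaf (0, 0)))) (.node (.node (.leaf (284, 2455)) (.leaf (0, 0))) (.node (.leaf (566, 7201)) (.leaf (0, 0)))))) (.node (.node (.node (.node (.leaf (51, 377)) (.leaf (0, 0))) (.node (.leaf (228, 3605)) (.leaf (0, 0)))) (.node (.node (.leaf (259, 2108)) (.leaf (0, 0))) (.node (.leaf (649, 6633)) (.leaf (0, 0))))) (.node (.node (.node (.leaf (153, 1068)) (.leaf (0, 0))) (.node (.leaf (595, 4690)) (.leaf (0, 0)))) (.node (.node (.leaf (680, 6736)) (.leaf (0, 0))) (.node (.leaf (764, 7761)) (.leaf (0, 0))))))) (.node (.node (.node (.node (.node (.leaf (25, 175)) (.leaf (0, 0))) (.node (.leaf (736, 7404)) (.leaf (0,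 0)))) (.node (.node (.leaf (175, 8758)) (.leaf (0, 0))) (.node (.leaf (440, 6385)) (.leaf (0, 0))))) (.node (.node (.node (.leaf (52, 889)) (.leaf (0, 0))) (.node (.leaf (494, 4263)) (.leaf (0, 0)))) (.node (.node (.leaf (418, 3276)) (.leaf (0, 0))) (.node (.leaf (797, 8104)) (.leaf (0, 0)))))) (.node (.node (.node (.node (.leaf (81, 8652)) (.leaf (0, 0))) (.node (.leaf (525, 4088)) (.leaf (0, 0)))) (.node (.node (.leaf (281, 2269)) (.leaf (0, 0))) (.node (.leaf (545, 6903)) (.leaf (0, 0))))) (.node (.node (.node (.leaf (127, 1301)) (.leaf (0, 0))) (.node (.leaf (590, 4666)) (.leaf (0, 0)))) (.node (.node (.leaf (386, 3018)) (.leaf (0, 0))) (.node (.leaf (589, 8067)) (.leaf (0, 0)))))))) (.node (.node (.node (.node (.node (.node (.leaf (16, 106)) (.leaf (827, 8509))) (.node (.leaf (528, 9016)) (.leaf (0, 0)))) (.node (.node (.leaf (217, 1809)) (.leaf (0, 0))) (.node (.leaf (515, 6340)) (.leaf (0, 0))))) (.node (.node (.node (.leaf (198, 8698)) (.leaf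 (0, 0))) (.node (.leaf (528, 4152)) (.leaf (0, 0)))) (.node (.node (.leaf (335, 2656)) (.leaf (0, 0))) (.node (.leaf (453, 7317)) (.leaf (0, 0)))))) (.node (.node (.node (.node (.leaf (44, 435)) (.leaf (0, 0))) (.node (.leaf (476, 3742)) (.leaf (0, 0)))) (.node (.node (.leaf (536, 4248)) (.leaf (0, 0))) (.node (.leaf (671, 6727)) (.leaf (0, 0))))) (.node (.node (.node (.leaf (360, 2816)) (.leaf (0, 0))) (.node (.leaf (587, 9312)) (.leaf (0, 0)))) (.node (.node (.leaf (404, 5966)) (.leaf (0, 0))) (.node (.leaf (706, 7909)) (.leaf (0, 0))))))) (.node (.node (.node (.node (.node (.leaf (84, 590)) (.leaf (0, 0))) (.node (.leaf (428, 9056)) (.leaf (0, 0)))) (.node (.node (.leaf (311, 2480)) (.leaf (0, 0))) (.node (.leaf (508, 6523)) (.leaf (0, 0))))) (.node (.node (.node (.leaf (131, 961)) (.leaf (0, 0))) (.node (.leaf (520, 4367)) (.leaf (0, 0)))) (.node (.node (.leaf (400, 3146)) (.leaf (0, 0))) (.node (.leaf (764, 7716)) (.leaf (0, 0)))))) (.node (.node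 (.node (.node (.leaf (178, 1272)) (.leaf (0, 0))) (.node (.leaf (504, 3958)) (.leaf (0, 0)))) (.node (.node (.leaf (409, 3220)) (.leaf (0, 0))) (.node (.leaf (711, 7130)) (.leaf (0, 0))))) (.node (.node (.node (.leaf (137, 1393)) (.leaf (0, 0))) (.node (.leaf (522, 6459)) (.leaf (0, 0)))) (.node (.node (.leaf (666, 6626)) (.leaf (0, 0))) (.node (.leaf (614, 8233)) (.leaf (0, 0))))))))) (.node (.node (.node (.node (.node (.node (.node (.leaf (4, 45)) (.leaf (831, 8498))) (.node (.leaf (690, 6872)) (.leaf (0, 0)))) (.node (.node (.leaf (230, 1896)) (.leaf (0, 0))) (.node (.leaf (329, 5135)) (.leaf (0, 0))))) (.node (.node (.node (.leaf (42, 747)) (.leaf (0, 0))) (.node (.leaf (488, 5684)) (.leaf (0, 0)))) (.node (.node (.leaf (185, 2519)) (.leaf (0, 0))) (.node (.leaf (807, 8230)) (.leaf (0, 0)))))) (.node (.node (.node (.node (.leaf (62, 420)) (.leaf (0, 0))) (.node (.leaf (478, 3760)) (.leaf (0, 0)))) (.node (.node (.leaf (481, 3768)) (.leaf (0, 0)))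 (.node (.leaf (491, 6681)) (.leaf (0, 0))))) (.node (.node (.node (.leaf (81, 1131)) (.leaf (0, 0))) (.node (.leaf (425, 9300)) (.leaf (0, 0)))) (.node (.node (.leaf (520, 8926)) (.leaf (0, 0))) (.node (.leaf (514, 9494)) (.leaf (0, 0))))))) (.node (.node (.node (.node (.node (.leaf (33, 274)) (.leaf (0, 0))) (.node (.leaf (419, 9048)) (.leaf (0, 0)))) (.node (.node (.leaf (271, 2184)) (.leaf (0, 0))) (.node (.leaf (349, 5437)) (.leaf (0, 0))))) (.node (.node (.node (.leaf (225, 1854)) (.leaf (0, 0))) (.node (.leaf (528, 9250)) (.leaf (0, 0)))) (.node (.node (.leaf (394, 3104)) (.leaf (0, 0))) (.node (.leaf (593, 7571)) (.leaf (0, 0)))))) (.node (.node (.node (.node (.leaf (85, 598)) (.leaf (0, 0))) (.node (.leaf (746, 7524)) (.leaf (0, 0)))) (.node (.node (.leaf (387, 3030)) (.leaf (0, 0))) (.node (.leaf (642, 6978)) (.leaf (0, 0))))) (.node (.node (.node (.leaf (243, 1998)) (.leaf (0, 0))) (.node (.leaf (340, 4729)) (.leaf (0, 0)))) (.node (.node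 (.leaf (348, 8966)) (.leaf (0, 0))) (.node (.leaf (792, 8159)) (.leaf (0, 0)))))))) (.node (.node (.node (.node (.node (.node (.leaf (20, 131)) (.leaf (833, 8579))) (.node (.leaf (496, 6168)) (.leaf (0, 0)))) (.node (.node (.leaf (311, 2482)) (.leaf (0, 0))) (.node (.leaf (681, 6740)) (.leaf (0, 0))))) (.node (.node (.node (.leaf (87, 833)) (.leaf (0, 0))) (.node (.leaf (600, 6319)) (.leaf (0, 0)))) (.node (.node (.leaf (600, 4754)) (.leaf (0, 0))) (.node (.leaf (802, 8170)) (.leaf (0, 0)))))) (.node (.node (.node (.node (.leaf (28, 479)) (.leaf (0, 0))) (.node (.leaf (525, 4090)) (.leaf (0, 0)))) (.node (.node (.leaf (334, 2642)) (.leaf (0, 0))) (.node (.leaf (579, 6817)) (.leaf (0, 0))))) (.node (.node (.node (.leaf (172, 1247)) (.leaf (0, 0))) (.node (.leaf (296, 4590)) (.leaf (0, 0)))) (.node (.node (.leaf (292, 8952)) (.leaf (0, 0))) (.node (.leaf (789, 8004)) (.leaf (0, 0))))))) (.node (.node (.node (.node (.node (.leaf (129, 886)) (.leaf (0,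 0))) (.node (.leaf (329, 9078)) (.leaf (0, 0)))) (.node (.node (.leaf (101, 2053)) (.leaf (0, 0))) (.node (.leaf (773, 7800)) (.leaf (0, 0))))) (.node (.node (.node (.leaf (149, 1006)) (.leaf (0, 0))) (.node (.leaf (729, 7314)) (.leaf (0, 0)))) (.node (.node (.leaf (354, 2778)) (.leaf (0, 0))) (.node (.leaf (627, 7705)) (.leaf (0, 0)))))) (.node (.node (.node (.node (.leaf (83, 675)) (.leaf (0, 0))) (.node (.leaf (259, 3977)) (.leaf (0, 0)))) (.node (.node (.leaf (328, 8816)) (.leaf (0, 0))) (.node (.leaf (402, 7129)) (.leaf (0, 0))))) (.node (.node (.node (.leaf (91, 1427)) (.leaf (0, 0))) (.node (.leaf (595, 9370)) (.leaf (0, 0)))) (.node (.node (.leaf (665, 6622)) (.leaf (0, 0))) (.node (.leaf (615, 8295)) (.leaf (0, 0))))))))))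

def edge7 : Arr (ℕ × ℕ) :=
  (.node (.node (.node (.node (.node (.node (.node (.node (.leaf (1, 10)) (.leaf (789, 8379))) (.node (.leaf (200, 3235)) (.leaf (0, 0)))) (.node (.node (.leaf (381, 8746)) (.leaf (0, 0))) (.node (.leaf (797, 8114)) (.leaf (0, 0))))) (.node (.node (.node (.leaf (108, 737)) (.leaf (0, 0))) (.node (.leaf (625, 9158)) (.leaf (0, 0)))) (.node (.node (.leaf (451, 8822)) (.leaf (0, 0))) (.node (.leaf (411, 7195)) (.leaf (0, 0)))))) (.node (.node (.node (.node (.leaf (116, 8614)) (.leaf (0, 0))) (.node (.leaf (683, 6780)) (.leaf (0, 0)))) (.node (.node (.leaf (249, 2097)) (.leaf (0, 0))) (.node (.leaf (463, 6639)) (.leaf (0, 0))))) (.node (.node (.node (.leaf (343, 2704)) (.leaf (0, 0))) (.node (.leaf (495, 6286)) (.leaf (0, 0)))) (.node (.node (.leaf (634, 6478)) (.leaf (0, 0))) (.node (.leaf (480, 7757)) (.leaf (0, 0))))))) (.node (.node (.node (.node (.node (.leaf (51, 370)) (.leaf (0, 0))) (.node (.leaf (540, 9038)) (.leaf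 (0, 0)))) (.node (.node (.leaf (230, 1899)) (.leaf (0, 0))) (.node (.leaf (729, 7306)) (.leaf (0, 0))))) (.node (.node (.node (.leaf (148, 1002)) (.leaf (0, 0))) (.node (.leaf (483, 4275)) (.leaf (0, 0)))) (.node (.node (.leaf (177, 2647)) (.leaf (0, 0))) (.node (.leaf (800, 8144)) (.leaf (0, 0)))))) (.node (.node (.node (.node (.leaf (78, 530)) (.leaf (0, 0))) (.node (.leaf (535, 4195)) (.leaf (0, 0)))) (.node (.node (.leaf (542, 4300)) (.leaf (0, 0))) (.node (.leaf (371, 6899)) (.leaf (0, 0))))) (.node (.node (.node (.leaf (242, 1984)) (.leaf (0, 0))) (.node (.leaf (318, 4665)) (.leaf (0, 0)))) (.node (.node (.leaf (703, 7028)) (.leaf (0, 0))) (.node (.leaf (795, 8080)) (.leaf (0, 0)))))))) (.node (.node (.node (.node (.node (.node (.leaf (15, 102)) (.leaf (834, 8518))) (.node (.leaf (427, 3340)) (.leaf (0, 0)))) (.node (.node (.leaf (230, 1894)) (.leaf (0, 0))) (.node (.leaf (762, 7698)) (.leaf (0, 0))))) (.node (.node (.node (.leaf (77, 785))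 (.leaf (0, 0))) (.node (.leaf (753, 7602)) (.leaf (0, 0)))) (.node (.node (.leaf (226, 2562)) (.leaf (0, 0))) (.node (.leaf (698, 7329)) (.leaf (0, 0)))))) (.node (.node (.node (.node (.leaf (120, 820)) (.leaf (0, 0))) (.node (.leaf (371, 6411)) (.leaf (0, 0)))) (.node (.node (.leaf (256, 2179)) (.leaf (0, 0))) (.node (.leaf (555, 9454)) (.leaf (0, 0))))) (.node (.node (.node (.leaf (166, 1167)) (.leaf (0, 0))) (.node (.leaf (292, 4549)) (.leaf (0, 0)))) (.node (.node (.leaf (498, 6378)) (.leaf (0, 0))) (.node (.leaf (502, 7917)) (.leaf (0, 0))))))) (.node (.node (.node (.node (.node (.leaf (95, 662)) (.leaf (0, 0))) (.node (.leaf (450, 3510)) (.leaf (0, 0)))) (.node (.node (.leaf (389, 3058)) (.leaf (0, 0))) (.node (.leaf (779, 7880)) (.leaf (0, 0))))) (.node (.node (.node (.leaf (323, 2580)) (.leaf (0, 0))) (.node (.leaf (451, 9264)) (.leaf (0, 0)))) (.node (.node (.leaf (161, 2733)) (.leaf (0, 0))) (.node (.leaf (468, 7633)) (.leaf (0, 0))))))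 (.node (.node (.node (.node (.leaf (231, 1900)) (.leaf (0, 0))) (.node (.leaf (330, 9136)) (.leaf (0, 0)))) (.node (.node (.leaf (125, 2351)) (.leaf (0, 0))) (.node (.leaf (631, 7063)) (.leaf (0, 0))))) (.node (.node (.node (.leaf (312, 2488)) (.leaf (0, 0))) (.node (.leaf (548, 9356)) (.leaf (0, 0)))) (.node (.node (.leaf (397, 3133)) (.leaf (0, 0))) (.node (.leaf (676, 8240)) (.leaf (0, 0))))))))) (.node (.node (.node (.node (.node (.node (.node (.leaf (18, 117)) (.leaf (725, 8433))) (.node (.leaf (459, 3590)) (.leaf (0, 0)))) (.node (.node (.leaf (437, 3422)) (.leaf (0, 0))) (.node (.leaf (447, 5137)) (.leaf (0, 0))))) (.node (.node (.node (.leaf (199, 8686)) (.leaf (0, 0))) (.node (.leaf (524, 4086)) (.leaf (0, 0)))) (.node (.node (.leaf (144, 2521)) (.leaf (0, 0))) (.node (.leaf (678, 7255)) (.leaf (0, 0)))))) (.node (.node (.node (.node (.leaf (87, 8622)) (.leaf (0, 0))) (.node (.leaf (467, 9088)) (.leaf (0, 0)))) (.node (.node (.leaf (249,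 2125)) (.leaf (0, 0))) (.node (.leaf (615, 6683)) (.leaf (0, 0))))) (.node (.node (.node (.leaf (191, 1374)) (.leaf (0, 0))) (.node (.leaf (294, 4497)) (.leaf (0, 0)))) (.node (.node (.leaf (336, 2875)) (.leaf (0, 0))) (.node (.leaf (806, 8224)) (.leaf (0, 0))))))) (.node (.node (.node (.node (.node (.leaf (71, 470)) (.leaf (0, 0))) (.node (.leaf (437, 3459)) (.leaf (0, 0)))) (.node (.node (.leaf (208, 1961)) (.leaf (0, 0))) (.node (.leaf (666, 6634)) (.leaf (0, 0))))) (.node (.node (.node (.leaf (134, 917)) (.leaf (0, 0))) (.node (.leaf (643, 5358)) (.leaf (0, 0)))) (.node (.node (.leaf (640, 5336)) (.leaf (0, 0))) (.node (.leaf (558, 7575)) (.leaf (0, 0)))))) (.node (.node (.node (.node (.leaf (86, 604)) (.leaf (0, 0))) (.node (.leaf (564, 9120)) (.leaf (0, 0)))) (.node (.node (.leaf (137, 2310)) (.leaf (0, 0))) (.node (.leaf (381, 6981)) (.leaf (0, 0))))) (.node (.node (.node (.leaf (291, 2324)) (.leaf (0, 0))) (.node (.leaf (708, 7092)) (.leaf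 (0, 0)))) (.node (.node (.leaf (396, 3118)) (.leaf (0, 0))) (.node (.leaf (803, 8176)) (.leaf (0, 0)))))))) (.node (.node (.node (.node (.node (.node (.leaf (7, 133)) (.leaf (839, 8584))) (.node (.leaf (431, 3374)) (.leaf (0, 0)))) (.node (.node (.leaf (408, 3204)) (.leaf (0, 0))) (.node (.leaf (669, 9426)) (.leaf (0, 0))))) (.node (.node (.node (.leaf (123, 8708)) (.leaf (0, 0))) (.node (.leaf (527, 9224)) (.leaf (0, 0)))) (.node (.node (.leaf (316, 2601)) (.leaf (0, 0))) (.node (.leaf (667, 7433)) (.leaf (0, 0)))))) (.node (.node (.node (.node (.leaf (32, 475)) (.leaf (0, 0))) (.node (.leaf (486, 3796)) (.leaf (0, 0)))) (.node (.node (.leaf (157, 2237)) (.leaf (0, 0))) (.node (.leaf (368, 6823)) (.leaf (0, 0))))) (.node (.node (.node (.leaf (365, 2870)) (.leaf (0, 0))) (.node (.leaf (371, 6022)) (.leaf (0, 0)))) (.node (.node (.leaf (453, 6417)) (.leaf (0, 0))) (.node (.leaf (506, 7995)) (.leaf (0, 0))))))) (.node (.node (.node (.node (.node (.leaf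 (17, 343)) (.leaf (0, 0))) (.node (.leaf (748, 7550)) (.leaf (0, 0)))) (.node (.node (.leaf (169, 2055)) (.leaf (0, 0))) (.node (.leaf (710, 7118)) (.leaf (0, 0))))) (.node (.node (.node (.leaf (150, 1020)) (.leaf (0, 0))) (.node (.leaf (750, 7574)) (.leaf (0, 0)))) (.node (.node (.leaf (655, 6528)) (.leaf (0, 0))) (.node (.leaf (766, 7734)) (.leaf (0, 0)))))) (.node (.node (.node (.node (.leaf (140, 946)) (.leaf (0, 0))) (.node (.leaf (259, 3983)) (.leaf (0, 0)))) (.node (.node (.leaf (303, 2412)) (.leaf (0, 0))) (.node (.leaf (736, 7416)) (.leaf (0, 0))))) (.node (.node (.node (.leaf (225, 1858)) (.leaf (0, 0))) (.node (.leaf (493, 4965)) (.leaf (0, 0)))) (.node (.node (.leaf (603, 5965)) (.leaf (0, 0))) (.node (.leaf (839, 8572)) (.leaf (0, 0))))))))))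

def edge8 : Arr (ℕ × ℕ) :=
  (.node (.node (.node (.node (.node (.node (.node (.node (.leaf (2, 14)) (.leaf (639, 8383))) (.node (.leaf (718, 7194)) (.leaf (0, 0)))) (.node (.node (.leaf (342, 2700)) (.leaf (0, 0))) (.node (.leaf (576, 9378)) (.leaf (0, 0))))) (.node (.node (.node (.leaf (236, 1940)) (.leaf (0, 0))) (.node (.leaf (626, 9160)) (.leaf (0, 0)))) (.node (.node (.leaf (307, 2451)) (.leaf (0, 0))) (.node (.leaf (719, 7206)) (.leaf (0, 0)))))) (.node (.node (.node (.node (.leaf (51, 373)) (.leaf (0, 0))) (.node (.leaf (339, 3607)) (.leaf (0, 0)))) (.node (.node (.leaf (105, 8774)) (.leaf (0, 0))) (.node (.leaf (680, 6732)) (.leaf (0, 0))))) (.node (.node (.node (.leaf (113, 1075)) (.leaf (0, 0))) (.node (.leaf (565, 4453)) (.leaf (0, 0)))) (.node (.node (.leaf (665, 6608)) (.leaf (0, 0))) (.node (.leaf (552, 7759)) (.leaf (0, 0))))))) (.node (.node (.node (.node (.node (.leaf (50, 360)) (.leaf (0, 0))) (.node (.leaf (585, 4608)) (.leaf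 (0, 0)))) (.node (.node (.leaf (416, 3268)) (.leaf (0, 0))) (.node (.leaf (342, 5346)) (.leaf (0, 0))))) (.node (.node (.node (.leaf (152, 1046)) (.leaf (0, 0))) (.node (.leaf (350, 4271)) (.leaf (0, 0)))) (.node (.node (.leaf (204, 2653)) (.leaf (0, 0))) (.node (.leaf (779, 7876)) (.leaf (0, 0)))))) (.node (.node (.node (.node (.leaf (31, 537)) (.leaf (0, 0))) (.node (.leaf (612, 6158)) (.leaf (0, 0)))) (.node (.node (.leaf (272, 2275)) (.leaf (0, 0))) (.node (.leaf (729, 7312)) (.leaf (0, 0))))) (.node (.node (.node (.leaf (64, 1299)) (.leaf (0, 0))) (.node (.leaf (598, 4746)) (.leaf (0, 0)))) (.node (.node (.leaf (278, 8962)) (.leaf (0, 0))) (.node (.leaf (552, 8089)) (.leaf (0, 0)))))))) (.node (.node (.node (.node (.node (.node (.leaf (18, 112)) (.leaf (832, 8513))) (.node (.leaf (276, 3309)) (.leaf (0, 0)))) (.node (.node (.leaf (295, 2348)) (.leaf (0, 0))) (.node (.leaf (331, 5197)) (.leaf (0, 0))))) (.node (.node (.node (.leaf (111, 789))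 (.leaf (0, 0))) (.node (.leaf (530, 4160)) (.leaf (0, 0)))) (.node (.node (.leaf (186, 2559)) (.leaf (0, 0))) (.node (.leaf (773, 7796)) (.leaf (0, 0)))))) (.node (.node (.node (.node (.leaf (121, 826)) (.leaf (0, 0))) (.node (.leaf (476, 3736)) (.leaf (0, 0)))) (.node (.node (.leaf (405, 3186)) (.leaf (0, 0))) (.node (.leaf (614, 7205)) (.leaf (0, 0))))) (.node (.node (.node (.leaf (349, 2750)) (.leaf (0, 0))) (.node (.leaf (633, 5258)) (.leaf (0, 0)))) (.node (.node (.leaf (691, 6888)) (.leaf (0, 0))) (.node (.leaf (708, 7913)) (.leaf (0, 0))))))) (.node (.node (.node (.node (.node (.leaf (106, 726)) (.leaf (0, 0))) (.node (.leaf (664, 9058)) (.leaf (0, 0)))) (.node (.node (.leaf (121, 2007)) (.leaf (0, 0))) (.node (.leaf (651, 6525)) (.leaf (0, 0))))) (.node (.node (.node (.leaf (266, 8716)) (.leaf (0, 0))) (.node (.leaf (798, 8118)) (.leaf (0, 0)))) (.node (.node (.leaf (297, 2735)) (.leaf (0, 0))) (.node (.leaf (768, 7746)) (.leaf (0, 0))))))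 (.node (.node (.node (.node (.leaf (80, 8682)) (.leaf (0, 0))) (.node (.leaf (501, 3948)) (.leaf (0, 0)))) (.node (.node (.leaf (289, 2355)) (.leaf (0, 0))) (.node (.leaf (391, 7065)) (.leaf (0, 0))))) (.node (.node (.node (.leaf (313, 2498)) (.leaf (0, 0))) (.node (.leaf (369, 4811)) (.leaf (0, 0)))) (.node (.node (.leaf (646, 5412)) (.leaf (0, 0))) (.node (.leaf (803, 8243)) (.leaf (0, 0))))))))) (.node (.node (.node (.node (.node (.node (.node (.leaf (26, 176)) (.leaf (833, 8508))) (.node (.leaf (665, 6614)) (.leaf (0, 0)))) (.node (.node (.leaf (211, 1775)) (.leaf (0, 0))) (.node (.leaf (628, 6344)) (.leaf (0, 0))))) (.node (.node (.node (.leaf (147, 8688)) (.leaf (0, 0))) (.node (.leaf (366, 9192)) (.leaf (0, 0)))) (.node (.node (.leaf (598, 4742)) (.leaf (0, 0))) (.node (.leaf (744, 7508)) (.leaf (0, 0)))))) (.node (.node (.node (.node (.leaf (100, 692)) (.leaf (0, 0))) (.node (.leaf (754, 7616)) (.leaf (0, 0)))) (.node (.node (.leaf (529, 4156))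 (.leaf (0, 0))) (.node (.leaf (358, 6685)) (.leaf (0, 0))))) (.node (.node (.node (.leaf (55, 1133)) (.leaf (0, 0))) (.node (.leaf (724, 7256)) (.leaf (0, 0)))) (.node (.node (.leaf (367, 8928)) (.leaf (0, 0))) (.node (.leaf (491, 7833)) (.leaf (0, 0))))))) (.node (.node (.node (.node (.node (.leaf (73, 494)) (.leaf (0, 0))) (.node (.leaf (706, 7072)) (.leaf (0, 0)))) (.node (.node (.leaf (165, 1959)) (.leaf (0, 0))) (.node (.leaf (777, 7854)) (.leaf (0, 0))))) (.node (.node (.node (.leaf (148, 1004)) (.leaf (0, 0))) (.node (.leaf (711, 7126)) (.leaf (0, 0)))) (.node (.node (.leaf (339, 2685)) (.leaf (0, 0))) (.node (.leaf (512, 7579)) (.leaf (0, 0)))))) (.node (.node (.node (.node (.leaf (99, 689)) (.leaf (0, 0))) (.node (.leaf (609, 4966)) (.leaf (0, 0)))) (.node (.node (.leaf (298, 2364)) (.leaf (0, 0))) (.node (.leaf (572, 6989)) (.leaf (0, 0))))) (.node (.node (.node (.leaf (313, 2504)) (.leaf (0, 0))) (.node (.leaf (462, 4723)) (.leaf (0, 0))))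 (.node (.node (.leaf (191, 8968)) (.leaf (0, 0))) (.node (.leaf (796, 8157)) (.leaf (0, 0)))))))) (.node (.node (.node (.node (.node (.node (.leaf (27, 187)) (.leaf (0, 0))) (.node (.leaf (706, 7066)) (.leaf (0, 0)))) (.node (.node (.leaf (219, 1857)) (.leaf (0, 0))) (.node (.leaf (636, 5306)) (.leaf (0, 0))))) (.node (.node (.node (.leaf (200, 8710)) (.leaf (0, 0))) (.node (.leaf (265, 4181)) (.leaf (0, 0)))) (.node (.node (.leaf (302, 8864)) (.leaf (0, 0))) (.node (.leaf (438, 9486)) (.leaf (0, 0)))))) (.node (.node (.node (.node (.leaf (45, 8634)) (.leaf (0, 0))) (.node (.leaf (716, 7170)) (.leaf (0, 0)))) (.node (.node (.leaf (114, 2235)) (.leaf (0, 0))) (.node (.leaf (569, 6819)) (.leaf (0, 0))))) (.node (.node (.node (.leaf (336, 2666)) (.leaf (0, 0))) (.node (.leaf (374, 4595)) (.leaf (0, 0)))) (.node (.node (.leaf (380, 2978)) (.leaf (0, 0))) (.node (.leaf (505, 7999)) (.leaf (0, 0))))))) (.node (.node (.node (.node (.node (.leaf (47, 344))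 (.leaf (0, 0))) (.node (.leaf (658, 6556)) (.leaf (0, 0)))) (.node (.node (.leaf (265, 2144)) (.leaf (0, 0))) (.node (.leaf (659, 6571)) (.leaf (0, 0))))) (.node (.node (.node (.leaf (300, 2390)) (.leaf (0, 0))) (.node (.leaf (511, 4405)) (.leaf (0, 0)))) (.node (.node (.leaf (658, 6554)) (.leaf (0, 0))) (.node (.leaf (774, 7812)) (.leaf (0, 0)))))) (.node (.node (.node (.node (.leaf (39, 677)) (.leaf (0, 0))) (.node (.leaf (709, 7104)) (.leaf (0, 0)))) (.node (.node (.leaf (375, 2936)) (.leaf (0, 0))) (.node (.leaf (587, 7139)) (.leaf (0, 0))))) (.node (.node (.node (.leaf (411, 3234)) (.leaf (0, 0))) (.node (.leaf (450, 9372)) (.leaf (0, 0)))) (.node (.node (.leaf (398, 3173)) (.leaf (0, 0))) (.node (.leaf (811, 8297)) (.leaf (0, 0))))))))))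

def edge9 : Arr (ℕ × ℕ) :=
  (.node (.node (.node (.node (.node (.node (.node (.node (.leaf (1, 12)) (.leaf (781, 8385))) (.node (.leaf (446, 3492)) (.leaf (0, 0)))) (.node (.node (.leaf (427, 3336)) (.leaf (0, 0))) (.node (.leaf (514, 9380)) (.leaf (0, 0))))) (.node (.node (.node (.leaf (163, 1146)) (.leaf (0, 0))) (.node (.leaf (260, 4019)) (.leaf (0, 0)))) (.node (.node (.leaf (596, 4726)) (.leaf (0, 0))) (.node (.leaf (521, 7197)) (.leaf (0, 0)))))) (.node (.node (.node (.node (.leaf (88, 8616)) (.leaf (0, 0))) (.node (.leaf (712, 7136)) (.leaf (0, 0)))) (.node (.node (.leaf (252, 2093)) (.leaf (0, 0))) (.node (.leaf (730, 7326)) (.leaf (0, 0))))) (.node (.node (.node (.leaf (82, 1077)) (.leaf (0, 0))) (.node (.leaf (723, 7246)) (.leaf (0, 0)))) (.node (.node (.leaf (359, 2815)) (.leaf (0, 0))) (.node (.leaf (746, 7763)) (.leaf (0, 0))))))) (.node (.node (.node (.node (.node (.leaf (27, 184)) (.leaf (0, 0))) (.node (.leaf (443, 3458)) (.leaf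 (0, 0)))) (.node (.node (.leaf (409, 3222)) (.leaf (0, 0))) (.node (.leaf (688, 6850)) (.leaf (0, 0))))) (.node (.node (.node (.leaf (128, 885)) (.leaf (0, 0))) (.node (.leaf (351, 4273)) (.leaf (0, 0)))) (.node (.node (.leaf (374, 2922)) (.leaf (0, 0))) (.node (.leaf (700, 7503)) (.leaf (0, 0)))))) (.node (.node (.node (.node (.leaf (75, 539)) (.leaf (0, 0))) (.node (.leaf (756, 7630)) (.leaf (0, 0)))) (.node (.node (.leaf (294, 2342)) (.leaf (0, 0))) (.node (.leaf (695, 6930)) (.leaf (0, 0))))) (.node (.node (.node (.leaf (64, 1305)) (.leaf (0, 0))) (.node (.leaf (602, 4800)) (.leaf (0, 0)))) (.node (.node (.leaf (544, 8964)) (.leaf (0, 0))) (.node (.leaf (522, 8083)) (.leaf (0, 0)))))))) (.node (.node (.node (.node (.node (.node (.leaf (19, 118)) (.leaf (833, 8511))) (.node (.leaf (642, 5350)) (.leaf (0, 0)))) (.node (.node (.leaf (99, 1816)) (.leaf (0, 0))) (.node (.leaf (653, 6512)) (.leaf (0, 0))))) (.node (.node (.node (.leaf (122, 8700)) (.leaf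 (0, 0))) (.node (.leaf (318, 9208)) (.leaf (0, 0)))) (.node (.node (.leaf (270, 2555)) (.leaf (0, 0))) (.node (.leaf (640, 7331)) (.leaf (0, 0)))))) (.node (.node (.node (.node (.leaf (137, 931)) (.leaf (0, 0))) (.node (.leaf (578, 6413)) (.leaf (0, 0)))) (.node (.node (.leaf (243, 2183)) (.leaf (0, 0))) (.node (.leaf (667, 6733)) (.leaf (0, 0))))) (.node (.node (.node (.leaf (233, 1910)) (.leaf (0, 0))) (.node (.leaf (338, 4545)) (.leaf (0, 0)))) (.node (.node (.leaf (477, 3752)) (.leaf (0, 0))) (.node (.leaf (709, 7915)) (.leaf (0, 0))))))) (.node (.node (.node (.node (.node (.leaf (41, 314)) (.leaf (0, 0))) (.node (.leaf (730, 7318)) (.leaf (0, 0)))) (.node (.node (.leaf (210, 2011)) (.leaf (0, 0))) (.node (.leaf (786, 7962)) (.leaf (0, 0))))) (.node (.node (.node (.leaf (325, 2590)) (.leaf (0, 0))) (.node (.leaf (795, 8088)) (.leaf (0, 0)))) (.node (.node (.leaf (194, 2736)) (.leaf (0, 0))) (.node (.leaf (757, 7640)) (.leaf (0, 0)))))) (.node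 (.node (.node (.node (.leaf (84, 631)) (.leaf (0, 0))) (.node (.leaf (352, 4278)) (.leaf (0, 0)))) (.node (.node (.leaf (384, 3014)) (.leaf (0, 0))) (.node (.leaf (580, 7061)) (.leaf (0, 0))))) (.node (.node (.node (.leaf (68, 1395)) (.leaf (0, 0))) (.node (.leaf (370, 4813)) (.leaf (0, 0)))) (.node (.node (.leaf (693, 6906)) (.leaf (0, 0))) (.node (.leaf (624, 9498)) (.leaf (0, 0))))))))) (.node (.node (.node (.node (.node (.node (.node (.leaf (6, 49)) (.leaf (824, 8435))) (.node (.leaf (416, 3271)) (.leaf (0, 0)))) (.node (.node (.leaf (217, 1806)) (.leaf (0, 0))) (.node (.leaf (660, 6771)) (.leaf (0, 0))))) (.node (.node (.node (.leaf (80, 749)) (.leaf (0, 0))) (.node (.leaf (759, 7668)) (.leaf (0, 0)))) (.node (.node (.leaf (305, 2522)) (.leaf (0, 0))) (.node (.leaf (827, 8432)) (.leaf (0, 0)))))) (.node (.node (.node (.node (.leaf (109, 738)) (.leaf (0, 0))) (.node (.leaf (469, 5976)) (.leaf (0, 0)))) (.node (.node (.leaf (106, 2141)) (.leaf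 (0, 0))) (.node (.leaf (567, 6686)) (.leaf (0, 0))))) (.node (.node (.node (.leaf (196, 1407)) (.leaf (0, 0))) (.node (.leaf (562, 4500)) (.leaf (0, 0)))) (.node (.node (.leaf (434, 8930)) (.leaf (0, 0))) (.node (.leaf (772, 7841)) (.leaf (0, 0))))))) (.node (.node (.node (.node (.node (.leaf (31, 277)) (.leaf (0, 0))) (.node (.leaf (735, 7392)) (.leaf (0, 0)))) (.node (.node (.leaf (272, 2192)) (.leaf (0, 0))) (.node (.leaf (493, 5441)) (.leaf (0, 0))))) (.node (.node (.node (.leaf (157, 1103)) (.leaf (0, 0))) (.node (.leaf (546, 4329)) (.leaf (0, 0)))) (.node (.node (.leaf (391, 3078)) (.leaf (0, 0))) (.node (.leaf (559, 7581)) (.leaf (0, 0)))))) (.node (.node (.node (.node (.leaf (218, 1810)) (.leaf (0, 0))) (.node (.leaf (255, 3857)) (.leaf (0, 0)))) (.node (.node (.leaf (295, 2344)) (.leaf (0, 0))) (.node (.leaf (716, 7166)) (.leaf (0, 0))))) (.node (.node (.node (.leaf (293, 2330)) (.leaf (0, 0))) (.node (.leaf (633, 5262)) (.leaf (0, 0))))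 (.node (.node (.leaf (218, 3091)) (.leaf (0, 0))) (.node (.leaf (802, 8162)) (.leaf (0, 0)))))))) (.node (.node (.node (.node (.node (.node (.leaf (43, 324)) (.leaf (0, 0))) (.node (.leaf (735, 7396)) (.leaf (0, 0)))) (.node (.node (.leaf (302, 2410)) (.leaf (0, 0))) (.node (.leaf (744, 7506)) (.leaf (0, 0))))) (.node (.node (.node (.leaf (124, 850)) (.leaf (0, 0))) (.node (.leaf (530, 4183)) (.leaf (0, 0)))) (.node (.node (.leaf (517, 8866)) (.leaf (0, 0))) (.node (.leaf (454, 7429)) (.leaf (0, 0)))))) (.node (.node (.node (.node (.leaf (72, 484)) (.leaf (0, 0))) (.node (.leaf (485, 3794)) (.leaf (0, 0)))) (.node (.node (.leaf (207, 2239)) (.leaf (0, 0))) (.node (.leaf (688, 6838)) (.leaf (0, 0))))) (.node (.node (.node (.leaf (367, 2880)) (.leaf (0, 0))) (.node (.leaf (382, 4597)) (.leaf (0, 0)))) (.node (.node (.leaf (465, 3632)) (.leaf (0, 0))) (.node (.leaf (618, 8001)) (.leaf (0, 0))))))) (.node (.node (.node (.node (.node (.leaf (48, 348))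 (.leaf (0, 0))) (.node (.leaf (444, 3555)) (.leaf (0, 0)))) (.node (.node (.leaf (263, 2120)) (.leaf (0, 0))) (.node (.leaf (820, 8372)) (.leaf (0, 0))))) (.node (.node (.node (.leaf (133, 1015)) (.leaf (0, 0))) (.node (.leaf (282, 4407)) (.leaf (0, 0)))) (.node (.node (.leaf (652, 6509)) (.leaf (0, 0))) (.node (.leaf (768, 7740)) (.leaf (0, 0)))))) (.node (.node (.node (.node (.leaf (176, 1259)) (.leaf (0, 0))) (.node (.leaf (502, 3984)) (.leaf (0, 0)))) (.node (.node (.leaf (229, 2405)) (.leaf (0, 0))) (.node (.leaf (677, 7141)) (.leaf (0, 0))))) (.node (.node (.node (.leaf (123, 8740)) (.leaf (0, 0))) (.node (.leaf (612, 5021)) (.leaf (0, 0)))) (.node (.node (.leaf (458, 3580)) (.leaf (0, 0))) (.node (.leaf (827, 8438)) (.leaf (0, 0))))))))))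

def edge10 : Arr (ℕ × ℕ) :=
  (.node (.node (.node (.node (.node (.node (.node (.node (.leaf (2, 8586)) (.leaf (822, 8396))) (.node (.leaf (477, 6446)) (.leaf (0, 0)))) (.node (.node (.leaf (205, 1735)) (.leaf (0, 0))) (.node (.leaf (630, 5214)) (.leaf (0, 0))))) (.node (.node (.node (.leaf (237, 1946)) (.leaf (0, 0))) (.node (.leaf (330, 9162)) (.leaf (0, 0)))) (.node (.node (.leaf (301, 2459)) (.leaf (0, 0))) (.node (.leaf (808, 8254)) (.leaf (0, 0)))))) (.node (.node (.node (.node (.leaf (114, 774)) (.leaf (0, 0))) (.node (.leaf (461, 3603)) (.leaf (0, 0)))) (.node (.node (.leaf (503, 3956)) (.leaf (0, 0))) (.node (.leaf (491, 6645)) (.leaf (0, 0))))) (.node (.node (.node (.leaf (275, 2218)) (.leaf (0, 0))) (.node (.leaf (694, 6920)) (.leaf (0, 0)))) (.node (.node (.leaf (666, 6624)) (.leaf (0, 0))) (.node (.leaf (784, 7936)) (.leaf (0, 0))))))) (.node (.node (.node (.node (.node (.leaf (18, 182)) (.leaf (0, 0))) (.node (.leaf (436, 3421)) (.leaf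 (0, 0)))) (.node (.node (.leaf (256, 2086)) (.leaf (0, 0))) (.node (.leaf (717, 7180)) (.leaf (0, 0))))) (.node (.node (.node (.leaf (134, 914)) (.leaf (0, 0))) (.node (.leaf (650, 5454)) (.leaf (0, 0)))) (.node (.node (.leaf (155, 2649)) (.leaf (0, 0))) (.node (.leaf (676, 7505)) (.leaf (0, 0)))))) (.node (.node (.node (.node (.leaf (72, 533)) (.leaf (0, 0))) (.node (.leaf (769, 7750)) (.leaf (0, 0)))) (.node (.node (.leaf (196, 2277)) (.leaf (0, 0))) (.node (.leaf (691, 6911)) (.leaf (0, 0))))) (.node (.node (.node (.leaf (135, 1309)) (.leaf (0, 0))) (.node (.leaf (469, 6456)) (.leaf (0, 0)))) (.node (.node (.leaf (701, 7000)) (.leaf (0, 0))) (.node (.leaf (553, 8085)) (.leaf (0, 0)))))))) (.node (.node (.node (.node (.node (.node (.leaf (15, 98)) (.leaf (833, 8525))) (.node (.leaf (206, 3315)) (.leaf (0, 0)))) (.node (.node (.leaf (232, 1904)) (.leaf (0, 0))) (.node (.leaf (812, 8282)) (.leaf (0, 0))))) (.node (.node (.node (.leaf (138, 934)) (.leaf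 (0, 0))) (.node (.leaf (527, 4146)) (.leaf (0, 0)))) (.node (.node (.leaf (199, 8838)) (.leaf (0, 0))) (.node (.leaf (588, 7335)) (.leaf (0, 0)))))) (.node (.node (.node (.node (.leaf (112, 8628)) (.leaf (0, 0))) (.node (.leaf (463, 6422)) (.leaf (0, 0)))) (.node (.node (.leaf (239, 2181)) (.leaf (0, 0))) (.node (.leaf (740, 7458)) (.leaf (0, 0))))) (.node (.node (.node (.leaf (108, 1172)) (.leaf (0, 0))) (.node (.leaf (397, 5981)) (.leaf (0, 0)))) (.node (.node (.leaf (372, 2915)) (.leaf (0, 0))) (.node (.leaf (783, 7918)) (.leaf (0, 0))))))) (.node (.node (.node (.node (.node (.leaf (100, 690)) (.leaf (0, 0))) (.node (.leaf (547, 9060)) (.leaf (0, 0)))) (.node (.node (.leaf (377, 2960)) (.leaf (0, 0))) (.node (.leaf (784, 7944)) (.leaf (0, 0))))) (.node (.node (.node (.leaf (305, 2430)) (.leaf (0, 0))) (.node (.leaf (519, 4372)) (.leaf (0, 0)))) (.node (.node (.leaf (587, 4616)) (.leaf (0, 0))) (.node (.leaf (530, 7647)) (.leaf (0, 0)))))) (.node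 (.node (.node (.node (.leaf (203, 1720)) (.leaf (0, 0))) (.node (.leaf (752, 7596)) (.leaf (0, 0)))) (.node (.node (.leaf (382, 2986)) (.leaf (0, 0))) (.node (.leaf (782, 7908)) (.leaf (0, 0))))) (.node (.node (.node (.leaf (190, 1397)) (.leaf (0, 0))) (.node (.leaf (643, 6245)) (.leaf (0, 0)))) (.node (.node (.leaf (399, 3139)) (.leaf (0, 0))) (.node (.leaf (816, 8312)) (.leaf (0, 0))))))))) (.node (.node (.node (.node (.node (.node (.node (.leaf (5, 51)) (.leaf (766, 8441))) (.node (.leaf (334, 3277)) (.leaf (0, 0)))) (.node (.node (.leaf (243, 1994)) (.leaf (0, 0))) (.node (.leaf (621, 5133)) (.leaf (0, 0))))) (.node (.node (.node (.leaf (116, 786)) (.leaf (0, 0))) (.node (.leaf (262, 4048)) (.leaf (0, 0)))) (.node (.node (.leaf (535, 8824)) (.leaf (0, 0))) (.node (.leaf (726, 7262)) (.leaf (0, 0)))))) (.node (.node (.node (.node (.leaf (23, 403)) (.leaf (0, 0))) (.node (.leaf (262, 3685)) (.leaf (0, 0)))) (.node (.node (.leaf (265, 2142)) (.leaf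 (0, 0))) (.node (.leaf (807, 8236)) (.leaf (0, 0))))) (.node (.node (.node (.leaf (162, 1136)) (.leaf (0, 0))) (.node (.leaf (666, 6628)) (.leaf (0, 0)))) (.node (.node (.leaf (608, 4910)) (.leaf (0, 0))) (.node (.leaf (485, 7837)) (.leaf (0, 0))))))) (.node (.node (.node (.node (.node (.leaf (15, 281)) (.leaf (0, 0))) (.node (.leaf (218, 3461)) (.leaf (0, 0)))) (.node (.node (.leaf (103, 1963)) (.leaf (0, 0))) (.node (.leaf (564, 6297)) (.leaf (0, 0))))) (.node (.node (.node (.leaf (126, 924)) (.leaf (0, 0))) (.node (.leaf (551, 5692)) (.leaf (0, 0)))) (.node (.node (.leaf (229, 2695)) (.leaf (0, 0))) (.node (.leaf (456, 7577)) (.leaf (0, 0)))))) (.node (.node (.node (.node (.leaf (37, 601)) (.leaf (0, 0))) (.node (.leaf (491, 3855)) (.leaf (0, 0)))) (.node (.node (.leaf (572, 4504)) (.leaf (0, 0))) (.node (.leaf (461, 6987)) (.leaf (0, 0))))) (.node (.node (.node (.leaf (294, 2336)) (.leaf (0, 0))) (.node (.leaf (614, 5032)) (.leaf (0, 0)))) (.node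 (.node (.leaf (346, 3087)) (.leaf (0, 0))) (.node (.leaf (816, 8314)) (.leaf (0, 0)))))))) (.node (.node (.node (.node (.node (.node (.leaf (18, 145)) (.leaf (0, 0))) (.node (.leaf (645, 5410)) (.leaf (0, 0)))) (.node (.node (.leaf (446, 3490)) (.leaf (0, 0))) (.node (.leaf (764, 7721)) (.leaf (0, 0))))) (.node (.node (.node (.leaf (147, 1036)) (.leaf (0, 0))) (.node (.leaf (578, 9226)) (.leaf (0, 0)))) (.node (.node (.leaf (224, 8868)) (.leaf (0, 0))) (.node (.leaf (738, 7442)) (.leaf (0, 0)))))) (.node (.node (.node (.node (.leaf (29, 487)) (.leaf (0, 0))) (.node (.leaf (368, 3775)) (.leaf (0, 0)))) (.node (.node (.leaf (423, 8798)) (.leaf (0, 0))) (.node (.leaf (603, 6825)) (.leaf (0, 0))))) (.node (.node (.node (.leaf (364, 2860)) (.leaf (0, 0))) (.node (.leaf (383, 4603)) (.leaf (0, 0)))) (.node (.node (.leaf (698, 6974)) (.leaf (0, 0))) (.node (.leaf (819, 8366)) (.leaf (0, 0))))))) (.node (.node (.node (.node (.node (.leaf (126, 874)) (.leaf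 (0, 0))) (.node (.leaf (517, 9080)) (.leaf (0, 0)))) (.node (.node (.leaf (106, 8766)) (.leaf (0, 0))) (.node (.leaf (818, 8350)) (.leaf (0, 0))))) (.node (.node (.node (.leaf (70, 1009)) (.leaf (0, 0))) (.node (.leaf (552, 4403)) (.leaf (0, 0)))) (.node (.node (.leaf (646, 5414)) (.leaf (0, 0))) (.node (.leaf (675, 7714)) (.leaf (0, 0)))))) (.node (.node (.node (.node (.leaf (98, 680)) (.leaf (0, 0))) (.node (.leaf (638, 6565)) (.leaf (0, 0)))) (.node (.node (.leaf (199, 2409)) (.leaf (0, 0))) (.node (.leaf (713, 7146)) (.leaf (0, 0))))) (.node (.node (.node (.leaf (239, 1972)) (.leaf (0, 0))) (.node (.leaf (736, 7406)) (.leaf (0, 0)))) (.node (.node (.leaf (361, 3179)) (.leaf (0, 0))) (.node (.leaf (813, 8293)) (.leaf (0, 0))))))))))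

def edge11 : Arr (ℕ × ℕ) :=
  (.node (.node (.node (.node (.node (.node (.node (.node (.leaf (5, 30)) (.leaf (836, 8544))) (.node (.leaf (410, 3233)) (.leaf (0, 0)))) (.node (.node (.leaf (277, 2238)) (.leaf (0, 0))) (.node (.leaf (327, 5051)) (.leaf (0, 0))))) (.node (.node (.node (.leaf (238, 1956)) (.leaf (0, 0))) (.node (.leaf (616, 9164)) (.leaf (0, 0)))) (.node (.node (.leaf (313, 2502)) (.leaf (0, 0))) (.node (.leaf (801, 8154)) (.leaf (0, 0)))))) (.node (.node (.node (.node (.leaf (113, 764)) (.leaf (0, 0))) (.node (.leaf (667, 6638)) (.leaf (0, 0)))) (.node (.node (.leaf (105, 2105)) (.leaf (0, 0))) (.node (.leaf (657, 6641)) (.leaf (0, 0))))) (.node (.node (.node (.leaf (279, 2254)) (.leaf (0, 0))) (.node (.leaf (592, 4672)) (.leaf (0, 0)))) (.node (.node (.leaf (667, 6636)) (.leaf (0, 0))) (.node (.leaf (758, 7771)) (.leaf (0, 0))))))) (.node (.node (.node (.node (.node (.leaf (50, 364)) (.leaf (0, 0))) (.node (.leaf (727, 7282)) (.leaf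 (0, 0)))) (.node (.node (.leaf (310, 2472)) (.leaf (0, 0))) (.node (.leaf (424, 5351)) (.leaf (0, 0))))) (.node (.node (.node (.leaf (189, 1366)) (.leaf (0, 0))) (.node (.leaf (654, 6526)) (.leaf (0, 0)))) (.node (.node (.leaf (562, 4426)) (.leaf (0, 0))) (.node (.leaf (683, 7501)) (.leaf (0, 0)))))) (.node (.node (.node (.node (.leaf (170, 8654)) (.leaf (0, 0))) (.node (.leaf (252, 3815)) (.leaf (0, 0)))) (.node (.node (.leaf (335, 2660)) (.leaf (0, 0))) (.node (.leaf (397, 6917)) (.leaf (0, 0))))) (.node (.node (.node (.leaf (134, 1307)) (.leaf (0, 0))) (.node (.leaf (799, 8141)) (.leaf (0, 0)))) (.node (.node (.leaf (385, 3019)) (.leaf (0, 0))) (.node (.leaf (828, 8442)) (.leaf (0, 0)))))))) (.node (.node (.node (.node (.node (.node (.leaf (34, 280)) (.leaf (824, 8517))) (.node (.leaf (546, 4326)) (.leaf (0, 0)))) (.node (.node (.leaf (229, 1886)) (.leaf (0, 0))) (.node (.leaf (786, 7964)) (.leaf (0, 0))))) (.node (.node (.node (.leaf (146, 976))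 (.leaf (0, 0))) (.node (.leaf (732, 7344)) (.leaf (0, 0)))) (.node (.node (.leaf (524, 8840)) (.leaf (0, 0))) (.node (.leaf (717, 7339)) (.leaf (0, 0)))))) (.node (.node (.node (.node (.leaf (164, 1152)) (.leaf (0, 0))) (.node (.leaf (687, 6836)) (.leaf (0, 0)))) (.node (.node (.leaf (238, 2185)) (.leaf (0, 0))) (.node (.leaf (673, 6735)) (.leaf (0, 0))))) (.node (.node (.node (.leaf (162, 1174)) (.leaf (0, 0))) (.node (.leaf (533, 9314)) (.leaf (0, 0)))) (.node (.node (.leaf (403, 8944)) (.leaf (0, 0))) (.node (.leaf (705, 7923)) (.leaf (0, 0))))))) (.node (.node (.node (.node (.node (.leaf (103, 714)) (.leaf (0, 0))) (.node (.leaf (308, 9062)) (.leaf (0, 0)))) (.node (.node (.leaf (231, 2015)) (.leaf (0, 0))) (.node (.leaf (720, 7216)) (.leaf (0, 0))))) (.node (.node (.node (.leaf (48, 965)) (.leaf (0, 0))) (.node (.leaf (281, 4374)) (.leaf (0, 0)))) (.node (.node (.leaf (346, 2731)) (.leaf (0, 0))) (.node (.leaf (599, 7651)) (.leaf (0, 0))))))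 (.node (.node (.node (.node (.leaf (219, 1819)) (.leaf (0, 0))) (.node (.leaf (506, 3974)) (.leaf (0, 0)))) (.node (.node (.leaf (338, 8812)) (.leaf (0, 0))) (.node (.leaf (443, 7073)) (.leaf (0, 0))))) (.node (.node (.node (.leaf (287, 2739)) (.leaf (0, 0))) (.node (.leaf (693, 6914)) (.leaf (0, 0)))) (.node (.node (.leaf (649, 5448)) (.leaf (0, 0))) (.node (.leaf (760, 8247)) (.leaf (0, 0))))))))) (.node (.node (.node (.node (.node (.node (.node (.leaf (20, 126)) (.leaf (826, 8431))) (.node (.leaf (420, 3294)) (.leaf (0, 0)))) (.node (.node (.leaf (219, 1814)) (.leaf (0, 0))) (.node (.leaf (516, 9398)) (.leaf (0, 0))))) (.node (.node (.node (.leaf (41, 753)) (.leaf (0, 0))) (.node (.leaf (536, 9194)) (.leaf (0, 0)))) (.node (.node (.leaf (327, 2602)) (.leaf (0, 0))) (.node (.leaf (765, 7728)) (.leaf (0, 0)))))) (.node (.node (.node (.node (.leaf (53, 401)) (.leaf (0, 0))) (.node (.leaf (521, 4052)) (.leaf (0, 0)))) (.node (.node (.leaf (266, 2146))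 (.leaf (0, 0))) (.node (.leaf (503, 6693)) (.leaf (0, 0))))) (.node (.node (.node (.leaf (94, 1141)) (.leaf (0, 0))) (.node (.leaf (582, 4584)) (.leaf (0, 0)))) (.node (.node (.leaf (523, 4074)) (.leaf (0, 0))) (.node (.leaf (558, 7839)) (.leaf (0, 0))))))) (.node (.node (.node (.node (.node (.leaf (55, 386)) (.leaf (0, 0))) (.node (.leaf (441, 3463)) (.leaf (0, 0)))) (.node (.node (.leaf (324, 8760)) (.leaf (0, 0))) (.node (.leaf (458, 9440)) (.leaf (0, 0))))) (.node (.node (.node (.leaf (182, 1310)) (.leaf (0, 0))) (.node (.leaf (685, 6812)) (.leaf (0, 0)))) (.node (.node (.leaf (190, 2691)) (.leaf (0, 0))) (.node (.leaf (594, 7589)) (.leaf (0, 0)))))) (.node (.node (.node (.node (.leaf (91, 626)) (.leaf (0, 0))) (.node (.leaf (580, 4562)) (.leaf (0, 0)))) (.node (.node (.leaf (179, 2315)) (.leaf (0, 0))) (.node (.leaf (701, 7008)) (.leaf (0, 0))))) (.node (.node (.node (.leaf (244, 2008)) (.leaf (0, 0))) (.node (.leaf (613, 5022)) (.leaf (0, 0))))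 (.node (.node (.leaf (205, 8970)) (.leaf (0, 0))) (.node (.leaf (737, 8171)) (.leaf (0, 0)))))))) (.node (.node (.node (.node (.node (.node (.leaf (24, 160)) (.leaf (0, 0))) (.node (.leaf (441, 3446)) (.leaf (0, 0)))) (.node (.node (.leaf (389, 3060)) (.leaf (0, 0))) (.node (.leaf (804, 9428)) (.leaf (0, 0))))) (.node (.node (.node (.leaf (89, 849)) (.leaf (0, 0))) (.node (.leaf (732, 9228)) (.leaf (0, 0)))) (.node (.node (.leaf (619, 5086)) (.leaf (0, 0))) (.node (.leaf (445, 7437)) (.leaf (0, 0)))))) (.node (.node (.node (.node (.leaf (74, 504)) (.leaf (0, 0))) (.node (.leaf (509, 3998)) (.leaf (0, 0)))) (.node (.node (.leaf (348, 2742)) (.leaf (0, 0))) (.node (.leaf (586, 6833)) (.leaf (0, 0))))) (.node (.node (.node (.leaf (61, 1251)) (.leaf (0, 0))) (.node (.leaf (471, 5694)) (.leaf (0, 0)))) (.node (.node (.leaf (442, 3455)) (.leaf (0, 0))) (.node (.leaf (774, 8003)) (.leaf (0, 0))))))) (.node (.node (.node (.node (.node (.leaf (135, 918)) (.leaf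 (0, 0))) (.node (.leaf (739, 7444)) (.leaf (0, 0)))) (.node (.node (.leaf (257, 2094)) (.leaf (0, 0))) (.node (.leaf (805, 8202)) (.leaf (0, 0))))) (.node (.node (.node (.leaf (129, 1011)) (.leaf (0, 0))) (.node (.leaf (455, 4411)) (.leaf (0, 0)))) (.node (.node (.leaf (353, 2779)) (.leaf (0, 0))) (.node (.leaf (765, 7724)) (.leaf (0, 0)))))) (.node (.node (.node (.node (.leaf (180, 1296)) (.leaf (0, 0))) (.node (.leaf (351, 9142)) (.leaf (0, 0)))) (.node (.node (.leaf (339, 2682)) (.leaf (0, 0))) (.node (.leaf (742, 7480)) (.leaf (0, 0))))) (.node (.node (.node (.leaf (220, 1828)) (.leaf (0, 0))) (.node (.leaf (458, 9374)) (.leaf (0, 0)))) (.node (.node (.leaf (409, 3218)) (.leaf (0, 0))) (.node (.leaf (638, 8301)) (.leaf (0, 0))))))))))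

def edge12 : Arr (ℕ × ℕ) :=
  (.node (.node (.node (.node (.node (.node (.node (.node (.leaf (3, 18)) (.leaf (836, 8549))) (.node (.leaf (707, 7078)) (.leaf (0, 0)))) (.node (.node (.leaf (237, 1948)) (.leaf (0, 0))) (.node (.leaf (601, 5053)) (.leaf (0, 0))))) (.node (.node (.node (.leaf (40, 721)) (.leaf (0, 0))) (.node (.leaf (621, 9166)) (.leaf (0, 0)))) (.node (.node (.leaf (134, 2463)) (.leaf (0, 0))) (.node (.leaf (446, 7209)) (.leaf (0, 0)))))) (.node (.node (.node (.node (.leaf (22, 380)) (.leaf (0, 0))) (.node (.leaf (733, 7368)) (.leaf (0, 0)))) (.node (.node (.leaf (259, 2106)) (.leaf (0, 0))) (.node (.leaf (822, 8388)) (.leaf (0, 0))))) (.node (.node (.node (.leaf (158, 1104)) (.leaf (0, 0))) (.node (.leaf (782, 7910)) (.leaf (0, 0)))) (.node (.node (.leaf (354, 2819)) (.leaf (0, 0))) (.node (.leaf (501, 7775)) (.leaf (0, 0))))))) (.node (.node (.node (.node (.node (.leaf (11, 237)) (.leaf (0, 0))) (.node (.leaf (581, 6485)) (.leaf (0,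 0)))) (.node (.node (.leaf (415, 3254)) (.leaf (0, 0))) (.node (.leaf (381, 9432)) (.leaf (0, 0))))) (.node (.node (.node (.leaf (136, 922)) (.leaf (0, 0))) (.node (.leaf (301, 4289)) (.leaf (0, 0)))) (.node (.node (.leaf (321, 2657)) (.leaf (0, 0))) (.node (.leaf (780, 7888)) (.leaf (0, 0)))))) (.node (.node (.node (.node (.leaf (79, 550)) (.leaf (0, 0))) (.node (.leaf (486, 3813)) (.leaf (0, 0)))) (.node (.node (.leaf (182, 2281)) (.leaf (0, 0))) (.node (.leaf (641, 6909)) (.leaf (0, 0))))) (.node (.node (.node (.leaf (311, 2476)) (.leaf (0, 0))) (.node (.leaf (326, 4671)) (.leaf (0, 0)))) (.node (.node (.leaf (702, 7014)) (.leaf (0, 0))) (.node (.leaf (522, 8097)) (.leaf (0, 0)))))))) (.node (.node (.node (.node (.node (.node (.leaf (14, 103)) (.leaf (832, 8522))) (.node (.leaf (278, 3311)) (.leaf (0, 0)))) (.node (.node (.leaf (445, 3484)) (.leaf (0, 0))) (.node (.leaf (792, 8048)) (.leaf (0, 0))))) (.node (.node (.node (.leaf (43, 793)) (.leaf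 (0, 0))) (.node (.leaf (500, 4151)) (.leaf (0, 0)))) (.node (.node (.leaf (223, 8842)) (.leaf (0, 0))) (.node (.leaf (527, 7345)) (.leaf (0, 0)))))) (.node (.node (.node (.node (.leaf (102, 706)) (.leaf (0, 0))) (.node (.leaf (487, 9104)) (.leaf (0, 0)))) (.node (.node (.leaf (352, 2774)) (.leaf (0, 0))) (.node (.leaf (566, 6739)) (.leaf (0, 0))))) (.node (.node (.node (.leaf (345, 2722)) (.leaf (0, 0))) (.node (.leaf (579, 4554)) (.leaf (0, 0)))) (.node (.node (.leaf (689, 6852)) (.leaf (0, 0))) (.node (.leaf (672, 7931)) (.leaf (0, 0))))))) (.node (.node (.node (.node (.node (.leaf (96, 671)) (.leaf (0, 0))) (.node (.leaf (563, 9064)) (.leaf (0, 0)))) (.node (.node (.leaf (432, 3378)) (.leaf (0, 0))) (.node (.leaf (649, 6531)) (.leaf (0, 0))))) (.node (.node (.node (.leaf (329, 2616)) (.leaf (0, 0))) (.node (.leaf (452, 6306)) (.leaf (0, 0)))) (.node (.node (.leaf (204, 2741)) (.leaf (0, 0))) (.node (.leaf (753, 7645)) (.leaf (0, 0)))))) (.node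 (.node (.node (.node (.leaf (94, 654)) (.leaf (0, 0))) (.node (.leaf (513, 4016)) (.leaf (0, 0)))) (.node (.node (.leaf (377, 2964)) (.leaf (0, 0))) (.node (.leaf (734, 7374)) (.leaf (0, 0))))) (.node (.node (.node (.leaf (396, 3110)) (.leaf (0, 0))) (.node (.leaf (532, 6320)) (.leaf (0, 0)))) (.node (.node (.leaf (364, 8980)) (.leaf (0, 0))) (.node (.leaf (614, 8253)) (.leaf (0, 0))))))))) (.node (.node (.node (.node (.node (.node (.node (.leaf (19, 121)) (.leaf (828, 8446))) (.node (.leaf (278, 3283)) (.leaf (0, 0)))) (.node (.node (.leaf (92, 1780)) (.leaf (0, 0))) (.node (.leaf (800, 8148)) (.leaf (0, 0))))) (.node (.node (.node (.leaf (150, 8690)) (.leaf (0, 0))) (.node (.leaf (323, 9196)) (.leaf (0, 0)))) (.node (.node (.leaf (138, 2527)) (.leaf (0, 0))) (.node (.leaf (738, 7440)) (.leaf (0, 0)))))) (.node (.node (.node (.node (.leaf (60, 410)) (.leaf (0, 0))) (.node (.leaf (522, 4058)) (.leaf (0, 0)))) (.node (.node (.leaf (526, 4144)) (.leaf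 (0, 0))) (.node (.leaf (779, 7878)) (.leaf (0, 0))))) (.node (.node (.node (.leaf (156, 1139)) (.leaf (0, 0))) (.node (.leaf (290, 4505)) (.leaf (0, 0)))) (.node (.node (.leaf (241, 8932)) (.leaf (0, 0))) (.node (.leaf (769, 7843)) (.leaf (0, 0))))))) (.node (.node (.node (.node (.node (.leaf (26, 285)) (.leaf (0, 0))) (.node (.leaf (408, 3479)) (.leaf (0, 0)))) (.node (.node (.leaf (124, 1969)) (.leaf (0, 0))) (.node (.leaf (745, 7518)) (.leaf (0, 0))))) (.node (.node (.node (.leaf (180, 1292)) (.leaf (0, 0))) (.node (.leaf (641, 5344)) (.leaf (0, 0)))) (.node (.node (.leaf (393, 3092)) (.leaf (0, 0))) (.node (.leaf (799, 8139)) (.leaf (0, 0)))))) (.node (.node (.node (.node (.leaf (38, 603)) (.leaf (0, 0))) (.node (.leaf (255, 3859)) (.leaf (0, 0)))) (.node (.node (.leaf (201, 2317)) (.leaf (0, 0))) (.node (.leaf (380, 6993)) (.leaf (0, 0))))) (.node (.node (.node (.leaf (124, 1718)) (.leaf (0, 0))) (.node (.leaf (315, 4740)) (.leaf (0, 0)))) (.node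 (.node (.leaf (391, 3083)) (.leaf (0, 0))) (.node (.leaf (680, 8175)) (.leaf (0, 0)))))))) (.node (.node (.node (.node (.node (.node (.leaf (11, 149)) (.leaf (0, 0))) (.node (.leaf (430, 3375)) (.leaf (0, 0)))) (.node (.node (.leaf (298, 2368)) (.leaf (0, 0))) (.node (.leaf (702, 7018)) (.leaf (0, 0))))) (.node (.node (.node (.leaf (188, 1719)) (.leaf (0, 0))) (.node (.leaf (336, 9230)) (.leaf (0, 0)))) (.node (.node (.leaf (322, 2609)) (.leaf (0, 0))) (.node (.leaf (602, 7439)) (.leaf (0, 0)))))) (.node (.node (.node (.node (.leaf (73, 503)) (.leaf (0, 0))) (.node (.leaf (518, 4036)) (.leaf (0, 0)))) (.node (.node (.leaf (545, 4324)) (.leaf (0, 0))) (.node (.leaf (688, 6846)) (.leaf (0, 0))))) (.node (.node (.node (.leaf (370, 2906)) (.leaf (0, 0))) (.node (.leaf (401, 4599)) (.leaf (0, 0)))) (.node (.node (.leaf (700, 6992)) (.leaf (0, 0))) (.node (.leaf (749, 8007)) (.leaf (0, 0))))))) (.node (.node (.node (.node (.node (.leaf (25, 347)) (.leaf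 (0, 0))) (.node (.leaf (749, 7565)) (.leaf (0, 0)))) (.node (.node (.leaf (101, 2061)) (.leaf (0, 0))) (.node (.leaf (654, 6576)) (.leaf (0, 0))))) (.node (.node (.node (.leaf (199, 1424)) (.leaf (0, 0))) (.node (.leaf (282, 4409)) (.leaf (0, 0)))) (.node (.node (.leaf (649, 5446)) (.leaf (0, 0))) (.node (.leaf (826, 8426)) (.leaf (0, 0)))))) (.node (.node (.node (.node (.leaf (92, 683)) (.leaf (0, 0))) (.node (.leaf (654, 6522)) (.leaf (0, 0)))) (.node (.node (.leaf (302, 2413)) (.leaf (0, 0))) (.node (.leaf (496, 7143)) (.leaf (0, 0))))) (.node (.node (.node (.leaf (298, 2367)) (.leaf (0, 0))) (.node (.leaf (325, 5003)) (.leaf (0, 0)))) (.node (.node (.leaf (233, 3185)) (.leaf (0, 0))) (.node (.leaf (780, 8311)) (.leaf (0, 0))))))))))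

def edge13 : Arr (ℕ × ℕ) :=
  (.node (.node (.node (.node (.node (.node (.node (.node (.leaf (6, 34)) (.leaf (835, 8538))) (.node (.leaf (298, 3243)) (.leaf (0, 0)))) (.node (.node (.leaf (279, 2246)) (.leaf (0, 0))) (.node (.leaf (486, 9382)) (.leaf (0, 0))))) (.node (.node (.node (.leaf (96, 723)) (.leaf (0, 0))) (.node (.leaf (516, 9168)) (.leaf (0, 0)))) (.node (.node (.leaf (228, 2461)) (.leaf (0, 0))) (.node (.leaf (743, 7488)) (.leaf (0, 0)))))) (.node (.node (.node (.node (.leaf (117, 796)) (.leaf (0, 0))) (.node (.leaf (426, 6442)) (.leaf (0, 0)))) (.node (.node (.leaf (260, 2110)) (.leaf (0, 0))) (.node (.leaf (490, 6649)) (.leaf (0, 0))))) (.node (.node (.node (.leaf (171, 1228)) (.leaf (0, 0))) (.node (.leaf (568, 4474)) (.leaf (0, 0)))) (.node (.node (.leaf (459, 3588)) (.leaf (0, 0))) (.node (.leaf (774, 7810)) (.leaf (0, 0))))))) (.node (.node (.node (.node (.node (.leaf (28, 238)) (.leaf (0, 0))) (.node (.leaf (431, 3425)) (.leaf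 (0, 0)))) (.node (.node (.leaf (369, 2888)) (.leaf (0, 0))) (.node (.leaf (685, 6806)) (.leaf (0, 0))))) (.node (.node (.node (.leaf (137, 928)) (.leaf (0, 0))) (.node (.leaf (581, 4566)) (.leaf (0, 0)))) (.node (.node (.leaf (389, 3068)) (.leaf (0, 0))) (.node (.leaf (790, 8014)) (.leaf (0, 0)))))) (.node (.node (.node (.node (.leaf (74, 557)) (.leaf (0, 0))) (.node (.leaf (363, 3821)) (.leaf (0, 0)))) (.node (.node (.leaf (563, 4438)) (.leaf (0, 0))) (.node (.leaf (686, 6913)) (.leaf (0, 0))))) (.node (.node (.node (.leaf (148, 1303)) (.leaf (0, 0))) (.node (.leaf (614, 5030)) (.leaf (0, 0)))) (.node (.node (.leaf (547, 6428)) (.leaf (0, 0))) (.node (.leaf (748, 8101)) (.leaf (0, 0)))))))) (.node (.node (.node (.node (.node (.node (.leaf (21, 142)) (.leaf (838, 8568))) (.node (.leaf (640, 9018)) (.leaf (0, 0)))) (.node (.node (.leaf (147, 1823)) (.leaf (0, 0))) (.node (.leaf (762, 7706)) (.leaf (0, 0))))) (.node (.node (.node (.leaf (59, 795)) (.leaf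 (0, 0))) (.node (.leaf (532, 4176)) (.leaf (0, 0)))) (.node (.node (.leaf (531, 8844)) (.leaf (0, 0))) (.node (.leaf (579, 7353)) (.leaf (0, 0)))))) (.node (.node (.node (.node (.leaf (26, 441)) (.leaf (0, 0))) (.node (.leaf (475, 3737)) (.leaf (0, 0)))) (.node (.node (.leaf (350, 2762)) (.leaf (0, 0))) (.node (.leaf (555, 9456)) (.leaf (0, 0))))) (.node (.node (.node (.leaf (251, 2054)) (.leaf (0, 0))) (.node (.leaf (366, 5982)) (.leaf (0, 0)))) (.node (.node (.leaf (367, 2919)) (.leaf (0, 0))) (.node (.leaf (712, 7927)) (.leaf (0, 0))))))) (.node (.node (.node (.node (.node (.leaf (111, 752)) (.leaf (0, 0))) (.node (.leaf (223, 3512)) (.leaf (0, 0)))) (.node (.node (.leaf (212, 2019)) (.leaf (0, 0))) (.node (.leaf (656, 6534)) (.leaf (0, 0))))) (.node (.node (.node (.leaf (317, 2532)) (.leaf (0, 0))) (.node (.leaf (800, 8146)) (.leaf (0, 0)))) (.node (.node (.leaf (544, 8906)) (.leaf (0, 0))) (.node (.leaf (468, 7649)) (.leaf (0, 0)))))) (.node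 (.node (.node (.node (.leaf (127, 880)) (.leaf (0, 0))) (.node (.leaf (258, 3950)) (.leaf (0, 0)))) (.node (.node (.leaf (125, 2361)) (.leaf (0, 0))) (.node (.leaf (392, 9470)) (.leaf (0, 0))))) (.node (.node (.node (.leaf (398, 3134)) (.leaf (0, 0))) (.node (.leaf (466, 6368)) (.leaf (0, 0)))) (.node (.node (.leaf (605, 8982)) (.leaf (0, 0))) (.node (.leaf (810, 8266)) (.leaf (0, 0))))))))) (.node (.node (.node (.node (.node (.node (.node (.leaf (9, 8592)) (.leaf (749, 8455))) (.node (.leaf (390, 9006)) (.leaf (0, 0)))) (.node (.node (.leaf (216, 1796)) (.leaf (0, 0))) (.node (.leaf (624, 9400)) (.leaf (0, 0))))) (.node (.node (.node (.leaf (151, 8692)) (.leaf (0, 0))) (.node (.leaf (794, 8070)) (.leaf (0, 0)))) (.node (.node (.leaf (523, 8826)) (.leaf (0, 0))) (.node (.leaf (764, 7723)) (.leaf (0, 0)))))) (.node (.node (.node (.node (.leaf (23, 405)) (.leaf (0, 0))) (.node (.leaf (755, 7624)) (.leaf (0, 0)))) (.node (.node (.leaf (534, 4186)) (.leaf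 (0, 0))) (.node (.leaf (670, 6697)) (.leaf (0, 0))))) (.node (.node (.node (.leaf (190, 1370)) (.leaf (0, 0))) (.node (.leaf (699, 6988)) (.leaf (0, 0)))) (.node (.node (.leaf (365, 8934)) (.leaf (0, 0))) (.node (.leaf (648, 7855)) (.leaf (0, 0))))))) (.node (.node (.node (.node (.node (.leaf (42, 318)) (.leaf (0, 0))) (.node (.leaf (456, 3554)) (.leaf (0, 0)))) (.node (.node (.leaf (221, 1971)) (.leaf (0, 0))) (.node (.leaf (399, 5449)) (.leaf (0, 0))))) (.node (.node (.node (.leaf (184, 1324)) (.leaf (0, 0))) (.node (.leaf (736, 7408)) (.leaf (0, 0)))) (.node (.node (.leaf (387, 3034)) (.leaf (0, 0))) (.node (.leaf (792, 8044)) (.leaf (0, 0)))))) (.node (.node (.node (.node (.leaf (213, 1783)) (.leaf (0, 0))) (.node (.leaf (496, 3860)) (.leaf (0, 0)))) (.node (.node (.leaf (132, 2321)) (.leaf (0, 0))) (.node (.leaf (744, 7502)) (.leaf (0, 0))))) (.node (.node (.node (.leaf (227, 1868)) (.leaf (0, 0))) (.node (.leaf (616, 5054)) (.leaf (0, 0))))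 (.node (.node (.leaf (413, 3248)) (.leaf (0, 0))) (.node (.leaf (714, 8169)) (.leaf (0, 0)))))))) (.node (.node (.node (.node (.node (.node (.leaf (7, 147)) (.leaf (0, 0))) (.node (.leaf (443, 3456)) (.leaf (0, 0)))) (.node (.node (.leaf (176, 1862)) (.leaf (0, 0))) (.node (.leaf (635, 5307)) (.leaf (0, 0))))) (.node (.node (.node (.leaf (239, 1968)) (.leaf (0, 0))) (.node (.leaf (604, 9232)) (.leaf (0, 0)))) (.node (.node (.leaf (622, 5134)) (.leaf (0, 0))) (.node (.leaf (740, 7454)) (.leaf (0, 0)))))) (.node (.node (.node (.node (.leaf (37, 8636)) (.leaf (0, 0))) (.node (.leaf (249, 3777)) (.leaf (0, 0)))) (.node (.node (.leaf (424, 3312)) (.leaf (0, 0))) (.node (.leaf (574, 6829)) (.leaf (0, 0))))) (.node (.node (.node (.leaf (319, 2544)) (.leaf (0, 0))) (.node (.leaf (325, 9320)) (.leaf (0, 0)))) (.node (.node (.leaf (379, 2979)) (.leaf (0, 0))) (.node (.leaf (772, 8009)) (.leaf (0, 0))))))) (.node (.node (.node (.node (.node (.leaf (64, 426))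 (.leaf (0, 0))) (.node (.leaf (573, 4510)) (.leaf (0, 0)))) (.node (.node (.leaf (468, 3678)) (.leaf (0, 0))) (.node (.leaf (710, 7114)) (.leaf (0, 0))))) (.node (.node (.node (.leaf (135, 1018)) (.leaf (0, 0))) (.node (.leaf (560, 4412)) (.leaf (0, 0)))) (.node (.node (.leaf (657, 6538)) (.leaf (0, 0))) (.node (.leaf (769, 7760)) (.leaf (0, 0)))))) (.node (.node (.node (.node (.leaf (172, 1232)) (.leaf (0, 0))) (.node (.leaf (600, 9144)) (.leaf (0, 0)))) (.node (.node (.leaf (310, 2464)) (.leaf (0, 0))) (.node (.leaf (734, 7384)) (.leaf (0, 0))))) (.node (.node (.node (.leaf (414, 3252)) (.leaf (0, 0))) (.node (.leaf (572, 6387)) (.leaf (0, 0)))) (.node (.node (.leaf (221, 3181)) (.leaf (0, 0))) (.node (.leaf (806, 8303)) (.leaf (0, 0))))))))))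

def edge14 : Arr (ℕ × ℕ) :=
  (.node (.node (.node (.node (.node (.node (.node (.node (.leaf (2, 17)) (.leaf (668, 8389))) (.node (.leaf (335, 3247)) (.leaf (0, 0)))) (.node (.node (.leaf (156, 1740)) (.leaf (0, 0))) (.node (.leaf (627, 5186)) (.leaf (0, 0))))) (.node (.node (.node (.leaf (258, 2104)) (.leaf (0, 0))) (.node (.leaf (624, 9170)) (.leaf (0, 0)))) (.node (.node (.leaf (461, 3598)) (.leaf (0, 0))) (.node (.leaf (744, 7498)) (.leaf (0, 0)))))) (.node (.node (.node (.node (.leaf (159, 1116)) (.leaf (0, 0))) (.node (.leaf (230, 3612)) (.leaf (0, 0)))) (.node (.node (.leaf (500, 3946)) (.leaf (0, 0))) (.node (.leaf (673, 6678)) (.leaf (0, 0))))) (.node (.node (.node (.leaf (159, 1120)) (.leaf (0, 0))) (.node (.leaf (718, 7200)) (.leaf (0, 0)))) (.node (.node (.leaf (405, 3178)) (.leaf (0, 0))) (.node (.leaf (483, 7773)) (.leaf (0, 0))))))) (.node (.node (.node (.node (.node (.leaf (13, 247)) (.leaf (0, 0))) (.node (.leaf (222, 3429)) (.leaf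 (0, 0)))) (.node (.node (.leaf (168, 1911)) (.leaf (0, 0))) (.node (.leaf (421, 6449)) (.leaf (0, 0))))) (.node (.node (.node (.leaf (133, 906)) (.leaf (0, 0))) (.node (.leaf (577, 4540)) (.leaf (0, 0)))) (.node (.node (.leaf (312, 2663)) (.leaf (0, 0))) (.node (.leaf (785, 7958)) (.leaf (0, 0)))))) (.node (.node (.node (.node (.leaf (32, 559)) (.leaf (0, 0))) (.node (.leaf (400, 3827)) (.leaf (0, 0)))) (.node (.node (.leaf (428, 3346)) (.leaf (0, 0))) (.node (.leaf (627, 6925)) (.leaf (0, 0))))) (.node (.node (.node (.leaf (284, 2280)) (.leaf (0, 0))) (.node (.leaf (615, 5036)) (.leaf (0, 0)))) (.node (.node (.leaf (380, 3023)) (.leaf (0, 0))) (.node (.leaf (828, 8444)) (.leaf (0, 0)))))))) (.node (.node (.node (.node (.node (.node (.leaf (24, 162)) (.leaf (834, 8521))) (.node (.leaf (342, 3331)) (.leaf (0, 0)))) (.node (.node (.leaf (86, 1825)) (.leaf (0, 0))) (.node (.leaf (711, 7124)) (.leaf (0, 0))))) (.node (.node (.node (.leaf (63, 8702)) (.leaf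 (0, 0))) (.node (.leaf (317, 9210)) (.leaf (0, 0)))) (.node (.node (.leaf (407, 8846)) (.leaf (0, 0))) (.node (.leaf (476, 7347)) (.leaf (0, 0)))))) (.node (.node (.node (.node (.leaf (63, 439)) (.leaf (0, 0))) (.node (.leaf (533, 9106)) (.leaf (0, 0)))) (.node (.node (.leaf (166, 8796)) (.leaf (0, 0))) (.node (.leaf (652, 6745)) (.leaf (0, 0))))) (.node (.node (.node (.leaf (269, 2168)) (.leaf (0, 0))) (.node (.leaf (574, 4553)) (.leaf (0, 0)))) (.node (.node (.leaf (584, 4594)) (.leaf (0, 0))) (.node (.leaf (713, 7929)) (.leaf (0, 0))))))) (.node (.node (.node (.node (.node (.leaf (40, 315)) (.leaf (0, 0))) (.node (.leaf (737, 7430)) (.leaf (0, 0)))) (.node (.node (.leaf (434, 3406)) (.leaf (0, 0))) (.node (.leaf (539, 6533)) (.leaf (0, 0))))) (.node (.node (.node (.leaf (332, 2626)) (.leaf (0, 0))) (.node (.leaf (281, 4377)) (.leaf (0, 0)))) (.node (.node (.leaf (343, 2745)) (.leaf (0, 0))) (.node (.leaf (753, 7657)) (.leaf (0, 0)))))) (.node (.node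 (.node (.node (.leaf (95, 666)) (.leaf (0, 0))) (.node (.leaf (500, 3953)) (.leaf (0, 0)))) (.node (.node (.leaf (347, 2734)) (.leaf (0, 0))) (.node (.leaf (705, 7075)) (.leaf (0, 0))))) (.node (.node (.node (.leaf (390, 3074)) (.leaf (0, 0))) (.node (.leaf (529, 6366)) (.leaf (0, 0)))) (.node (.node (.leaf (686, 8984)) (.leaf (0, 0))) (.node (.leaf (787, 8261)) (.leaf (0, 0))))))))) (.node (.node (.node (.node (.node (.node (.node (.leaf (20, 128)) (.leaf (761, 8451))) (.node (.leaf (343, 3279)) (.leaf (0, 0)))) (.node (.node (.leaf (223, 1846)) (.leaf (0, 0))) (.node (.leaf (629, 5210)) (.leaf (0, 0))))) (.node (.node (.node (.leaf (76, 755)) (.leaf (0, 0))) (.node (.leaf (477, 4055)) (.leaf (0, 0)))) (.node (.node (.leaf (142, 2529)) (.leaf (0, 0))) (.node (.leaf (568, 7271)) (.leaf (0, 0)))))) (.node (.node (.node (.node (.leaf (38, 407)) (.leaf (0, 0))) (.node (.leaf (321, 3687)) (.leaf (0, 0)))) (.node (.node (.leaf (251, 2145)) (.leaf (0, 0)))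 (.node (.leaf (358, 6695)) (.leaf (0, 0))))) (.node (.node (.node (.leaf (189, 1358)) (.leaf (0, 0))) (.node (.leaf (542, 4507)) (.leaf (0, 0)))) (.node (.node (.leaf (475, 8936)) (.leaf (0, 0))) (.node (.leaf (765, 7857)) (.leaf (0, 0))))))) (.node (.node (.node (.node (.node (.leaf (17, 289)) (.leaf (0, 0))) (.node (.leaf (328, 9050)) (.leaf (0, 0)))) (.node (.node (.leaf (120, 1975)) (.leaf (0, 0))) (.node (.leaf (655, 6530)) (.leaf (0, 0))))) (.node (.node (.node (.leaf (193, 1392)) (.leaf (0, 0))) (.node (.leaf (549, 4352)) (.leaf (0, 0)))) (.node (.node (.leaf (279, 2699)) (.leaf (0, 0))) (.node (.leaf (805, 8204)) (.leaf (0, 0)))))) (.node (.node (.node (.node (.leaf (224, 1850)) (.leaf (0, 0))) (.node (.leaf (497, 3864)) (.leaf (0, 0)))) (.node (.node (.leaf (294, 2341)) (.leaf (0, 0))) (.node (.leaf (717, 7178)) (.leaf (0, 0))))) (.node (.node (.node (.leaf (89, 1348)) (.leaf (0, 0))) (.node (.leaf (759, 7666)) (.leaf (0, 0)))) (.node (.node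 (.leaf (415, 3260)) (.leaf (0, 0))) (.node (.leaf (554, 8173)) (.leaf (0, 0)))))))) (.node (.node (.node (.node (.node (.node (.leaf (18, 151)) (.leaf (0, 0))) (.node (.leaf (734, 7376)) (.leaf (0, 0)))) (.node (.node (.leaf (405, 3182)) (.leaf (0, 0))) (.node (.leaf (700, 6996)) (.leaf (0, 0))))) (.node (.node (.node (.leaf (209, 1750)) (.leaf (0, 0))) (.node (.leaf (265, 4187)) (.leaf (0, 0)))) (.node (.node (.leaf (143, 2617)) (.leaf (0, 0))) (.node (.leaf (795, 8090)) (.leaf (0, 0)))))) (.node (.node (.node (.node (.leaf (73, 500)) (.leaf (0, 0))) (.node (.leaf (477, 3779)) (.leaf (0, 0)))) (.node (.node (.leaf (114, 2243)) (.leaf (0, 0))) (.node (.leaf (420, 6835)) (.leaf (0, 0))))) (.node (.node (.node (.leaf (373, 2916)) (.leaf (0, 0))) (.node (.leaf (338, 9322)) (.leaf (0, 0)))) (.node (.node (.leaf (570, 4488)) (.leaf (0, 0))) (.node (.leaf (745, 8015)) (.leaf (0, 0))))))) (.node (.node (.node (.node (.node (.leaf (65, 432)) (.leaf (0, 0)))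 (.node (.leaf (408, 3569)) (.leaf (0, 0)))) (.node (.node (.leaf (248, 2063)) (.leaf (0, 0))) (.node (.leaf (749, 7567)) (.leaf (0, 0))))) (.node (.node (.node (.leaf (338, 2678)) (.leaf (0, 0))) (.node (.leaf (561, 4416)) (.leaf (0, 0)))) (.node (.node (.leaf (355, 2785)) (.leaf (0, 0))) (.node (.leaf (479, 7718)) (.leaf (0, 0)))))) (.node (.node (.node (.node (.leaf (171, 1220)) (.leaf (0, 0))) (.node (.leaf (500, 3988)) (.leaf (0, 0)))) (.node (.node (.leaf (341, 2688)) (.leaf (0, 0))) (.node (.leaf (669, 7151)) (.leaf (0, 0))))) (.node (.node (.node (.leaf (202, 1536)) (.leaf (0, 0))) (.node (.leaf (613, 5028)) (.leaf (0, 0)))) (.node (.node (.leaf (313, 3189)) (.leaf (0, 0))) (.node (.leaf (661, 8305)) (.leaf (0, 0))))))))))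

def edge15 : Arr (ℕ × ℕ) :=
  (.node (.node (.node (.node (.node (.node (.node (.node (.leaf (6, 8588)) (.leaf (821, 8397))) (.node (.leaf (457, 3578)) (.leaf (0, 0)))) (.node (.node (.leaf (276, 2228)) (.leaf (0, 0))) (.node (.leaf (537, 5059)) (.leaf (0, 0))))) (.node (.node (.node (.leaf (257, 2088)) (.leaf (0, 0))) (.node (.leaf (260, 4025)) (.leaf (0, 0)))) (.node (.node (.leaf (375, 2938)) (.leaf (0, 0))) (.node (.leaf (816, 8320)) (.leaf (0, 0)))))) (.node (.node (.node (.node (.leaf (22, 383)) (.leaf (0, 0))) (.node (.leaf (420, 6430)) (.leaf (0, 0)))) (.node (.node (.leaf (507, 3982)) (.leaf (0, 0))) (.node (.leaf (778, 7860)) (.leaf (0, 0))))) (.node (.node (.node (.leaf (160, 1122)) (.leaf (0, 0))) (.node (.leaf (285, 4461)) (.leaf (0, 0)))) (.node (.node (.leaf (232, 2824)) (.leaf (0, 0))) (.node (.leaf (771, 7780)) (.leaf (0, 0))))))) (.node (.node (.node (.node (.node (.leaf (29, 248)) (.leaf (0, 0))) (.node (.leaf (714, 7158)) (.leaf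 (0, 0)))) (.node (.node (.leaf (235, 1930)) (.leaf (0, 0))) (.node (.leaf (519, 5686)) (.leaf (0, 0))))) (.node (.node (.node (.leaf (142, 960)) (.leaf (0, 0))) (.node (.leaf (578, 4550)) (.leaf (0, 0)))) (.node (.node (.leaf (274, 2659)) (.leaf (0, 0))) (.node (.leaf (565, 7521)) (.leaf (0, 0)))))) (.node (.node (.node (.node (.leaf (75, 553)) (.leaf (0, 0))) (.node (.leaf (401, 3823)) (.leaf (0, 0)))) (.node (.node (.leaf (564, 4448)) (.leaf (0, 0))) (.node (.leaf (565, 6921)) (.leaf (0, 0))))) (.node (.node (.node (.leaf (165, 1313)) (.leaf (0, 0))) (.node (.leaf (743, 7496)) (.leaf (0, 0)))) (.node (.node (.leaf (396, 3112)) (.leaf (0, 0))) (.node (.leaf (794, 8099)) (.leaf (0, 0)))))))) (.node (.node (.node (.node (.node (.node (.leaf (5, 105)) (.leaf (817, 8527))) (.node (.leaf (642, 5348)) (.leaf (0, 0)))) (.node (.node (.leaf (148, 1827)) (.leaf (0, 0))) (.node (.leaf (621, 9414)) (.leaf (0, 0))))) (.node (.node (.node (.leaf (140, 942)) (.leaf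 (0, 0))) (.node (.leaf (264, 4148)) (.leaf (0, 0)))) (.node (.node (.leaf (608, 4912)) (.leaf (0, 0))) (.node (.leaf (580, 7351)) (.leaf (0, 0)))))) (.node (.node (.node (.node (.leaf (67, 448)) (.leaf (0, 0))) (.node (.leaf (733, 7364)) (.leaf (0, 0)))) (.node (.node (.leaf (255, 2191)) (.leaf (0, 0))) (.node (.leaf (818, 8340)) (.leaf (0, 0))))) (.node (.node (.node (.leaf (96, 1182)) (.leaf (0, 0))) (.node (.leaf (686, 6816)) (.leaf (0, 0)))) (.node (.node (.leaf (268, 2925)) (.leaf (0, 0))) (.node (.leaf (495, 7933)) (.leaf (0, 0))))))) (.node (.node (.node (.node (.node (.leaf (59, 398)) (.leaf (0, 0))) (.node (.leaf (549, 9066)) (.leaf (0, 0)))) (.node (.node (.leaf (154, 2023)) (.leaf (0, 0))) (.node (.leaf (661, 6579)) (.leaf (0, 0))))) (.node (.node (.node (.leaf (142, 963)) (.leaf (0, 0))) (.node (.leaf (554, 4378)) (.leaf (0, 0)))) (.node (.node (.leaf (423, 3302)) (.leaf (0, 0))) (.node (.leaf (770, 7770)) (.leaf (0, 0)))))) (.node (.node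 (.node (.node (.leaf (96, 668)) (.leaf (0, 0))) (.node (.leaf (782, 7916)) (.leaf (0, 0)))) (.node (.node (.leaf (287, 2363)) (.leaf (0, 0))) (.node (.leaf (412, 7079)) (.leaf (0, 0))))) (.node (.node (.node (.leaf (68, 1401)) (.leaf (0, 0))) (.node (.leaf (320, 4823)) (.leaf (0, 0)))) (.node (.node (.leaf (404, 3174)) (.leaf (0, 0))) (.node (.leaf (812, 8276)) (.leaf (0, 0))))))))) (.node (.node (.node (.node (.node (.node (.node (.leaf (9, 62)) (.leaf (799, 8453))) (.node (.leaf (730, 9008)) (.leaf (0, 0)))) (.node (.node (.leaf (244, 2004)) (.leaf (0, 0))) (.node (.leaf (628, 5190)) (.leaf (0, 0))))) (.node (.node (.node (.leaf (110, 751)) (.leaf (0, 0))) (.node (.leaf (759, 7664)) (.leaf (0, 0)))) (.node (.node (.leaf (487, 8828)) (.leaf (0, 0))) (.node (.leaf (725, 7263)) (.leaf (0, 0)))))) (.node (.node (.node (.node (.leaf (61, 412)) (.leaf (0, 0))) (.node (.leaf (628, 9090)) (.leaf (0, 0)))) (.node (.node (.leaf (487, 3800)) (.leaf (0, 0)))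 (.node (.leaf (672, 6699)) (.leaf (0, 0))))) (.node (.node (.node (.leaf (205, 1732)) (.leaf (0, 0))) (.node (.leaf (647, 6460)) (.leaf (0, 0)))) (.node (.node (.leaf (368, 2885)) (.leaf (0, 0))) (.node (.leaf (606, 7849)) (.leaf (0, 0))))))) (.node (.node (.node (.node (.node (.leaf (24, 293)) (.leaf (0, 0))) (.node (.leaf (453, 3540)) (.leaf (0, 0)))) (.node (.node (.leaf (321, 2556)) (.leaf (0, 0))) (.node (.leaf (663, 6586)) (.leaf (0, 0))))) (.node (.node (.node (.leaf (186, 1330)) (.leaf (0, 0))) (.node (.leaf (450, 9252)) (.leaf (0, 0)))) (.node (.node (.leaf (425, 3330)) (.leaf (0, 0))) (.node (.leaf (559, 7585)) (.leaf (0, 0)))))) (.node (.node (.node (.node (.leaf (87, 606)) (.leaf (0, 0))) (.node (.leaf (782, 7904)) (.leaf (0, 0)))) (.node (.node (.leaf (187, 2325)) (.leaf (0, 0))) (.node (.leaf (462, 6995)) (.leaf (0, 0))))) (.node (.node (.node (.leaf (66, 1345)) (.leaf (0, 0))) (.node (.leaf (315, 4743)) (.leaf (0, 0)))) (.node (.node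 (.leaf (283, 3096)) (.leaf (0, 0))) (.node (.leaf (808, 8242)) (.leaf (0, 0)))))))) (.node (.node (.node (.node (.node (.node (.leaf (54, 382)) (.leaf (0, 0))) (.node (.leaf (432, 3383)) (.leaf (0, 0)))) (.node (.node (.leaf (460, 3594)) (.leaf (0, 0))) (.node (.leaf (769, 7754)) (.leaf (0, 0))))) (.node (.node (.node (.leaf (45, 855)) (.leaf (0, 0))) (.node (.leaf (692, 9234)) (.leaf (0, 0)))) (.node (.node (.leaf (330, 2618)) (.leaf (0, 0))) (.node (.leaf (748, 7554)) (.leaf (0, 0)))))) (.node (.node (.node (.node (.leaf (33, 497)) (.leaf (0, 0))) (.node (.leaf (539, 4274)) (.leaf (0, 0)))) (.node (.node (.leaf (547, 4338)) (.leaf (0, 0))) (.node (.leaf (689, 6860)) (.leaf (0, 0))))) (.node (.node (.node (.leaf (174, 1249)) (.leaf (0, 0))) (.node (.leaf (575, 9324)) (.leaf (0, 0)))) (.node (.node (.leaf (697, 6956)) (.leaf (0, 0))) (.node (.leaf (771, 8023)) (.leaf (0, 0))))))) (.node (.node (.node (.node (.node (.leaf (130, 893)) (.leaf (0, 0)))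 (.node (.leaf (244, 3575)) (.leaf (0, 0)))) (.node (.node (.leaf (236, 8768)) (.leaf (0, 0))) (.node (.leaf (803, 8180)) (.leaf (0, 0))))) (.node (.node (.node (.leaf (111, 8718)) (.leaf (0, 0))) (.node (.leaf (739, 7452)) (.leaf (0, 0)))) (.node (.node (.leaf (605, 8912)) (.leaf (0, 0))) (.node (.leaf (795, 8086)) (.leaf (0, 0)))))) (.node (.node (.node (.node (.leaf (211, 1772)) (.leaf (0, 0))) (.node (.leaf (771, 7776)) (.leaf (0, 0)))) (.node (.node (.leaf (304, 2426)) (.leaf (0, 0))) (.node (.leaf (783, 7920)) (.leaf (0, 0))))) (.node (.node (.node (.leaf (274, 2214)) (.leaf (0, 0))) (.node (.leaf (326, 5005)) (.leaf (0, 0)))) (.node (.node (.leaf (634, 5302)) (.leaf (0, 0))) (.node (.leaf (660, 8307)) (.leaf (0, 0))))))))))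

def edge16 : Arr (ℕ × ℕ) :=
  (.node (.node (.node (.node (.node (.node (.node (.node (.leaf (7, 42)) (.leaf (813, 8391))) (.node (.leaf (201, 3245)) (.leaf (0, 0)))) (.node (.node (.leaf (281, 2266)) (.leaf (0, 0))) (.node (.leaf (454, 9384)) (.leaf (0, 0))))) (.node (.node (.node (.leaf (261, 2114)) (.leaf (0, 0))) (.node (.leaf (588, 6337)) (.leaf (0, 0)))) (.node (.node (.leaf (197, 2475)) (.leaf (0, 0))) (.node (.leaf (655, 7217)) (.leaf (0, 0)))))) (.node (.node (.node (.node (.leaf (55, 384)) (.leaf (0, 0))) (.node (.leaf (362, 3617)) (.leaf (0, 0)))) (.node (.node (.leaf (257, 2109)) (.leaf (0, 0))) (.node (.leaf (781, 7902)) (.leaf (0, 0))))) (.node (.node (.node (.leaf (157, 1096)) (.leaf (0, 0))) (.node (.leaf (553, 4463)) (.leaf (0, 0)))) (.node (.node (.leaf (168, 2826)) (.leaf (0, 0))) (.node (.leaf (790, 8022)) (.leaf (0, 0))))))) (.node (.node (.node (.node (.node (.leaf (13, 245)) (.leaf (0, 0))) (.node (.leaf (445, 3488)) (.leaf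 (0, 0)))) (.node (.node (.leaf (94, 1917)) (.leaf (0, 0))) (.node (.leaf (474, 6389)) (.leaf (0, 0))))) (.node (.node (.node (.leaf (204, 1728)) (.leaf (0, 0))) (.node (.leaf (573, 4514)) (.leaf (0, 0)))) (.node (.node (.leaf (235, 2665)) (.leaf (0, 0))) (.node (.leaf (447, 7515)) (.leaf (0, 0)))))) (.node (.node (.node (.node (.leaf (32, 567)) (.leaf (0, 0))) (.node (.leaf (611, 6156)) (.leaf (0, 0)))) (.node (.node (.leaf (376, 2952)) (.leaf (0, 0))) (.node (.leaf (762, 7700)) (.leaf (0, 0))))) (.node (.node (.node (.leaf (286, 2288)) (.leaf (0, 0))) (.node (.leaf (606, 6310)) (.leaf (0, 0)))) (.node (.node (.leaf (289, 3031)) (.leaf (0, 0))) (.node (.leaf (714, 8093)) (.leaf (0, 0)))))))) (.node (.node (.node (.node (.node (.node (.leaf (14, 107)) (.leaf (838, 8564))) (.node (.leaf (287, 9020)) (.leaf (0, 0)))) (.node (.node (.leaf (408, 3208)) (.leaf (0, 0))) (.node (.leaf (332, 5225)) (.leaf (0, 0))))) (.node (.node (.node (.leaf (62, 801)) (.leaf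 (0, 0))) (.node (.leaf (526, 4153)) (.leaf (0, 0)))) (.node (.node (.leaf (142, 2581)) (.leaf (0, 0))) (.node (.leaf (529, 7355)) (.leaf (0, 0)))))) (.node (.node (.node (.node (.leaf (26, 443)) (.leaf (0, 0))) (.node (.leaf (473, 3741)) (.leaf (0, 0)))) (.node (.node (.leaf (498, 3874)) (.leaf (0, 0))) (.node (.leaf (803, 8178)) (.leaf (0, 0))))) (.node (.node (.node (.leaf (253, 2066)) (.leaf (0, 0))) (.node (.leaf (732, 7352)) (.leaf (0, 0)))) (.node (.node (.leaf (363, 2931)) (.leaf (0, 0))) (.node (.leaf (770, 7937)) (.leaf (0, 0))))))) (.node (.node (.node (.node (.node (.leaf (102, 702)) (.leaf (0, 0))) (.node (.leaf (223, 3515)) (.leaf (0, 0)))) (.node (.node (.leaf (247, 2026)) (.leaf (0, 0))) (.node (.leaf (806, 8214)) (.leaf (0, 0))))) (.node (.node (.node (.leaf (315, 2520)) (.leaf (0, 0))) (.node (.leaf (555, 4382)) (.leaf (0, 0)))) (.node (.node (.leaf (206, 2749)) (.leaf (0, 0))) (.node (.leaf (752, 7663)) (.leaf (0, 0)))))) (.node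 (.node (.node (.node (.leaf (93, 648)) (.leaf (0, 0))) (.node (.leaf (784, 7934)) (.leaf (0, 0)))) (.node (.node (.leaf (577, 8814)) (.leaf (0, 0))) (.node (.leaf (637, 7087)) (.leaf (0, 0))))) (.node (.node (.node (.leaf (401, 3154)) (.leaf (0, 0))) (.node (.leaf (534, 9358)) (.leaf (0, 0)))) (.node (.node (.leaf (312, 3143)) (.leaf (0, 0))) (.node (.leaf (674, 8259)) (.leaf (0, 0))))))))) (.node (.node (.node (.node (.node (.node (.node (.leaf (3, 60)) (.leaf (738, 8457))) (.node (.leaf (205, 3291)) (.leaf (0, 0)))) (.node (.node (.leaf (225, 1852)) (.leaf (0, 0))) (.node (.leaf (513, 9402)) (.leaf (0, 0))))) (.node (.node (.node (.leaf (66, 8694)) (.leaf (0, 0))) (.node (.leaf (478, 4057)) (.leaf (0, 0)))) (.node (.node (.leaf (315, 2525)) (.leaf (0, 0))) (.node (.leaf (777, 7852)) (.leaf (0, 0)))))) (.node (.node (.node (.node (.leaf (98, 684)) (.leaf (0, 0))) (.node (.leaf (588, 4632)) (.leaf (0, 0)))) (.node (.node (.leaf (264, 8782)) (.leaf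 (0, 0))) (.node (.leaf (806, 8220)) (.leaf (0, 0))))) (.node (.node (.node (.leaf (104, 1147)) (.leaf (0, 0))) (.node (.leaf (571, 4503)) (.leaf (0, 0)))) (.node (.node (.leaf (482, 3774)) (.leaf (0, 0))) (.node (.leaf (562, 7851)) (.leaf (0, 0))))))) (.node (.node (.node (.node (.node (.leaf (39, 310)) (.leaf (0, 0))) (.node (.leaf (448, 3504)) (.leaf (0, 0)))) (.node (.node (.leaf (176, 1977)) (.leaf (0, 0))) (.node (.leaf (350, 5451)) (.leaf (0, 0))))) (.node (.node (.node (.leaf (187, 1336)) (.leaf (0, 0))) (.node (.leaf (278, 4339)) (.leaf (0, 0)))) (.node (.node (.leaf (424, 3306)) (.leaf (0, 0))) (.node (.leaf (478, 7595)) (.leaf (0, 0)))))) (.node (.node (.node (.node (.leaf (199, 1430)) (.leaf (0, 0))) (.node (.leaf (430, 6169)) (.leaf (0, 0)))) (.node (.node (.leaf (575, 4524)) (.leaf (0, 0))) (.node (.leaf (699, 6991)) (.leaf (0, 0))))) (.node (.node (.node (.leaf (179, 1343)) (.leaf (0, 0))) (.node (.leaf (589, 4745)) (.leaf (0, 0))))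 (.node (.node (.leaf (301, 3094)) (.leaf (0, 0))) (.node (.leaf (662, 8181)) (.leaf (0, 0)))))))) (.node (.node (.node (.node (.node (.node (.leaf (34, 282)) (.leaf (0, 0))) (.node (.leaf (727, 7278)) (.leaf (0, 0)))) (.node (.node (.leaf (188, 1869)) (.leaf (0, 0))) (.node (.leaf (637, 5315)) (.leaf (0, 0))))) (.node (.node (.node (.leaf (90, 853)) (.leaf (0, 0))) (.node (.leaf (528, 4188)) (.leaf (0, 0)))) (.node (.node (.leaf (331, 2622)) (.leaf (0, 0))) (.node (.leaf (453, 7449)) (.leaf (0, 0)))))) (.node (.node (.node (.node (.leaf (79, 560)) (.leaf (0, 0))) (.node (.leaf (249, 3781)) (.leaf (0, 0)))) (.node (.node (.leaf (205, 2244)) (.leaf (0, 0))) (.node (.leaf (511, 6841)) (.leaf (0, 0))))) (.node (.node (.node (.leaf (240, 1976)) (.leaf (0, 0))) (.node (.leaf (573, 9326)) (.leaf (0, 0)))) (.node (.node (.leaf (381, 2985)) (.leaf (0, 0))) (.node (.leaf (619, 8017)) (.leaf (0, 0))))))) (.node (.node (.node (.node (.node (.leaf (143, 964))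 (.leaf (0, 0))) (.node (.leaf (299, 3577)) (.leaf (0, 0)))) (.node (.node (.leaf (251, 2059)) (.leaf (0, 0))) (.node (.leaf (751, 7590)) (.leaf (0, 0))))) (.node (.node (.node (.leaf (273, 2200)) (.leaf (0, 0))) (.node (.leaf (626, 7548)) (.leaf (0, 0)))) (.node (.node (.leaf (395, 8914)) (.leaf (0, 0))) (.node (.leaf (819, 8364)) (.leaf (0, 0)))))) (.node (.node (.node (.node (.leaf (183, 1320)) (.leaf (0, 0))) (.node (.leaf (770, 7764)) (.leaf (0, 0)))) (.node (.node (.leaf (556, 8818)) (.leaf (0, 0))) (.node (.leaf (406, 9474)) (.leaf (0, 0))))) (.node (.node (.node (.leaf (273, 2208)) (.leaf (0, 0))) (.node (.leaf (645, 6161)) (.leaf (0, 0)))) (.node (.node (.leaf (462, 3608)) (.leaf (0, 0))) (.node (.leaf (802, 8315)) (.leaf (0, 0))))))))))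

def edge17 : Arr (ℕ × ℕ) :=
  (.node (.node (.node (.node (.node (.node (.node (.node (.leaf (6, 32)) (.leaf (813, 8395))) (.node (.leaf (393, 3249)) (.leaf (0, 0)))) (.node (.node (.leaf (238, 1960)) (.leaf (0, 0))) (.node (.leaf (609, 5063)) (.leaf (0, 0))))) (.node (.node (.node (.leaf (236, 1942)) (.leaf (0, 0))) (.node (.leaf (622, 6339)) (.leaf (0, 0)))) (.node (.node (.leaf (135, 2471)) (.leaf (0, 0))) (.node (.leaf (413, 7211)) (.leaf (0, 0)))))) (.node (.node (.node (.node (.leaf (56, 388)) (.leaf (0, 0))) (.node (.leaf (433, 3619)) (.leaf (0, 0)))) (.node (.node (.leaf (483, 3784)) (.leaf (0, 0))) (.node (.leaf (635, 9446)) (.leaf (0, 0))))) (.node (.node (.node (.leaf (55, 1100)) (.leaf (0, 0))) (.node (.leaf (567, 4466)) (.leaf (0, 0)))) (.node (.node (.leaf (388, 3044)) (.leaf (0, 0))) (.node (.leaf (618, 7783)) (.leaf (0, 0))))))) (.node (.node (.node (.node (.node (.leaf (36, 8594)) (.leaf (0, 0))) (.node (.leaf (305, 9040)) (.leaf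 (0, 0)))) (.node (.node (.leaf (97, 1913)) (.leaf (0, 0))) (.node (.leaf (692, 6892)) (.leaf (0, 0))))) (.node (.node (.node (.leaf (144, 966)) (.leaf (0, 0))) (.node (.leaf (273, 4295)) (.leaf (0, 0)))) (.node (.node (.leaf (366, 2874)) (.leaf (0, 0))) (.node (.leaf (742, 7517)) (.leaf (0, 0)))))) (.node (.node (.node (.node (.leaf (91, 8656)) (.leaf (0, 0))) (.node (.leaf (434, 3829)) (.leaf (0, 0)))) (.node (.node (.leaf (119, 2285)) (.leaf (0, 0))) (.node (.leaf (502, 6927)) (.leaf (0, 0))))) (.node (.node (.node (.leaf (279, 2252)) (.leaf (0, 0))) (.node (.leaf (762, 9334)) (.leaf (0, 0)))) (.node (.node (.leaf (193, 3037)) (.leaf (0, 0))) (.node (.leaf (813, 8288)) (.leaf (0, 0)))))))) (.node (.node (.node (.node (.node (.node (.leaf (38, 306)) (.leaf (814, 8529))) (.node (.leaf (702, 9022)) (.leaf (0, 0)))) (.node (.node (.leaf (447, 3496)) (.leaf (0, 0))) (.node (.leaf (582, 6048)) (.leaf (0, 0))))) (.node (.node (.node (.leaf (124, 856))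 (.leaf (0, 0))) (.node (.leaf (545, 9212)) (.leaf (0, 0)))) (.node (.node (.leaf (267, 8848)) (.leaf (0, 0))) (.node (.leaf (733, 7360)) (.leaf (0, 0)))))) (.node (.node (.node (.node (.leaf (54, 445)) (.leaf (0, 0))) (.node (.leaf (373, 3753)) (.leaf (0, 0)))) (.node (.node (.leaf (283, 2274)) (.leaf (0, 0))) (.node (.leaf (359, 6747)) (.leaf (0, 0))))) (.node (.node (.node (.leaf (250, 2044)) (.leaf (0, 0))) (.node (.leaf (475, 6420)) (.leaf (0, 0)))) (.node (.node (.leaf (234, 2933)) (.leaf (0, 0))) (.node (.leaf (708, 7941)) (.leaf (0, 0))))))) (.node (.node (.node (.node (.node (.leaf (42, 321)) (.leaf (0, 0))) (.node (.leaf (452, 3516)) (.leaf (0, 0)))) (.node (.node (.leaf (114, 2025)) (.leaf (0, 0))) (.node (.leaf (663, 6592)) (.leaf (0, 0))))) (.node (.node (.node (.leaf (276, 2232)) (.leaf (0, 0))) (.node (.leaf (799, 8132)) (.leaf (0, 0)))) (.node (.node (.leaf (168, 2751)) (.leaf (0, 0))) (.node (.leaf (763, 7710)) (.leaf (0, 0)))))) (.node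 (.node (.node (.node (.leaf (39, 652)) (.leaf (0, 0))) (.node (.leaf (507, 6495)) (.leaf (0, 0)))) (.node (.node (.leaf (296, 2359)) (.leaf (0, 0))) (.node (.leaf (572, 7081)) (.leaf (0, 0))))) (.node (.node (.node (.leaf (391, 3080)) (.leaf (0, 0))) (.node (.leaf (355, 9360)) (.leaf (0, 0)))) (.node (.node (.leaf (489, 3826)) (.leaf (0, 0))) (.node (.leaf (673, 8263)) (.leaf (0, 0))))))))) (.node (.node (.node (.node (.node (.node (.node (.leaf (9, 59)) (.leaf (768, 8459))) (.node (.leaf (420, 3292)) (.leaf (0, 0)))) (.node (.node (.leaf (226, 1860)) (.leaf (0, 0))) (.node (.leaf (808, 9404)) (.leaf (0, 0))))) (.node (.node (.node (.leaf (115, 780)) (.leaf (0, 0))) (.node (.leaf (760, 7684)) (.leaf (0, 0)))) (.node (.node (.leaf (177, 2531)) (.leaf (0, 0))) (.node (.leaf (445, 7269)) (.leaf (0, 0)))))) (.node (.node (.node (.node (.leaf (175, 1250)) (.leaf (0, 0))) (.node (.leaf (592, 9092)) (.leaf (0, 0)))) (.node (.node (.leaf (530, 4163)) (.leaf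 (0, 0))) (.node (.leaf (804, 8190)) (.leaf (0, 0))))) (.node (.node (.node (.leaf (207, 1738)) (.leaf (0, 0))) (.node (.leaf (457, 4511)) (.leaf (0, 0)))) (.node (.node (.leaf (686, 6822)) (.leaf (0, 0))) (.node (.leaf (790, 8026)) (.leaf (0, 0))))))) (.node (.node (.node (.node (.node (.leaf (23, 299)) (.leaf (0, 0))) (.node (.leaf (220, 3485)) (.leaf (0, 0)))) (.node (.node (.leaf (472, 3704)) (.leaf (0, 0))) (.node (.leaf (647, 5453)) (.leaf (0, 0))))) (.node (.node (.node (.leaf (183, 1316)) (.leaf (0, 0))) (.node (.leaf (419, 4341)) (.leaf (0, 0)))) (.node (.node (.leaf (194, 8900)) (.leaf (0, 0))) (.node (.leaf (501, 7597)) (.leaf (0, 0)))))) (.node (.node (.node (.node (.leaf (221, 1836)) (.leaf (0, 0))) (.node (.leaf (349, 3863)) (.leaf (0, 0)))) (.node (.node (.leaf (573, 4508)) (.leaf (0, 0))) (.node (.leaf (386, 7001)) (.leaf (0, 0))))) (.node (.node (.node (.leaf (189, 1362)) (.leaf (0, 0))) (.node (.leaf (599, 4748)) (.leaf (0, 0))))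 (.node (.node (.leaf (412, 3236)) (.leaf (0, 0))) (.node (.leaf (799, 8187)) (.leaf (0, 0)))))))) (.node (.node (.node (.node (.node (.node (.leaf (57, 392)) (.leaf (0, 0))) (.node (.leaf (337, 9030)) (.leaf (0, 0)))) (.node (.node (.leaf (203, 1871)) (.leaf (0, 0))) (.node (.leaf (570, 5313)) (.leaf (0, 0))))) (.node (.node (.node (.leaf (297, 2360)) (.leaf (0, 0))) (.node (.leaf (319, 9236)) (.leaf (0, 0)))) (.node (.node (.leaf (620, 5122)) (.leaf (0, 0))) (.node (.leaf (747, 7534)) (.leaf (0, 0)))))) (.node (.node (.node (.node (.leaf (78, 534)) (.leaf (0, 0))) (.node (.leaf (258, 3783)) (.leaf (0, 0)))) (.node (.node (.leaf (549, 4348)) (.leaf (0, 0))) (.node (.leaf (687, 6847)) (.leaf (0, 0))))) (.node (.node (.node (.leaf (306, 2438)) (.leaf (0, 0))) (.node (.leaf (611, 9328)) (.leaf (0, 0)))) (.node (.node (.leaf (699, 6980)) (.leaf (0, 0))) (.node (.leaf (543, 8019)) (.leaf (0, 0))))))) (.node (.node (.node (.node (.node (.leaf (49, 350))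 (.leaf (0, 0))) (.node (.leaf (273, 3571)) (.leaf (0, 0)))) (.node (.node (.leaf (384, 3012)) (.leaf (0, 0))) (.node (.leaf (787, 7984)) (.leaf (0, 0))))) (.node (.node (.node (.leaf (125, 1023)) (.leaf (0, 0))) (.node (.leaf (307, 4415)) (.leaf (0, 0)))) (.node (.node (.leaf (647, 5432)) (.leaf (0, 0))) (.node (.leaf (830, 8470)) (.leaf (0, 0)))))) (.node (.node (.node (.node (.leaf (213, 1778)) (.leaf (0, 0))) (.node (.leaf (331, 9146)) (.leaf (0, 0)))) (.node (.node (.leaf (293, 2423)) (.leaf (0, 0))) (.node (.leaf (497, 9476)) (.leaf (0, 0))))) (.node (.node (.node (.leaf (393, 3099)) (.leaf (0, 0))) (.node (.leaf (711, 7122)) (.leaf (0, 0)))) (.node (.node (.leaf (285, 8994)) (.leaf (0, 0))) (.node (.leaf (791, 8317)) (.leaf (0, 0))))))))))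

def edge18 : Arr (ℕ × ℕ) :=
  (.node (.node (.node (.node (.node (.node (.node (.node (.leaf (1, 22)) (.leaf (821, 8387))) (.node (.leaf (720, 7210)) (.leaf (0, 0)))) (.node (.node (.leaf (182, 1748)) (.leaf (0, 0))) (.node (.leaf (789, 8000)) (.leaf (0, 0))))) (.node (.node (.node (.leaf (40, 727)) (.leaf (0, 0))) (.node (.leaf (509, 6343)) (.leaf (0, 0)))) (.node (.node (.leaf (309, 2467)) (.leaf (0, 0))) (.node (.leaf (659, 7213)) (.leaf (0, 0)))))) (.node (.node (.node (.node (.leaf (156, 1094)) (.leaf (0, 0))) (.node (.leaf (434, 3621)) (.leaf (0, 0)))) (.node (.node (.leaf (258, 8776)) (.leaf (0, 0))) (.node (.leaf (713, 7150)) (.leaf (0, 0))))) (.node (.node (.node (.leaf (136, 1102)) (.leaf (0, 0))) (.node (.leaf (803, 8184)) (.leaf (0, 0)))) (.node (.node (.leaf (464, 3616)) (.leaf (0, 0))) (.node (.leaf (775, 7816)) (.leaf (0, 0))))))) (.node (.node (.node (.node (.node (.leaf (29, 250)) (.leaf (0, 0))) (.node (.leaf (224, 3435)) (.leaf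 (0, 0)))) (.node (.node (.leaf (327, 2598)) (.leaf (0, 0))) (.node (.leaf (343, 5363)) (.leaf (0, 0))))) (.node (.node (.node (.leaf (145, 972)) (.leaf (0, 0))) (.node (.leaf (696, 6948)) (.leaf (0, 0)))) (.node (.node (.leaf (241, 2669)) (.leaf (0, 0))) (.node (.leaf (494, 7525)) (.leaf (0, 0)))))) (.node (.node (.node (.node (.leaf (36, 8658)) (.leaf (0, 0))) (.node (.leaf (481, 9118)) (.leaf (0, 0)))) (.node (.node (.leaf (566, 4460)) (.leaf (0, 0))) (.node (.leaf (653, 6923)) (.leaf (0, 0))))) (.node (.node (.node (.leaf (242, 1990)) (.leaf (0, 0))) (.node (.leaf (745, 9336)) (.leaf (0, 0)))) (.node (.node (.leaf (412, 3240)) (.leaf (0, 0))) (.node (.leaf (741, 8111)) (.leaf (0, 0)))))))) (.node (.node (.node (.node (.node (.node (.leaf (35, 290)) (.leaf (814, 8533))) (.node (.leaf (454, 6437)) (.leaf (0, 0)))) (.node (.node (.leaf (209, 1831)) (.leaf (0, 0))) (.node (.leaf (610, 5221)) (.leaf (0, 0))))) (.node (.node (.node (.leaf (102, 805))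 (.leaf (0, 0))) (.node (.leaf (474, 9214)) (.leaf (0, 0)))) (.node (.node (.leaf (324, 2586)) (.leaf (0, 0))) (.node (.leaf (463, 7369)) (.leaf (0, 0)))))) (.node (.node (.node (.node (.leaf (68, 450)) (.leaf (0, 0))) (.node (.leaf (521, 4054)) (.leaf (0, 0)))) (.node (.node (.leaf (388, 3048)) (.leaf (0, 0))) (.node (.leaf (359, 6753)) (.leaf (0, 0))))) (.node (.node (.node (.leaf (79, 8726)) (.leaf (0, 0))) (.node (.leaf (292, 4559)) (.leaf (0, 0)))) (.node (.node (.leaf (275, 2927)) (.leaf (0, 0))) (.node (.leaf (507, 7947)) (.leaf (0, 0))))))) (.node (.node (.node (.node (.node (.leaf (110, 746)) (.leaf (0, 0))) (.node (.leaf (323, 9068)) (.leaf (0, 0)))) (.node (.node (.leaf (253, 2071)) (.leaf (0, 0))) (.node (.leaf (353, 6536)) (.leaf (0, 0))))) (.node (.node (.node (.leaf (177, 1262)) (.leaf (0, 0))) (.node (.leaf (778, 7868)) (.leaf (0, 0)))) (.node (.node (.leaf (496, 3862)) (.leaf (0, 0))) (.node (.leaf (599, 7659)) (.leaf (0, 0)))))) (.node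 (.node (.node (.node (.leaf (159, 1118)) (.leaf (0, 0))) (.node (.leaf (352, 4280)) (.leaf (0, 0)))) (.node (.node (.leaf (410, 3230)) (.leaf (0, 0))) (.node (.leaf (723, 7238)) (.leaf (0, 0))))) (.node (.node (.node (.leaf (404, 3170)) (.leaf (0, 0))) (.node (.leaf (320, 4825)) (.leaf (0, 0)))) (.node (.node (.leaf (195, 3149)) (.leaf (0, 0))) (.node (.leaf (809, 8267)) (.leaf (0, 0))))))))) (.node (.node (.node (.node (.node (.node (.node (.leaf (12, 82)) (.leaf (825, 8465))) (.node (.leaf (421, 3296)) (.leaf (0, 0)))) (.node (.node (.leaf (222, 1838)) (.leaf (0, 0))) (.node (.leaf (791, 9406)) (.leaf (0, 0))))) (.node (.node (.node (.leaf (58, 759)) (.leaf (0, 0))) (.node (.leaf (796, 8096)) (.leaf (0, 0)))) (.node (.node (.leaf (330, 2620)) (.leaf (0, 0))) (.node (.leaf (722, 7273)) (.leaf (0, 0)))))) (.node (.node (.node (.node (.leaf (62, 414)) (.leaf (0, 0))) (.node (.leaf (536, 4246)) (.leaf (0, 0)))) (.node (.node (.leaf (269, 8784)) (.leaf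 (0, 0))) (.node (.leaf (808, 8248)) (.leaf (0, 0))))) (.node (.node (.node (.leaf (208, 1744)) (.leaf (0, 0))) (.node (.leaf (576, 4528)) (.leaf (0, 0)))) (.node (.node (.leaf (471, 3698)) (.leaf (0, 0))) (.node (.leaf (554, 7869)) (.leaf (0, 0))))))) (.node (.node (.node (.node (.node (.leaf (36, 300)) (.leaf (0, 0))) (.node (.leaf (738, 7436)) (.leaf (0, 0)))) (.node (.node (.leaf (364, 2856)) (.leaf (0, 0))) (.node (.leaf (650, 6360)) (.leaf (0, 0))))) (.node (.node (.node (.leaf (316, 2526)) (.leaf (0, 0))) (.node (.leaf (548, 4344)) (.leaf (0, 0)))) (.node (.node (.leaf (418, 3280)) (.leaf (0, 0))) (.node (.leaf (754, 7608)) (.leaf (0, 0)))))) (.node (.node (.node (.node (.leaf (214, 1787)) (.leaf (0, 0))) (.node (.leaf (497, 9122)) (.leaf (0, 0)))) (.node (.node (.leaf (185, 8806)) (.leaf (0, 0))) (.node (.leaf (660, 7007)) (.leaf (0, 0))))) (.node (.node (.node (.leaf (130, 1367)) (.leaf (0, 0))) (.node (.leaf (521, 6454)) (.leaf (0, 0))))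 (.node (.node (.leaf (197, 3103)) (.leaf (0, 0))) (.node (.leaf (809, 8256)) (.leaf (0, 0)))))))) (.node (.node (.node (.node (.node (.node (.leaf (43, 328)) (.leaf (0, 0))) (.node (.leaf (441, 3444)) (.leaf (0, 0)))) (.node (.node (.leaf (164, 1875)) (.leaf (0, 0))) (.node (.leaf (707, 7086)) (.leaf (0, 0))))) (.node (.node (.node (.leaf (76, 8712)) (.leaf (0, 0))) (.node (.leaf (533, 4185)) (.leaf (0, 0)))) (.node (.node (.leaf (514, 8870)) (.leaf (0, 0))) (.node (.leaf (656, 7447)) (.leaf (0, 0)))))) (.node (.node (.node (.node (.leaf (153, 8638)) (.leaf (0, 0))) (.node (.leaf (484, 3786)) (.leaf (0, 0)))) (.node (.node (.leaf (277, 2241)) (.leaf (0, 0))) (.node (.leaf (798, 8116)) (.leaf (0, 0))))) (.node (.node (.node (.leaf (145, 1254)) (.leaf (0, 0))) (.node (.leaf (687, 6832)) (.leaf (0, 0)))) (.node (.node (.leaf (206, 8954)) (.leaf (0, 0))) (.node (.leaf (525, 8025)) (.leaf (0, 0))))))) (.node (.node (.node (.node (.node (.leaf (138, 932))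 (.leaf (0, 0))) (.node (.leaf (405, 3581)) (.leaf (0, 0)))) (.node (.node (.leaf (362, 2834)) (.leaf (0, 0))) (.node (.leaf (593, 6583)) (.leaf (0, 0))))) (.node (.node (.node (.leaf (293, 2335)) (.leaf (0, 0))) (.node (.leaf (593, 4676)) (.leaf (0, 0)))) (.node (.node (.leaf (563, 6171)) (.leaf (0, 0))) (.node (.leaf (777, 7856)) (.leaf (0, 0)))))) (.node (.node (.node (.node (.leaf (214, 1784)) (.leaf (0, 0))) (.node (.leaf (482, 3999)) (.leaf (0, 0)))) (.node (.node (.leaf (309, 2456)) (.leaf (0, 0))) (.node (.leaf (761, 7690)) (.leaf (0, 0))))) (.node (.node (.node (.leaf (202, 1540)) (.leaf (0, 0))) (.node (.leaf (541, 5007)) (.leaf (0, 0)))) (.node (.node (.leaf (395, 3195)) (.leaf (0, 0))) (.node (.leaf (800, 8323)) (.leaf (0, 0))))))))))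

def edge19 : Arr (ℕ × ℕ) :=
  (.node (.node (.node (.node (.node (.node (.node (.node (.leaf (3, 21)) (.leaf (673, 8403))) (.node (.leaf (582, 4580)) (.leaf (0, 0)))) (.node (.node (.leaf (283, 2272)) (.leaf (0, 0))) (.node (.leaf (619, 5084)) (.leaf (0, 0))))) (.node (.node (.node (.leaf (264, 2140)) (.leaf (0, 0))) (.node (.leaf (514, 4023)) (.leaf (0, 0)))) (.node (.node (.leaf (577, 4542)) (.leaf (0, 0))) (.node (.leaf (721, 7220)) (.leaf (0, 0)))))) (.node (.node (.node (.node (.leaf (157, 1101)) (.leaf (0, 0))) (.node (.leaf (704, 7048)) (.leaf (0, 0)))) (.node (.node (.leaf (504, 3961)) (.leaf (0, 0))) (.node (.leaf (672, 6670)) (.leaf (0, 0))))) (.node (.node (.node (.leaf (158, 1110)) (.leaf (0, 0))) (.node (.leaf (811, 8272)) (.leaf (0, 0)))) (.node (.node (.leaf (253, 2835)) (.leaf (0, 0))) (.node (.leaf (774, 7806)) (.leaf (0, 0))))))) (.node (.node (.node (.node (.node (.leaf (30, 252)) (.leaf (0, 0))) (.node (.leaf (256, 3437)) (.leaf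 (0, 0)))) (.node (.node (.leaf (107, 1921)) (.leaf (0, 0))) (.node (.leaf (641, 5361)) (.leaf (0, 0))))) (.node (.node (.node (.leaf (141, 952)) (.leaf (0, 0))) (.node (.leaf (337, 4297)) (.leaf (0, 0)))) (.node (.node (.leaf (212, 8884)) (.leaf (0, 0))) (.node (.leaf (723, 7533)) (.leaf (0, 0)))))) (.node (.node (.node (.node (.leaf (89, 8660)) (.leaf (0, 0))) (.node (.leaf (668, 6648)) (.leaf (0, 0)))) (.node (.node (.leaf (281, 2287)) (.leaf (0, 0))) (.node (.leaf (693, 6931)) (.leaf (0, 0))))) (.node (.node (.node (.leaf (314, 2510)) (.leaf (0, 0))) (.node (.leaf (307, 4674)) (.leaf (0, 0)))) (.node (.node (.leaf (191, 3033)) (.leaf (0, 0))) (.node (.leaf (781, 8113)) (.leaf (0, 0)))))))) (.node (.node (.node (.node (.node (.node (.leaf (41, 316)) (.leaf (822, 8537))) (.node (.leaf (427, 3334)) (.leaf (0, 0)))) (.node (.node (.leaf (200, 1833)) (.leaf (0, 0))) (.node (.leaf (497, 9416)) (.leaf (0, 0))))) (.node (.node (.node (.leaf (285, 2284))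 (.leaf (0, 0))) (.node (.leaf (705, 9216)) (.leaf (0, 0)))) (.node (.node (.leaf (518, 8850)) (.leaf (0, 0))) (.node (.leaf (427, 7363)) (.leaf (0, 0)))))) (.node (.node (.node (.node (.leaf (162, 1142)) (.leaf (0, 0))) (.node (.leaf (520, 4046)) (.leaf (0, 0)))) (.node (.node (.leaf (216, 2199)) (.leaf (0, 0))) (.node (.leaf (805, 8210)) (.leaf (0, 0))))) (.node (.node (.node (.leaf (247, 2028)) (.leaf (0, 0))) (.node (.leaf (548, 9316)) (.leaf (0, 0)))) (.node (.node (.leaf (448, 3500)) (.leaf (0, 0))) (.node (.leaf (785, 7948)) (.leaf (0, 0))))))) (.node (.node (.node (.node (.node (.leaf (82, 580)) (.leaf (0, 0))) (.node (.leaf (557, 9070)) (.leaf (0, 0)))) (.node (.node (.leaf (383, 3008)) (.leaf (0, 0))) (.node (.leaf (720, 7214)) (.leaf (0, 0))))) (.node (.node (.node (.leaf (136, 968)) (.leaf (0, 0))) (.node (.leaf (550, 4381)) (.leaf (0, 0)))) (.node (.node (.leaf (344, 2755)) (.leaf (0, 0))) (.node (.leaf (598, 7667)) (.leaf (0, 0))))))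 (.node (.node (.node (.node (.leaf (94, 659)) (.leaf (0, 0))) (.node (.leaf (258, 3957)) (.leaf (0, 0)))) (.node (.node (.leaf (412, 3242)) (.leaf (0, 0))) (.node (.leaf (414, 7089)) (.leaf (0, 0))))) (.node (.node (.node (.leaf (194, 1399)) (.leaf (0, 0))) (.node (.leaf (472, 4827)) (.leaf (0, 0)))) (.node (.node (.leaf (645, 5406)) (.leaf (0, 0))) (.node (.leaf (823, 8408)) (.leaf (0, 0))))))))) (.node (.node (.node (.node (.node (.node (.node (.leaf (11, 80)) (.leaf (830, 8474))) (.node (.leaf (379, 9010)) (.leaf (0, 0)))) (.node (.node (.leaf (440, 3440)) (.leaf (0, 0))) (.node (.leaf (625, 9408)) (.leaf (0, 0))))) (.node (.node (.node (.leaf (178, 1268)) (.leaf (0, 0))) (.node (.leaf (519, 4061)) (.leaf (0, 0)))) (.node (.node (.leaf (327, 2596)) (.leaf (0, 0))) (.node (.leaf (432, 7279)) (.leaf (0, 0)))))) (.node (.node (.node (.node (.leaf (97, 672)) (.leaf (0, 0))) (.node (.leaf (262, 3701)) (.leaf (0, 0)))) (.node (.node (.leaf (267, 2148))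 (.leaf (0, 0))) (.node (.leaf (807, 8238)) (.leaf (0, 0))))) (.node (.node (.node (.leaf (204, 1724)) (.leaf (0, 0))) (.node (.leaf (338, 4517)) (.leaf (0, 0)))) (.node (.node (.leaf (687, 6826)) (.leaf (0, 0))) (.node (.leaf (613, 7867)) (.leaf (0, 0))))))) (.node (.node (.node (.node (.node (.leaf (26, 295)) (.leaf (0, 0))) (.node (.leaf (407, 3487)) (.leaf (0, 0)))) (.node (.node (.leaf (473, 3714)) (.leaf (0, 0))) (.node (.leaf (537, 5457)) (.leaf (0, 0))))) (.node (.node (.node (.leaf (117, 935)) (.leaf (0, 0))) (.node (.leaf (697, 6960)) (.leaf (0, 0)))) (.node (.node (.leaf (155, 2705)) (.leaf (0, 0))) (.node (.leaf (755, 7618)) (.leaf (0, 0)))))) (.node (.node (.node (.node (.leaf (59, 8668)) (.leaf (0, 0))) (.node (.leaf (648, 5438)) (.leaf (0, 0)))) (.node (.node (.leaf (378, 8808)) (.leaf (0, 0))) (.node (.leaf (731, 7332)) (.leaf (0, 0))))) (.node (.node (.node (.leaf (157, 1364)) (.leaf (0, 0))) (.node (.leaf (467, 6451)) (.leaf (0, 0))))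 (.node (.node (.leaf (638, 5330)) (.leaf (0, 0))) (.node (.leaf (680, 8183)) (.leaf (0, 0)))))))) (.node (.node (.node (.node (.node (.node (.leaf (7, 155)) (.leaf (0, 0))) (.node (.leaf (631, 9032)) (.leaf (0, 0)))) (.node (.node (.leaf (361, 2829)) (.leaf (0, 0))) (.node (.leaf (699, 6982)) (.leaf (0, 0))))) (.node (.node (.node (.leaf (65, 863)) (.leaf (0, 0))) (.node (.leaf (473, 6315)) (.leaf (0, 0)))) (.node (.node (.leaf (317, 2621)) (.leaf (0, 0))) (.node (.leaf (751, 7586)) (.leaf (0, 0)))))) (.node (.node (.node (.node (.leaf (74, 506)) (.leaf (0, 0))) (.node (.leaf (508, 3991)) (.leaf (0, 0)))) (.node (.node (.leaf (342, 2698)) (.leaf (0, 0))) (.node (.leaf (418, 6845)) (.leaf (0, 0))))) (.node (.node (.node (.leaf (95, 1256)) (.leaf (0, 0))) (.node (.leaf (646, 5416)) (.leaf (0, 0)))) (.node (.node (.leaf (425, 8956)) (.leaf (0, 0))) (.node (.leaf (510, 9496)) (.leaf (0, 0))))))) (.node (.node (.node (.node (.node (.leaf (140, 948)) (.leaf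 (0, 0))) (.node (.leaf (610, 9082)) (.leaf (0, 0)))) (.node (.node (.leaf (268, 2156)) (.leaf (0, 0))) (.node (.leaf (372, 6589)) (.leaf (0, 0))))) (.node (.node (.node (.leaf (113, 1704)) (.leaf (0, 0))) (.node (.leaf (594, 4682)) (.leaf (0, 0)))) (.node (.node (.leaf (360, 2820)) (.leaf (0, 0))) (.node (.leaf (715, 7733)) (.leaf (0, 0)))))) (.node (.node (.node (.node (.leaf (210, 1764)) (.leaf (0, 0))) (.node (.leaf (510, 4002)) (.leaf (0, 0)))) (.node (.node (.leaf (387, 3028)) (.leaf (0, 0))) (.node (.leaf (438, 7159)) (.leaf (0, 0))))) (.node (.node (.node (.leaf (201, 1537)) (.leaf (0, 0))) (.node (.leaf (436, 9376)) (.leaf (0, 0)))) (.node (.node (.leaf (225, 3197)) (.leaf (0, 0))) (.node (.leaf (780, 8325)) (.leaf (0, 0))))))))))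

def edge20 : Arr (ℕ × ℕ) :=
  (.node (.node (.node (.node (.node (.node (.node (.node (.leaf (13, 86)) (.leaf (810, 8409))) (.node (.leaf (722, 7234)) (.leaf (0, 0)))) (.node (.node (.leaf (280, 2256)) (.leaf (0, 0))) (.node (.leaf (721, 7224)) (.leaf (0, 0))))) (.node (.node (.node (.leaf (251, 2056)) (.leaf (0, 0))) (.node (.leaf (623, 9172)) (.leaf (0, 0)))) (.node (.node (.leaf (225, 2483)) (.leaf (0, 0))) (.node (.leaf (820, 8368)) (.leaf (0, 0)))))) (.node (.node (.node (.node (.leaf (34, 387)) (.leaf (0, 0))) (.node (.leaf (383, 3624)) (.leaf (0, 0)))) (.node (.node (.leaf (515, 4024)) (.leaf (0, 0))) (.node (.leaf (634, 6654)) (.leaf (0, 0))))) (.node (.node (.node (.leaf (165, 1160)) (.leaf (0, 0))) (.node (.leaf (568, 4468)) (.leaf (0, 0)))) (.node (.node (.leaf (374, 2934)) (.leaf (0, 0))) (.node (.leaf (788, 7992)) (.leaf (0, 0))))))) (.node (.node (.node (.node (.node (.leaf (72, 482)) (.leaf (0, 0))) (.node (.leaf (473, 9042)) (.leaf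 (0, 0)))) (.node (.node (.leaf (269, 2164)) (.leaf (0, 0))) (.node (.leaf (644, 5370)) (.leaf (0, 0))))) (.node (.node (.node (.leaf (308, 2452)) (.leaf (0, 0))) (.node (.leaf (690, 6876)) (.leaf (0, 0)))) (.node (.node (.leaf (320, 2673)) (.leaf (0, 0))) (.node (.leaf (481, 7529)) (.leaf (0, 0)))))) (.node (.node (.node (.node (.leaf (77, 563)) (.leaf (0, 0))) (.node (.leaf (491, 3834)) (.leaf (0, 0)))) (.node (.node (.leaf (568, 4470)) (.leaf (0, 0))) (.node (.leaf (459, 6935)) (.leaf (0, 0))))) (.node (.node (.node (.leaf (99, 1321)) (.leaf (0, 0))) (.node (.leaf (741, 7474)) (.leaf (0, 0)))) (.node (.node (.leaf (685, 6800)) (.leaf (0, 0))) (.node (.leaf (554, 8107)) (.leaf (0, 0)))))))) (.node (.node (.node (.node (.node (.node (.leaf (34, 286)) (.leaf (812, 8541))) (.node (.leaf (442, 6439)) (.leaf (0, 0)))) (.node (.node (.leaf (97, 1835)) (.leaf (0, 0))) (.node (.leaf (632, 5250)) (.leaf (0, 0))))) (.node (.node (.node (.leaf (58, 811)) (.leaf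 (0, 0))) (.node (.leaf (732, 7356)) (.leaf (0, 0)))) (.node (.node (.leaf (239, 8852)) (.leaf (0, 0))) (.node (.leaf (435, 7367)) (.leaf (0, 0)))))) (.node (.node (.node (.node (.leaf (195, 1400)) (.leaf (0, 0))) (.node (.leaf (248, 3755)) (.leaf (0, 0)))) (.node (.node (.leaf (215, 2195)) (.leaf (0, 0))) (.node (.leaf (681, 6761)) (.leaf (0, 0))))) (.node (.node (.node (.leaf (153, 1205)) (.leaf (0, 0))) (.node (.leaf (495, 4563)) (.leaf (0, 0)))) (.node (.node (.leaf (310, 2939)) (.leaf (0, 0))) (.node (.leaf (539, 7943)) (.leaf (0, 0))))))) (.node (.node (.node (.node (.node (.leaf (53, 378)) (.leaf (0, 0))) (.node (.leaf (692, 9072)) (.leaf (0, 0)))) (.node (.node (.leaf (170, 2029)) (.leaf (0, 0))) (.node (.leaf (805, 8200)) (.leaf (0, 0))))) (.node (.node (.node (.leaf (234, 1924)) (.leaf (0, 0))) (.node (.leaf (566, 4464)) (.leaf (0, 0)))) (.node (.node (.leaf (493, 3848)) (.leaf (0, 0))) (.node (.leaf (520, 7669)) (.leaf (0, 0)))))) (.node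 (.node (.node (.node (.leaf (104, 718)) (.leaf (0, 0))) (.node (.leaf (674, 6692)) (.leaf (0, 0)))) (.node (.node (.leaf (321, 2560)) (.leaf (0, 0))) (.node (.leaf (645, 7095)) (.leaf (0, 0))))) (.node (.node (.node (.leaf (346, 2728)) (.leaf (0, 0))) (.node (.leaf (346, 9362)) (.leaf (0, 0)))) (.node (.node (.leaf (347, 3145)) (.leaf (0, 0))) (.node (.leaf (822, 8392)) (.leaf (0, 0))))))))) (.node (.node (.node (.node (.node (.node (.node (.leaf (10, 72)) (.leaf (822, 8463))) (.node (.leaf (657, 6544)) (.leaf (0, 0)))) (.node (.node (.leaf (90, 1791)) (.leaf (0, 0))) (.node (.leaf (515, 9410)) (.leaf (0, 0))))) (.node (.node (.node (.leaf (118, 806)) (.leaf (0, 0))) (.node (.leaf (793, 8054)) (.leaf (0, 0)))) (.node (.node (.leaf (328, 2606)) (.leaf (0, 0))) (.node (.leaf (736, 7412)) (.leaf (0, 0)))))) (.node (.node (.node (.node (.leaf (139, 950)) (.leaf (0, 0))) (.node (.leaf (569, 5974)) (.leaf (0, 0)))) (.node (.node (.leaf (316, 8786)) (.leaf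 (0, 0))) (.node (.leaf (358, 6703)) (.leaf (0, 0))))) (.node (.node (.node (.leaf (350, 2758)) (.leaf (0, 0))) (.node (.leaf (574, 4518)) (.leaf (0, 0)))) (.node (.node (.leaf (373, 2920)) (.leaf (0, 0))) (.node (.leaf (591, 7873)) (.leaf (0, 0))))))) (.node (.node (.node (.node (.node (.leaf (29, 8600)) (.leaf (0, 0))) (.node (.leaf (730, 7324)) (.leaf (0, 0)))) (.node (.node (.leaf (369, 2892)) (.leaf (0, 0))) (.node (.leaf (653, 6510)) (.leaf (0, 0))))) (.node (.node (.node (.leaf (139, 938)) (.leaf (0, 0))) (.node (.leaf (603, 9254)) (.leaf (0, 0)))) (.node (.node (.leaf (644, 5364)) (.leaf (0, 0))) (.node (.leaf (753, 7598)) (.leaf (0, 0)))))) (.node (.node (.node (.node (.leaf (86, 607)) (.leaf (0, 0))) (.node (.leaf (708, 7096)) (.leaf (0, 0)))) (.node (.node (.leaf (121, 2329)) (.leaf (0, 0))) (.node (.leaf (596, 7003)) (.leaf (0, 0))))) (.node (.node (.node (.leaf (193, 1390)) (.leaf (0, 0))) (.node (.leaf (535, 9344)) (.leaf (0, 0)))) (.node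 (.node (.leaf (596, 4730)) (.leaf (0, 0))) (.node (.leaf (670, 8195)) (.leaf (0, 0)))))))) (.node (.node (.node (.node (.node (.node (.leaf (60, 404)) (.leaf (0, 0))) (.node (.leaf (437, 3426)) (.leaf (0, 0)))) (.node (.node (.leaf (462, 3604)) (.leaf (0, 0))) (.node (.leaf (746, 7526)) (.leaf (0, 0))))) (.node (.node (.node (.leaf (200, 8714)) (.leaf (0, 0))) (.node (.leaf (599, 9238)) (.leaf (0, 0)))) (.node (.node (.leaf (516, 8872)) (.leaf (0, 0))) (.node (.leaf (743, 7494)) (.leaf (0, 0)))))) (.node (.node (.node (.node (.leaf (75, 510)) (.leaf (0, 0))) (.node (.leaf (484, 6362)) (.leaf (0, 0)))) (.node (.node (.leaf (250, 2249)) (.leaf (0, 0))) (.node (.leaf (643, 6849)) (.leaf (0, 0))))) (.node (.node (.node (.leaf (233, 1914)) (.leaf (0, 0))) (.node (.leaf (693, 6904)) (.leaf (0, 0)))) (.node (.node (.leaf (426, 8958)) (.leaf (0, 0))) (.node (.leaf (816, 8316)) (.leaf (0, 0))))))) (.node (.node (.node (.node (.node (.leaf (131, 897)) (.leaf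 (0, 0))) (.node (.leaf (324, 9084)) (.leaf (0, 0)))) (.node (.node (.leaf (207, 2068)) (.leaf (0, 0))) (.node (.leaf (656, 6593)) (.leaf (0, 0))))) (.node (.node (.node (.leaf (273, 2202)) (.leaf (0, 0))) (.node (.leaf (747, 7546)) (.leaf (0, 0)))) (.node (.node (.leaf (345, 2789)) (.leaf (0, 0))) (.node (.leaf (807, 8234)) (.leaf (0, 0)))))) (.node (.node (.node (.node (.leaf (249, 2040)) (.leaf (0, 0))) (.node (.leaf (483, 4001)) (.leaf (0, 0)))) (.node (.node (.leaf (152, 2425)) (.leaf (0, 0))) (.node (.leaf (738, 7434)) (.leaf (0, 0))))) (.node (.node (.node (.leaf (178, 1673)) (.leaf (0, 0))) (.node (.leaf (488, 6159)) (.leaf (0, 0)))) (.node (.node (.leaf (602, 8996)) (.leaf (0, 0))) (.node (.leaf (778, 8319)) (.leaf (0, 0))))))))))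

def edge21 : Arr (ℕ × ℕ) :=
  (.node (.node (.node (.node (.node (.node (.node (.node (.leaf (1, 25)) (.leaf (821, 8407))) (.node (.leaf (707, 7090)) (.leaf (0, 0)))) (.node (.node (.leaf (178, 1753)) (.leaf (0, 0))) (.node (.leaf (504, 6322)) (.leaf (0, 0))))) (.node (.node (.node (.leaf (267, 2150)) (.leaf (0, 0))) (.node (.leaf (327, 9174)) (.leaf (0, 0)))) (.node (.node (.leaf (457, 3566)) (.leaf (0, 0))) (.node (.leaf (505, 7227)) (.leaf (0, 0)))))) (.node (.node (.node (.node (.leaf (67, 446)) (.leaf (0, 0))) (.node (.leaf (563, 6419)) (.leaf (0, 0)))) (.node (.node (.leaf (261, 2112)) (.leaf (0, 0))) (.node (.leaf (670, 6656)) (.leaf (0, 0))))) (.node (.node (.node (.leaf (54, 1098)) (.leaf (0, 0))) (.node (.leaf (797, 8108)) (.leaf (0, 0)))) (.node (.node (.leaf (237, 2841)) (.leaf (0, 0))) (.node (.leaf (776, 7840)) (.leaf (0, 0))))))) (.node (.node (.node (.node (.node (.leaf (33, 278)) (.leaf (0, 0))) (.node (.leaf (466, 3652)) (.leaf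 (0, 0)))) (.node (.node (.leaf (180, 1927)) (.leaf (0, 0))) (.node (.leaf (343, 5365)) (.leaf (0, 0))))) (.node (.node (.node (.leaf (63, 901)) (.leaf (0, 0))) (.node (.leaf (540, 4293)) (.leaf (0, 0)))) (.node (.node (.leaf (293, 2675)) (.leaf (0, 0))) (.node (.leaf (452, 9490)) (.leaf (0, 0)))))) (.node (.node (.node (.node (.leaf (78, 8662)) (.leaf (0, 0))) (.node (.leaf (613, 5024)) (.leaf (0, 0)))) (.node (.node (.leaf (284, 2283)) (.leaf (0, 0))) (.node (.leaf (689, 6941)) (.leaf (0, 0))))) (.node (.node (.node (.leaf (243, 1992)) (.leaf (0, 0))) (.node (.leaf (750, 7570)) (.leaf (0, 0)))) (.node (.node (.leaf (294, 3041)) (.leaf (0, 0))) (.node (.leaf (812, 8286)) (.leaf (0, 0)))))))) (.node (.node (.node (.node (.node (.node (.leaf (5, 111)) (.leaf (813, 8551))) (.node (.leaf (579, 6441)) (.leaf (0, 0)))) (.node (.node (.leaf (226, 1865)) (.leaf (0, 0))) (.node (.leaf (645, 6163)) (.leaf (0, 0))))) (.node (.node (.node (.leaf (132, 898)) (.leaf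 (0, 0))) (.node (.leaf (264, 4157)) (.leaf (0, 0)))) (.node (.node (.leaf (325, 2588)) (.leaf (0, 0))) (.node (.leaf (703, 7371)) (.leaf (0, 0)))))) (.node (.node (.node (.node (.leaf (69, 452)) (.leaf (0, 0))) (.node (.leaf (523, 4080)) (.leaf (0, 0)))) (.node (.node (.leaf (541, 4294)) (.leaf (0, 0))) (.node (.leaf (804, 8188)) (.leaf (0, 0))))) (.node (.node (.node (.leaf (59, 1207)) (.leaf (0, 0))) (.node (.leaf (292, 4561)) (.leaf (0, 0)))) (.node (.node (.leaf (222, 2943)) (.leaf (0, 0))) (.node (.leaf (785, 7956)) (.leaf (0, 0))))))) (.node (.node (.node (.node (.node (.leaf (112, 756)) (.leaf (0, 0))) (.node (.leaf (448, 3519)) (.leaf (0, 0)))) (.node (.node (.leaf (275, 2224)) (.leaf (0, 0))) (.node (.leaf (420, 6545)) (.leaf (0, 0))))) (.node (.node (.node (.leaf (319, 2542)) (.leaf (0, 0))) (.node (.leaf (793, 8056)) (.leaf (0, 0)))) (.node (.node (.leaf (356, 2792)) (.leaf (0, 0))) (.node (.leaf (469, 7671)) (.leaf (0, 0)))))) (.node (.node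 (.node (.node (.leaf (38, 650)) (.leaf (0, 0))) (.node (.leaf (654, 6520)) (.leaf (0, 0)))) (.node (.node (.leaf (408, 3214)) (.leaf (0, 0))) (.node (.leaf (784, 7940)) (.leaf (0, 0))))) (.node (.node (.node (.leaf (216, 1800)) (.leaf (0, 0))) (.node (.leaf (665, 9364)) (.leaf (0, 0)))) (.node (.node (.leaf (275, 3157)) (.leaf (0, 0))) (.node (.leaf (810, 8269)) (.leaf (0, 0))))))))) (.node (.node (.node (.node (.node (.node (.node (.leaf (14, 94)) (.leaf (825, 8469))) (.node (.leaf (418, 3295)) (.leaf (0, 0)))) (.node (.node (.leaf (227, 1872)) (.leaf (0, 0))) (.node (.leaf (628, 6350)) (.leaf (0, 0))))) (.node (.node (.node (.leaf (151, 1705)) (.leaf (0, 0))) (.node (.leaf (756, 7634)) (.leaf (0, 0)))) (.node (.node (.leaf (266, 8830)) (.leaf (0, 0))) (.node (.leaf (728, 7288)) (.leaf (0, 0)))))) (.node (.node (.node (.node (.leaf (172, 1235)) (.leaf (0, 0))) (.node (.leaf (608, 6016)) (.leaf (0, 0)))) (.node (.node (.leaf (322, 8788)) (.leaf (0,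 0))) (.node (.leaf (717, 7190)) (.leaf (0, 0))))) (.node (.node (.node (.leaf (66, 1153)) (.leaf (0, 0))) (.node (.leaf (541, 4513)) (.leaf (0, 0)))) (.node (.node (.leaf (233, 2889)) (.leaf (0, 0))) (.node (.leaf (724, 7865)) (.leaf (0, 0))))))) (.node (.node (.node (.node (.node (.leaf (84, 592)) (.leaf (0, 0))) (.node (.leaf (444, 3483)) (.leaf (0, 0)))) (.node (.node (.leaf (97, 1981)) (.leaf (0, 0))) (.node (.leaf (621, 9442)) (.leaf (0, 0))))) (.node (.node (.node (.leaf (64, 937)) (.leaf (0, 0))) (.node (.leaf (549, 4346)) (.leaf (0, 0)))) (.node (.node (.leaf (277, 2707)) (.leaf (0, 0))) (.node (.leaf (758, 7656)) (.leaf (0, 0)))))) (.node (.node (.node (.node (.leaf (110, 8670)) (.leaf (0, 0))) (.node (.leaf (631, 9124)) (.leaf (0, 0)))) (.node (.node (.leaf (580, 4560)) (.leaf (0, 0))) (.node (.leaf (700, 7011)) (.leaf (0, 0))))) (.node (.node (.node (.leaf (67, 1369)) (.leaf (0, 0))) (.node (.leaf (753, 7600)) (.leaf (0, 0)))) (.node (.node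 (.leaf (376, 8972)) (.leaf (0, 0))) (.node (.leaf (820, 8380)) (.leaf (0, 0)))))))) (.node (.node (.node (.node (.node (.node (.leaf (16, 156)) (.leaf (0, 0))) (.node (.leaf (216, 3387)) (.leaf (0, 0)))) (.node (.node (.leaf (198, 1879)) (.leaf (0, 0))) (.node (.leaf (640, 5342)) (.leaf (0, 0))))) (.node (.node (.node (.leaf (289, 2313)) (.leaf (0, 0))) (.node (.leaf (526, 4192)) (.leaf (0, 0)))) (.node (.node (.leaf (517, 8874)) (.leaf (0, 0))) (.node (.leaf (730, 7457)) (.leaf (0, 0)))))) (.node (.node (.node (.node (.leaf (71, 508)) (.leaf (0, 0))) (.node (.leaf (485, 3788)) (.leaf (0, 0)))) (.node (.node (.leaf (163, 2251)) (.leaf (0, 0))) (.node (.leaf (583, 6855)) (.leaf (0, 0))))) (.node (.node (.node (.leaf (317, 2530)) (.leaf (0, 0))) (.node (.leaf (297, 4615)) (.leaf (0, 0)))) (.node (.node (.leaf (386, 3024)) (.leaf (0, 0))) (.node (.leaf (623, 8035)) (.leaf (0, 0))))))) (.node (.node (.node (.node (.node (.leaf (116, 782)) (.leaf (0, 0)))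 (.node (.leaf (699, 6984)) (.leaf (0, 0)))) (.node (.node (.leaf (363, 2848)) (.leaf (0, 0))) (.node (.leaf (354, 6595)) (.leaf (0, 0))))) (.node (.node (.node (.leaf (122, 1043)) (.leaf (0, 0))) (.node (.leaf (775, 7820)) (.leaf (0, 0)))) (.node (.node (.leaf (492, 3840)) (.leaf (0, 0))) (.node (.leaf (479, 7731)) (.leaf (0, 0)))))) (.node (.node (.node (.node (.leaf (59, 693)) (.leaf (0, 0))) (.node (.leaf (516, 4031)) (.leaf (0, 0)))) (.node (.node (.leaf (141, 2429)) (.leaf (0, 0))) (.node (.leaf (589, 7161)) (.leaf (0, 0))))) (.node (.node (.node (.leaf (151, 1675)) (.leaf (0, 0))) (.node (.leaf (615, 5038)) (.leaf (0, 0)))) (.node (.node (.leaf (438, 3430)) (.leaf (0, 0))) (.node (.leaf (835, 8526)) (.leaf (0, 0))))))))))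

def edge22 : Arr (ℕ × ℕ) :=
  (.node (.node (.node (.node (.node (.node (.node (.node (.leaf (4, 27)) (.leaf (823, 8405))) (.node (.leaf (201, 3253)) (.leaf (0, 0)))) (.node (.node (.leaf (221, 1830)) (.leaf (0, 0))) (.node (.leaf (788, 7986)) (.leaf (0, 0))))) (.node (.node (.node (.leaf (105, 725)) (.leaf (0, 0))) (.node (.leaf (329, 9176)) (.leaf (0, 0)))) (.node (.node (.leaf (295, 2479)) (.leaf (0, 0))) (.node (.leaf (722, 7228)) (.leaf (0, 0)))))) (.node (.node (.node (.node (.leaf (82, 578)) (.leaf (0, 0))) (.node (.leaf (570, 4490)) (.leaf (0, 0)))) (.node (.node (.leaf (509, 3996)) (.leaf (0, 0))) (.node (.leaf (804, 8194)) (.leaf (0, 0))))) (.node (.node (.node (.leaf (156, 1105)) (.leaf (0, 0))) (.node (.leaf (672, 6676)) (.leaf (0, 0)))) (.node (.node (.leaf (247, 2837)) (.leaf (0, 0))) (.node (.leaf (484, 7795)) (.leaf (0, 0))))))) (.node (.node (.node (.node (.node (.leaf (77, 522)) (.leaf (0, 0))) (.node (.leaf (702, 7016)) (.leaf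 (0, 0)))) (.node (.node (.leaf (138, 1923)) (.leaf (0, 0))) (.node (.leaf (423, 9434)) (.leaf (0, 0))))) (.node (.node (.node (.leaf (115, 903)) (.leaf (0, 0))) (.node (.leaf (283, 4301)) (.leaf (0, 0)))) (.node (.node (.leaf (432, 8886)) (.leaf (0, 0))) (.node (.leaf (776, 7844)) (.leaf (0, 0)))))) (.node (.node (.node (.node (.leaf (161, 1130)) (.leaf (0, 0))) (.node (.leaf (537, 4258)) (.leaf (0, 0)))) (.node (.node (.leaf (307, 2446)) (.leaf (0, 0))) (.node (.leaf (378, 6933)) (.leaf (0, 0))))) (.node (.node (.node (.leaf (244, 2002)) (.leaf (0, 0))) (.node (.leaf (376, 4679)) (.leaf (0, 0)))) (.node (.node (.leaf (415, 3256)) (.leaf (0, 0))) (.node (.leaf (552, 8119)) (.leaf (0, 0)))))))) (.node (.node (.node (.node (.node (.node (.leaf (46, 342)) (.leaf (823, 8543))) (.node (.leaf (547, 6435)) (.leaf (0, 0)))) (.node (.node (.leaf (438, 3428)) (.leaf (0, 0))) (.node (.leaf (534, 9418)) (.leaf (0, 0))))) (.node (.node (.node (.leaf (155, 1078))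 (.leaf (0, 0))) (.node (.leaf (460, 4159)) (.leaf (0, 0)))) (.node (.node (.leaf (410, 8854)) (.leaf (0, 0))) (.node (.leaf (713, 7385)) (.leaf (0, 0)))))) (.node (.node (.node (.node (.leaf (161, 1128)) (.leaf (0, 0))) (.node (.leaf (752, 7594)) (.leaf (0, 0)))) (.node (.node (.leaf (151, 2203)) (.leaf (0, 0))) (.node (.leaf (679, 9458)) (.leaf (0, 0))))) (.node (.node (.node (.leaf (154, 1201)) (.leaf (0, 0))) (.node (.leaf (581, 4564)) (.leaf (0, 0)))) (.node (.node (.leaf (181, 2945)) (.leaf (0, 0))) (.node (.leaf (745, 7959)) (.leaf (0, 0))))))) (.node (.node (.node (.node (.node (.leaf (49, 356)) (.leaf (0, 0))) (.node (.leaf (524, 9074)) (.leaf (0, 0)))) (.node (.node (.leaf (100, 2031)) (.leaf (0, 0))) (.node (.leaf (658, 6550)) (.leaf (0, 0))))) (.node (.node (.node (.leaf (280, 2260)) (.leaf (0, 0))) (.node (.leaf (801, 8160)) (.leaf (0, 0)))) (.node (.node (.leaf (164, 2759)) (.leaf (0, 0))) (.node (.leaf (743, 7673)) (.leaf (0, 0))))))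 (.node (.node (.node (.node (.leaf (92, 655)) (.leaf (0, 0))) (.node (.leaf (651, 6500)) (.leaf (0, 0)))) (.node (.node (.leaf (409, 3216)) (.leaf (0, 0))) (.node (.leaf (709, 7098)) (.leaf (0, 0))))) (.node (.node (.node (.leaf (341, 2692)) (.leaf (0, 0))) (.node (.leaf (592, 6311)) (.leaf (0, 0)))) (.node (.node (.leaf (195, 3155)) (.leaf (0, 0))) (.node (.leaf (823, 8400)) (.leaf (0, 0))))))))) (.node (.node (.node (.node (.node (.node (.node (.leaf (11, 74)) (.leaf (765, 8471))) (.node (.leaf (547, 4342)) (.leaf (0, 0)))) (.node (.node (.leaf (85, 1793)) (.leaf (0, 0))) (.node (.leaf (760, 7680)) (.leaf (0, 0))))) (.node (.node (.node (.leaf (155, 1074)) (.leaf (0, 0))) (.node (.leaf (761, 7696)) (.leaf (0, 0)))) (.node (.node (.leaf (139, 2537)) (.leaf (0, 0))) (.node (.leaf (433, 7281)) (.leaf (0, 0)))))) (.node (.node (.node (.node (.leaf (62, 8624)) (.leaf (0, 0))) (.node (.leaf (240, 3703)) (.leaf (0, 0)))) (.node (.node (.leaf (318, 8790))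 (.leaf (0, 0))) (.node (.leaf (635, 9450)) (.leaf (0, 0))))) (.node (.node (.node (.leaf (103, 1155)) (.leaf (0, 0))) (.node (.leaf (569, 5973)) (.leaf (0, 0)))) (.node (.node (.leaf (603, 4810)) (.leaf (0, 0))) (.node (.leaf (719, 7871)) (.leaf (0, 0))))))) (.node (.node (.node (.node (.node (.leaf (37, 302)) (.leaf (0, 0))) (.node (.leaf (226, 3491)) (.leaf (0, 0)))) (.node (.node (.leaf (367, 8762)) (.leaf (0, 0))) (.node (.leaf (786, 7970)) (.leaf (0, 0))))) (.node (.node (.node (.leaf (144, 971)) (.leaf (0, 0))) (.node (.leaf (687, 9256)) (.leaf (0, 0)))) (.node (.node (.leaf (195, 8902)) (.leaf (0, 0))) (.node (.leaf (526, 7603)) (.leaf (0, 0)))))) (.node (.node (.node (.node (.leaf (209, 1756)) (.leaf (0, 0))) (.node (.leaf (344, 9126)) (.leaf (0, 0)))) (.node (.node (.leaf (540, 4290)) (.leaf (0, 0))) (.node (.leaf (636, 7019)) (.leaf (0, 0))))) (.node (.node (.node (.leaf (194, 1396)) (.leaf (0, 0))) (.node (.leaf (765, 7726)) (.leaf (0,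 0)))) (.node (.node (.leaf (406, 3192)) (.leaf (0, 0))) (.node (.leaf (780, 8193)) (.leaf (0, 0)))))))) (.node (.node (.node (.node (.node (.node (.leaf (62, 416)) (.leaf (0, 0))) (.node (.leaf (464, 3618)) (.leaf (0, 0)))) (.node (.node (.leaf (192, 1881)) (.leaf (0, 0))) (.node (.leaf (815, 8300)) (.leaf (0, 0))))) (.node (.node (.node (.leaf (128, 882)) (.leaf (0, 0))) (.node (.leaf (777, 7846)) (.leaf (0, 0)))) (.node (.node (.leaf (513, 8876)) (.leaf (0, 0))) (.node (.leaf (802, 8164)) (.leaf (0, 0)))))) (.node (.node (.node (.node (.leaf (79, 554)) (.leaf (0, 0))) (.node (.leaf (505, 3966)) (.leaf (0, 0)))) (.node (.node (.leaf (333, 2640)) (.leaf (0, 0))) (.node (.leaf (498, 6857)) (.leaf (0, 0))))) (.node (.node (.node (.leaf (334, 2646)) (.leaf (0, 0))) (.node (.leaf (583, 4613)) (.leaf (0, 0)))) (.node (.node (.leaf (243, 2989)) (.leaf (0, 0))) (.node (.leaf (815, 8298)) (.leaf (0, 0))))))) (.node (.node (.node (.node (.node (.leaf (48,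 351)) (.leaf (0, 0))) (.node (.leaf (447, 3587)) (.leaf (0, 0)))) (.node (.node (.leaf (108, 2073)) (.leaf (0, 0))) (.node (.leaf (413, 6597)) (.leaf (0, 0))))) (.node (.node (.node (.leaf (52, 1045)) (.leaf (0, 0))) (.node (.leaf (340, 9284)) (.leaf (0, 0)))) (.node (.node (.leaf (167, 2795)) (.leaf (0, 0))) (.node (.leaf (763, 7735)) (.leaf (0, 0)))))) (.node (.node (.node (.node (.leaf (101, 696)) (.leaf (0, 0))) (.node (.leaf (791, 9148)) (.leaf (0, 0)))) (.node (.node (.leaf (589, 4660)) (.leaf (0, 0))) (.node (.leaf (793, 8064)) (.leaf (0, 0))))) (.node (.node (.node (.leaf (123, 8742)) (.leaf (0, 0))) (.node (.leaf (490, 5017)) (.leaf (0, 0)))) (.node (.node (.leaf (606, 8998)) (.leaf (0, 0))) (.node (.leaf (786, 8331)) (.leaf (0, 0))))))))))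

def edge23 : Arr (ℕ × ℕ) :=
  (.node (.node (.node (.node (.node (.node (.node (.node (.leaf (5, 28)) (.leaf (811, 8399))) (.node (.leaf (671, 6668)) (.leaf (0, 0)))) (.node (.node (.leaf (123, 8748)) (.leaf (0, 0))) (.node (.leaf (741, 7466)) (.leaf (0, 0))))) (.node (.node (.node (.leaf (248, 2034)) (.leaf (0, 0))) (.node (.leaf (508, 4028)) (.leaf (0, 0)))) (.node (.node (.leaf (150, 2485)) (.leaf (0, 0))) (.node (.leaf (771, 7778)) (.leaf (0, 0)))))) (.node (.node (.node (.node (.leaf (159, 1114)) (.leaf (0, 0))) (.node (.leaf (697, 6954)) (.leaf (0, 0)))) (.node (.node (.leaf (512, 4012)) (.leaf (0, 0))) (.node (.leaf (651, 6661)) (.leaf (0, 0))))) (.node (.node (.node (.leaf (126, 1109)) (.leaf (0, 0))) (.node (.leaf (809, 8264)) (.leaf (0, 0)))) (.node (.node (.leaf (489, 3820)) (.leaf (0, 0))) (.node (.leaf (750, 7791)) (.leaf (0, 0))))))) (.node (.node (.node (.node (.node (.leaf (30, 254)) (.leaf (0, 0))) (.node (.leaf (498, 3880)) (.leaf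 (0, 0)))) (.node (.node (.leaf (336, 2664)) (.leaf (0, 0))) (.node (.leaf (401, 9436)) (.leaf (0, 0))))) (.node (.node (.node (.leaf (47, 905)) (.leaf (0, 0))) (.node (.leaf (716, 7174)) (.leaf (0, 0)))) (.node (.node (.leaf (378, 8888)) (.leaf (0, 0))) (.node (.leaf (512, 7539)) (.leaf (0, 0)))))) (.node (.node (.node (.node (.leaf (77, 8664)) (.leaf (0, 0))) (.node (.leaf (776, 7832)) (.leaf (0, 0)))) (.node (.node (.leaf (345, 2718)) (.leaf (0, 0))) (.node (.leaf (579, 6937)) (.leaf (0, 0))))) (.node (.node (.node (.leaf (65, 1323)) (.leaf (0, 0))) (.node (.leaf (559, 4681)) (.leaf (0, 0)))) (.node (.node (.leaf (345, 3047)) (.leaf (0, 0))) (.node (.leaf (574, 8125)) (.leaf (0, 0)))))))) (.node (.node (.node (.node (.node (.node (.leaf (25, 172)) (.leaf (831, 8547))) (.node (.leaf (385, 9024)) (.leaf (0, 0)))) (.node (.node (.leaf (197, 1843)) (.leaf (0, 0))) (.node (.leaf (581, 6487)) (.leaf (0, 0))))) (.node (.node (.node (.leaf (182, 1314))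 (.leaf (0, 0))) (.node (.leaf (473, 6425)) (.leaf (0, 0)))) (.node (.node (.leaf (595, 8856)) (.leaf (0, 0))) (.node (.leaf (735, 7388)) (.leaf (0, 0)))))) (.node (.node (.node (.node (.leaf (192, 1386)) (.leaf (0, 0))) (.node (.leaf (248, 3757)) (.leaf (0, 0)))) (.node (.node (.leaf (121, 2205)) (.leaf (0, 0))) (.node (.leaf (683, 6776)) (.leaf (0, 0))))) (.node (.node (.node (.leaf (171, 1224)) (.leaf (0, 0))) (.node (.leaf (396, 9318)) (.leaf (0, 0)))) (.node (.node (.leaf (220, 2941)) (.leaf (0, 0))) (.node (.leaf (694, 7951)) (.leaf (0, 0))))))) (.node (.node (.node (.node (.node (.leaf (21, 325)) (.leaf (0, 0))) (.node (.leaf (428, 9076)) (.leaf (0, 0)))) (.node (.node (.leaf (268, 2161)) (.leaf (0, 0))) (.node (.leaf (453, 6541)) (.leaf (0, 0))))) (.node (.node (.node (.leaf (172, 1236)) (.leaf (0, 0))) (.node (.leaf (681, 9266)) (.leaf (0, 0)))) (.node (.node (.leaf (539, 4270)) (.leaf (0, 0))) (.node (.leaf (794, 8068)) (.leaf (0, 0))))))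 (.node (.node (.node (.node (.leaf (162, 1140)) (.leaf (0, 0))) (.node (.leaf (502, 3955)) (.leaf (0, 0)))) (.node (.node (.leaf (127, 2371)) (.leaf (0, 0))) (.node (.leaf (745, 7512)) (.leaf (0, 0))))) (.node (.node (.node (.leaf (159, 1404)) (.leaf (0, 0))) (.node (.leaf (715, 7164)) (.leaf (0, 0)))) (.node (.node (.leaf (402, 3158)) (.leaf (0, 0))) (.node (.leaf (567, 8273)) (.leaf (0, 0))))))))) (.node (.node (.node (.node (.node (.node (.node (.leaf (28, 236)) (.leaf (767, 8481))) (.node (.leaf (429, 6427)) (.leaf (0, 0)))) (.node (.node (.leaf (256, 2085)) (.leaf (0, 0))) (.node (.leaf (620, 5168)) (.leaf (0, 0))))) (.node (.node (.node (.leaf (42, 769)) (.leaf (0, 0))) (.node (.leaf (367, 4075)) (.leaf (0, 0)))) (.node (.node (.leaf (590, 4664)) (.leaf (0, 0))) (.node (.leaf (443, 7285)) (.leaf (0, 0)))))) (.node (.node (.node (.node (.leaf (61, 415)) (.leaf (0, 0))) (.node (.leaf (403, 9094)) (.leaf (0, 0)))) (.node (.node (.leaf (403, 8792))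 (.leaf (0, 0))) (.node (.leaf (718, 7198)) (.leaf (0, 0))))) (.node (.node (.node (.leaf (67, 1157)) (.leaf (0, 0))) (.node (.leaf (798, 8124)) (.leaf (0, 0)))) (.node (.node (.leaf (175, 2895)) (.leaf (0, 0))) (.node (.leaf (744, 7877)) (.leaf (0, 0))))))) (.node (.node (.node (.node (.node (.leaf (87, 608)) (.leaf (0, 0))) (.node (.leaf (719, 7208)) (.leaf (0, 0)))) (.node (.node (.leaf (174, 1982)) (.leaf (0, 0))) (.node (.leaf (506, 6499)) (.leaf (0, 0))))) (.node (.node (.node (.leaf (318, 2536)) (.leaf (0, 0))) (.node (.leaf (291, 9258)) (.leaf (0, 0)))) (.node (.node (.leaf (342, 2703)) (.leaf (0, 0))) (.node (.leaf (757, 7642)) (.leaf (0, 0)))))) (.node (.node (.node (.node (.leaf (88, 619)) (.leaf (0, 0))) (.node (.leaf (495, 9128)) (.leaf (0, 0)))) (.node (.node (.leaf (314, 8810)) (.leaf (0, 0))) (.node (.leaf (703, 7034)) (.leaf (0, 0))))) (.node (.node (.node (.leaf (210, 1768)) (.leaf (0, 0))) (.node (.leaf (478, 6453)) (.leaf (0, 0))))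 (.node (.node (.leaf (192, 3109)) (.leaf (0, 0))) (.node (.leaf (819, 8356)) (.leaf (0, 0)))))))) (.node (.node (.node (.node (.node (.node (.leaf (22, 153)) (.leaf (0, 0))) (.node (.leaf (212, 3393)) (.leaf (0, 0)))) (.node (.node (.leaf (149, 1885)) (.leaf (0, 0))) (.node (.leaf (394, 5331)) (.leaf (0, 0))))) (.node (.node (.node (.leaf (158, 1108)) (.leaf (0, 0))) (.node (.leaf (600, 9240)) (.leaf (0, 0)))) (.node (.node (.leaf (509, 8878)) (.leaf (0, 0))) (.node (.leaf (679, 7461)) (.leaf (0, 0)))))) (.node (.node (.node (.node (.leaf (154, 8640)) (.leaf (0, 0))) (.node (.leaf (773, 7804)) (.leaf (0, 0)))) (.node (.node (.leaf (334, 2650)) (.leaf (0, 0))) (.node (.leaf (690, 6874)) (.leaf (0, 0))))) (.node (.node (.node (.leaf (131, 1264)) (.leaf (0, 0))) (.node (.leaf (712, 7138)) (.leaf (0, 0)))) (.node (.node (.leaf (584, 4596)) (.leaf (0, 0))) (.node (.leaf (622, 8029)) (.leaf (0, 0))))))) (.node (.node (.node (.node (.node (.leaf (117, 790))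 (.leaf (0, 0))) (.node (.leaf (361, 3589)) (.leaf (0, 0)))) (.node (.node (.leaf (358, 2810)) (.leaf (0, 0))) (.node (.leaf (664, 6606)) (.leaf (0, 0))))) (.node (.node (.node (.leaf (147, 1041)) (.leaf (0, 0))) (.node (.leaf (638, 9286)) (.leaf (0, 0)))) (.node (.node (.leaf (490, 3832)) (.leaf (0, 0))) (.node (.leaf (832, 8500)) (.leaf (0, 0)))))) (.node (.node (.node (.node (.leaf (60, 695)) (.leaf (0, 0))) (.node (.leaf (518, 4038)) (.leaf (0, 0)))) (.node (.node (.leaf (318, 2540)) (.leaf (0, 0))) (.node (.leaf (825, 8418)) (.leaf (0, 0))))) (.node (.node (.node (.leaf (417, 3272)) (.leaf (0, 0))) (.node (.leaf (737, 7424)) (.leaf (0, 0)))) (.node (.node (.leaf (328, 9000)) (.leaf (0, 0))) (.node (.leaf (809, 8337)) (.leaf (0, 0))))))))))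

def edge24 : Arr (ℕ × ℕ) :=
  (.node (.node (.node (.node (.node (.node (.node (.node (.leaf (10, 70)) (.leaf (756, 8411))) (.node (.leaf (571, 4498)) (.leaf (0, 0)))) (.node (.node (.leaf (83, 1759)) (.leaf (0, 0))) (.node (.leaf (618, 5085)) (.leaf (0, 0))))) (.node (.node (.node (.leaf (234, 1920)) (.leaf (0, 0))) (.node (.leaf (625, 9178)) (.leaf (0, 0)))) (.node (.node (.leaf (400, 3142)) (.leaf (0, 0))) (.node (.leaf (456, 9480)) (.leaf (0, 0)))))) (.node (.node (.node (.node (.leaf (167, 1168)) (.leaf (0, 0))) (.node (.leaf (231, 3637)) (.leaf (0, 0)))) (.node (.node (.leaf (330, 8778)) (.leaf (0, 0))) (.node (.leaf (674, 6690)) (.leaf (0, 0))))) (.node (.node (.node (.leaf (189, 1360)) (.leaf (0, 0))) (.node (.leaf (726, 7270)) (.leaf (0, 0)))) (.node (.node (.leaf (333, 2845)) (.leaf (0, 0))) (.node (.leaf (721, 7793)) (.leaf (0, 0))))))) (.node (.node (.node (.node (.node (.leaf (72, 480)) (.leaf (0, 0))) (.node (.leaf (215, 3441)) (.leaf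 (0, 0)))) (.node (.node (.leaf (108, 1933)) (.leaf (0, 0))) (.node (.leaf (733, 7372)) (.leaf (0, 0))))) (.node (.node (.node (.leaf (286, 2295)) (.leaf (0, 0))) (.node (.leaf (707, 7082)) (.leaf (0, 0)))) (.node (.node (.leaf (632, 5252)) (.leaf (0, 0))) (.node (.leaf (454, 7541)) (.leaf (0, 0)))))) (.node (.node (.node (.node (.leaf (34, 577)) (.leaf (0, 0))) (.node (.leaf (673, 6680)) (.leaf (0, 0)))) (.node (.node (.leaf (208, 2290)) (.leaf (0, 0))) (.node (.leaf (696, 6952)) (.leaf (0, 0))))) (.node (.node (.node (.leaf (137, 1325)) (.leaf (0, 0))) (.node (.leaf (694, 6918)) (.leaf (0, 0)))) (.node (.node (.leaf (227, 3043)) (.leaf (0, 0))) (.node (.leaf (549, 8131)) (.leaf (0, 0)))))))) (.node (.node (.node (.node (.node (.node (.leaf (49, 352)) (.leaf (814, 8553))) (.node (.leaf (426, 3335)) (.leaf (0, 0)))) (.node (.node (.leaf (302, 2406)) (.leaf (0, 0))) (.node (.leaf (601, 5257)) (.leaf (0, 0))))) (.node (.node (.node (.leaf (288, 2300))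 (.leaf (0, 0))) (.node (.leaf (706, 7068)) (.leaf (0, 0)))) (.node (.node (.leaf (470, 8858)) (.leaf (0, 0))) (.node (.leaf (430, 7387)) (.leaf (0, 0)))))) (.node (.node (.node (.node (.leaf (190, 1373)) (.leaf (0, 0))) (.node (.leaf (467, 3759)) (.leaf (0, 0)))) (.node (.node (.leaf (129, 2207)) (.leaf (0, 0))) (.node (.leaf (462, 6781)) (.leaf (0, 0))))) (.node (.node (.node (.leaf (156, 1229)) (.leaf (0, 0))) (.node (.leaf (706, 7076)) (.leaf (0, 0)))) (.node (.node (.leaf (242, 2947)) (.leaf (0, 0))) (.node (.leaf (622, 7953)) (.leaf (0, 0))))))) (.node (.node (.node (.node (.node (.leaf (64, 428)) (.leaf (0, 0))) (.node (.leaf (558, 6308)) (.leaf (0, 0)))) (.node (.node (.leaf (107, 2035)) (.leaf (0, 0))) (.node (.leaf (538, 6547)) (.leaf (0, 0))))) (.node (.node (.node (.leaf (321, 2552)) (.leaf (0, 0))) (.node (.leaf (339, 9268)) (.leaf (0, 0)))) (.node (.node (.leaf (166, 2761)) (.leaf (0, 0))) (.node (.leaf (589, 7679)) (.leaf (0, 0))))))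 (.node (.node (.node (.node (.leaf (171, 1222)) (.leaf (0, 0))) (.node (.leaf (351, 9138)) (.leaf (0, 0)))) (.node (.node (.leaf (300, 2384)) (.leaf (0, 0))) (.node (.leaf (712, 7144)) (.leaf (0, 0))))) (.node (.node (.node (.leaf (312, 2494)) (.leaf (0, 0))) (.node (.leaf (726, 7264)) (.leaf (0, 0)))) (.node (.node (.leaf (403, 3166)) (.leaf (0, 0))) (.node (.leaf (837, 8556)) (.leaf (0, 0))))))))) (.node (.node (.node (.node (.node (.node (.node (.leaf (10, 81)) (.leaf (826, 8473))) (.node (.leaf (465, 6432)) (.leaf (0, 0)))) (.node (.node (.leaf (433, 3386)) (.leaf (0, 0))) (.node (.leaf (770, 7768)) (.leaf (0, 0))))) (.node (.node (.node (.leaf (153, 1060)) (.leaf (0, 0))) (.node (.leaf (316, 9198)) (.leaf (0, 0)))) (.node (.node (.leaf (315, 2539)) (.leaf (0, 0))) (.node (.leaf (728, 7290)) (.leaf (0, 0)))))) (.node (.node (.node (.node (.leaf (83, 582)) (.leaf (0, 0))) (.node (.leaf (684, 6788)) (.leaf (0, 0)))) (.node (.node (.leaf (266, 2149))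 (.leaf (0, 0))) (.node (.leaf (675, 6701)) (.leaf (0, 0))))) (.node (.node (.node (.leaf (168, 1177)) (.leaf (0, 0))) (.node (.leaf (548, 9302)) (.leaf (0, 0)))) (.node (.node (.leaf (474, 3716)) (.leaf (0, 0))) (.node (.leaf (654, 7881)) (.leaf (0, 0))))))) (.node (.node (.node (.node (.node (.leaf (69, 458)) (.leaf (0, 0))) (.node (.leaf (536, 4252)) (.leaf (0, 0)))) (.node (.node (.leaf (476, 3738)) (.leaf (0, 0))) (.node (.leaf (670, 6660)) (.leaf (0, 0))))) (.node (.node (.node (.leaf (146, 980)) (.leaf (0, 0))) (.node (.leaf (695, 9260)) (.leaf (0, 0)))) (.node (.node (.leaf (165, 2709)) (.leaf (0, 0))) (.node (.leaf (590, 7605)) (.leaf (0, 0)))))) (.node (.node (.node (.node (.leaf (53, 8672)) (.leaf (0, 0))) (.node (.leaf (395, 9130)) (.leaf (0, 0)))) (.node (.node (.leaf (291, 2327)) (.leaf (0, 0))) (.node (.leaf (421, 7027)) (.leaf (0, 0))))) (.node (.node (.node (.leaf (196, 1402)) (.leaf (0, 0))) (.node (.leaf (474, 6409)) (.leaf (0, 0))))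 (.node (.node (.leaf (355, 8974)) (.leaf (0, 0))) (.node (.leaf (671, 8197)) (.leaf (0, 0)))))))) (.node (.node (.node (.node (.node (.node (.leaf (35, 292)) (.leaf (0, 0))) (.node (.leaf (442, 3452)) (.leaf (0, 0)))) (.node (.node (.leaf (310, 2468)) (.leaf (0, 0))) (.node (.leaf (710, 7108)) (.leaf (0, 0))))) (.node (.node (.node (.leaf (130, 890)) (.leaf (0, 0))) (.node (.leaf (270, 4249)) (.leaf (0, 0)))) (.node (.node (.leaf (332, 2624)) (.leaf (0, 0))) (.node (.leaf (553, 7462)) (.leaf (0, 0)))))) (.node (.node (.node (.node (.leaf (75, 512)) (.leaf (0, 0))) (.node (.leaf (771, 7784)) (.leaf (0, 0)))) (.node (.node (.leaf (428, 3342)) (.leaf (0, 0))) (.node (.leaf (465, 6863)) (.leaf (0, 0))))) (.node (.node (.node (.leaf (268, 2162)) (.leaf (0, 0))) (.node (.leaf (577, 9330)) (.leaf (0, 0)))) (.node (.node (.leaf (185, 2995)) (.leaf (0, 0))) (.node (.leaf (517, 8041)) (.leaf (0, 0))))))) (.node (.node (.node (.node (.node (.leaf (118, 798))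 (.leaf (0, 0))) (.node (.leaf (695, 6934)) (.leaf (0, 0)))) (.node (.node (.leaf (356, 2786)) (.leaf (0, 0))) (.node (.leaf (691, 6880)) (.leaf (0, 0))))) (.node (.node (.node (.leaf (340, 2686)) (.leaf (0, 0))) (.node (.leaf (639, 9288)) (.leaf (0, 0)))) (.node (.node (.leaf (350, 2791)) (.leaf (0, 0))) (.node (.leaf (827, 8436)) (.leaf (0, 0)))))) (.node (.node (.node (.node (.leaf (107, 733)) (.leaf (0, 0))) (.node (.leaf (260, 4004)) (.leaf (0, 0)))) (.node (.node (.leaf (326, 2592)) (.leaf (0, 0))) (.node (.leaf (606, 7165)) (.leaf (0, 0))))) (.node (.node (.node (.leaf (89, 8744)) (.leaf (0, 0))) (.node (.leaf (617, 5064)) (.leaf (0, 0)))) (.node (.node (.leaf (444, 3478)) (.leaf (0, 0))) (.node (.leaf (816, 8339)) (.leaf (0, 0))))))))))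

def edge25 : Arr (ℕ × ℕ) :=
  (.node (.node (.node (.node (.node (.node (.node (.node (.leaf (17, 110)) (.leaf (834, 8516))) (.node (.leaf (726, 7266)) (.leaf (0, 0)))) (.node (.node (.leaf (188, 1761)) (.leaf (0, 0))) (.node (.leaf (722, 7230)) (.leaf (0, 0))))) (.node (.node (.node (.leaf (169, 1180)) (.leaf (0, 0))) (.node (.leaf (792, 8040)) (.leaf (0, 0)))) (.node (.node (.leaf (186, 2491)) (.leaf (0, 0))) (.node (.leaf (789, 8010)) (.leaf (0, 0)))))) (.node (.node (.node (.node (.leaf (57, 390)) (.leaf (0, 0))) (.node (.leaf (463, 3635)) (.leaf (0, 0)))) (.node (.node (.leaf (365, 8780)) (.leaf (0, 0))) (.node (.leaf (681, 6742)) (.leaf (0, 0))))) (.node (.node (.node (.leaf (204, 1726)) (.leaf (0, 0))) (.node (.leaf (567, 4469)) (.leaf (0, 0)))) (.node (.node (.leaf (362, 2851)) (.leaf (0, 0))) (.node (.leaf (805, 8206)) (.leaf (0, 0))))))) (.node (.node (.node (.node (.node (.leaf (12, 256)) (.leaf (0, 0))) (.node (.leaf (641, 6384)) (.leaf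 (0, 0)))) (.node (.node (.leaf (173, 1939)) (.leaf (0, 0))) (.node (.leaf (708, 7094)) (.leaf (0, 0))))) (.node (.node (.node (.leaf (149, 1014)) (.leaf (0, 0))) (.node (.leaf (601, 6154)) (.leaf (0, 0)))) (.node (.node (.leaf (577, 4546)) (.leaf (0, 0))) (.node (.leaf (658, 7543)) (.leaf (0, 0)))))) (.node (.node (.node (.node (.leaf (45, 573)) (.leaf (0, 0))) (.node (.leaf (612, 5018)) (.leaf (0, 0)))) (.node (.node (.leaf (130, 2292)) (.leaf (0, 0))) (.node (.leaf (541, 6949)) (.leaf (0, 0))))) (.node (.node (.node (.leaf (217, 2307)) (.leaf (0, 0))) (.node (.leaf (658, 6558)) (.leaf (0, 0)))) (.node (.node (.leaf (582, 4578)) (.leaf (0, 0))) (.node (.leaf (583, 8123)) (.leaf (0, 0)))))))) (.node (.node (.node (.node (.node (.node (.leaf (16, 109)) (.leaf (839, 8583))) (.node (.leaf (704, 7044)) (.leaf (0, 0)))) (.node (.node (.leaf (405, 3176)) (.leaf (0, 0))) (.node (.leaf (631, 5251)) (.leaf (0, 0))))) (.node (.node (.node (.leaf (45, 823))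 (.leaf (0, 0))) (.node (.leaf (528, 4155)) (.leaf (0, 0)))) (.node (.node (.leaf (585, 8860)) (.leaf (0, 0))) (.node (.leaf (604, 7379)) (.leaf (0, 0)))))) (.node (.node (.node (.node (.leaf (33, 8630)) (.leaf (0, 0))) (.node (.leaf (479, 3762)) (.leaf (0, 0)))) (.node (.node (.leaf (301, 2401)) (.leaf (0, 0))) (.node (.leaf (555, 9460)) (.leaf (0, 0))))) (.node (.node (.node (.leaf (93, 1226)) (.leaf (0, 0))) (.node (.leaf (709, 7100)) (.leaf (0, 0)))) (.node (.node (.leaf (593, 4678)) (.leaf (0, 0))) (.node (.leaf (650, 7961)) (.leaf (0, 0))))))) (.node (.node (.node (.node (.node (.leaf (17, 331)) (.leaf (0, 0))) (.node (.leaf (379, 6416)) (.leaf (0, 0)))) (.node (.node (.leaf (478, 3756)) (.leaf (0, 0))) (.node (.leaf (563, 6549)) (.leaf (0, 0))))) (.node (.node (.node (.leaf (235, 1936)) (.leaf (0, 0))) (.node (.leaf (634, 9270)) (.leaf (0, 0)))) (.node (.node (.leaf (537, 4254)) (.leaf (0, 0))) (.node (.leaf (625, 7681)) (.leaf (0, 0)))))) (.node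 (.node (.node (.node (.leaf (210, 1766)) (.leaf (0, 0))) (.node (.leaf (532, 4178)) (.leaf (0, 0)))) (.node (.node (.leaf (181, 2373)) (.leaf (0, 0))) (.node (.leaf (581, 7101)) (.leaf (0, 0))))) (.node (.node (.node (.leaf (394, 3102)) (.leaf (0, 0))) (.node (.leaf (530, 6313)) (.leaf (0, 0)))) (.node (.node (.leaf (435, 3416)) (.leaf (0, 0))) (.node (.leaf (835, 8530)) (.leaf (0, 0))))))))) (.node (.node (.node (.node (.node (.node (.node (.leaf (11, 76)) (.leaf (829, 8477))) (.node (.leaf (716, 7168)) (.leaf (0, 0)))) (.node (.node (.leaf (196, 1801)) (.leaf (0, 0))) (.node (.leaf (509, 6349)) (.leaf (0, 0))))) (.node (.node (.node (.leaf (146, 984)) (.leaf (0, 0))) (.node (.leaf (323, 9200)) (.leaf (0, 0)))) (.node (.node (.leaf (407, 8832)) (.leaf (0, 0))) (.node (.leaf (633, 7300)) (.leaf (0, 0)))))) (.node (.node (.node (.node (.leaf (146, 978)) (.leaf (0, 0))) (.node (.leaf (240, 3705)) (.leaf (0, 0)))) (.node (.node (.leaf (523, 4072)) (.leaf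 (0, 0))) (.node (.leaf (724, 7252)) (.leaf (0, 0))))) (.node (.node (.node (.leaf (344, 2708)) (.leaf (0, 0))) (.node (.leaf (608, 6012)) (.leaf (0, 0)))) (.node (.node (.leaf (241, 2891)) (.leaf (0, 0))) (.node (.leaf (670, 7885)) (.leaf (0, 0))))))) (.node (.node (.node (.node (.node (.leaf (73, 8602)) (.leaf (0, 0))) (.node (.leaf (700, 6998)) (.leaf (0, 0)))) (.node (.node (.leaf (240, 1979)) (.leaf (0, 0))) (.node (.leaf (503, 6503)) (.leaf (0, 0))))) (.node (.node (.node (.leaf (48, 940)) (.leaf (0, 0))) (.node (.leaf (451, 9262)) (.leaf (0, 0)))) (.node (.node (.leaf (497, 8904)) (.leaf (0, 0))) (.node (.leaf (467, 7607)) (.leaf (0, 0)))))) (.node (.node (.node (.node (.leaf (192, 1382)) (.leaf (0, 0))) (.node (.leaf (709, 9132)) (.leaf (0, 0)))) (.node (.node (.leaf (337, 2674)) (.leaf (0, 0))) (.node (.leaf (382, 7021)) (.leaf (0, 0))))) (.node (.node (.node (.leaf (197, 1408)) (.leaf (0, 0))) (.node (.leaf (508, 9346)) (.leaf (0, 0)))) (.node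 (.node (.leaf (461, 3600)) (.leaf (0, 0))) (.node (.leaf (773, 8207)) (.leaf (0, 0)))))))) (.node (.node (.node (.node (.node (.node (.leaf (19, 165)) (.leaf (0, 0))) (.node (.leaf (218, 3389)) (.leaf (0, 0)))) (.node (.node (.leaf (429, 3354)) (.leaf (0, 0))) (.node (.leaf (593, 6474)) (.leaf (0, 0))))) (.node (.node (.node (.leaf (131, 894)) (.leaf (0, 0))) (.node (.leaf (743, 7490)) (.leaf (0, 0)))) (.node (.node (.leaf (514, 8880)) (.leaf (0, 0))) (.node (.leaf (619, 7467)) (.leaf (0, 0)))))) (.node (.node (.node (.node (.leaf (79, 548)) (.leaf (0, 0))) (.node (.leaf (537, 9110)) (.leaf (0, 0)))) (.node (.node (.leaf (145, 2261)) (.leaf (0, 0))) (.node (.leaf (475, 6859)) (.leaf (0, 0))))) (.node (.node (.node (.leaf (269, 2172)) (.leaf (0, 0))) (.node (.leaf (580, 6488)) (.leaf (0, 0)))) (.node (.node (.leaf (569, 4482)) (.leaf (0, 0))) (.node (.leaf (801, 8158)) (.leaf (0, 0))))))) (.node (.node (.node (.node (.node (.leaf (41, 355)) (.leaf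 (0, 0))) (.node (.leaf (498, 3876)) (.leaf (0, 0)))) (.node (.node (.leaf (167, 8770)) (.leaf (0, 0))) (.node (.leaf (556, 9444)) (.leaf (0, 0))))) (.node (.node (.node (.leaf (116, 8720)) (.leaf (0, 0))) (.node (.leaf (656, 9290)) (.leaf (0, 0)))) (.node (.node (.leaf (671, 6666)) (.leaf (0, 0))) (.node (.leaf (824, 8412)) (.leaf (0, 0)))))) (.node (.node (.node (.node (.leaf (252, 2060)) (.leaf (0, 0))) (.node (.leaf (628, 9150)) (.leaf (0, 0)))) (.node (.node (.leaf (143, 2433)) (.leaf (0, 0))) (.node (.leaf (725, 7260)) (.leaf (0, 0))))) (.node (.node (.node (.leaf (215, 1788)) (.leaf (0, 0))) (.node (.leaf (575, 6470)) (.leaf (0, 0)))) (.node (.node (.leaf (457, 3568)) (.leaf (0, 0))) (.node (.leaf (668, 8333)) (.leaf (0, 0))))))))))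

def edge26 : Arr (ℕ × ℕ) :=
  (.node (.node (.node (.node (.node (.node (.node (.node (.leaf (2, 31)) (.leaf (766, 8415))) (.node (.leaf (413, 3251)) (.leaf (0, 0)))) (.node (.node (.leaf (245, 2010)) (.leaf (0, 0))) (.node (.leaf (532, 6316)) (.leaf (0, 0))))) (.node (.node (.node (.leaf (98, 730)) (.leaf (0, 0))) (.node (.leaf (328, 9180)) (.leaf (0, 0)))) (.node (.node (.leaf (387, 3026)) (.leaf (0, 0))) (.node (.leaf (564, 7237)) (.leaf (0, 0)))))) (.node (.node (.node (.node (.leaf (164, 1150)) (.leaf (0, 0))) (.node (.leaf (415, 3651)) (.leaf (0, 0)))) (.node (.node (.leaf (260, 2113)) (.leaf (0, 0))) (.node (.leaf (357, 6658)) (.leaf (0, 0))))) (.node (.node (.node (.leaf (55, 1107)) (.leaf (0, 0))) (.node (.leaf (741, 7470)) (.leaf (0, 0)))) (.node (.node (.leaf (276, 2853)) (.leaf (0, 0))) (.node (.leaf (731, 7797)) (.leaf (0, 0))))))) (.node (.node (.node (.node (.node (.leaf (71, 476)) (.leaf (0, 0))) (.node (.leaf (416, 3443)) (.leaf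 (0, 0)))) (.node (.node (.leaf (270, 2176)) (.leaf (0, 0))) (.node (.leaf (611, 6160)) (.leaf (0, 0))))) (.node (.node (.node (.leaf (95, 911)) (.leaf (0, 0))) (.node (.leaf (562, 4430)) (.leaf (0, 0)))) (.node (.node (.leaf (150, 2679)) (.leaf (0, 0))) (.node (.leaf (455, 7545)) (.leaf (0, 0)))))) (.node (.node (.node (.node (.leaf (206, 1736)) (.leaf (0, 0))) (.node (.leaf (254, 3836)) (.leaf (0, 0)))) (.node (.node (.leaf (306, 2434)) (.leaf (0, 0))) (.node (.leaf (432, 9468)) (.leaf (0, 0))))) (.node (.node (.node (.leaf (377, 2956)) (.leaf (0, 0))) (.node (.leaf (751, 7588)) (.leaf (0, 0)))) (.node (.node (.leaf (226, 3061)) (.leaf (0, 0))) (.node (.leaf (692, 8127)) (.leaf (0, 0)))))))) (.node (.node (.node (.node (.node (.node (.leaf (22, 150)) (.leaf (811, 8557))) (.node (.leaf (732, 7342)) (.leaf (0, 0)))) (.node (.node (.leaf (86, 1845)) (.leaf (0, 0))) (.node (.leaf (611, 5255)) (.leaf (0, 0))))) (.node (.node (.node (.leaf (125, 858))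 (.leaf (0, 0))) (.node (.leaf (533, 4182)) (.leaf (0, 0)))) (.node (.node (.leaf (324, 2589)) (.leaf (0, 0))) (.node (.leaf (631, 7381)) (.leaf (0, 0)))))) (.node (.node (.node (.node (.leaf (68, 453)) (.leaf (0, 0))) (.node (.leaf (758, 7660)) (.leaf (0, 0)))) (.node (.node (.leaf (543, 4304)) (.leaf (0, 0))) (.node (.leaf (677, 6784)) (.leaf (0, 0))))) (.node (.node (.node (.leaf (173, 1240)) (.leaf (0, 0))) (.node (.leaf (540, 4567)) (.leaf (0, 0)))) (.node (.node (.leaf (282, 2951)) (.leaf (0, 0))) (.node (.leaf (786, 7966)) (.leaf (0, 0))))))) (.node (.node (.node (.node (.node (.leaf (58, 394)) (.leaf (0, 0))) (.node (.leaf (739, 7448)) (.leaf (0, 0)))) (.node (.node (.leaf (236, 2036)) (.leaf (0, 0))) (.node (.leaf (456, 6557)) (.leaf (0, 0))))) (.node (.node (.node (.leaf (147, 1679)) (.leaf (0, 0))) (.node (.leaf (635, 9272)) (.leaf (0, 0)))) (.node (.node (.leaf (349, 2757)) (.leaf (0, 0))) (.node (.leaf (794, 8076)) (.leaf (0, 0)))))) (.node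 (.node (.node (.node (.leaf (39, 657)) (.leaf (0, 0))) (.node (.leaf (508, 3986)) (.leaf (0, 0)))) (.node (.node (.leaf (304, 2420)) (.leaf (0, 0))) (.node (.leaf (507, 7105)) (.leaf (0, 0))))) (.node (.node (.node (.leaf (222, 1842)) (.leaf (0, 0))) (.node (.leaf (619, 5090)) (.leaf (0, 0)))) (.node (.node (.leaf (268, 3161)) (.leaf (0, 0))) (.node (.leaf (811, 8275)) (.leaf (0, 0))))))))) (.node (.node (.node (.node (.node (.node (.node (.leaf (15, 100)) (.leaf (767, 8483))) (.node (.leaf (422, 3298)) (.leaf (0, 0)))) (.node (.node (.leaf (229, 1888)) (.leaf (0, 0))) (.node (.leaf (560, 7549)) (.leaf (0, 0))))) (.node (.node (.node (.leaf (278, 2242)) (.leaf (0, 0))) (.node (.leaf (263, 4077)) (.leaf (0, 0)))) (.node (.node (.leaf (317, 2535)) (.leaf (0, 0))) (.node (.leaf (437, 7293)) (.leaf (0, 0)))))) (.node (.node (.node (.node (.leaf (57, 419)) (.leaf (0, 0))) (.node (.leaf (399, 9096)) (.leaf (0, 0)))) (.node (.node (.leaf (524, 4082)) (.leaf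 (0, 0))) (.node (.leaf (712, 7140)) (.leaf (0, 0))))) (.node (.node (.node (.leaf (182, 1312)) (.leaf (0, 0))) (.node (.leaf (690, 6866)) (.leaf (0, 0)))) (.node (.node (.leaf (690, 8938)) (.leaf (0, 0))) (.node (.leaf (817, 8328)) (.leaf (0, 0))))))) (.node (.node (.node (.node (.node (.leaf (85, 600)) (.leaf (0, 0))) (.node (.leaf (458, 3584)) (.leaf (0, 0)))) (.node (.node (.leaf (376, 2946)) (.leaf (0, 0))) (.node (.leaf (652, 6506)) (.leaf (0, 0))))) (.node (.node (.node (.leaf (247, 2032)) (.leaf (0, 0))) (.node (.leaf (548, 4347)) (.leaf (0, 0)))) (.node (.node (.leaf (255, 2711)) (.leaf (0, 0))) (.node (.leaf (754, 7610)) (.leaf (0, 0)))))) (.node (.node (.node (.node (.leaf (116, 8674)) (.leaf (0, 0))) (.node (.leaf (272, 3875)) (.leaf (0, 0)))) (.node (.node (.leaf (304, 2422)) (.leaf (0, 0))) (.node (.leaf (570, 7023)) (.leaf (0, 0))))) (.node (.node (.node (.leaf (193, 1388)) (.leaf (0, 0))) (.node (.leaf (527, 9348)) (.leaf (0, 0))))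 (.node (.node (.leaf (284, 8976)) (.leaf (0, 0))) (.node (.leaf (682, 8211)) (.leaf (0, 0)))))))) (.node (.node (.node (.node (.node (.node (.leaf (15, 169)) (.leaf (0, 0))) (.node (.leaf (246, 3407)) (.leaf (0, 0)))) (.node (.node (.leaf (341, 2694)) (.leaf (0, 0))) (.node (.leaf (353, 6560)) (.leaf (0, 0))))) (.node (.node (.node (.leaf (127, 876)) (.leaf (0, 0))) (.node (.leaf (411, 4251)) (.leaf (0, 0)))) (.node (.node (.leaf (627, 5188)) (.leaf (0, 0))) (.node (.leaf (797, 8110)) (.leaf (0, 0)))))) (.node (.node (.node (.node (.leaf (30, 514)) (.leaf (0, 0))) (.node (.leaf (484, 3789)) (.leaf (0, 0)))) (.node (.node (.leaf (242, 2265)) (.leaf (0, 0))) (.node (.leaf (370, 9462)) (.leaf (0, 0))))) (.node (.node (.node (.leaf (209, 1752)) (.leaf (0, 0))) (.node (.leaf (728, 7294)) (.leaf (0, 0)))) (.node (.node (.leaf (288, 2991)) (.leaf (0, 0))) (.node (.leaf (662, 8043)) (.leaf (0, 0))))))) (.node (.node (.node (.node (.node (.leaf (70, 460))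 (.leaf (0, 0))) (.node (.leaf (441, 6377)) (.leaf (0, 0)))) (.node (.node (.leaf (271, 2188)) (.leaf (0, 0))) (.node (.leaf (355, 6605)) (.leaf (0, 0))))) (.node (.node (.node (.leaf (228, 1882)) (.leaf (0, 0))) (.node (.leaf (335, 4427)) (.leaf (0, 0)))) (.node (.node (.leaf (167, 2807)) (.leaf (0, 0))) (.node (.leaf (830, 8484)) (.leaf (0, 0)))))) (.node (.node (.node (.node (.leaf (109, 742)) (.leaf (0, 0))) (.node (.leaf (329, 9152)) (.leaf (0, 0)))) (.node (.node (.leaf (550, 4356)) (.leaf (0, 0))) (.node (.leaf (757, 7653)) (.leaf (0, 0))))) (.node (.node (.node (.leaf (228, 1876)) (.leaf (0, 0))) (.node (.leaf (778, 7866)) (.leaf (0, 0)))) (.node (.node (.leaf (214, 3211)) (.leaf (0, 0))) (.node (.leaf (818, 8342)) (.leaf (0, 0))))))))))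

def edge27 : Arr (ℕ × ℕ) :=
  (.node (.node (.node (.node (.node (.node (.node (.node (.leaf (7, 40)) (.leaf (835, 8534))) (.node (.leaf (466, 3650)) (.leaf (0, 0)))) (.node (.node (.leaf (190, 1769)) (.leaf (0, 0))) (.node (.leaf (531, 9386)) (.leaf (0, 0))))) (.node (.node (.node (.leaf (237, 1952)) (.leaf (0, 0))) (.node (.leaf (455, 9182)) (.leaf (0, 0)))) (.node (.node (.leaf (158, 2497)) (.leaf (0, 0))) (.node (.leaf (721, 7229)) (.leaf (0, 0)))))) (.node (.node (.node (.node (.leaf (101, 701)) (.leaf (0, 0))) (.node (.leaf (604, 6369)) (.leaf (0, 0)))) (.node (.node (.leaf (482, 3772)) (.leaf (0, 0))) (.node (.leaf (357, 6667)) (.leaf (0, 0))))) (.node (.node (.node (.leaf (54, 1117)) (.leaf (0, 0))) (.node (.leaf (783, 7924)) (.leaf (0, 0)))) (.node (.node (.leaf (246, 2847)) (.leaf (0, 0))) (.node (.leaf (639, 7799)) (.leaf (0, 0))))))) (.node (.node (.node (.node (.node (.leaf (44, 8596)) (.leaf (0, 0))) (.node (.leaf (425, 9044)) (.leaf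 (0, 0)))) (.node (.node (.leaf (140, 1935)) (.leaf (0, 0))) (.node (.leaf (705, 7056)) (.leaf (0, 0))))) (.node (.node (.node (.leaf (180, 1294)) (.leaf (0, 0))) (.node (.leaf (274, 4305)) (.leaf (0, 0)))) (.node (.node (.leaf (585, 8890)) (.leaf (0, 0))) (.node (.leaf (792, 8052)) (.leaf (0, 0)))))) (.node (.node (.node (.node (.leaf (42, 581)) (.leaf (0, 0))) (.node (.leaf (538, 4264)) (.leaf (0, 0)))) (.node (.node (.leaf (186, 2297)) (.leaf (0, 0))) (.node (.leaf (417, 6947)) (.leaf (0, 0))))) (.node (.node (.node (.leaf (380, 2980)) (.leaf (0, 0))) (.node (.leaf (557, 4685)) (.leaf (0, 0)))) (.node (.node (.leaf (412, 3238)) (.leaf (0, 0))) (.node (.leaf (591, 8140)) (.leaf (0, 0)))))))) (.node (.node (.node (.node (.node (.node (.leaf (21, 144)) (.leaf (838, 8562))) (.node (.leaf (422, 3339)) (.leaf (0, 0)))) (.node (.node (.leaf (214, 1847)) (.leaf (0, 0))) (.node (.leaf (692, 6896)) (.leaf (0, 0))))) (.node (.node (.node (.leaf (46, 825))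 (.leaf (0, 0))) (.node (.leaf (757, 7646)) (.leaf (0, 0)))) (.node (.node (.leaf (601, 4758)) (.leaf (0, 0))) (.node (.leaf (735, 7398)) (.leaf (0, 0)))))) (.node (.node (.node (.node (.leaf (81, 570)) (.leaf (0, 0))) (.node (.leaf (767, 7738)) (.leaf (0, 0)))) (.node (.node (.leaf (178, 2213)) (.leaf (0, 0))) (.node (.leaf (818, 8354)) (.leaf (0, 0))))) (.node (.node (.node (.leaf (60, 1231)) (.leaf (0, 0))) (.node (.leaf (587, 6482)) (.leaf (0, 0)))) (.node (.node (.leaf (565, 4450)) (.leaf (0, 0))) (.node (.leaf (817, 8330)) (.leaf (0, 0))))))) (.node (.node (.node (.node (.node (.leaf (23, 327)) (.leaf (0, 0))) (.node (.leaf (454, 3544)) (.leaf (0, 0)))) (.node (.node (.leaf (480, 3766)) (.leaf (0, 0))) (.node (.leaf (657, 6551)) (.leaf (0, 0))))) (.node (.node (.node (.leaf (139, 981)) (.leaf (0, 0))) (.node (.leaf (682, 6767)) (.leaf (0, 0)))) (.node (.node (.leaf (504, 8908)) (.leaf (0, 0))) (.node (.leaf (758, 7687)) (.leaf (0, 0)))))) (.node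 (.node (.node (.node (.leaf (38, 665)) (.leaf (0, 0))) (.node (.leaf (500, 9140)) (.leaf (0, 0)))) (.node (.node (.leaf (129, 2377)) (.leaf (0, 0))) (.node (.leaf (782, 7906)) (.leaf (0, 0))))) (.node (.node (.node (.leaf (303, 2414)) (.leaf (0, 0))) (.node (.leaf (518, 9366)) (.leaf (0, 0)))) (.node (.node (.leaf (391, 3163)) (.leaf (0, 0))) (.node (.leaf (810, 8271)) (.leaf (0, 0))))))))) (.node (.node (.node (.node (.node (.node (.node (.leaf (4, 78)) (.leaf (819, 8487))) (.node (.leaf (386, 6250)) (.leaf (0, 0)))) (.node (.node (.leaf (93, 1805)) (.leaf (0, 0))) (.node (.leaf (761, 7692)) (.leaf (0, 0))))) (.node (.node (.node (.leaf (53, 775)) (.leaf (0, 0))) (.node (.leaf (482, 4079)) (.leaf (0, 0)))) (.node (.node (.leaf (145, 2543)) (.leaf (0, 0))) (.node (.leaf (416, 7297)) (.leaf (0, 0)))))) (.node (.node (.node (.node (.leaf (118, 8626)) (.leaf (0, 0))) (.node (.leaf (439, 9098)) (.leaf (0, 0)))) (.node (.node (.leaf (261, 2153)) (.leaf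 (0, 0))) (.node (.leaf (669, 6708)) (.leaf (0, 0))))) (.node (.node (.node (.leaf (345, 2716)) (.leaf (0, 0))) (.node (.leaf (613, 6471)) (.leaf (0, 0)))) (.node (.node (.leaf (175, 2907)) (.leaf (0, 0))) (.node (.leaf (492, 7883)) (.leaf (0, 0))))))) (.node (.node (.node (.node (.node (.leaf (80, 8604)) (.leaf (0, 0))) (.node (.leaf (221, 3497)) (.leaf (0, 0)))) (.node (.node (.leaf (172, 1987)) (.leaf (0, 0))) (.node (.leaf (507, 6505)) (.leaf (0, 0))))) (.node (.node (.node (.leaf (177, 1267)) (.leaf (0, 0))) (.node (.leaf (688, 6842)) (.leaf (0, 0)))) (.node (.node (.leaf (355, 2782)) (.leaf (0, 0))) (.node (.leaf (506, 7613)) (.leaf (0, 0)))))) (.node (.node (.node (.node (.leaf (188, 1346)) (.leaf (0, 0))) (.node (.leaf (689, 6856)) (.leaf (0, 0)))) (.node (.node (.leaf (301, 2394)) (.leaf (0, 0))) (.node (.leaf (703, 7032)) (.leaf (0, 0))))) (.node (.node (.node (.leaf (392, 8728)) (.leaf (0, 0))) (.node (.leaf (790, 8012)) (.leaf (0, 0))))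 (.node (.node (.leaf (394, 3107)) (.leaf (0, 0))) (.node (.leaf (652, 8209)) (.leaf (0, 0)))))))) (.node (.node (.node (.node (.node (.node (.leaf (50, 358)) (.leaf (0, 0))) (.node (.leaf (212, 3405)) (.leaf (0, 0)))) (.node (.node (.leaf (210, 1893)) (.leaf (0, 0))) (.node (.leaf (710, 7121)) (.leaf (0, 0))))) (.node (.node (.node (.leaf (299, 2370)) (.leaf (0, 0))) (.node (.leaf (741, 7464)) (.leaf (0, 0)))) (.node (.node (.leaf (623, 5145)) (.leaf (0, 0))) (.node (.leaf (742, 7476)) (.leaf (0, 0)))))) (.node (.node (.node (.node (.leaf (74, 516)) (.leaf (0, 0))) (.node (.leaf (499, 3884)) (.leaf (0, 0)))) (.node (.node (.leaf (335, 2654)) (.leaf (0, 0))) (.node (.leaf (417, 6873)) (.leaf (0, 0))))) (.node (.node (.node (.leaf (274, 2212)) (.leaf (0, 0))) (.node (.leaf (430, 4619)) (.leaf (0, 0)))) (.node (.node (.leaf (247, 3009)) (.leaf (0, 0))) (.node (.leaf (748, 8047)) (.leaf (0, 0))))))) (.node (.node (.node (.node (.node (.leaf (27, 361))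 (.leaf (0, 0))) (.node (.leaf (685, 6810)) (.leaf (0, 0)))) (.node (.node (.leaf (103, 2079)) (.leaf (0, 0))) (.node (.leaf (707, 7084)) (.leaf (0, 0))))) (.node (.node (.node (.leaf (191, 1380)) (.leaf (0, 0))) (.node (.leaf (807, 8226)) (.leaf (0, 0)))) (.node (.node (.leaf (358, 2808)) (.leaf (0, 0))) (.node (.leaf (479, 7739)) (.leaf (0, 0)))))) (.node (.node (.node (.node (.leaf (40, 698)) (.leaf (0, 0))) (.node (.leaf (688, 6840)) (.leaf (0, 0)))) (.node (.node (.leaf (176, 2439)) (.leaf (0, 0))) (.node (.leaf (756, 7636)) (.leaf (0, 0))))) (.node (.node (.node (.leaf (232, 1907)) (.leaf (0, 0))) (.node (.leaf (326, 5027)) (.leaf (0, 0)))) (.node (.node (.leaf (300, 3213)) (.leaf (0, 0))) (.node (.leaf (661, 8351)) (.leaf (0, 0))))))))))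

def edge28 : Arr (ℕ × ℕ) :=
  (.node (.node (.node (.node (.node (.node (.node (.node (.leaf (8, 46)) (.leaf (829, 8466))) (.node (.leaf (393, 3261)) (.leaf (0, 0)))) (.node (.node (.leaf (216, 1798)) (.leaf (0, 0))) (.node (.leaf (621, 5130)) (.leaf (0, 0))))) (.node (.node (.node (.leaf (254, 2072)) (.leaf (0, 0))) (.node (.leaf (618, 9184)) (.leaf (0, 0)))) (.node (.node (.leaf (161, 2493)) (.leaf (0, 0))) (.node (.leaf (790, 8020)) (.leaf (0, 0)))))) (.node (.node (.node (.node (.leaf (160, 1125)) (.leaf (0, 0))) (.node (.leaf (460, 3655)) (.leaf (0, 0)))) (.node (.node (.leaf (511, 4006)) (.leaf (0, 0))) (.node (.leaf (414, 6669)) (.leaf (0, 0))))) (.node (.node (.node (.leaf (93, 1119)) (.leaf (0, 0))) (.node (.leaf (564, 4473)) (.leaf (0, 0)))) (.node (.node (.leaf (173, 2855)) (.leaf (0, 0))) (.node (.leaf (515, 7803)) (.leaf (0, 0))))))) (.node (.node (.node (.node (.node (.leaf (31, 260)) (.leaf (0, 0))) (.node (.leaf (439, 3439)) (.leaf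 (0, 0)))) (.node (.node (.leaf (104, 1941)) (.leaf (0, 0))) (.node (.leaf (696, 6944)) (.leaf (0, 0))))) (.node (.node (.node (.leaf (183, 1318)) (.leaf (0, 0))) (.node (.leaf (775, 7826)) (.leaf (0, 0)))) (.node (.node (.leaf (291, 2681)) (.leaf (0, 0))) (.node (.leaf (739, 7555)) (.leaf (0, 0)))))) (.node (.node (.node (.node (.leaf (114, 772)) (.leaf (0, 0))) (.node (.leaf (780, 7890)) (.leaf (0, 0)))) (.node (.node (.leaf (194, 2738)) (.leaf (0, 0))) (.node (.leaf (728, 7298)) (.leaf (0, 0))))) (.node (.node (.node (.leaf (314, 2516)) (.leaf (0, 0))) (.node (.leaf (750, 7572)) (.leaf (0, 0)))) (.node (.node (.leaf (306, 3067)) (.leaf (0, 0))) (.node (.leaf (751, 8138)) (.leaf (0, 0)))))))) (.node (.node (.node (.node (.node (.node (.leaf (19, 124)) (.leaf (837, 8559))) (.node (.leaf (280, 3343)) (.leaf (0, 0)))) (.node (.node (.leaf (451, 3514)) (.leaf (0, 0))) (.node (.leaf (633, 5264)) (.leaf (0, 0))))) (.node (.node (.node (.leaf (186, 1335))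 (.leaf (0, 0))) (.node (.leaf (535, 4190)) (.leaf (0, 0)))) (.node (.node (.leaf (609, 4962)) (.leaf (0, 0))) (.node (.leaf (734, 7389)) (.leaf (0, 0)))))) (.node (.node (.node (.node (.leaf (88, 616)) (.leaf (0, 0))) (.node (.leaf (480, 3764)) (.leaf (0, 0)))) (.node (.node (.leaf (290, 2318)) (.leaf (0, 0))) (.node (.leaf (472, 6789)) (.leaf (0, 0))))) (.node (.node (.node (.leaf (174, 1246)) (.leaf (0, 0))) (.node (.leaf (533, 6480)) (.leaf (0, 0)))) (.node (.node (.leaf (285, 2955)) (.leaf (0, 0))) (.node (.leaf (787, 7972)) (.leaf (0, 0))))))) (.node (.node (.node (.node (.node (.leaf (31, 8606)) (.leaf (0, 0))) (.node (.leaf (663, 6590)) (.leaf (0, 0)))) (.node (.node (.leaf (263, 2126)) (.leaf (0, 0))) (.node (.leaf (739, 7450)) (.leaf (0, 0))))) (.node (.node (.node (.leaf (49, 987)) (.leaf (0, 0))) (.node (.leaf (304, 9274)) (.leaf (0, 0)))) (.node (.node (.leaf (166, 2771)) (.leaf (0, 0))) (.node (.leaf (598, 7683)) (.leaf (0, 0)))))) (.node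 (.node (.node (.node (.leaf (133, 910)) (.leaf (0, 0))) (.node (.leaf (506, 3972)) (.leaf (0, 0)))) (.node (.node (.leaf (180, 2383)) (.leaf (0, 0))) (.node (.leaf (394, 7103)) (.leaf (0, 0))))) (.node (.node (.node (.leaf (361, 2830)) (.leaf (0, 0))) (.node (.leaf (665, 6620)) (.leaf (0, 0)))) (.node (.node (.leaf (489, 3824)) (.leaf (0, 0))) (.node (.leaf (836, 8540)) (.leaf (0, 0))))))))) (.node (.node (.node (.node (.node (.node (.node (.leaf (10, 83)) (.leaf (826, 8495))) (.node (.leaf (460, 6252)) (.leaf (0, 0)))) (.node (.node (.leaf (85, 1803)) (.leaf (0, 0))) (.node (.leaf (748, 7552)) (.leaf (0, 0))))) (.node (.node (.node (.leaf (155, 1072)) (.leaf (0, 0))) (.node (.leaf (641, 5691)) (.leaf (0, 0)))) (.node (.node (.leaf (371, 2910)) (.leaf (0, 0))) (.node (.leaf (735, 7400)) (.leaf (0, 0)))))) (.node (.node (.node (.node (.leaf (132, 900)) (.leaf (0, 0))) (.node (.leaf (372, 5968)) (.leaf (0, 0)))) (.node (.node (.leaf (402, 3160)) (.leaf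 (0, 0))) (.node (.leaf (781, 7894)) (.leaf (0, 0))))) (.node (.node (.node (.leaf (250, 2048)) (.leaf (0, 0))) (.node (.leaf (291, 4525)) (.leaf (0, 0)))) (.node (.node (.leaf (371, 2908)) (.leaf (0, 0))) (.node (.leaf (492, 7891)) (.leaf (0, 0))))))) (.node (.node (.node (.node (.node (.leaf (16, 304)) (.leaf (0, 0))) (.node (.leaf (622, 5136)) (.leaf (0, 0)))) (.node (.node (.leaf (306, 2436)) (.leaf (0, 0))) (.node (.leaf (659, 6568)) (.leaf (0, 0))))) (.node (.node (.node (.leaf (320, 2548)) (.leaf (0, 0))) (.node (.leaf (575, 6041)) (.leaf (0, 0)))) (.node (.node (.leaf (167, 2715)) (.leaf (0, 0))) (.node (.leaf (758, 7654)) (.leaf (0, 0)))))) (.node (.node (.node (.node (.leaf (122, 834)) (.leaf (0, 0))) (.node (.leaf (417, 3879)) (.leaf (0, 0)))) (.node (.node (.leaf (289, 2332)) (.leaf (0, 0))) (.node (.leaf (702, 7035)) (.leaf (0, 0))))) (.node (.node (.node (.leaf (77, 8730)) (.leaf (0, 0))) (.node (.leaf (487, 9350)) (.leaf (0, 0)))) (.node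 (.node (.leaf (387, 3113)) (.leaf (0, 0))) (.node (.leaf (820, 8374)) (.leaf (0, 0)))))))) (.node (.node (.node (.node (.node (.node (.leaf (8, 167)) (.leaf (0, 0))) (.node (.leaf (435, 3410)) (.leaf (0, 0)))) (.node (.node (.leaf (415, 3258)) (.leaf (0, 0))) (.node (.leaf (640, 5334)) (.leaf (0, 0))))) (.node (.node (.node (.leaf (92, 881)) (.leaf (0, 0))) (.node (.leaf (324, 9242)) (.leaf (0, 0)))) (.node (.node (.leaf (436, 8882)) (.leaf (0, 0))) (.node (.leaf (550, 7469)) (.leaf (0, 0)))))) (.node (.node (.node (.node (.leaf (71, 519)) (.leaf (0, 0))) (.node (.leaf (731, 7336)) (.leaf (0, 0)))) (.node (.node (.leaf (115, 2263)) (.leaf (0, 0))) (.node (.leaf (695, 6928)) (.leaf (0, 0))))) (.node (.node (.node (.leaf (179, 1276)) (.leaf (0, 0))) (.node (.leaf (409, 4629)) (.leaf (0, 0)))) (.node (.node (.leaf (185, 3007)) (.leaf (0, 0))) (.node (.leaf (560, 8051)) (.leaf (0, 0))))))) (.node (.node (.node (.node (.node (.leaf (50, 367)) (.leaf (0,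 0))) (.node (.leaf (227, 3595)) (.leaf (0, 0)))) (.node (.node (.leaf (495, 3858)) (.leaf (0, 0))) (.node (.leaf (684, 6794)) (.leaf (0, 0))))) (.node (.node (.node (.leaf (303, 2418)) (.leaf (0, 0))) (.node (.leaf (414, 4429)) (.leaf (0, 0)))) (.node (.node (.leaf (359, 2812)) (.leaf (0, 0))) (.node (.leaf (830, 8480)) (.leaf (0, 0)))))) (.node (.node (.node (.node (.leaf (246, 2020)) (.leaf (0, 0))) (.node (.leaf (512, 4010)) (.leaf (0, 0)))) (.node (.node (.leaf (280, 2443)) (.leaf (0, 0))) (.node (.leaf (421, 7169)) (.leaf (0, 0))))) (.node (.node (.node (.leaf (348, 2740)) (.leaf (0, 0))) (.node (.leaf (571, 6468)) (.leaf (0, 0)))) (.node (.node (.leaf (375, 3207)) (.leaf (0, 0))) (.node (.leaf (682, 8345)) (.leaf (0, 0))))))))))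

def edge29 : Arr (ℕ × ℕ) :=
  (.node (.node (.node (.node (.node (.node (.node (.node (.leaf (14, 97)) (.leaf (715, 8419))) (.node (.leaf (272, 3267)) (.leaf (0, 0)))) (.node (.node (.leaf (222, 1840)) (.leaf (0, 0))) (.node (.leaf (794, 8074)) (.leaf (0, 0))))) (.node (.node (.node (.leaf (235, 1932)) (.leaf (0, 0))) (.node (.leaf (626, 9186)) (.leaf (0, 0)))) (.node (.node (.leaf (406, 3188)) (.leaf (0, 0))) (.node (.leaf (444, 7233)) (.leaf (0, 0)))))) (.node (.node (.node (.node (.leaf (57, 8618)) (.leaf (0, 0))) (.node (.leaf (605, 6373)) (.leaf (0, 0)))) (.node (.node (.leaf (262, 2119)) (.leaf (0, 0))) (.node (.leaf (724, 7250)) (.leaf (0, 0))))) (.node (.node (.node (.leaf (162, 1134)) (.leaf (0, 0))) (.node (.leaf (574, 5972)) (.leaf (0, 0)))) (.node (.node (.leaf (399, 8918)) (.leaf (0, 0))) (.node (.leaf (775, 7828)) (.leaf (0, 0))))))) (.node (.node (.node (.node (.node (.leaf (32, 264)) (.leaf (0, 0))) (.node (.leaf (431, 3447)) (.leaf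 (0, 0)))) (.node (.node (.leaf (467, 3674)) (.leaf (0, 0))) (.node (.leaf (587, 5409)) (.leaf (0, 0))))) (.node (.node (.node (.leaf (47, 913)) (.leaf (0, 0))) (.node (.leaf (413, 4307)) (.leaf (0, 0)))) (.node (.node (.leaf (576, 8892)) (.leaf (0, 0))) (.node (.leaf (796, 8100)) (.leaf (0, 0)))))) (.node (.node (.node (.node (.leaf (115, 778)) (.leaf (0, 0))) (.node (.leaf (356, 3841)) (.leaf (0, 0)))) (.node (.node (.leaf (314, 2512)) (.leaf (0, 0))) (.node (.leaf (737, 7422)) (.leaf (0, 0))))) (.node (.node (.node (.leaf (65, 1329)) (.leaf (0, 0))) (.node (.leaf (510, 4687)) (.leaf (0, 0)))) (.node (.node (.leaf (290, 3063)) (.leaf (0, 0))) (.node (.leaf (801, 8152)) (.leaf (0, 0)))))))) (.node (.node (.node (.node (.node (.node (.leaf (10, 114)) (.leaf (837, 8560))) (.node (.leaf (449, 9026)) (.leaf (0, 0)))) (.node (.node (.leaf (448, 3498)) (.leaf (0, 0))) (.node (.leaf (597, 5263)) (.leaf (0, 0))))) (.node (.node (.node (.leaf (292, 2328))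 (.leaf (0, 0))) (.node (.leaf (526, 9218)) (.leaf (0, 0)))) (.node (.node (.leaf (326, 2595)) (.leaf (0, 0))) (.node (.leaf (431, 7391)) (.leaf (0, 0)))))) (.node (.node (.node (.node (.leaf (44, 457)) (.leaf (0, 0))) (.node (.leaf (756, 7628)) (.leaf (0, 0)))) (.node (.node (.leaf (161, 2217)) (.leaf (0, 0))) (.node (.leaf (679, 6791)) (.leaf (0, 0))))) (.node (.node (.node (.leaf (242, 1986)) (.leaf (0, 0))) (.node (.leaf (734, 7382)) (.leaf (0, 0)))) (.node (.node (.leaf (295, 2959)) (.leaf (0, 0))) (.node (.leaf (791, 8038)) (.leaf (0, 0))))))) (.node (.node (.node (.node (.node (.leaf (65, 434)) (.leaf (0, 0))) (.node (.leaf (449, 3543)) (.leaf (0, 0)))) (.node (.node (.leaf (100, 2041)) (.leaf (0, 0))) (.node (.leaf (653, 6553)) (.leaf (0, 0))))) (.node (.node (.node (.leaf (170, 1208)) (.leaf (0, 0))) (.node (.leaf (664, 9276)) (.leaf (0, 0)))) (.node (.node (.leaf (352, 2772)) (.leaf (0, 0))) (.node (.leaf (714, 7691)) (.leaf (0, 0)))))) (.node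 (.node (.node (.node (.leaf (98, 678)) (.leaf (0, 0))) (.node (.leaf (721, 7226)) (.leaf (0, 0)))) (.node (.node (.leaf (299, 2385)) (.leaf (0, 0))) (.node (.leaf (713, 7154)) (.leaf (0, 0))))) (.node (.node (.node (.leaf (313, 2508)) (.leaf (0, 0))) (.node (.leaf (373, 6046)) (.leaf (0, 0)))) (.node (.node (.leaf (544, 6249)) (.leaf (0, 0))) (.node (.leaf (629, 8283)) (.leaf (0, 0))))))))) (.node (.node (.node (.node (.node (.node (.node (.leaf (12, 92)) (.leaf (825, 8489))) (.node (.leaf (698, 6976)) (.leaf (0, 0)))) (.node (.node (.leaf (213, 1807)) (.leaf (0, 0))) (.node (.leaf (788, 7990)) (.leaf (0, 0))))) (.node (.node (.node (.leaf (54, 777)) (.leaf (0, 0))) (.node (.leaf (322, 9202)) (.leaf (0, 0)))) (.node (.node (.leaf (369, 2886)) (.leaf (0, 0))) (.node (.leaf (558, 7315)) (.leaf (0, 0)))))) (.node (.node (.node (.node (.leaf (112, 760)) (.leaf (0, 0))) (.node (.leaf (535, 6314)) (.leaf (0, 0)))) (.node (.node (.leaf (374, 2924)) (.leaf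 (0, 0))) (.node (.leaf (779, 7874)) (.leaf (0, 0))))) (.node (.node (.node (.leaf (56, 1163)) (.leaf (0, 0))) (.node (.leaf (576, 4526)) (.leaf (0, 0)))) (.node (.node (.leaf (372, 2912)) (.leaf (0, 0))) (.node (.leaf (815, 8310)) (.leaf (0, 0))))))) (.node (.node (.node (.node (.node (.leaf (81, 574)) (.leaf (0, 0))) (.node (.leaf (470, 3688)) (.leaf (0, 0)))) (.node (.node (.leaf (334, 2644)) (.leaf (0, 0))) (.node (.leaf (681, 6744)) (.leaf (0, 0))))) (.node (.node (.node (.leaf (118, 943)) (.leaf (0, 0))) (.node (.leaf (545, 4351)) (.leaf (0, 0)))) (.node (.node (.leaf (356, 2788)) (.leaf (0, 0))) (.node (.leaf (752, 7615)) (.leaf (0, 0)))))) (.node (.node (.node (.node (.leaf (89, 8676)) (.leaf (0, 0))) (.node (.leaf (570, 6380)) (.leaf (0, 0)))) (.node (.node (.leaf (311, 2486)) (.leaf (0, 0))) (.node (.leaf (422, 7041)) (.leaf (0, 0))))) (.node (.node (.node (.leaf (68, 1379)) (.leaf (0, 0))) (.node (.leaf (632, 5256)) (.leaf (0, 0)))) (.node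 (.node (.leaf (314, 3115)) (.leaf (0, 0))) (.node (.leaf (561, 8213)) (.leaf (0, 0)))))))) (.node (.node (.node (.node (.node (.node (.leaf (19, 171)) (.leaf (0, 0))) (.node (.leaf (436, 3418)) (.leaf (0, 0)))) (.node (.node (.leaf (91, 1891)) (.leaf (0, 0))) (.node (.leaf (660, 6773)) (.leaf (0, 0))))) (.node (.node (.node (.leaf (133, 908)) (.leaf (0, 0))) (.node (.leaf (485, 9244)) (.leaf (0, 0)))) (.node (.node (.leaf (331, 2625)) (.leaf (0, 0))) (.node (.leaf (595, 9488)) (.leaf (0, 0)))))) (.node (.node (.node (.node (.leaf (125, 8642)) (.leaf (0, 0))) (.node (.leaf (480, 3793)) (.leaf (0, 0)))) (.node (.node (.leaf (208, 2267)) (.leaf (0, 0))) (.node (.leaf (607, 6871)) (.leaf (0, 0))))) (.node (.node (.node (.leaf (81, 1275)) (.leaf (0, 0))) (.node (.leaf (515, 6336)) (.leaf (0, 0)))) (.node (.node (.leaf (384, 3010)) (.leaf (0, 0))) (.node (.leaf (602, 8059)) (.leaf (0, 0))))))) (.node (.node (.node (.node (.node (.leaf (21, 369)) (.leaf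 (0, 0))) (.node (.leaf (529, 4158)) (.leaf (0, 0)))) (.node (.node (.leaf (349, 2752)) (.leaf (0, 0))) (.node (.leaf (360, 6609)) (.leaf (0, 0))))) (.node (.node (.node (.leaf (74, 8722)) (.leaf (0, 0))) (.node (.leaf (597, 6051)) (.leaf (0, 0)))) (.node (.node (.leaf (669, 6652)) (.leaf (0, 0))) (.node (.leaf (831, 8490)) (.leaf (0, 0)))))) (.node (.node (.node (.node (.leaf (169, 1185)) (.leaf (0, 0))) (.node (.leaf (557, 4396)) (.leaf (0, 0)))) (.node (.node (.leaf (133, 2445)) (.leaf (0, 0))) (.node (.leaf (542, 7175)) (.leaf (0, 0))))) (.node (.node (.node (.leaf (131, 1729)) (.leaf (0, 0))) (.node (.leaf (630, 5222)) (.leaf (0, 0)))) (.node (.node (.leaf (588, 4628)) (.leaf (0, 0))) (.node (.leaf (779, 8349)) (.leaf (0, 0))))))))))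

def edge30 : Arr (ℕ × ℕ) :=
  (.node (.node (.node (.node (.node (.node (.node (.node (.leaf (3, 8590)) (.leaf (829, 8464))) (.node (.leaf (309, 3263)) (.leaf (0, 0)))) (.node (.node (.leaf (84, 1771)) (.leaf (0, 0))) (.node (.leaf (513, 9388)) (.leaf (0, 0))))) (.node (.node (.node (.leaf (160, 1126)) (.leaf (0, 0))) (.node (.leaf (607, 9188)) (.leaf (0, 0)))) (.node (.node (.leaf (187, 2505)) (.leaf (0, 0))) (.node (.leaf (723, 7248)) (.leaf (0, 0)))))) (.node (.node (.node (.node (.leaf (56, 391)) (.leaf (0, 0))) (.node (.leaf (417, 3659)) (.leaf (0, 0)))) (.node (.node (.leaf (471, 3700)) (.leaf (0, 0))) (.node (.leaf (725, 7258)) (.leaf (0, 0))))) (.node (.node (.node (.leaf (163, 1144)) (.leaf (0, 0))) (.node (.leaf (471, 5975)) (.leaf (0, 0)))) (.node (.node (.leaf (320, 2859)) (.leaf (0, 0))) (.node (.leaf (774, 7808)) (.leaf (0, 0))))))) (.node (.node (.node (.node (.node (.leaf (78, 528)) (.leaf (0, 0))) (.node (.leaf (378, 3449)) (.leaf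 (0, 0)))) (.node (.node (.leaf (252, 2064)) (.leaf (0, 0))) (.node (.leaf (354, 5415)) (.leaf (0, 0))))) (.node (.node (.node (.leaf (130, 915)) (.leaf (0, 0))) (.node (.leaf (616, 6043)) (.leaf (0, 0)))) (.node (.node (.leaf (337, 2677)) (.leaf (0, 0))) (.node (.leaf (749, 7560)) (.leaf (0, 0)))))) (.node (.node (.node (.node (.leaf (163, 1148)) (.leaf (0, 0))) (.node (.leaf (357, 3843)) (.leaf (0, 0)))) (.node (.node (.leaf (397, 3130)) (.leaf (0, 0))) (.node (.leaf (698, 6966)) (.leaf (0, 0))))) (.node (.node (.node (.leaf (383, 3006)) (.leaf (0, 0))) (.node (.leaf (455, 6490)) (.leaf (0, 0)))) (.node (.node (.leaf (193, 3071)) (.leaf (0, 0))) (.node (.leaf (682, 8136)) (.leaf (0, 0)))))))) (.node (.node (.node (.node (.node (.node (.leaf (21, 140)) (.leaf (838, 8570))) (.node (.leaf (308, 3345)) (.leaf (0, 0)))) (.node (.node (.leaf (142, 8752)) (.leaf (0, 0))) (.node (.leaf (728, 7301)) (.leaf (0, 0))))) (.node (.node (.node (.leaf (122, 828))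 (.leaf (0, 0))) (.node (.leaf (532, 4174)) (.leaf (0, 0)))) (.node (.node (.leaf (611, 5004)) (.leaf (0, 0))) (.node (.leaf (466, 7395)) (.leaf (0, 0)))))) (.node (.node (.node (.node (.leaf (50, 461)) (.leaf (0, 0))) (.node (.leaf (676, 7193)) (.leaf (0, 0)))) (.node (.node (.leaf (283, 2278)) (.leaf (0, 0))) (.node (.leaf (360, 6797)) (.leaf (0, 0))))) (.node (.node (.node (.leaf (176, 1252)) (.leaf (0, 0))) (.node (.leaf (389, 4579)) (.leaf (0, 0)))) (.node (.node (.leaf (245, 2961)) (.leaf (0, 0))) (.node (.leaf (785, 7969)) (.leaf (0, 0))))))) (.node (.node (.node (.node (.node (.leaf (45, 336)) (.leaf (0, 0))) (.node (.leaf (426, 6436)) (.leaf (0, 0)))) (.node (.node (.leaf (483, 3780)) (.leaf (0, 0))) (.node (.leaf (662, 6584)) (.leaf (0, 0))))) (.node (.node (.node (.leaf (109, 983)) (.leaf (0, 0))) (.node (.leaf (395, 9278)) (.leaf (0, 0)))) (.node (.node (.leaf (353, 2776)) (.leaf (0, 0))) (.node (.leaf (626, 7693)) (.leaf (0, 0)))))) (.node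 (.node (.node (.node (.leaf (99, 686)) (.leaf (0, 0))) (.node (.leaf (499, 3969)) (.leaf (0, 0)))) (.node (.node (.leaf (135, 2393)) (.leaf (0, 0))) (.node (.leaf (639, 7120)) (.leaf (0, 0))))) (.node (.node (.node (.leaf (109, 1716)) (.leaf (0, 0))) (.node (.leaf (489, 6044)) (.leaf (0, 0)))) (.node (.node (.leaf (464, 3622)) (.leaf (0, 0))) (.node (.leaf (817, 8326)) (.leaf (0, 0))))))))) (.node (.node (.node (.node (.node (.node (.node (.leaf (28, 240)) (.leaf (767, 8493))) (.node (.leaf (544, 4310)) (.leaf (0, 0)))) (.node (.node (.leaf (184, 2306)) (.leaf (0, 0))) (.node (.leaf (512, 6492)) (.leaf (0, 0))))) (.node (.node (.node (.leaf (207, 1743)) (.leaf (0, 0))) (.node (.leaf (451, 9204)) (.leaf (0, 0)))) (.node (.node (.leaf (245, 8834)) (.leaf (0, 0))) (.node (.leaf (416, 7303)) (.leaf (0, 0)))))) (.node (.node (.node (.node (.leaf (25, 424)) (.leaf (0, 0))) (.node (.leaf (439, 9100)) (.leaf (0, 0)))) (.node (.node (.leaf (333, 2632)) (.leaf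 (0, 0))) (.node (.leaf (678, 6718)) (.leaf (0, 0))))) (.node (.node (.node (.leaf (160, 1165)) (.leaf (0, 0))) (.node (.leaf (383, 9304)) (.leaf (0, 0)))) (.node (.node (.leaf (397, 8940)) (.leaf (0, 0))) (.node (.leaf (675, 7893)) (.leaf (0, 0))))))) (.node (.node (.node (.node (.node (.leaf (95, 664)) (.leaf (0, 0))) (.node (.leaf (701, 7004)) (.leaf (0, 0)))) (.node (.node (.leaf (119, 1989)) (.leaf (0, 0))) (.node (.leaf (661, 6574)) (.leaf (0, 0))))) (.node (.node (.node (.leaf (61, 945)) (.leaf (0, 0))) (.node (.leaf (306, 4357)) (.leaf (0, 0)))) (.node (.node (.leaf (286, 2719)) (.leaf (0, 0))) (.node (.leaf (757, 7638)) (.leaf (0, 0)))))) (.node (.node (.node (.node (.leaf (203, 8678)) (.leaf (0, 0))) (.node (.leaf (440, 3883)) (.leaf (0, 0)))) (.node (.node (.leaf (571, 4496)) (.leaf (0, 0))) (.node (.leaf (584, 7037)) (.leaf (0, 0))))) (.node (.node (.node (.leaf (201, 8732)) (.leaf (0, 0))) (.node (.leaf (410, 9352)) (.leaf (0, 0)))) (.node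 (.node (.leaf (347, 3121)) (.leaf (0, 0))) (.node (.leaf (656, 8215)) (.leaf (0, 0)))))))) (.node (.node (.node (.node (.node (.node (.leaf (47, 346)) (.leaf (0, 0))) (.node (.leaf (384, 3409)) (.leaf (0, 0)))) (.node (.node (.leaf (219, 1895)) (.leaf (0, 0))) (.node (.leaf (772, 7788)) (.leaf (0, 0))))) (.node (.node (.node (.leaf (141, 954)) (.leaf (0, 0))) (.node (.leaf (650, 5456)) (.leaf (0, 0)))) (.node (.node (.leaf (616, 5048)) (.leaf (0, 0))) (.node (.leaf (525, 7479)) (.leaf (0, 0)))))) (.node (.node (.node (.node (.leaf (44, 8644)) (.leaf (0, 0))) (.node (.leaf (617, 9112)) (.leaf (0, 0)))) (.node (.node (.leaf (553, 4376)) (.leaf (0, 0))) (.node (.leaf (578, 6865)) (.leaf (0, 0))))) (.node (.node (.node (.leaf (124, 1271)) (.leaf (0, 0))) (.node (.leaf (447, 4631)) (.leaf (0, 0)))) (.node (.node (.leaf (385, 3016)) (.leaf (0, 0))) (.node (.leaf (551, 8061)) (.leaf (0, 0))))))) (.node (.node (.node (.node (.node (.leaf (20, 363)) (.leaf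 (0, 0))) (.node (.leaf (439, 3597)) (.leaf (0, 0)))) (.node (.node (.leaf (344, 8772)) (.leaf (0, 0))) (.node (.leaf (607, 6621)) (.leaf (0, 0))))) (.node (.node (.node (.leaf (275, 2220)) (.leaf (0, 0))) (.node (.leaf (543, 4433)) (.leaf (0, 0)))) (.node (.node (.leaf (676, 6702)) (.leaf (0, 0))) (.node (.leaf (825, 8423)) (.leaf (0, 0)))))) (.node (.node (.node (.node (.leaf (83, 8684)) (.leaf (0, 0))) (.node (.leaf (499, 9154)) (.leaf (0, 0)))) (.node (.node (.leaf (132, 2441)) (.leaf (0, 0))) (.node (.leaf (637, 7177)) (.leaf (0, 0))))) (.node (.node (.node (.leaf (276, 2230)) (.leaf (0, 0))) (.node (.leaf (680, 7204)) (.leaf (0, 0)))) (.node (.node (.leaf (232, 3223)) (.leaf (0, 0))) (.node (.leaf (678, 8353)) (.leaf (0, 0))))))))))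

def edge31 : Arr (ℕ × ℕ) :=
  (.node (.node (.node (.node (.node (.node (.node (.node (.leaf (8, 48)) (.leaf (767, 8421))) (.node (.leaf (203, 3265)) (.leaf (0, 0)))) (.node (.node (.leaf (99, 1773)) (.leaf (0, 0))) (.node (.leaf (623, 5142)) (.leaf (0, 0))))) (.node (.node (.node (.leaf (256, 2080)) (.leaf (0, 0))) (.node (.leaf (510, 4039)) (.leaf (0, 0)))) (.node (.node (.leaf (304, 2501)) (.leaf (0, 0))) (.node (.leaf (565, 7247)) (.leaf (0, 0)))))) (.node (.node (.node (.node (.leaf (66, 436)) (.leaf (0, 0))) (.node (.leaf (599, 6450)) (.leaf (0, 0)))) (.node (.node (.leaf (469, 3684)) (.leaf (0, 0))) (.node (.leaf (635, 9448)) (.leaf (0, 0))))) (.node (.node (.node (.leaf (158, 1113)) (.leaf (0, 0))) (.node (.leaf (583, 4588)) (.leaf (0, 0)))) (.node (.node (.leaf (368, 2882)) (.leaf (0, 0))) (.node (.leaf (763, 7813)) (.leaf (0, 0))))))) (.node (.node (.node (.node (.node (.leaf (29, 263)) (.leaf (0, 0))) (.node (.leaf (696, 6942)) (.leaf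 (0, 0)))) (.node (.node (.leaf (262, 2116)) (.leaf (0, 0))) (.node (.leaf (586, 5417)) (.leaf (0, 0))))) (.node (.node (.node (.leaf (128, 1013)) (.leaf (0, 0))) (.node (.leaf (542, 4303)) (.leaf (0, 0)))) (.node (.node (.leaf (303, 2683)) (.leaf (0, 0))) (.node (.leaf (620, 7557)) (.leaf (0, 0)))))) (.node (.node (.node (.node (.leaf (102, 8666)) (.leaf (0, 0))) (.node (.leaf (668, 6646)) (.leaf (0, 0)))) (.node (.node (.leaf (382, 2992)) (.leaf (0, 0))) (.node (.leaf (379, 6963)) (.leaf (0, 0))))) (.node (.node (.node (.leaf (296, 2356)) (.leaf (0, 0))) (.node (.leaf (531, 9338)) (.leaf (0, 0)))) (.node (.node (.leaf (429, 3356)) (.leaf (0, 0))) (.node (.leaf (740, 8134)) (.leaf (0, 0)))))))) (.node (.node (.node (.node (.node (.node (.leaf (25, 170)) (.leaf (835, 8565))) (.node (.leaf (556, 4388)) (.leaf (0, 0)))) (.node (.node (.leaf (438, 3432)) (.leaf (0, 0))) (.node (.leaf (436, 9420)) (.leaf (0, 0))))) (.node (.node (.node (.leaf (150, 1024))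 (.leaf (0, 0))) (.node (.leaf (595, 9220)) (.leaf (0, 0)))) (.node (.node (.leaf (591, 4670)) (.leaf (0, 0))) (.node (.leaf (696, 7402)) (.leaf (0, 0)))))) (.node (.node (.node (.node (.leaf (149, 1008)) (.leaf (0, 0))) (.node (.leaf (763, 7713)) (.leaf (0, 0)))) (.node (.node (.leaf (401, 3156)) (.leaf (0, 0))) (.node (.leaf (414, 6799)) (.leaf (0, 0))))) (.node (.node (.node (.leaf (177, 1260)) (.leaf (0, 0))) (.node (.leaf (659, 6763)) (.leaf (0, 0)))) (.node (.node (.leaf (288, 2967)) (.leaf (0, 0))) (.node (.leaf (762, 7975)) (.leaf (0, 0))))))) (.node (.node (.node (.node (.node (.leaf (122, 830)) (.leaf (0, 0))) (.node (.leaf (747, 7540)) (.leaf (0, 0)))) (.node (.node (.leaf (105, 2043)) (.leaf (0, 0))) (.node (.leaf (652, 6569)) (.leaf (0, 0))))) (.node (.node (.node (.leaf (146, 1678)) (.leaf (0, 0))) (.node (.leaf (637, 9280)) (.leaf (0, 0)))) (.node (.node (.leaf (651, 6496)) (.leaf (0, 0))) (.node (.leaf (796, 8102)) (.leaf (0, 0))))))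 (.node (.node (.node (.node (.leaf (94, 661)) (.leaf (0, 0))) (.node (.leaf (772, 7786)) (.leaf (0, 0)))) (.node (.node (.leaf (293, 2387)) (.leaf (0, 0))) (.node (.leaf (596, 7111)) (.leaf (0, 0))))) (.node (.node (.node (.leaf (228, 1878)) (.leaf (0, 0))) (.node (.leaf (366, 4907)) (.leaf (0, 0)))) (.node (.node (.leaf (267, 8986)) (.leaf (0, 0))) (.node (.leaf (801, 8281)) (.leaf (0, 0))))))))) (.node (.node (.node (.node (.node (.node (.node (.leaf (31, 258)) (.leaf (827, 8497))) (.node (.leaf (421, 3299)) (.leaf (0, 0)))) (.node (.node (.leaf (245, 2012)) (.leaf (0, 0))) (.node (.leaf (694, 6924)) (.leaf (0, 0))))) (.node (.node (.node (.leaf (282, 2270)) (.leaf (0, 0))) (.node (.leaf (486, 9206)) (.leaf (0, 0)))) (.node (.node (.leaf (336, 2670)) (.leaf (0, 0))) (.node (.leaf (546, 7305)) (.leaf (0, 0)))))) (.node (.node (.node (.node (.leaf (83, 586)) (.leaf (0, 0))) (.node (.leaf (604, 4818)) (.leaf (0, 0)))) (.node (.node (.leaf (107, 2158))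 (.leaf (0, 0))) (.node (.leaf (666, 6715)) (.leaf (0, 0))))) (.node (.node (.node (.leaf (351, 2770)) (.leaf (0, 0))) (.node (.leaf (711, 7134)) (.leaf (0, 0)))) (.node (.node (.leaf (475, 6410)) (.leaf (0, 0))) (.node (.leaf (818, 8346)) (.leaf (0, 0))))))) (.node (.node (.node (.node (.node (.leaf (16, 307)) (.leaf (0, 0))) (.node (.leaf (446, 3495)) (.leaf (0, 0)))) (.node (.node (.leaf (382, 2988)) (.leaf (0, 0))) (.node (.leaf (662, 6580)) (.leaf (0, 0))))) (.node (.node (.node (.leaf (239, 1966)) (.leaf (0, 0))) (.node (.leaf (554, 4380)) (.leaf (0, 0)))) (.node (.node (.leaf (238, 2725)) (.leaf (0, 0))) (.node (.leaf (755, 7626)) (.leaf (0, 0)))))) (.node (.node (.node (.node (.leaf (90, 622)) (.leaf (0, 0))) (.node (.leaf (609, 9134)) (.leaf (0, 0)))) (.node (.node (.leaf (388, 3040)) (.leaf (0, 0))) (.node (.leaf (644, 7039)) (.leaf (0, 0))))) (.node (.node (.node (.leaf (341, 8734)) (.leaf (0, 0))) (.node (.leaf (610, 4996)) (.leaf (0, 0))))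 (.node (.node (.leaf (206, 8978)) (.leaf (0, 0))) (.node (.leaf (675, 8221)) (.leaf (0, 0)))))))) (.node (.node (.node (.node (.node (.node (.leaf (43, 322)) (.leaf (0, 0))) (.node (.leaf (333, 3413)) (.leaf (0, 0)))) (.node (.node (.leaf (435, 3414)) (.leaf (0, 0))) (.node (.leaf (720, 7218)) (.leaf (0, 0))))) (.node (.node (.node (.leaf (46, 878)) (.leaf (0, 0))) (.node (.leaf (538, 4260)) (.leaf (0, 0)))) (.node (.node (.leaf (617, 5056)) (.leaf (0, 0))) (.node (.leaf (781, 7898)) (.leaf (0, 0)))))) (.node (.node (.node (.node (.leaf (123, 8646)) (.leaf (0, 0))) (.node (.leaf (531, 4170)) (.leaf (0, 0)))) (.node (.node (.leaf (550, 4354)) (.leaf (0, 0))) (.node (.leaf (664, 6881)) (.leaf (0, 0))))) (.node (.node (.node (.leaf (90, 1681)) (.leaf (0, 0))) (.node (.leaf (482, 9332)) (.leaf (0, 0)))) (.node (.node (.leaf (402, 3164)) (.leaf (0, 0))) (.node (.leaf (795, 8078)) (.leaf (0, 0))))))) (.node (.node (.node (.node (.node (.leaf (27, 371))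 (.leaf (0, 0))) (.node (.leaf (443, 6375)) (.leaf (0, 0)))) (.node (.node (.leaf (254, 2077)) (.leaf (0, 0))) (.node (.leaf (372, 6611)) (.leaf (0, 0))))) (.node (.node (.node (.leaf (154, 1064)) (.leaf (0, 0))) (.node (.leaf (465, 6418)) (.leaf (0, 0)))) (.node (.node (.leaf (254, 2811)) (.leaf (0, 0))) (.node (.leaf (766, 7737)) (.leaf (0, 0)))))) (.node (.node (.node (.node (.leaf (103, 710)) (.leaf (0, 0))) (.node (.leaf (519, 4045)) (.leaf (0, 0)))) (.node (.node (.leaf (286, 2447)) (.leaf (0, 0))) (.node (.leaf (410, 9478)) (.leaf (0, 0))))) (.node (.node (.node (.leaf (280, 2258)) (.leaf (0, 0))) (.node (.leaf (597, 5033)) (.leaf (0, 0)))) (.node (.node (.leaf (270, 3227)) (.leaf (0, 0))) (.node (.leaf (831, 8486)) (.leaf (0, 0))))))))))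

def edge : Arr (ℕ × ℕ) :=
  (.node (.node (.node (.node (.node edge0 edge16) (.node edge8 edge24)) (.node (.node edge4 edge20) (.node edge12 edge28))) (.node (.node (.node edge2 edge18) (.node edge10 edge26)) (.node (.node edge6 edge22) (.node edge14 edge30)))) (.node (.node (.node (.node edge1 edge17) (.node edge9 edge25)) (.node (.node edge5 edge21) (.node edge13 edge29))) (.node (.node (.node edge3 edge19) (.node edge11 edge27)) (.node (.node edge7 edge23) (.node edge15 edge31)))))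

def toward0 : Arr (ℕ × ℕ × ℕ) :=
  (.node (.node (.node (.node (.node (.node (.node (.node (.leaf (0, 0, 0)) (.leaf (3, 505, 4))) (.node (.leaf (4, 272, 5)) (.leaf (1, 788, 5)))) (.node (.node (.leaf (1, 134, 8)) (.leaf (3, 776, 5))) (.node (.leaf (4, 489, 5)) (.leaf (0, 0, 0))))) (.node (.node (.node (.leaf (1, 43, 3)) (.leaf (4, 632, 7))) (.node (.leaf (4, 319, 4)) (.leaf (1, 766, 1)))) (.node (.node (.leaf (3, 227, 6)) (.leaf (2, 733, 4))) (.node (.leaf (1, 452, 6)) (.leaf (0, 0, 0)))))) (.node (.node (.node (.node (.leaf (3, 13, 2)) (.leaf (4, 704, 5))) (.node (.leaf (1, 231, 3)) (.leaf (1, 623, 7)))) (.node (.node (.leaf (1, 173, 7)) (.leaf (1, 783, 11))) (.node (.leaf (2, 685, 6)) (.leaf (0, 0, 0))))) (.node (.node (.node (.leaf (4, 104, 6)) (.leaf (4, 607, 5))) (.node (.leaf (4, 503, 11)) (.leaf (0, 0, 0)))) (.node (.node (.leaf (4, 223, 8)) (.leaf (3, 464, 5))) (.node (.leaf (4, 481, 5)) (.leaf (0, 0, 0))))))) (.node (.node (.node (.node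 (.node (.leaf (0, 16, 0)) (.leaf (4, 732, 6))) (.node (.leaf (4, 215, 4)) (.leaf (3, 785, 8)))) (.node (.node (.leaf (4, 234, 6)) (.leaf (4, 805, 9))) (.node (.leaf (1, 489, 5)) (.leaf (0, 0, 0))))) (.node (.node (.node (.leaf (2, 36, 3)) (.leaf (3, 307, 7))) (.node (.leaf (2, 241, 2)) (.leaf (0, 0, 0)))) (.node (.node (.leaf (1, 238, 6)) (.leaf (4, 820, 8))) (.node (.leaf (2, 434, 4)) (.leaf (0, 0, 0)))))) (.node (.node (.node (.node (.leaf (1, 49, 5)) (.leaf (3, 594, 7))) (.node (.leaf (4, 152, 8)) (.leaf (1, 791, 8)))) (.node (.node (.leaf (4, 233, 6)) (.leaf (1, 687, 6))) (.node (.leaf (4, 437, 6)) (.leaf (0, 0, 0))))) (.node (.node (.node (.leaf (4, 118, 5)) (.leaf (4, 515, 5))) (.node (.leaf (4, 373, 4)) (.leaf (0, 0, 0)))) (.node (.node (.leaf (4, 369, 3)) (.leaf (1, 501, 3))) (.node (.leaf (4, 708, 8)) (.leaf (0, 0, 0)))))))) (.node (.node (.node (.node (.node (.node (.leaf (2, 5, 4)) (.leaf (4, 323, 6))) (.node (.leaf (1, 106, 2)) (.leaf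 (2, 485, 4)))) (.node (.node (.leaf (4, 180, 5)) (.leaf (4, 745, 7))) (.node (.leaf (1, 218, 6)) (.leaf (0, 0, 0))))) (.node (.node (.node (.leaf (2, 29, 3)) (.leaf (4, 401, 4))) (.node (.leaf (4, 322, 6)) (.leaf (0, 0, 0)))) (.node (.node (.leaf (1, 123, 5)) (.leaf (4, 496, 9))) (.node (.leaf (4, 749, 7)) (.leaf (0, 0, 0)))))) (.node (.node (.node (.node (.leaf (2, 100, 4)) (.leaf (4, 452, 6))) (.node (.leaf (4, 377, 5)) (.leaf (1, 624, 6)))) (.node (.node (.leaf (1, 233, 6)) (.leaf (4, 566, 12))) (.node (.leaf (3, 546, 7)) (.leaf (0, 0, 0))))) (.node (.node (.node (.leaf (4, 40, 5)) (.leaf (4, 601, 6))) (.node (.leaf (4, 354, 12)) (.leaf (0, 0, 0)))) (.node (.node (.leaf (4, 415, 6)) (.leaf (1, 700, 8))) (.node (.leaf (4, 486, 4)) (.leaf (0, 0, 0))))))) (.node (.node (.node (.node (.node (.leaf (4, 8, 5)) (.leaf (4, 324, 6))) (.node (.leaf (4, 115, 7)) (.leaf (4, 560, 8)))) (.node (.node (.leaf (1, 116, 7)) (.leaf (1, 556, 8))) (.node (.leaf (4,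 375, 9)) (.leaf (0, 0, 0))))) (.node (.node (.node (.leaf (3, 188, 5)) (.leaf (4, 487, 4))) (.node (.leaf (1, 497, 11)) (.leaf (0, 0, 0)))) (.node (.node (.leaf (4, 85, 3)) (.leaf (2, 437, 6))) (.node (.leaf (1, 240, 4)) (.leaf (0, 0, 0)))))) (.node (.node (.node (.node (.leaf (3, 101, 6)) (.leaf (4, 564, 10))) (.node (.leaf (4, 161, 5)) (.leaf (2, 766, 1)))) (.node (.node (.leaf (1, 217, 5)) (.leaf (1, 541, 7))) (.node (.leaf (2, 416, 7)) (.leaf (0, 0, 0))))) (.node (.node (.node (.leaf (1, 45, 3)) (.leaf (1, 631, 6))) (.node (.leaf (2, 282, 8)) (.leaf (0, 0, 0)))) (.node (.node (.leaf (4, 263, 3)) (.leaf (1, 625, 5))) (.node (.leaf (4, 506, 4)) (.leaf (0, 0, 0))))))))) (.node (.node (.node (.node (.node (.node (.node (.leaf (1, 1, 1)) (.leaf (4, 625, 5))) (.node (.leaf (2, 509, 4)) (.leaf (2, 484, 5)))) (.node (.node (.leaf (1, 63, 5)) (.leaf (4, 733, 4))) (.node (.leaf (4, 227, 6)) (.leaf (0, 0, 0))))) (.node (.node (.node (.leaf (1, 69, 5)) (.leaf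 (2, 581, 5))) (.node (.leaf (4, 470, 5)) (.leaf (4, 814, 3)))) (.node (.node (.leaf (1, 216, 4)) (.leaf (3, 745, 7))) (.node (.leaf (4, 558, 5)) (.leaf (0, 0, 0)))))) (.node (.node (.node (.node (.leaf (2, 37, 2)) (.leaf (4, 695, 6))) (.node (.leaf (2, 540, 6)) (.leaf (1, 820, 8)))) (.node (.node (.leaf (2, 103, 5)) (.leaf (1, 717, 7))) (.node (.leaf (4, 465, 4)) (.leaf (0, 0, 0))))) (.node (.node (.node (.leaf (3, 60, 3)) (.leaf (4, 617, 11))) (.node (.leaf (4, 350, 11)) (.leaf (0, 0, 0)))) (.node (.node (.leaf (3, 149, 7)) (.leaf (4, 553, 11))) (.node (.leaf (2, 505, 4)) (.leaf (0, 0, 0))))))) (.node (.node (.node (.node (.node (.leaf (3, 7, 3)) (.leaf (4, 265, 4))) (.node (.leaf (4, 114, 6)) (.leaf (4, 505, 4)))) (.node (.node (.leaf (2, 149, 7)) (.leaf (2, 773, 6))) (.node (.leaf (1, 403, 3)) (.leaf (0, 0, 0))))) (.node (.node (.node (.leaf (2, 85, 3)) (.leaf (2, 340, 7))) (.node (.leaf (3, 640, 6)) (.leaf (0, 0, 0)))) (.node (.node (.leaf (2,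 230, 2)) (.leaf (4, 744, 9))) (.node (.leaf (1, 252, 4)) (.leaf (0, 0, 0)))))) (.node (.node (.node (.node (.leaf (2, 51, 7)) (.leaf (4, 565, 9))) (.node (.leaf (4, 307, 7)) (.leaf (4, 639, 7)))) (.node (.node (.leaf (4, 64, 4)) (.leaf (1, 534, 5))) (.node (.leaf (3, 540, 6)) (.leaf (0, 0, 0))))) (.node (.node (.node (.leaf (4, 111, 6)) (.leaf (2, 515, 5))) (.node (.leaf (1, 373, 4)) (.leaf (0, 0, 0)))) (.node (.node (.leaf (4, 121, 8)) (.leaf (1, 488, 5))) (.node (.leaf (4, 501, 3)) (.leaf (0, 0, 0)))))))) (.node (.node (.node (.node (.node (.node (.leaf (0, 12, 0)) (.leaf (4, 511, 4))) (.node (.leaf (4, 362, 6)) (.leaf (1, 815, 8)))) (.node (.node (.leaf (1, 118, 5)) (.leaf (4, 638, 10))) (.node (.leaf (3, 206, 7)) (.leaf (0, 0, 0))))) (.node (.node (.node (.leaf (4, 80, 4)) (.leaf (3, 482, 3))) (.node (.leaf (4, 325, 7)) (.leaf (0, 0, 0)))) (.node (.node (.leaf (4, 82, 7)) (.leaf (4, 731, 5))) (.node (.leaf (4, 459, 7)) (.leaf (0, 0, 0)))))) (.node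 (.node (.node (.node (.leaf (4, 36, 3)) (.leaf (4, 340, 7))) (.node (.leaf (4, 181, 9)) (.leaf (1, 629, 10)))) (.node (.node (.leaf (4, 173, 7)) (.leaf (4, 663, 10))) (.node (.leaf (4, 282, 8)) (.leaf (0, 0, 0))))) (.node (.node (.node (.leaf (4, 238, 6)) (.leaf (4, 510, 6))) (.node (.leaf (4, 175, 2)) (.leaf (0, 0, 0)))) (.node (.node (.leaf (4, 106, 2)) (.leaf (4, 594, 7))) (.node (.leaf (4, 677, 11)) (.leaf (0, 0, 0))))))) (.node (.node (.node (.node (.node (.leaf (2, 13, 2)) (.leaf (3, 578, 5))) (.node (.leaf (4, 376, 9)) (.leaf (1, 748, 8)))) (.node (.node (.leaf (1, 171, 4)) (.leaf (4, 781, 10))) (.node (.leaf (4, 201, 7)) (.leaf (0, 0, 0))))) (.node (.node (.node (.leaf (4, 93, 3)) (.leaf (4, 534, 5))) (.node (.leaf (1, 544, 6)) (.leaf (0, 0, 0)))) (.node (.node (.leaf (2, 86, 7)) (.leaf (2, 476, 5))) (.node (.leaf (3, 733, 4)) (.leaf (0, 0, 0)))))) (.node (.node (.node (.node (.leaf (2, 38, 2)) (.leaf (1, 699, 7))) (.node (.leaf (1, 523, 4))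 (.leaf (1, 749, 7)))) (.node (.node (.leaf (2, 89, 4)) (.leaf (4, 699, 7))) (.node (.leaf (4, 448, 7)) (.leaf (0, 0, 0))))) (.node (.node (.node (.leaf (4, 90, 3)) (.leaf (4, 637, 7))) (.node (.leaf (1, 379, 5)) (.leaf (0, 0, 0)))) (.node (.node (.leaf (4, 251, 3)) (.leaf (1, 769, 7))) (.node (.leaf (4, 770, 4)) (.leaf (0, 0, 0))))))))))

def toward1 : Arr (ℕ × ℕ × ℕ) :=
  (.node (.node (.node (.node (.node (.node (.node (.node (.leaf (0, 1, 0)) (.leaf (4, 260, 5))) (.node (.leaf (3, 105, 1)) (.leaf (4, 746, 6)))) (.node (.node (.leaf (2, 148, 8)) (.leaf (4, 688, 7))) (.node (.leaf (4, 544, 6)) (.leaf (0, 0, 0))))) (.node (.node (.node (.leaf (1, 44, 4)) (.leaf (2, 292, 7))) (.node (.leaf (4, 270, 6)) (.leaf (3, 832, 2)))) (.node (.node (.leaf (4, 68, 6)) (.leaf (4, 580, 6))) (.node (.leaf (1, 428, 9)) (.leaf (0, 0, 0)))))) (.node (.node (.node (.node (.leaf (2, 71, 4)) (.leaf (4, 546, 7))) (.node (.leaf (4, 295, 7)) (.leaf (1, 792, 9)))) (.node (.node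 (.leaf (1, 81, 4)) (.leaf (4, 567, 12))) (.node (.leaf (1, 690, 6)) (.leaf (0, 0, 0))))) (.node (.node (.node (.leaf (3, 39, 4)) (.leaf (1, 595, 9))) (.node (.leaf (4, 652, 11)) (.leaf (0, 0, 0)))) (.node (.node (.leaf (4, 302, 7)) (.leaf (4, 454, 10))) (.node (.leaf (4, 485, 4)) (.leaf (0, 0, 0))))))) (.node (.node (.node (.node (.node (.leaf (4, 16, 1)) (.leaf (4, 528, 7))) (.node (.leaf (1, 151, 8)) (.leaf (3, 622, 7)))) (.node (.node (.leaf (4, 235, 7)) (.leaf (4, 563, 11))) (.node (.leaf (4, 435, 3)) (.leaf (0, 0, 0))))) (.node (.node (.node (.leaf (4, 45, 3)) (.leaf (2, 559, 9))) (.node (.leaf (1, 432, 7)) (.leaf (0, 0, 0)))) (.node (.node (.leaf (3, 83, 4)) (.leaf (4, 789, 7))) (.node (.leaf (4, 463, 3)) (.leaf (0, 0, 0)))))) (.node (.node (.node (.node (.leaf (4, 41, 4)) (.leaf (3, 639, 7))) (.node (.leaf (4, 143, 8)) (.leaf (1, 786, 9)))) (.node (.node (.leaf (4, 269, 7)) (.leaf (4, 475, 4))) (.node (.leaf (2, 212, 3)) (.leaf (0, 0, 0)))))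 (.node (.node (.node (.leaf (4, 146, 5)) (.leaf (4, 509, 4))) (.node (.leaf (4, 241, 2)) (.leaf (0, 0, 0)))) (.node (.node (.leaf (2, 174, 1)) (.leaf (4, 467, 4))) (.node (.leaf (4, 709, 10)) (.leaf (0, 0, 0)))))))) (.node (.node (.node (.node (.node (.node (.leaf (3, 3, 2)) (.leaf (1, 477, 5))) (.node (.leaf (1, 251, 3)) (.leaf (4, 790, 7)))) (.node (.node (.leaf (4, 183, 6)) (.leaf (4, 647, 10))) (.node (.leaf (1, 415, 6)) (.leaf (0, 0, 0))))) (.node (.node (.node (.leaf (3, 79, 4)) (.leaf (4, 611, 8))) (.node (.leaf (4, 620, 7)) (.leaf (0, 0, 0)))) (.node (.node (.leaf (1, 202, 6)) (.leaf (4, 497, 11))) (.node (.leaf (4, 273, 9)) (.leaf (0, 0, 0)))))) (.node (.node (.node (.node (.leaf (2, 59, 3)) (.leaf (1, 281, 10))) (.node (.leaf (4, 296, 6)) (.leaf (1, 787, 11)))) (.node (.node (.leaf (4, 250, 7)) (.leaf (1, 652, 11))) (.node (.leaf (4, 702, 6)) (.leaf (0, 0, 0))))) (.node (.node (.node (.leaf (0, 105, 0)) (.leaf (4, 609, 10))) (.node (.leaf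 (1, 405, 7)) (.leaf (0, 0, 0)))) (.node (.node (.leaf (4, 97, 5)) (.leaf (3, 447, 6))) (.node (.leaf (4, 434, 4)) (.leaf (0, 0, 0))))))) (.node (.node (.node (.node (.node (.leaf (4, 35, 3)) (.leaf (4, 493, 9))) (.node (.leaf (4, 428, 9)) (.leaf (1, 551, 8)))) (.node (.node (.leaf (4, 170, 4)) (.leaf (1, 607, 5))) (.node (.leaf (4, 200, 6)) (.leaf (0, 0, 0))))) (.node (.node (.node (.leaf (2, 90, 3)) (.leaf (1, 410, 5))) (.node (.leaf (4, 164, 6)) (.leaf (0, 0, 0)))) (.node (.node (.leaf (4, 433, 4)) (.leaf (2, 546, 7))) (.node (.leaf (4, 474, 6)) (.leaf (0, 0, 0)))))) (.node (.node (.node (.node (.leaf (3, 109, 5)) (.leaf (4, 370, 3))) (.node (.leaf (4, 192, 7)) (.leaf (4, 824, 2)))) (.node (.node (.leaf (4, 184, 6)) (.leaf (4, 426, 5))) (.node (.leaf (4, 727, 5)) (.leaf (0, 0, 0))))) (.node (.node (.node (.leaf (1, 122, 7)) (.leaf (2, 436, 7))) (.node (.leaf (1, 245, 4)) (.leaf (0, 0, 0)))) (.node (.node (.leaf (2, 105, 1)) (.leaf (1, 626, 6)))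 (.node (.leaf (3, 259, 3)) (.leaf (0, 0, 0))))))))) (.node (.node (.node (.node (.node (.node (.node (.leaf (2, 7, 3)) (.leaf (4, 626, 6))) (.node (.leaf (2, 482, 3)) (.leaf (3, 515, 5)))) (.node (.node (.leaf (4, 47, 5)) (.leaf (4, 587, 7))) (.node (.leaf (4, 290, 7)) (.leaf (0, 0, 0))))) (.node (.node (.node (.leaf (4, 44, 4)) (.leaf (3, 533, 4))) (.node (.leaf (1, 324, 6)) (.leaf (2, 838, 5)))) (.node (.node (.leaf (1, 222, 8)) (.leaf (2, 782, 9))) (.node (.leaf (4, 449, 10)) (.leaf (0, 0, 0)))))) (.node (.node (.node (.node (.leaf (3, 16, 1)) (.leaf (1, 548, 7))) (.node (.leaf (4, 311, 8)) (.leaf (4, 561, 8)))) (.node (.node (.leaf (4, 56, 7)) (.leaf (1, 712, 10))) (.node (.leaf (4, 698, 7)) (.leaf (0, 0, 0))))) (.node (.node (.node (.leaf (2, 40, 5)) (.leaf (4, 630, 9))) (.node (.leaf (4, 669, 13)) (.leaf (0, 0, 0)))) (.node (.node (.leaf (4, 91, 5)) (.leaf (4, 595, 9))) (.node (.leaf (2, 499, 3)) (.leaf (0, 0, 0))))))) (.node (.node (.node (.node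 (.node (.leaf (4, 7, 3)) (.leaf (3, 336, 3))) (.node (.leaf (1, 423, 7)) (.leaf (4, 772, 6)))) (.node (.node (.leaf (3, 199, 6)) (.leaf (4, 710, 9))) (.node (.leaf (4, 221, 6)) (.leaf (0, 0, 0))))) (.node (.node (.node (.leaf (3, 38, 2)) (.leaf (4, 616, 7))) (.node (.leaf (1, 229, 6)) (.leaf (0, 0, 0)))) (.node (.node (.leaf (4, 216, 4)) (.leaf (4, 764, 8))) (.node (.leaf (1, 262, 6)) (.leaf (0, 0, 0)))))) (.node (.node (.node (.node (.leaf (4, 117, 4)) (.leaf (2, 592, 8))) (.node (.leaf (4, 228, 8)) (.leaf (4, 835, 4)))) (.node (.node (.leaf (4, 148, 8)) (.leaf (4, 686, 5))) (.node (.leaf (3, 581, 5)) (.leaf (0, 0, 0))))) (.node (.node (.node (.leaf (4, 59, 3)) (.leaf (4, 762, 9))) (.node (.leaf (4, 367, 3)) (.leaf (0, 0, 0)))) (.node (.node (.leaf (4, 212, 3)) (.leaf (4, 468, 5))) (.node (.leaf (4, 258, 2)) (.leaf (0, 0, 0)))))))) (.node (.node (.node (.node (.node (.node (.leaf (2, 12, 1)) (.leaf (1, 481, 5))) (.node (.leaf (4, 139, 6)) (.leaf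 (1, 742, 9)))) (.node (.node (.leaf (4, 48, 6)) (.leaf (4, 787, 11))) (.node (.leaf (4, 569, 4)) (.leaf (0, 0, 0))))) (.node (.node (.node (.leaf (4, 76, 5)) (.leaf (4, 759, 8))) (.node (.leaf (1, 363, 7)) (.leaf (0, 0, 0)))) (.node (.node (.leaf (1, 419, 6)) (.leaf (4, 716, 6))) (.node (.leaf (4, 596, 8)) (.leaf (0, 0, 0)))))) (.node (.node (.node (.node (.leaf (4, 37, 2)) (.leaf (3, 518, 5))) (.node (.leaf (1, 309, 9)) (.leaf (1, 836, 4)))) (.node (.node (.leaf (4, 61, 6)) (.leaf (3, 727, 5))) (.node (.leaf (4, 231, 3)) (.leaf (0, 0, 0))))) (.node (.node (.node (.leaf (2, 41, 4)) (.leaf (4, 791, 8))) (.node (.leaf (1, 174, 1)) (.leaf (0, 0, 0)))) (.node (.node (.leaf (4, 100, 4)) (.leaf (4, 750, 6))) (.node (.leaf (1, 648, 8)) (.leaf (0, 0, 0))))))) (.node (.node (.node (.node (.node (.leaf (2, 30, 2)) (.leaf (4, 540, 6))) (.node (.leaf (4, 284, 10)) (.leaf (1, 741, 10)))) (.node (.node (.leaf (4, 54, 5)) (.leaf (1, 713, 12))) (.node (.leaf (4,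 707, 8)) (.leaf (0, 0, 0))))) (.node (.node (.node (.leaf (4, 38, 2)) (.leaf (1, 320, 5))) (.node (.leaf (1, 496, 9)) (.leaf (0, 0, 0)))) (.node (.node (.leaf (3, 97, 5)) (.leaf (3, 435, 3))) (.node (.leaf (4, 523, 4)) (.leaf (0, 0, 0)))))) (.node (.node (.node (.node (.leaf (2, 97, 5)) (.leaf (4, 541, 7))) (.node (.leaf (4, 266, 6)) (.leaf (1, 825, 3)))) (.node (.node (.leaf (4, 67, 6)) (.leaf (2, 731, 5))) (.node (.leaf (4, 444, 8)) (.leaf (0, 0, 0))))) (.node (.node (.node (.leaf (1, 76, 5)) (.leaf (4, 640, 6))) (.node (.leaf (3, 426, 5)) (.leaf (0, 0, 0)))) (.node (.node (.leaf (1, 362, 6)) (.leaf (4, 479, 7))) (.node (.leaf (3, 483, 3)) (.leaf (0, 0, 0))))))))))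

def toward2 : Arr (ℕ × ℕ × ℕ) :=
  (.node (.node (.node (.node (.node (.node (.node (.node (.leaf (2, 3, 2)) (.leaf (4, 624, 6))) (.node (.leaf (1, 105, 1)) (.leaf (4, 483, 3)))) (.node (.node (.leaf (4, 133, 6)) (.leaf (3, 685, 6))) (.node (.leaf (4, 380, 6)) (.leaf (0, 0, 0))))) (.node (.node (.node (.leaf (2, 102, 4)) (.leaf (3, 366, 4))) (.node (.leaf (1, 524, 5)) (.leaf (2, 832, 2)))) (.node (.node (.leaf (4, 390, 5)) (.leaf (4, 705, 7))) (.node (.leaf (1, 308, 8)) (.leaf (0, 0, 0)))))) (.node (.node (.node (.node (.leaf (4, 17, 2)) (.leaf (3, 736, 6))) (.node (.leaf (1, 179, 6)) (.leaf (4, 554, 10)))) (.node (.node (.leaf (1, 94, 5)) (.leaf (1, 503, 11))) (.node (.leaf (1, 420, 5)) (.leaf (0, 0, 0))))) (.node (.node (.node (.leaf (4, 171, 4)) (.leaf (1, 458, 7))) (.node (.leaf (4, 355, 11)) (.leaf (0, 0, 0)))) (.node (.node (.leaf (4, 405, 7)) (.leaf (4, 795, 8))) (.node (.leaf (3, 249, 2)) (.leaf (0, 0, 0))))))) (.node (.node (.node (.node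 (.node (.leaf (1, 21, 4)) (.leaf (4, 532, 5))) (.node (.leaf (1, 178, 5)) (.leaf (4, 785, 8)))) (.node (.node (.leaf (3, 170, 4)) (.leaf (4, 662, 11))) (.node (.leaf (4, 464, 5)) (.leaf (0, 0, 0))))) (.node (.node (.node (.leaf (1, 42, 6)) (.leaf (3, 510, 6))) (.node (.leaf (4, 337, 8)) (.leaf (0, 0, 0)))) (.node (.node (.leaf (4, 84, 4)) (.leaf (4, 723, 7))) (.node (.leaf (1, 604, 6)) (.leaf (0, 0, 0)))))) (.node (.node (.node (.node (.leaf (4, 20, 4)) (.leaf (4, 543, 8))) (.node (.leaf (4, 132, 6)) (.leaf (1, 661, 10)))) (.node (.node (.leaf (4, 124, 4)) (.leaf (4, 578, 5))) (.node (.leaf (2, 435, 3)) (.leaf (0, 0, 0))))) (.node (.node (.node (.leaf (1, 53, 5)) (.leaf (4, 512, 5))) (.node (.leaf (1, 175, 2)) (.leaf (0, 0, 0)))) (.node (.node (.leaf (4, 119, 7)) (.leaf (1, 506, 4))) (.node (.leaf (1, 689, 5)) (.leaf (0, 0, 0)))))))) (.node (.node (.node (.node (.node (.node (.leaf (1, 11, 3)) (.leaf (1, 519, 6))) (.node (.leaf (1, 267, 5)) (.leaf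 (4, 719, 9)))) (.node (.node (.leaf (1, 117, 4)) (.leaf (4, 786, 9))) (.node (.leaf (2, 596, 8)) (.leaf (0, 0, 0))))) (.node (.node (.node (.leaf (2, 75, 3)) (.leaf (4, 583, 6))) (.node (.leaf (4, 513, 6)) (.leaf (0, 0, 0)))) (.node (.node (.leaf (4, 123, 5)) (.leaf (4, 793, 9))) (.node (.leaf (4, 447, 6)) (.leaf (0, 0, 0)))))) (.node (.node (.node (.node (.leaf (4, 49, 5)) (.leaf (1, 550, 9))) (.node (.leaf (4, 409, 7)) (.leaf (1, 823, 6)))) (.node (.node (.leaf (3, 59, 3)) (.leaf (1, 805, 9))) (.node (.leaf (2, 442, 4)) (.leaf (0, 0, 0))))) (.node (.node (.node (.leaf (4, 105, 1)) (.leaf (4, 788, 5))) (.node (.leaf (4, 247, 5)) (.leaf (0, 0, 0)))) (.node (.node (.leaf (4, 138, 5)) (.leaf (4, 776, 5))) (.node (.leaf (4, 537, 10)) (.leaf (0, 0, 0))))))) (.node (.node (.node (.node (.node (.leaf (4, 25, 4)) (.leaf (4, 494, 11))) (.node (.leaf (2, 307, 7)) (.leaf (1, 620, 7)))) (.node (.node (.leaf (2, 170, 4)) (.leaf (4, 649, 11))) (.node (.leaf (4,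 588, 4)) (.leaf (0, 0, 0))))) (.node (.node (.node (.leaf (3, 37, 2)) (.leaf (4, 522, 7))) (.node (.leaf (1, 211, 5)) (.leaf (0, 0, 0)))) (.node (.node (.leaf (4, 217, 5)) (.leaf (4, 453, 11))) (.node (.leaf (4, 476, 5)) (.leaf (0, 0, 0)))))) (.node (.node (.node (.node (.leaf (4, 62, 5)) (.leaf (1, 465, 4))) (.node (.leaf (3, 381, 6)) (.leaf (1, 831, 3)))) (.node (.node (.leaf (4, 243, 5)) (.leaf (1, 697, 6))) (.node (.leaf (2, 463, 3)) (.leaf (0, 0, 0))))) (.node (.node (.node (.leaf (4, 87, 6)) (.leaf (1, 406, 11))) (.node (.leaf (1, 441, 6)) (.leaf (0, 0, 0)))) (.node (.node (.leaf (4, 101, 6)) (.leaf (3, 560, 8))) (.node (.leaf (4, 259, 3)) (.leaf (0, 0, 0))))))))) (.node (.node (.node (.node (.node (.node (.node (.leaf (2, 2, 3)) (.leaf (2, 261, 4))) (.node (.leaf (4, 267, 5)) (.leaf (4, 484, 5)))) (.node (.node (.leaf (4, 149, 7)) (.leaf (4, 605, 6))) (.node (.leaf (1, 429, 4)) (.leaf (0, 0, 0))))) (.node (.node (.node (.leaf (3, 110, 5)) (.leaf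 (4, 572, 8))) (.node (.leaf (4, 332, 8)) (.leaf (2, 839, 4)))) (.node (.node (.leaf (3, 70, 6)) (.leaf (2, 561, 8))) (.node (.leaf (4, 450, 9)) (.leaf (0, 0, 0)))))) (.node (.node (.node (.node (.leaf (1, 16, 1)) (.leaf (4, 308, 8))) (.node (.leaf (1, 388, 7)) (.leaf (4, 773, 6)))) (.node (.node (.leaf (4, 344, 12)) (.leaf (4, 683, 11))) (.node (.leaf (4, 423, 7)) (.leaf (0, 0, 0))))) (.node (.node (.node (.leaf (3, 90, 3)) (.leaf (4, 718, 7))) (.node (.leaf (4, 672, 12)) (.leaf (0, 0, 0)))) (.node (.node (.leaf (3, 174, 1)) (.leaf (4, 648, 8))) (.node (.leaf (4, 499, 3)) (.leaf (0, 0, 0))))))) (.node (.node (.node (.node (.node (.leaf (4, 43, 3)) (.leaf (4, 533, 4))) (.node (.leaf (1, 547, 7)) (.leaf (4, 525, 6)))) (.node (.node (.leaf (1, 111, 6)) (.leaf (4, 593, 10))) (.node (.leaf (4, 395, 10)) (.leaf (0, 0, 0))))) (.node (.node (.node (.leaf (3, 221, 6)) (.leaf (4, 521, 6))) (.node (.leaf (4, 418, 6)) (.leaf (0, 0, 0)))) (.node (.node (.leaf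 (4, 222, 8)) (.leaf (4, 722, 8))) (.node (.leaf (2, 588, 4)) (.leaf (0, 0, 0)))))) (.node (.node (.node (.node (.leaf (1, 22, 4)) (.leaf (1, 285, 11))) (.node (.leaf (1, 375, 9)) (.leaf (1, 821, 5)))) (.node (.node (.leaf (1, 165, 8)) (.leaf (2, 762, 9))) (.node (.leaf (4, 224, 9)) (.leaf (0, 0, 0))))) (.node (.node (.node (.leaf (4, 102, 4)) (.leaf (4, 610, 8))) (.node (.leaf (4, 275, 6)) (.leaf (0, 0, 0)))) (.node (.node (.leaf (2, 247, 5)) (.leaf (1, 770, 4))) (.node (.leaf (2, 784, 9)) (.leaf (0, 0, 0)))))))) (.node (.node (.node (.node (.node (.node (.leaf (1, 15, 5)) (.leaf (4, 527, 4))) (.node (.leaf (4, 239, 5)) (.leaf (2, 708, 8)))) (.node (.node (.leaf (1, 323, 6)) (.leaf (4, 784, 9))) (.node (.leaf (4, 399, 4)) (.leaf (0, 0, 0))))) (.node (.node (.node (.leaf (3, 75, 3)) (.leaf (4, 469, 7))) (.node (.leaf (4, 155, 7)) (.leaf (0, 0, 0)))) (.node (.node (.leaf (3, 427, 6)) (.leaf (1, 411, 6))) (.node (.leaf (4, 461, 9)) (.leaf (0, 0, 0))))))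 (.node (.node (.node (.node (.leaf (1, 17, 2)) (.leaf (2, 511, 4))) (.node (.leaf (4, 199, 6)) (.leaf (3, 827, 2)))) (.node (.node (.leaf (0, 174, 0)) (.leaf (4, 603, 4))) (.node (.leaf (4, 645, 8)) (.leaf (0, 0, 0))))) (.node (.node (.node (.leaf (3, 80, 4)) (.leaf (2, 628, 6))) (.node (.leaf (2, 367, 3)) (.leaf (0, 0, 0)))) (.node (.node (.leaf (4, 103, 5)) (.leaf (2, 512, 5))) (.node (.leaf (1, 564, 10)) (.leaf (0, 0, 0))))))) (.node (.node (.node (.node (.node (.leaf (3, 12, 1)) (.leaf (1, 716, 6))) (.node (.leaf (1, 345, 7)) (.leaf (4, 692, 6)))) (.node (.node (.leaf (4, 55, 4)) (.leaf (1, 651, 12))) (.node (.leaf (4, 413, 9)) (.leaf (0, 0, 0))))) (.node (.node (.node (.leaf (4, 39, 4)) (.leaf (4, 619, 6))) (.node (.leaf (4, 349, 10)) (.leaf (0, 0, 0)))) (.node (.node (.leaf (4, 86, 7)) (.leaf (4, 631, 6))) (.node (.leaf (1, 248, 4)) (.leaf (0, 0, 0)))))) (.node (.node (.node (.node (.leaf (2, 83, 4)) (.leaf (4, 690, 6))) (.node (.leaf (4, 317,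 7)) (.leaf (1, 767, 2)))) (.node (.node (.leaf (1, 210, 5)) (.leaf (4, 570, 5))) (.node (.leaf (4, 458, 7)) (.leaf (0, 0, 0))))) (.node (.node (.node (.leaf (4, 127, 4)) (.leaf (2, 710, 9))) (.node (.leaf (4, 288, 4)) (.leaf (0, 0, 0)))) (.node (.node (.leaf (4, 271, 12)) (.leaf (0, 766, 0))) (.node (.leaf (2, 260, 5)) (.leaf (0, 0, 0))))))))))

def toward3 : Arr (ℕ × ℕ × ℕ) :=
  (.node (.node (.node (.node (.node (.node (.node (.node (.leaf (3, 1, 1)) (.leaf (3, 509, 4))) (.node (.leaf (3, 258, 2)) (.leaf (4, 774, 6)))) (.node (.node (.leaf (4, 141, 7)) (.leaf (1, 474, 6))) (.node (.leaf (4, 191, 7)) (.leaf (0, 0, 0))))) (.node (.node (.node (.leaf (1, 26, 5)) (.leaf (2, 475, 4))) (.node (.leaf (4, 518, 5)) (.leaf (2, 814, 3)))) (.node (.node (.leaf (1, 401, 4)) (.leaf (1, 637, 7))) (.node (.leaf (4, 557, 6)) (.leaf (0, 0, 0)))))) (.node (.node (.node (.node (.leaf (2, 23, 2)) (.leaf (4, 697, 6))) (.node (.leaf (4, 378, 7)) (.leaf (1, 662, 11))))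 (.node (.node (.leaf (1, 104, 6)) (.leaf (1, 806, 7))) (.node (.leaf (4, 379, 5)) (.leaf (0, 0, 0))))) (.node (.node (.node (.leaf (4, 210, 5)) (.leaf (4, 436, 7))) (.node (.leaf (1, 395, 10)) (.leaf (0, 0, 0)))) (.node (.node (.leaf (2, 203, 5)) (.leaf (4, 751, 10))) (.node (.leaf (2, 258, 2)) (.leaf (0, 0, 0))))))) (.node (.node (.node (.node (.node (.leaf (1, 24, 6)) (.leaf (1, 486, 4))) (.node (.leaf (1, 153, 5)) (.leaf (4, 694, 10)))) (.node (.node (.leaf (2, 87, 6)) (.leaf (4, 815, 8))) (.node (.leaf (4, 365, 2)) (.leaf (0, 0, 0))))) (.node (.node (.node (.leaf (3, 35, 3)) (.leaf (4, 592, 8))) (.node (.leaf (4, 556, 8)) (.leaf (0, 0, 0)))) (.node (.node (.leaf (4, 245, 4)) (.leaf (1, 746, 6))) (.node (.leaf (1, 236, 3)) (.leaf (0, 0, 0)))))) (.node (.node (.node (.node (.leaf (2, 70, 6)) (.leaf (1, 284, 10))) (.node (.leaf (3, 557, 6)) (.leaf (1, 789, 7)))) (.node (.node (.leaf (4, 209, 5)) (.leaf (4, 472, 5))) (.node (.leaf (3, 365, 2)) (.leaf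 (0, 0, 0))))) (.node (.node (.node (.leaf (1, 112, 6)) (.leaf (4, 629, 10))) (.node (.leaf (1, 319, 4)) (.leaf (0, 0, 0)))) (.node (.node (.leaf (4, 120, 4)) (.leaf (1, 513, 6))) (.node (.leaf (3, 257, 2)) (.leaf (0, 0, 0)))))))) (.node (.node (.node (.node (.node (.node (.leaf (4, 4, 2)) (.leaf (4, 482, 3))) (.node (.leaf (4, 261, 4)) (.leaf (1, 654, 10)))) (.node (.node (.leaf (3, 247, 5)) (.leaf (4, 507, 11))) (.node (.leaf (4, 394, 9)) (.leaf (0, 0, 0))))) (.node (.node (.node (.leaf (3, 30, 2)) (.leaf (2, 580, 6))) (.node (.leaf (4, 623, 7)) (.leaf (0, 0, 0)))) (.node (.node (.leaf (2, 215, 4)) (.leaf (4, 756, 6))) (.node (.leaf (4, 685, 6)) (.leaf (0, 0, 0)))))) (.node (.node (.node (.node (.leaf (4, 23, 2)) (.leaf (1, 339, 9))) (.node (.leaf (4, 129, 9)) (.leaf (2, 835, 4)))) (.node (.node (.leaf (4, 60, 3)) (.leaf (1, 462, 10))) (.node (.leaf (2, 704, 5)) (.leaf (0, 0, 0))))) (.node (.node (.node (.leaf (4, 237, 5)) (.leaf (4, 531, 5))) (.node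 (.leaf (4, 246, 6)) (.leaf (0, 0, 0)))) (.node (.node (.leaf (4, 140, 6)) (.leaf (4, 792, 9))) (.node (.leaf (4, 538, 12)) (.leaf (0, 0, 0))))))) (.node (.node (.node (.node (.node (.leaf (1, 50, 5)) (.leaf (4, 654, 10))) (.node (.leaf (1, 272, 5)) (.leaf (1, 552, 7)))) (.node (.node (.leaf (1, 113, 6)) (.leaf (4, 657, 12))) (.node (.leaf (4, 410, 5)) (.leaf (0, 0, 0))))) (.node (.node (.node (.leaf (2, 84, 4)) (.leaf (1, 369, 3))) (.node (.leaf (4, 346, 6)) (.leaf (0, 0, 0)))) (.node (.node (.leaf (4, 229, 6)) (.leaf (3, 588, 4))) (.node (.leaf (3, 463, 3)) (.leaf (0, 0, 0)))))) (.node (.node (.node (.node (.leaf (3, 23, 2)) (.leaf (4, 582, 9))) (.node (.leaf (4, 327, 6)) (.leaf (3, 766, 1)))) (.node (.node (.leaf (1, 313, 8)) (.leaf (4, 701, 6))) (.node (.leaf (4, 441, 6)) (.leaf (0, 0, 0))))) (.node (.node (.node (.leaf (4, 89, 4)) (.leaf (1, 636, 8))) (.node (.leaf (4, 442, 4)) (.leaf (0, 0, 0)))) (.node (.node (.leaf (4, 257, 2)) (.leaf (1, 774,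 6))) (.node (.leaf (2, 502, 10)) (.leaf (0, 0, 0))))))))) (.node (.node (.node (.node (.node (.node (.node (.leaf (3, 4, 2)) (.leaf (4, 524, 5))) (.node (.leaf (4, 249, 2)) (.leaf (4, 806, 7)))) (.node (.node (.leaf (4, 134, 8)) (.leaf (1, 461, 9))) (.node (.leaf (1, 402, 6)) (.leaf (0, 0, 0))))) (.node (.node (.node (.leaf (3, 28, 3)) (.leaf (4, 371, 5))) (.node (.leaf (4, 316, 5)) (.leaf (3, 833, 3)))) (.node (.node (.leaf (3, 91, 5)) (.leaf (4, 736, 6))) (.node (.leaf (4, 748, 8)) (.leaf (0, 0, 0)))))) (.node (.node (.node (.node (.leaf (2, 60, 3)) (.leaf (4, 451, 7))) (.node (.leaf (4, 125, 6)) (.leaf (4, 676, 8)))) (.node (.node (.leaf (4, 166, 13)) (.leaf (4, 555, 10))) (.node (.leaf (4, 427, 6)) (.leaf (0, 0, 0))))) (.node (.node (.node (.leaf (3, 215, 4)) (.leaf (4, 797, 11))) (.node (.leaf (4, 634, 12)) (.leaf (0, 0, 0)))) (.node (.node (.leaf (4, 230, 2)) (.leaf (1, 536, 7))) (.node (.leaf (1, 263, 3)) (.leaf (0, 0, 0))))))) (.node (.node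 (.node (.node (.node (.leaf (2, 16, 1)) (.leaf (4, 600, 5))) (.node (.leaf (1, 250, 7)) (.leaf (4, 622, 7)))) (.node (.node (.leaf (4, 147, 7)) (.leaf (4, 664, 9))) (.node (.leaf (4, 328, 7)) (.leaf (0, 0, 0))))) (.node (.node (.node (.leaf (3, 209, 5)) (.leaf (4, 478, 5))) (.node (.leaf (1, 644, 5)) (.leaf (0, 0, 0)))) (.node (.node (.leaf (3, 85, 3)) (.leaf (3, 433, 4))) (.node (.leaf (4, 403, 3)) (.leaf (0, 0, 0)))))) (.node (.node (.node (.node (.leaf (1, 34, 3)) (.leaf (1, 568, 11))) (.node (.leaf (4, 150, 7)) (.leaf (4, 811, 5)))) (.node (.node (.leaf (4, 65, 5)) (.leaf (4, 579, 5))) (.node (.leaf (4, 498, 6)) (.leaf (0, 0, 0))))) (.node (.node (.node (.leaf (1, 58, 6)) (.leaf (4, 581, 5))) (.node (.leaf (4, 220, 8)) (.leaf (0, 0, 0)))) (.node (.node (.leaf (3, 100, 4)) (.leaf (1, 520, 7))) (.node (.leaf (4, 502, 10)) (.leaf (0, 0, 0)))))))) (.node (.node (.node (.node (.node (.node (.leaf (4, 5, 4)) (.leaf (4, 264, 3))) (.node (.leaf (4, 255,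 11)) (.leaf (4, 495, 10)))) (.node (.node (.leaf (4, 142, 7)) (.leaf (4, 661, 10))) (.node (.leaf (1, 364, 3)) (.leaf (0, 0, 0))))) (.node (.node (.node (.leaf (3, 32, 3)) (.leaf (4, 743, 8))) (.node (.leaf (4, 274, 6)) (.leaf (0, 0, 0)))) (.node (.node (.leaf (1, 237, 5)) (.leaf (1, 446, 8))) (.node (.leaf (3, 230, 2)) (.leaf (0, 0, 0)))))) (.node (.node (.node (.node (.leaf (1, 25, 4)) (.leaf (2, 560, 8))) (.node (.leaf (1, 302, 7)) (.leaf (4, 660, 7)))) (.node (.node (.leaf (4, 174, 1)) (.leaf (4, 689, 5))) (.node (.leaf (4, 432, 7)) (.leaf (0, 0, 0))))) (.node (.node (.node (.leaf (4, 110, 5)) (.leaf (4, 628, 6))) (.node (.leaf (2, 365, 2)) (.leaf (0, 0, 0)))) (.node (.node (.leaf (1, 124, 4)) (.leaf (4, 559, 9))) (.node (.leaf (4, 782, 9)) (.leaf (0, 0, 0))))))) (.node (.node (.node (.node (.node (.leaf (2, 32, 3)) (.leaf (4, 542, 7))) (.node (.leaf (4, 382, 5)) (.leaf (1, 751, 10)))) (.node (.node (.leaf (1, 93, 3)) (.leaf (4, 635, 9))) (.node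 (.leaf (4, 203, 5)) (.leaf (0, 0, 0))))) (.node (.node (.node (.leaf (4, 94, 5)) (.leaf (4, 366, 4))) (.node (.leaf (4, 651, 12)) (.leaf (0, 0, 0)))) (.node (.node (.leaf (1, 451, 7)) (.leaf (1, 734, 7))) (.node (.leaf (1, 480, 6)) (.leaf (0, 0, 0)))))) (.node (.node (.node (.node (.leaf (4, 83, 4)) (.leaf (4, 711, 7))) (.node (.leaf (4, 336, 3)) (.leaf (4, 827, 2)))) (.node (.node (.leaf (1, 77, 6)) (.leaf (4, 644, 5))) (.node (.leaf (2, 470, 5)) (.leaf (0, 0, 0))))) (.node (.node (.node (.leaf (4, 46, 3)) (.leaf (3, 772, 6))) (.node (.leaf (4, 402, 6)) (.leaf (0, 0, 0)))) (.node (.node (.leaf (1, 495, 10)) (.leaf (4, 766, 1))) (.node (.leaf (3, 499, 3)) (.leaf (0, 0, 0))))))))))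

def toward : Arr (ℕ × ℕ × ℕ) :=
  (.node (.node toward0 toward2) (.node toward1 toward3))

def merges : List (ℕ × List (ℕ × ℕ) × List ℕ) :=
  [(1, [(0, 0)], [0]),
   (12, [(0, 0), (0, 0), (0, 2), (0, 3), (1, 3), (2, 3), (3, 0), (4, 0), (5, 0), (6, 1), (7, 1), (8, 1), (9, 0), (9, 3), (10, 0), (11, 4), (12, 4), (13, 0), (14, 3), (16, 4), (17, 3)], [2, 19, 20, 18, 15, 1]),
   (16, [(0, 0), (0, 1), (1, 0), (1, 2), (3, 4)], [4, 2]),
   (105, [(0, 0), (0, 1), (1, 0), (1, 2), (2, 2), (2, 3), (3, 4), (4, 2), (5, 0), (6, 4)], [9, 8, 5, 7]),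
   (174, [(0, 0), (0, 2), (0, 3), (1, 4), (2, 3), (3, 4), (4, 0), (5, 1)], [7, 6]),
   (766, [(0, 0), (0, 1), (1, 0)], [1, 2])]

end Cfsg.Agent.Lie.J2Unique
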