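import Cfsg.Agent.Lib.Lie.J2Unique.DataFacts
import Cfsg.Agent.Lib.Lie.J2Unique.DataTable

/-!
Programs checking the table of 840 points.
-/

set_option autoImplicit false
set_option maxRecDepth 100000

namespace Cfsg.Agent.Lie.J2Unique

open Cfsg.Agent.Lead.JankoOne.Coset

/-- the five letters of the table -/
def genLetter (k : ℕ) : ℕ := [0, 1, 2, 4, 8].getD k 12

/-- the image of a point -/
def img (i k : ℕ) : ℕ := (edge.get (5 * i + k)).1

/-- one entry of the table -/
def edgeCheck (m : ℕ) : Bool :=
  Nat.blt (edge.get m).1 840 && (Nat.blt ((edge.get m).2 / 2) log.size &&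
    (Nat.beq (log.ends (edge.get m).2).1 (live.get (m / 5)) &&
      (Nat.beq (log.ends (edge.get m).2).2.1 (genLetter (m % 5)) &&
        Nat.beq (log.ends (edge.get m).2).2.2 (live.get (edge.get m).1))))

/-- a point moves toward one of the representatives under the stabiliser -/
def towardCheck (j : ℕ) : Bool :=
  bif Nat.beq (toward.get j).1 0 then merges.any fun e => Nat.beq e.1 j
  else Nat.blt (toward.get j).1 5 && (Nat.beq (img j (toward.get j).1) (toward.get j).2.1 &&
    (Nat.blt (toward.get (toward.get j).2.1).2.2 (toward.get j).2.2 &&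
      !Nat.beq (toward.get j).2.1 0))

/-- the identifications forced by identifying two points -/
def pairsFrom (acc : List (ℕ × ℕ)) : List (ℕ × ℕ) → List (ℕ × ℕ)
  | [] => acc
  | (i, k) :: l =>
    pairsFrom (acc ++ [(img (acc.getD i (0, 0)).1 k, img (acc.getD i (0, 0)).2 k)]) l

/-- follow identifications from a point -/
def chain (ps : List (ℕ × ℕ)) : ℕ → List ℕ → Option ℕ
  | a, [] => some a
  | a, e :: l =>
    bif Nat.beq (ps.getD e (0, 0)).1 a then chain ps (ps.getD e (0, 0)).2 l
    else bif Nat.beq (ps.getD e (0, 0)).2 a then chain ps (ps.getD e (0, 0)).1 l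
    else none

/-- identifying the first point with a representative identifies it with its image under the first letter -/
def mergeCheck (e : ℕ × List (ℕ × ℕ) × List ℕ) : Bool :=
  e.2.1.tail.all (fun p => Nat.blt p.2 5) &&
  match chain (pairsFrom [(0, e.1)] e.2.1.tail) 0 e.2.2 with
  | none => false
  | some b => Nat.beq b (img 0 0)

end Cfsg.Agent.Lie.J2Unique
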