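import Mathlib
import Cfsg.Agent.Lib.Lie.J2Unique.Construct
import Cfsg.Agent.Lib.Lie.HJType.Weak
import Cfsg.Agent.Lib.Lie.HJType.Bridge
import Cfsg.Agent.Lib.Lie.Ico.Centraliser
import Cfsg.Agent.Lib.Lie.Ico.J2

/-!
The reflection group J₂ is of Hall–Janko type; uniqueness.
-/

set_option autoImplicit false
set_option maxRecDepth 20000
set_option linter.style.haveILetI false

noncomputable section

namespace Cfsg.Agent.Lie.J2Unique

open Cfsg.Spor HJType

universe u

local notation "A5" => alternatingGroup (Fin 5)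

/-- the setting from a normal extraspecial subgroup containing its centraliser -/
theorem setting_of_normal {G : Type u} [Group G] [Finite G] (z : G) (hz : orderOf z = 2)
    (Q : Subgroup (Subgroup.centralizer ({z} : Set G))) [Q.Normal] (hQ : Cfsg.IsExtraspecial 2 Q)
    (hcard : Nat.card Q = 32) (h2c : Subgroup.centralizer (Q : Set (Subgroup.centralizer ({z} : Set G))) ≤ Q)
    (e : (Subgroup.centralizer ({z} : Set G)) ⧸ Q ≃* A5) :
    let E := Q.map (Subgroup.centralizer ({z} : Set G)).subtype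
    CentTransfer.Setting z E ∧ Nat.card E = 32 ∧
      ∃ f : Subgroup.centralizer ({z} : Set G) →* A5,
        Function.Surjective f ∧ f.ker = E.subgroupOf (Subgroup.centralizer ({z} : Set G)) := by
  classical
  intro E
  haveI : Fact (Nat.Prime 2) := ⟨Nat.prime_two⟩
  haveI : IsSimpleGroup A5 := alternatingGroup.isSimpleGroup (by rw [Nat.card_fin])
  have hcore : Q = Cfsg.pCore 2 (Subgroup.centralizer ({z} : Set G)) := by
    refine le_antisymm (Fusion.le_pCore hQ.1.1) ?_
    haveI : (Cfsg.pCore 2 (Subgroup.centralizer ({z} : Set G))).Normal := Solv.pCore_normal 2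
    let φ : (Subgroup.centralizer ({z} : Set G)) →* A5 := e.toMonoidHom.comp (QuotientGroup.mk' Q)
    have hsurj : Function.Surjective φ := e.surjective.comp (QuotientGroup.mk'_surjective Q)
    have hp : IsPGroup 2 ((Cfsg.pCore 2 (Subgroup.centralizer ({z} : Set G))).map φ) := (Fusion.isPGroup_pCore 2 _).map φ
    rcases (Subgroup.Normal.map (inferInstance : (Cfsg.pCore 2 (Subgroup.centralizer ({z} : Set G))).Normal) φ hsurj).eq_bot_or_eq_top with hb | ht
    · intro x hx
      have h1 : φ x = 1 := by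
        have h := Subgroup.mem_map_of_mem φ hx
        rwa [hb, Subgroup.mem_bot] at h
      exact (QuotientGroup.eq_one_iff x).1 ((MulEquiv.map_eq_one_iff e).1 h1)
    · exfalso
      rw [ht] at hp
      obtain ⟨n, hn⟩ := hp.exists_card_eq
      rw [Subgroup.card_top, nat_card_alternatingGroup, Nat.card_fin] at hn
      have h3 : 3 ∣ 2 ^ n := hn ▸ (by decide)
      exact absurd (Nat.prime_three.dvd_of_dvd_pow h3) (by norm_num)
  have hext : Cfsg.IsExtraspecial 2 E :=
    HallJankoPairs.extraspecial_congr (Subgroup.equivMapOfInjective _ (Subgroup.centralizer ({z} : Set G)).subtype (Subgroup.centralizer ({z} : Set G)).subtype_injective) hQ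
  have hzC : z ∈ (Subgroup.centralizer ({z} : Set G)) := Subgroup.mem_centralizer_singleton_iff.2 rfl
  have hzQ : (⟨z, hzC⟩ : (Subgroup.centralizer ({z} : Set G))) ∈ Q := h2c (Subgroup.mem_centralizer_iff.2 fun q _ => Subtype.ext
    (Subgroup.mem_centralizer_singleton_iff.1 q.2))
  have hcent : Subgroup.centralizer (E : Set G) ≤ E := by
    intro x hx
    have hxC : x ∈ (Subgroup.centralizer ({z} : Set G)) := Subgroup.mem_centralizer_singleton_iff.2
      (Subgroup.mem_centralizer_iff.1 hx z ⟨⟨z, hzC⟩, hzQ, rfl⟩).symm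
    exact ⟨⟨x, hxC⟩, h2c (Subgroup.mem_centralizer_iff.2 fun q hq => Subtype.ext
      (Subgroup.mem_centralizer_iff.1 hx q ⟨q, hq, rfl⟩)), rfl⟩
  refine ⟨CentTransfer.setting_of hz (by rw [← hcore]) hext hcent,
    (Subgroup.card_map_of_injective (Subgroup.centralizer ({z} : Set G)).subtype_injective).trans hcard,
    e.toMonoidHom.comp (QuotientGroup.mk' Q), e.surjective.comp (QuotientGroup.mk'_surjective Q), ?_⟩
  ext x
  rw [MonoidHom.mem_ker, Subgroup.mem_subgroupOf]
  show e (QuotientGroup.mk x) = 1 ↔ _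
  rw [MulEquiv.map_eq_one_iff, QuotientGroup.eq_one_iff]
  exact (Subgroup.mem_map_iff_mem (Subgroup.centralizer ({z} : Set G)).subtype_injective (x := x)).symm

theorem hyp_of_simple {G : Type u} [Group G] [Finite G] [IsSimpleGroup G] (z : G) (hz : orderOf z = 2)
    (Q : Subgroup (Subgroup.centralizer ({z} : Set G))) [Q.Normal] (hQ : Cfsg.IsExtraspecial 2 Q)
    (hcard : Nat.card Q = 32) (h2c : Subgroup.centralizer (Q : Set (Subgroup.centralizer ({z} : Set G))) ≤ Q)
    (e : (Subgroup.centralizer ({z} : Set G)) ⧸ Q ≃* A5)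
    (hcl : ∃ x y : G, orderOf x = 2 ∧ orderOf y = 2 ∧ ¬ IsConj x y) :
    Hyp z (Q.map (Subgroup.centralizer ({z} : Set G)).subtype) := by
  obtain ⟨hS, hc, hq⟩ := setting_of_normal z hz Q hQ hcard h2c e
  exact ⟨hS, hc, hq, nwc_of_simple hS hc hq, hcl⟩

open Cfsg.Agent.Lie.J2Cert

theorem pair_fix_ok : ((List.range 5).all fun k => (List.range 5).all fun l =>
    conjOk (reflMat.get (pairMem k).1) (pairMem l).1 (pairMem l).1 ||
      conjOk (reflMat.get (pairMem k).1) (pairMem l).1 (pairMem l).2) = true := by decide +kernel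

theorem pairA_mem_ker (k : Fin 5) : ∃ u : pairHom.ker, ((u : Cent) : J2) = tJ (pairA k) := by
  obtain ⟨h1, h2, -⟩ := pair_facts k
  have hB : tJ (pairB k) = tJ (pairA k) * tJ 0 := by rw [← h1, ← mul_assoc, tJ_sq, one_mul]
  have hm : tJ (pairA k) ∈ Cent := by
    refine Subgroup.mem_centralizer_singleton_iff.2 ?_
    rw [← hB]
    nth_rw 1 [← h2]
    rw [mul_assoc, tJ_sq, mul_one]
  have hrep : Rep (Ico.beta (refl (pairA k))) (reflMat.get (pairA k).val) := beta_reflElt (pairA k) ▸ RU_rep (pairA k)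
  refine ⟨⟨⟨tJ (pairA k), hm⟩, MonoidHom.mem_ker.2 (Equiv.ext fun l => pairImage_eq (Or.inl rfl) ?_)⟩, rfl⟩
  have h := List.all_eq_true.1 (List.all_eq_true.1 pair_fix_ok k (List.mem_range.2 k.2)) l (List.mem_range.2 l.2)
  simp only [Bool.or_eq_true] at h
  rcases h with h | h
  · exact Or.inl (conjOk_smul (i := pairA l) (j := pairA l) hrep h)
  · exact Or.inr (conjOk_smul (i := pairB l) (j := pairA l) hrep h)

theorem core_self_centralising : Subgroup.centralizer (pairHom.ker : Set Cent) ≤ pairHom.ker := by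
  intro c hc
  refine MonoidHom.mem_ker.2 (Equiv.ext fun k => pairImage_eq (Or.inl rfl) (Or.inl (tJ_injective ?_)))
  show tJ ((c : J2) • pairA k) = tJ (pairA k)
  obtain ⟨u, hu⟩ := pairA_mem_ker k
  rw [← conj_tJ, mul_inv_eq_iff_eq_mul, ← hu]
  exact congrArg Subtype.val (Subgroup.mem_centralizer_iff.1 hc u u.2).symm

theorem witness_ok' : (isPlusMinus (((borel.get 114).mul (reps.get 5)).pow 2) &&
    !isPlusMinus ((borel.get 114).mul (reps.get 5)) &&
    (List.range 315).all fun k => !(pmEq ((borel.get 114).mul (reps.get 5)) (reflMat.get k))) = true := by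
  decide +kernel

/-- an involution that is not a reflection -/
theorem exists_second : ∃ x : J2, orderOf x = 2 ∧ ∀ k, x ≠ tJ k := by
  have h := witness_ok'
  simp only [Bool.and_eq_true, Bool.not_eq_true', List.all_eq_true] at h
  obtain ⟨⟨h2, h1⟩, hall⟩ := h
  have hr := (b_rep (show 114 < 160 by norm_num)).mul (r_rep (show 5 < 3780 by norm_num))
  obtain ⟨x, hx⟩ := exists_beta (mul_mem (b_mem 114) (r_mem 5))
  have hone : proj x ≠ 1 := fun e => by
    rw [proj_eq_one, hx] at e
    rw [(isPM_iff hr).2 e] at h1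
    exact Bool.noConfusion h1
  have hsq : proj x * proj x = 1 := by
    rw [← sq, ← map_pow, proj_eq_one, map_pow, hx]
    exact (isPM_iff (hr.pow 2)).1 h2
  refine ⟨proj x, HallJankoPairs.ord_of hsq hone, fun k e => ?_⟩
  rw [tJ, proj_eq_iff, hx, beta_reflElt] at e
  have e2 := (pmEq_iff hr (RU_rep k)).2 e
  rw [hall k (List.mem_range.2 k.2)] at e2
  exact Bool.noConfusion e2

theorem j2_hyp : Hyp (tJ 0) (pairHom.ker.map Cent.subtype) := by
  have hz : orderOf (tJ 0) = 2 := by
    obtain ⟨u, hu⟩ := zero_mem_ker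
    refine HallJankoPairs.ord_of (tJ_sq 0) fun e => ?_
    obtain ⟨h1, -, -, h4, h5⟩ := pair_facts 0
    exact h5 (tJ_injective (by
      calc tJ (pairA 0) = tJ (pairA 0) * (tJ (pairB 0) * tJ (pairB 0)) := by rw [tJ_sq, mul_one]
        _ = tJ (pairB 0) := by rw [← mul_assoc, h1, e, one_mul]))
  obtain ⟨hS, hc, hq⟩ := setting_of_normal (tJ 0) hz pairHom.ker extraspecial card_range_ker.2
    core_self_centralising quotEquiv
  refine ⟨hS, hc, hq, ?_, ?_⟩
  · obtain ⟨u, hu⟩ := pairA_mem_ker 0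
    refine ⟨tJ (pairA 0), ⟨(u : Cent), u.2, hu⟩, fun e => (pair_facts 0).2.2.1 (tJ_injective e), ?_⟩
    obtain ⟨g, hg⟩ := MulAction.exists_smul_eq J2 (0 : Fin 315) (pairA 0)
    exact isConj_iff.2 ⟨g, by rw [conj_tJ, hg]⟩
  · obtain ⟨x, hx, hne⟩ := exists_second
    refine ⟨x, tJ 0, hx, hz, fun e => ?_⟩
    obtain ⟨g, hg⟩ := isConj_iff.1 e.symm
    exact hne (g • (0 : Fin 315)) (by rw [← conj_tJ, hg])

/-- groups of Hall–Janko type are isomorphic to J₂ -/
theorem isoJ2 {G : Type u} [Group G] [Finite G] {z : G} {Q : Subgroup G} (h : Hyp z Q) : Cfsg.Spor.IsoJ2 G := by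
  obtain ⟨e⟩ := iso_of_hyp h
  obtain ⟨e'⟩ := iso_of_hyp j2_hyp
  exact ⟨e.trans e'.symm⟩

end Cfsg.Agent.Lie.J2Unique
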